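import Cfsg.Agent.H52.UnitaryTwo

/-!
Transfer to `SU` and `PSU` in even dimension and characteristic two.
-/

set_option autoImplicit false
set_option linter.unusedFintypeInType false
set_option linter.unusedSectionVars false
set_option linter.style.haveILetI false

namespace Cfsg.Agent.H52.UnitaryTwoPSU

open Cfsg Matrix Cfsg.Agent.Linear Cfsg.Agent.H54 Cfsg.Agent.H52.TwistedBruhat Cfsg.Agent.Unitary
open scoped MatrixGroups

variable {F : Type*} [Field F] [Fintype F] {n q : ℕ}

theorem mem_UT_iff_preserves (hF : Fintype.card F = q ^ 2) {g : GL (Fin n) F} :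
    g ∈ Twist.UT (frob hF).toRingHom ↔ Preserves q (g : Matrix (Fin n) (Fin n) F) := by
  rw [Twist.mem_UT_iff, preserves_iff_transpose_mul hF,
    ← (Matrix.transpose_injective (m := Fin n) (n := Fin n) (α := F)).eq_iff, transpose_mul, transpose_transpose,
    transpose_one]
  rfl

/-- A basis in which the standard Hermitian form becomes antidiagonal. -/
theorem exists_frame (hF : Fintype.card F = q ^ 2) [CharP F 2] (m : ℕ) :
    ∃ Q : GL (Fin (m + m)) F,
      (Q : Matrix (Fin (m + m)) (Fin (m + m)) F)ᵀ * (Q : Matrix (Fin (m + m)) (Fin (m + m)) F).map (fun x => x ^ q) =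
        (permGL F Fin.revPerm : GL (Fin (m + m)) F) := by
  classical
  let e0 : Fin m → Fin (m + m) := fun i => ⟨2 * i, by omega⟩
  let e1 : Fin m → Fin (m + m) := fun i => ⟨2 * i + 1, by omega⟩
  let f : Fin m → Fin (m + m) → F := fun i => Pi.single (e0 i) 1 + Pi.single (e1 i) 1
  have hind : LinearIndependent F f := by
    rw [Fintype.linearIndependent_iff]
    intro c hc i
    have := congrFun hc (e0 i)
    simp only [Finset.sum_apply, Pi.smul_apply, f, Pi.add_apply, Pi.single_apply, smul_eq_mul, Pi.zero_apply] at this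
    rw [Finset.sum_eq_single i] at this
    · simpa [e0, e1, Fin.ext_iff] using this
    · intro j _ hj
      have : (j : ℕ) ≠ i := fun h => hj (Fin.ext h)
      rw [if_neg (fun h => by simp [e0, Fin.ext_iff] at h; omega),
        if_neg (fun h => by simp [e0, e1, Fin.ext_iff] at h; omega)]
      simp
    · simp
  have hiso : ∀ i j, hermForm (m + m) F q (f i) (f j) = 0 := by
    intro i j
    simp only [f, herm_add_left, herm_add_right hF, herm_single_single hF]
    by_cases h : i = j
    · subst h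
      simp [e0, e1, Fin.ext_iff, CharTwo.add_self_eq_zero]
    · have : (i : ℕ) ≠ j := fun e => h (Fin.ext e)
      rw [if_neg (fun h => by simp [e0, Fin.ext_iff] at h; omega),
        if_neg (fun h => by simp [e0, e1, Fin.ext_iff] at h; omega),
        if_neg (fun h => by simp [e0, e1, Fin.ext_iff] at h; omega),
        if_neg (fun h => by simp [e1, Fin.ext_iff] at h; omega)]
      simp
  obtain ⟨b⟩ := exists_hypBasis hF (⟨f, hind, hiso⟩ : TIFrame (m + m) F q m)
  let col : Fin (m + m) → Fin (m + m) → F := fun j =>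
    if h : (j : ℕ) < m then f ⟨j, h⟩ else b.v ⟨(j.rev : ℕ), by rw [Fin.val_rev]; omega⟩
  have hgram : ∀ i j, hermForm (m + m) F q (col i) (col j) = if i = j.rev then 1 else 0 := by
    intro i j
    have hfv : ∀ i l, hermForm (m + m) F q (f i) (b.v l) = if l = i then 1 else 0 := by
      intro i l
      rw [← herm_swap hF, b.vf]
      split_ifs <;> simp [q_ne_zero hF]
    simp only [col]
    by_cases hi : (i : ℕ) < m <;> by_cases hj : (j : ℕ) < m
    · rw [dif_pos hi, dif_pos hj, hiso, if_neg]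
      intro e; rw [Fin.ext_iff, Fin.val_rev] at e; omega
    · rw [dif_pos hi, dif_neg hj, hfv]
      congr 1
      simp only [Fin.ext_iff, Fin.val_rev, eq_iff_iff]
      omega
    · rw [dif_neg hi, dif_pos hj, b.vf]
      congr 1
      simp only [Fin.ext_iff, Fin.val_rev, eq_iff_iff]
      omega
    · rw [dif_neg hi, dif_neg hj, b.vv, if_neg]
      intro e; rw [Fin.ext_iff, Fin.val_rev] at e; omega
  let M : Matrix (Fin (m + m)) (Fin (m + m)) F := Matrix.of fun i j => col j i
  have hM : Mᵀ * M.map (fun x => x ^ q) = (permGL F Fin.revPerm : GL (Fin (m + m)) F) := by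
    ext i j
    rw [permGL_apply, Fin.revPerm_apply, ← hgram]
    rfl
  have hdet : IsUnit M.det := by
    have := congrArg Matrix.det hM
    rw [det_mul, det_transpose] at this
    exact isUnit_of_mul_isUnit_left (this ▸ (Matrix.isUnit_iff_isUnit_det _).1 (Units.isUnit _))
  exact ⟨glOfDet M hdet, hM⟩

/-- The map from `SU` onto the fixed group. -/
def toG (n : ℕ) (F : Type*) [Field F] (q : ℕ) (Q : GL (Fin n) F) : SU n F q →* GL (Fin n) F :=
  ((MulAut.conj Q⁻¹).toMonoidHom.comp Matrix.SpecialLinearGroup.toGL).comp (SU n F q).subtype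

theorem toG_injective (Q : GL (Fin n) F) : Function.Injective (toG n F q Q) :=
  ((MulAut.conj Q⁻¹).injective.comp Cfsg.Agent.Linear.toGL_injective).comp Subtype.val_injective

theorem range_toG (hF : Fintype.card F = q ^ 2) {Q : GL (Fin n) F}
    (hQ : (Q : Matrix (Fin n) (Fin n) F)ᵀ * (Q : Matrix (Fin n) (Fin n) F).map (fun x => x ^ q) =
      (permGL F Fin.revPerm : GL (Fin n) F)) :
    (toG n F q Q).range = UnitaryTwo.G (frob hF).toRingHom := by
  set σ := (frob hF).toRingHom
  set P : GL (Fin n) F := permGL F Fin.revPerm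
  have hPP : P * P = 1 := by
    rw [← permGL_mul, show Fin.revPerm * Fin.revPerm = (1 : Equiv.Perm (Fin n)) from Equiv.ext fun i => by simp]
    apply Units.ext
    ext r s
    rw [permGL_apply, Units.val_one, Matrix.one_apply]
    rfl
  have hPt : (P : Matrix (Fin n) (Fin n) F)ᵀ = (P : Matrix (Fin n) (Fin n) F) := by
    ext r s
    simp only [P, transpose_apply, permGL_apply, Fin.revPerm_apply]
    congr 1
    rw [eq_iff_iff]
    constructor <;> intro h <;> rw [h, Fin.rev_rev]
  have hQ' : Twist.tw σ Q = Q * P⁻¹ := by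
    rw [inv_eq_of_mul_eq_one_left hPP, ← inv_inv (Twist.tw σ Q)]
    refine inv_eq_of_mul_eq_one_left (Units.ext ?_)
    rw [Units.val_mul, Units.val_one]
    have h := congrArg Matrix.transpose hQ
    rw [transpose_mul, transpose_transpose, hPt] at h
    show (Q : Matrix (Fin n) (Fin n) F) * (P : Matrix (Fin n) (Fin n) F) * ((Twist.tw σ Q)⁻¹ : GL (Fin n) F).val = 1
    exact mul_eq_one_comm.1 (by
      rw [← Matrix.mul_assoc, show ((Twist.tw σ Q)⁻¹ : GL (Fin n) F).val = ((Q : Matrix (Fin n) (Fin n) F).map (fun x => x ^ q))ᵀ from rfl,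
        h, ← Units.val_mul, hPP, Units.val_one])
  have hθ : ∀ M : GL (Fin n) F, theta σ (Q⁻¹ * M * Q) = Q⁻¹ * Twist.tw σ M * Q := by
    intro M
    show P⁻¹ * Twist.tw σ (Q⁻¹ * M * Q) * P⁻¹⁻¹ = _
    rw [map_mul, map_mul, map_inv, hQ']
    group
  ext g
  rw [MonoidHom.mem_range, UnitaryTwo.mem_G]
  constructor
  · rintro ⟨⟨x, hx⟩, rfl⟩
    have h1 : Twist.tw σ (Matrix.SpecialLinearGroup.toGL x) = Matrix.SpecialLinearGroup.toGL x :=
      (mem_UT_iff_preserves hF).2 hx
    show theta σ (Q⁻¹ * Matrix.SpecialLinearGroup.toGL x * Q⁻¹⁻¹) = _ ∧ GeneralLinearGroup.det (Q⁻¹ * _ * Q⁻¹⁻¹) = 1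
    rw [inv_inv]
    refine ⟨by rw [hθ, h1]; show _ = Q⁻¹ * _ * Q⁻¹⁻¹; rw [inv_inv]; rfl, ?_⟩
    rw [map_mul, map_mul, map_inv]
    have : GeneralLinearGroup.det (Matrix.SpecialLinearGroup.toGL x) = 1 := Units.ext x.2
    rw [show GeneralLinearGroup.det (Matrix.SpecialLinearGroup.toGL ((SU n F q).subtype ⟨x, hx⟩)) = 1 from this,
      mul_one, inv_mul_cancel]
  · rintro ⟨h1, h2⟩
    set M := Q * g * Q⁻¹
    have hg : g = Q⁻¹ * M * Q := by simp [M, mul_assoc]
    have hM : Twist.tw σ M = M := by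
      rw [hg, hθ] at h1
      exact mul_left_cancel (mul_right_cancel h1)
    have hd : (M : Matrix (Fin n) (Fin n) F).det = 1 := by
      rw [← GeneralLinearGroup.val_det_apply, show GeneralLinearGroup.det M = 1 by simp [M, h2], Units.val_one]
    refine ⟨⟨⟨(M : Matrix (Fin n) (Fin n) F), hd⟩, (mem_UT_iff_preserves (g := M) hF).1 hM⟩, ?_⟩
    show Q⁻¹ * _ * Q⁻¹⁻¹ = g
    rw [inv_inv, hg]
    congr 2
    exact Units.ext rfl

theorem pronormal_SU_two (hF : Fintype.card F = q ^ 2) [CharP F 2] (m : ℕ) (H : Subgroup (SU (m + m) F q))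
    (hH : ¬ 2 ∣ H.index) : Cfsg.IsPronormal H := by
  haveI := Fact.mk Nat.prime_two
  set σ := (frob hF).toRingHom
  have hn : Even (m + m) := ⟨m, rfl⟩
  obtain ⟨Q, hQ⟩ := exists_frame hF m
  set f := toG (m + m) F q Q
  have hinj : Function.Injective f := toG_injective Q
  have hrange : f.range = UnitaryTwo.G σ := range_toG hF hQ
  have hVr : UnitaryTwo.V σ ≤ f.range := hrange ▸ UnitaryTwo.V_le_G σ
  let S₀ : Sylow 2 (SU (m + m) F q) :=
    { toSubgroup := (UnitaryTwo.V σ).comap f
      isPGroup' := (UnitaryTwo.isPGroup_V σ).comap_of_injective f hinj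
      is_maximal' := fun {R} hR hle => by
        have e := UnitaryTwo.eq_V_of_isPGroup hn σ (hR.map f)
          (by rw [← Subgroup.map_comap_eq_self hVr]; exact Subgroup.map_mono hle)
          (hrange ▸ Subgroup.map_le_range f R)
        rw [← e, Subgroup.comap_map_eq_self_of_injective hinj] }
  obtain ⟨P⟩ : Nonempty (Sylow 2 H) := inferInstance
  have hp : IsPGroup 2 ((P : Subgroup H).map H.subtype) := P.2.map _
  have hi : ¬ 2 ∣ ((P : Subgroup H).map H.subtype).index := by
    rw [Subgroup.index_map_subtype]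
    exact Nat.Prime.not_dvd_mul Nat.prime_two P.not_dvd_index hH
  obtain ⟨c, hc⟩ := MulAction.exists_smul_eq (SU (m + m) F q) (hp.toSylow hi) S₀
  set H' := H.map (MulAut.conj c).toMonoidHom with hH'
  have hS : (S₀ : Subgroup (SU (m + m) F q)) ≤ H' := by
    rw [← hc]
    rintro _ ⟨z, hz, rfl⟩
    exact ⟨z, Subgroup.map_subtype_le _ hz, rfl⟩
  have hVH : UnitaryTwo.V σ ≤ H'.map f := by
    rw [← Subgroup.map_comap_eq_self hVr]
    exact Subgroup.map_mono hS
  have hpro : Cfsg.IsPronormal H' := by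
    refine pronormal_of_sylow_normalizer H' S₀ hS fun k hk => ?_
    have hk' : ∀ x ∈ UnitaryTwo.V σ, (f k)⁻¹ * x * f k ∈ UnitaryTwo.V σ := by
      intro x hx
      obtain ⟨z, rfl⟩ := hVr hx
      rw [← map_inv, ← map_mul, ← map_mul]
      exact (Subgroup.mem_normalizer_iff''.1 hk z).1 hx
    have hk'' : ∀ x ∈ UnitaryTwo.V σ, (f k⁻¹)⁻¹ * x * f k⁻¹ ∈ UnitaryTwo.V σ := by
      intro x hx
      obtain ⟨z, rfl⟩ := hVr hx
      rw [map_inv, inv_inv, ← map_inv, ← map_mul, ← map_mul]
      exact (Subgroup.mem_normalizer_iff.1 hk z).1 hx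
    have hG : ∀ k, f k ∈ UnitaryTwo.G σ := fun k => hrange ▸ ⟨k, rfl⟩
    have hle : H'.map f ≤ UnitaryTwo.G σ := hrange ▸ Subgroup.map_le_range f H'
    apply le_antisymm
    · rintro _ ⟨x, hx, rfl⟩
      obtain ⟨y, hy, e⟩ := UnitaryTwo.normalizer_le_normalizer hn σ _ hle hVH (hG k) hk' ⟨x, hx, rfl⟩
      have : y = k * x * k⁻¹ := hinj (by rw [e]; simp)
      show k * x * k⁻¹ ∈ H'
      rwa [← this]
    · intro x hx
      obtain ⟨y, hy, e⟩ := UnitaryTwo.normalizer_le_normalizer hn σ _ hle hVH (hG k⁻¹) hk'' ⟨x, hx, rfl⟩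
      have : y = k⁻¹ * x * k⁻¹⁻¹ := hinj (by rw [e]; simp)
      exact ⟨y, hy, by rw [this]; simp [mul_assoc]⟩
  have := PronormalLinear.pronormal_map (MulAut.conj c⁻¹).toMonoidHom (MulAut.conj c⁻¹).surjective hpro
  rwa [hH', Subgroup.map_map, show (MulAut.conj c⁻¹).toMonoidHom.comp (MulAut.conj c).toMonoidHom =
    MonoidHom.id _ by ext; simp [mul_assoc], Subgroup.map_id] at this

end Cfsg.Agent.H52.UnitaryTwoPSU
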