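import Mathlib

/-!
Simultaneous diagonalisation of commuting involutory matrices (characteristic different from two).
-/

set_option autoImplicit false

namespace Cfsg.Agent.H52

open Matrix Module

variable {K : Type*} [Field K] {ι : Type*} [Fintype ι] [DecidableEq ι]

/-- Commuting involutions have a common eigenbasis with eigenvalues `±1`. -/
theorem exists_sign_basis (h2 : (2 : K) ≠ 0) {α : Type*} [Finite α] (a : α → Matrix ι ι K)
    (hsq : ∀ i, a i * a i = 1) (hcomm : ∀ i j, a i * a j = a j * a i) :
    ∃ (b : Basis ι K (ι → K)) (s : α → ι → K),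
      ∀ i k, (s i k = 1 ∨ s i k = -1) ∧ a i *ᵥ b k = s i k • b k := by
  classical
  haveI := Fintype.ofFinite α
  let E : Finset α → Set (ι → K) := fun S => {v | ∀ i ∈ S, a i *ᵥ v = v ∨ a i *ᵥ v = -v}
  have hspan : ∀ S : Finset α, Submodule.span K (E S) = ⊤ := by
    intro S
    induction S using Finset.induction_on with
    | empty => simp [E]
    | @insert j S hj ih =>
      rw [eq_top_iff, ← ih, Submodule.span_le]
      intro v hv
      have key : ∀ ε : K, (ε = 1 ∨ ε = -1) → v + ε • (a j *ᵥ v) ∈ E (insert j S) := by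
        intro ε hε i hi
        rcases Finset.mem_insert.1 hi with rfl | hi
        · rw [Matrix.mulVec_add, Matrix.mulVec_smul, Matrix.mulVec_mulVec, hsq, Matrix.one_mulVec]
          rcases hε with rfl | rfl
          · left; rw [one_smul, one_smul, add_comm]
          · right; rw [neg_one_smul, neg_one_smul]; abel
        · rw [Matrix.mulVec_add, Matrix.mulVec_smul, Matrix.mulVec_mulVec, hcomm, ← Matrix.mulVec_mulVec]
          rcases hv i hi with h | h
          · left; rw [h]
          · right; rw [h, Matrix.mulVec_neg, smul_neg]; abel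
      have hv2 : v = (2 : K)⁻¹ • ((v + (1 : K) • (a j *ᵥ v)) + (v + (-1 : K) • (a j *ᵥ v))) := by
        rw [one_smul, neg_one_smul, show v + a j *ᵥ v + (v + -(a j *ᵥ v)) = (2 : K) • v by rw [two_smul]; abel,
          smul_smul, inv_mul_cancel₀ h2, one_smul]
      rw [hv2]
      exact Submodule.smul_mem _ _ (Submodule.add_mem _ (Submodule.subset_span (key 1 (Or.inl rfl)))
        (Submodule.subset_span (key (-1) (Or.inr rfl))))
  obtain ⟨t, ht, htspan, htli⟩ := exists_linearIndependent K (E Finset.univ)
  rw [hspan] at htspan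
  let b0 : Basis t K (ι → K) := Basis.mk htli (by rw [Subtype.range_coe, htspan])
  haveI : Finite t := Module.Finite.finite_basis b0
  haveI := Fintype.ofFinite t
  have hcard : Fintype.card t = Fintype.card ι := by
    rw [← Module.finrank_eq_card_basis b0, Module.finrank_fintype_fun_eq_card]
  let e := Fintype.equivOfCardEq hcard
  refine ⟨b0.reindex e, fun i k => if a i *ᵥ (b0.reindex e k) = b0.reindex e k then 1 else -1, fun i k => ?_⟩
  have hm : b0.reindex e k ∈ E Finset.univ := by
    rw [Basis.reindex_apply, Basis.mk_apply]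
    exact ht (e.symm k).2
  by_cases h : a i *ᵥ (b0.reindex e k) = b0.reindex e k
  · simp only [if_pos h, one_smul]
    exact ⟨Or.inl trivial, h⟩
  · simp only [if_neg h, neg_one_smul]
    exact ⟨Or.inr trivial, (hm i (Finset.mem_univ i)).resolve_left h⟩

/-- The determinant of a matrix diagonal in a basis. -/
theorem det_eq_prod {M : Matrix ι ι K} (b : Basis ι K (ι → K)) (s : ι → K)
    (h : ∀ k, M *ᵥ b k = s k • b k) : M.det = ∏ k, s k := by
  rw [← LinearMap.det_toLin' M, ← LinearMap.det_toMatrix b]
  have hd : LinearMap.toMatrix b b (Matrix.toLin' M) = Matrix.diagonal s := by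
    ext i k
    rw [LinearMap.toMatrix_apply, Matrix.toLin'_apply, h, map_smul, Basis.repr_self, Finsupp.smul_single,
      Finsupp.single_apply, Matrix.diagonal_apply, smul_eq_mul, mul_one]
    by_cases hik : i = k
    · subst hik; simp
    · simp [hik, Ne.symm hik]
  rw [hd, Matrix.det_diagonal]

/-- A matrix is determined by its eigenvalues on a basis. -/
theorem eq_of_eigen {M N : Matrix ι ι K} (b : Basis ι K (ι → K)) (s : ι → K)
    (hM : ∀ k, M *ᵥ b k = s k • b k) (hN : ∀ k, N *ᵥ b k = s k • b k) : M = N :=
  Matrix.toLin'.injective (b.ext fun k => by rw [Matrix.toLin'_apply, Matrix.toLin'_apply, hM, hN])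

theorem two_ne_zero_of_odd_card [Fintype K] (h : Odd (Fintype.card K)) : (2 : K) ≠ 0 := by
  intro e
  have hc : CharP K 2 := CharTwo.of_one_ne_zero_of_two_eq_zero one_ne_zero e
  exact Nat.not_even_iff_odd.2 h (Nat.even_iff.2 (FiniteField.even_card_of_char_two (ringChar.eq_iff.2 hc)))

end Cfsg.Agent.H52
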