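import Cfsg.Agent.Orthogonal.Spinor
import Cfsg.Agent.Orthogonal.StdForms
import Cfsg.Agent.Orthogonal.Det
import Cfsg.Agent.H52.SignDiag
import Cfsg.Prelude.Def_EvenType

/-!
The 2-rank of `Ω` in odd characteristic: sign changes along orthogonal bases.
-/

set_option autoImplicit false
set_option linter.unusedSectionVars false

namespace Cfsg.Agent.H52.OrthoRank

open QuadraticMap Module Cfsg.Agent.Orthogonal

section General

variable {F V : Type*} [Field F] [Finite F] [AddCommGroup V] [Module F V] [FiniteDimensional F V]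
variable {Q : QuadraticForm F V} {κ : Type*} [Fintype κ] [DecidableEq κ]

/-- An orthogonal basis. -/
def OrthBasis (Q : QuadraticForm F V) (b : Basis κ F V) : Prop :=
  ∀ i j, i ≠ j → polar Q (b i) (b j) = 0

/-- A sign as a scalar. -/
def sgn (F : Type*) [Field F] (u : ℤˣ) : F := ((u : ℤ) : F)

theorem sgn_cases (u : ℤˣ) : (u = 1 ∧ sgn F u = 1) ∨ (u = -1 ∧ sgn F u = -1) := by
  rcases Int.units_eq_one_or u with rfl | rfl
  · left; simp [sgn]
  · right; simp [sgn]

theorem sgn_mul (u v : ℤˣ) : sgn F (u * v) = sgn F u * sgn F v := by simp [sgn]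

theorem sgn_sq (u : ℤˣ) : sgn F u * sgn F u = 1 := by
  rw [← sgn_mul, Int.units_mul_self]; simp [sgn]

theorem sgn_injective (h2 : (2 : F) ≠ 0) : Function.Injective (sgn F) := by
  have hne : (1 : F) ≠ -1 := fun h => h2 (by linear_combination h)
  intro u v h
  rcases Int.units_eq_one_or u with rfl | rfl <;> rcases Int.units_eq_one_or v with rfl | rfl
  · rfl
  · exact absurd (by simpa [sgn] using h) hne
  · exact absurd (by simpa [sgn] using h.symm) hne
  · rfl

/-- The sign change with respect to a basis. -/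
noncomputable def diagLin (b : Basis κ F V) (s : κ → ℤˣ) : V →ₗ[F] V :=
  b.constr F fun i => sgn F (s i) • b i


theorem diagLin_basis (b : Basis κ F V) (s : κ → ℤˣ) (i : κ) :
    diagLin b s (b i) = sgn F (s i) • b i := b.constr_basis _ _ _

theorem diagLin_involutive (b : Basis κ F V) (s : κ → ℤˣ) : Function.Involutive (diagLin b s) := by
  intro x
  have h : (diagLin b s).comp (diagLin b s) = LinearMap.id := b.ext fun i => by
    rw [LinearMap.comp_apply, diagLin_basis, map_smul, diagLin_basis, smul_smul, sgn_sq, one_smul,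
      LinearMap.id_apply]
  exact DFunLike.congr_fun h x

theorem diagLin_isometry (h2 : (2 : F) ≠ 0) {b : Basis κ F V} (hb : OrthBasis Q b) (s : κ → ℤˣ)
    (x : V) : Q (diagLin b s x) = Q x := by
  have h : Q.polarBilin.compl₁₂ (diagLin b s) (diagLin b s) = Q.polarBilin := by
    refine b.ext fun i => b.ext fun j => ?_
    rw [LinearMap.compl₁₂_apply, diagLin_basis, diagLin_basis, polarBilin_apply', polarBilin_apply',
      polar_smul_left', polar_smul_right']
    by_cases hij : i = j
    · subst hij; rw [← mul_assoc, sgn_sq, one_mul]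
    · rw [hb i j hij, mul_zero, mul_zero]
  have h1 := DFunLike.congr_fun (DFunLike.congr_fun h x) x
  rw [LinearMap.compl₁₂_apply, polarBilin_apply', polarBilin_apply', polar_self', polar_self'] at h1
  exact mul_left_cancel₀ h2 h1

/-- The sign change as an isometry. -/
noncomputable def diagO (h2 : (2 : F) ≠ 0) {b : Basis κ F V} (hb : OrthBasis Q b) :
    (κ → ℤˣ) →* O Q where
  toFun s := ⟨LinearEquiv.ofInvolutive (diagLin b s) (diagLin_involutive b s), diagLin_isometry h2 hb s⟩
  map_one' := O.ext_app fun x => by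
    have h : diagLin b (1 : κ → ℤˣ) = LinearMap.id := b.ext fun i => by
      rw [diagLin_basis]; simp [sgn]
    exact DFunLike.congr_fun h x
  map_mul' s t := O.ext_app fun x => by
    have h : diagLin b (s * t) = (diagLin b s).comp (diagLin b t) := b.ext fun i => by
      rw [diagLin_basis, LinearMap.comp_apply, diagLin_basis, map_smul, diagLin_basis, smul_smul,
        ← sgn_mul, mul_comm (t i)]
      rfl
    exact DFunLike.congr_fun h x

theorem diagO_app (h2 : (2 : F) ≠ 0) {b : Basis κ F V} (hb : OrthBasis Q b) (s : κ → ℤˣ) (x : V) :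
    (diagO h2 hb s : V ≃ₗ[F] V) x = diagLin b s x := rfl

theorem diagO_injective (h2 : (2 : F) ≠ 0) {b : Basis κ F V} (hb : OrthBasis Q b) :
    Function.Injective (diagO h2 hb) := by
  intro s t h
  funext i
  have h1 : (diagO h2 hb s : V ≃ₗ[F] V) (b i) = (diagO h2 hb t : V ≃ₗ[F] V) (b i) := by rw [h]
  rw [diagO_app, diagO_app, diagLin_basis, diagLin_basis] at h1
  exact sgn_injective h2 (smul_left_injective F (b.ne_zero i) h1)

theorem OrthBasis.value_ne_zero (hQ : Nondeg Q) (h2 : (2 : F) ≠ 0) {b : Basis κ F V}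
    (hb : OrthBasis Q b) (i : κ) : Q (b i) ≠ 0 := by
  intro h0
  refine b.ne_zero i (hQ _ fun y => ?_)
  have h : Q.polarBilin (b i) = 0 := b.ext fun j => by
    rw [polarBilin_apply', LinearMap.zero_apply]
    by_cases hij : i = j
    · subst hij; rw [polar_self', h0, mul_zero]
    · exact hb i j hij
  exact DFunLike.congr_fun h y

theorem diagO_single (hQ : Nondeg Q) (h2 : (2 : F) ≠ 0) {b : Basis κ F V} (hb : OrthBasis Q b) (i : κ) :
    diagO h2 hb (Pi.mulSingle i (-1)) = rO Q (b i) := by
  refine O.ext_app fun x => ?_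
  rw [diagO_app]
  have h : diagLin b (Pi.mulSingle i (-1)) = ((rO Q (b i) : V ≃ₗ[F] V) : V →ₗ[F] V) := b.ext fun j => by
    rw [diagLin_basis, LinearEquiv.coe_coe]
    by_cases hij : j = i
    · subst hij
      rw [rO_self (hb.value_ne_zero hQ h2 _), Pi.mulSingle_eq_same]
      simp [sgn]
    · rw [rO_fix (hb i j (Ne.symm hij)), Pi.mulSingle_eq_of_ne hij]
      simp [sgn]
  exact DFunLike.congr_fun h x

open Classical in
/-- Determinant and spinor norm of a sign change. -/
theorem sign_diagO (hQ : Nondeg Q) (h2 : (2 : F) ≠ 0) {b : Basis κ F V} (hb : OrthBasis Q b) (s : κ → ℤˣ) :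
    detSign Q hQ h2 (diagO h2 hb s) = ∏ i, s i ∧
      spinor Q hQ h2 (diagO h2 hb s) = ∏ i, if IsSquare (Q (b i)) then 1 else s i := by
  have hs : s = ∏ i, Pi.mulSingle i (s i) := (Finset.univ_prod_mulSingle s).symm
  have h1 : ∀ i, detSign Q hQ h2 (diagO h2 hb (Pi.mulSingle i (s i))) = s i ∧
      spinor Q hQ h2 (diagO h2 hb (Pi.mulSingle i (s i))) = if IsSquare (Q (b i)) then 1 else s i := by
    intro i
    rcases Int.units_eq_one_or (s i) with h | h
    · rw [h, Pi.mulSingle_one, map_one, map_one, map_one]; simp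
    · rw [h, diagO_single hQ h2 hb, detSign_rO hQ h2 (hb.value_ne_zero hQ h2 i),
        spinor_rO hQ h2 (hb.value_ne_zero hQ h2 i)]
      exact ⟨rfl, rfl⟩
  constructor
  · conv_lhs => rw [hs]
    rw [← MonoidHom.comp_apply, map_prod]
    exact Finset.prod_congr rfl fun i _ => (h1 i).1
  · conv_lhs => rw [hs]
    rw [← MonoidHom.comp_apply, map_prod]
    exact Finset.prod_congr rfl fun i _ => (h1 i).2

/-- The spinor norm of `-1`. -/
noncomputable def negSign (Q : QuadraticForm F V) (hQ : Nondeg Q) (h2 : (2 : F) ≠ 0) : ℤˣ :=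
  spinor Q hQ h2 ⟨LinearEquiv.neg F, fun x => QuadraticMap.map_neg Q x⟩

open Classical in
theorem negSign_eq (hQ : Nondeg Q) (h2 : (2 : F) ≠ 0) {b : Basis κ F V} (hb : OrthBasis Q b) :
    negSign Q hQ h2 = sqSign (∏ i, Q (b i)) := by
  have h : (⟨LinearEquiv.neg F, fun x => QuadraticMap.map_neg Q x⟩ : O Q) = diagO h2 hb (fun _ => -1) := by
    refine O.ext_app fun x => ?_
    rw [diagO_app]
    have h' : diagLin b (fun _ => -1) = -LinearMap.id := b.ext fun i => by
      rw [diagLin_basis]; simp [sgn]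
    rw [h']
    rfl
  rw [negSign, h, (sign_diagO hQ h2 hb _).2]
  have key : ∀ S : Finset κ, (∏ i ∈ S, if IsSquare (Q (b i)) then (1 : ℤˣ) else -1) =
      sqSign (∏ i ∈ S, Q (b i)) := by
    intro S
    induction S using Finset.induction_on with
    | empty => simp [sqSign_of_isSquare]
    | @insert j S hj ih =>
      rw [Finset.prod_insert hj, Finset.prod_insert hj, ih, sqSign_mul h2 (hb.value_ne_zero hQ h2 j)
        (Finset.prod_ne_zero_iff.2 fun i _ => hb.value_ne_zero hQ h2 i)]
      rfl
  exact key Finset.univ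

/-- Products over a constant class. -/
theorem sqSign_prod_const (hQ : Nondeg Q) (h2 : (2 : F) ≠ 0) {b : Basis κ F V} (hb : OrthBasis Q b)
    (he : Even (Fintype.card κ)) (hc : ∀ i j, IsSquare (Q (b i)) ↔ IsSquare (Q (b j))) :
    negSign Q hQ h2 = 1 := by
  classical
  rw [negSign_eq hQ h2 hb]
  have key : ∀ S : Finset κ, sqSign (∏ i ∈ S, Q (b i)) = ∏ i ∈ S, sqSign (Q (b i)) := by
    intro S
    induction S using Finset.induction_on with
    | empty => simp [sqSign_of_isSquare]
    | @insert j S hj ih =>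
      rw [Finset.prod_insert hj, Finset.prod_insert hj, ← ih, sqSign_mul h2 (hb.value_ne_zero hQ h2 j)
        (Finset.prod_ne_zero_iff.2 fun i _ => hb.value_ne_zero hQ h2 i)]
  rw [key]
  rcases isEmpty_or_nonempty κ with h | ⟨⟨i0⟩⟩
  · simp
  · have : ∀ i, sqSign (Q (b i)) = sqSign (Q (b i0)) := fun i => by
      simp only [sqSign, propext (hc i i0)]
    rw [Finset.prod_congr rfl fun i _ => this i, Finset.prod_const, Finset.card_univ]
    obtain ⟨k, hk⟩ := he
    rw [hk, ← two_mul, pow_mul, Int.units_sq, one_pow]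

theorem exists_orthBasis_aux (h2 : (2 : F) ≠ 0) {c : F} (hc : c ≠ 0) : ∀ (k : ℕ) (W : Submodule F V),
    Nondeg (restr Q W) → finrank F W = k + 1 → ∃ v : Fin (k + 1) → V, (∀ i, v i ∈ W) ∧
      (∀ i j, i ≠ j → polar Q (v i) (v j) = 0) ∧ (∀ i, Q (v i) ≠ 0) ∧ ∀ i, i ≠ 0 → Q (v i) = c := by
  intro k
  induction k with
  | zero =>
    intro W hW hd
    obtain ⟨w, hw, hspan⟩ := finrank_eq_one_iff'.1 hd
    refine ⟨fun _ => (w : V), fun _ => w.2, fun i j hij => absurd (Fin.ext (by omega)) hij, fun _ h0 => hw ?_,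
      fun i hi => absurd (Fin.ext (by omega)) hi⟩
    refine hW w fun y => ?_
    obtain ⟨a, rfl⟩ := hspan y
    rw [polar_smul_right', polar_self', restr_apply, h0, mul_zero, mul_zero]
  | succ k ih =>
    intro W hW hd
    obtain ⟨u, hu⟩ := hW.exists_value (by omega) c
    have hu0 : u ≠ 0 := fun h => hc (by rw [← hu, h, QuadraticMap.map_zero])
    have hQu : Q (u : V) = c := hu
    set L : Submodule F W := Submodule.span F {u}
    have hL : Nondeg (restr (restr Q W) L) := by
      intro x hx
      obtain ⟨a, ha⟩ := Submodule.mem_span_singleton.1 x.2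
      have h1 := hx ⟨u, Submodule.mem_span_singleton_self u⟩
      rw [polar_restr, ← ha] at h1
      change polar (restr Q W) (a • u) u = 0 at h1
      rw [polar_smul_left', polar_self', hu] at h1
      rcases mul_eq_zero.1 h1 with h | h
      · exact Subtype.ext (by rw [← ha, h, zero_smul]; rfl)
      · exact absurd h (mul_ne_zero h2 hc)
    have hP := hW.nondeg_perp hL
    set P : Submodule F V := (perp (restr Q W) L).map W.subtype
    have hPd : finrank F P = k + 1 := by
      rw [Submodule.finrank_map_subtype_eq]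
      have h := hW.finrank_perp_singleton hu0
      change finrank F ↥(perp (restr Q W) (Submodule.span F {u})) = k + 1
      omega
    have hPn : Nondeg (restr Q P) := by
      intro x hx
      obtain ⟨y, hy, hyx⟩ := x.2
      have h0 : (⟨y, hy⟩ : perp (restr Q W) L) = 0 := by
        refine hP _ fun z => ?_
        have h := hx ⟨(z : W), Submodule.mem_map_of_mem z.2⟩
        rw [polar_restr, ← hyx] at h
        rw [polar_restr, polar_restr]
        exact h
      have : y = 0 := congrArg Subtype.val h0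
      exact Subtype.ext (by rw [← hyx, this]; rfl)
    obtain ⟨v, hv, horth, hne, hval⟩ := ih P hPn hPd
    have hvW : ∀ i, v i ∈ W := fun i => (Submodule.map_subtype_le _ _) (hv i)
    have huv : ∀ i, polar Q (u : V) (v i) = 0 := by
      intro i
      obtain ⟨y, hy, hyv⟩ := hv i
      rw [← hyv]
      exact (polar_restr W u y).symm.trans (hy u (Submodule.mem_span_singleton_self u))
    refine ⟨Fin.snoc v (u : V), ?_, ?_, ?_, ?_⟩
    · intro i
      induction i using Fin.lastCases with
      | last => rw [Fin.snoc_last]; exact u.2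
      | cast i => rw [Fin.snoc_castSucc]; exact hvW i
    · intro i j hij
      induction i using Fin.lastCases with
      | last =>
        induction j using Fin.lastCases with
        | last => exact absurd rfl hij
        | cast j => rw [Fin.snoc_last, Fin.snoc_castSucc]; exact huv j
      | cast i =>
        induction j using Fin.lastCases with
        | last => rw [Fin.snoc_last, Fin.snoc_castSucc, polar_comm]; exact huv i
        | cast j =>
          rw [Fin.snoc_castSucc, Fin.snoc_castSucc]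
          exact horth i j fun h => hij (by rw [h])
    · intro i
      induction i using Fin.lastCases with
      | last => rw [Fin.snoc_last, hQu]; exact hc
      | cast i => rw [Fin.snoc_castSucc]; exact hne i
    · intro i hi
      induction i using Fin.lastCases with
      | last => rw [Fin.snoc_last, hQu]
      | cast i => rw [Fin.snoc_castSucc]; exact hval i fun h => hi (by rw [h, Fin.castSucc_zero])

/-- An orthogonal basis with all values but one equal to a given one. -/
theorem exists_orthBasis (hQ : Nondeg Q) (h2 : (2 : F) ≠ 0) {c : F} (hc : c ≠ 0) {N : ℕ}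
    (hN : finrank F V = N + 1) :
    ∃ b : Basis (Fin (N + 1)) F V, OrthBasis Q b ∧ ∀ i, i ≠ 0 → Q (b i) = c := by
  obtain ⟨v, -, horth, hne, hval⟩ := exists_orthBasis_aux (Q := Q) h2 hc N ⊤ (nondeg_restr_top hQ)
    (by rw [finrank_top, hN])
  have hli : LinearIndependent F v := by
    refine LinearMap.BilinForm.linearIndependent_of_iIsOrtho (B := Q.polarBilin) ?_ fun i => ?_
    · exact LinearMap.BilinForm.iIsOrtho_def.2 fun i j hij => horth i j hij
    · rw [polarBilin_apply', polar_self']
      exact mul_ne_zero h2 (hne i)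
  let b := basisOfLinearIndependentOfCardEqFinrank hli (by rw [Fintype.card_fin, hN])
  have hb : ⇑b = v := coe_basisOfLinearIndependentOfCardEqFinrank _ _
  exact ⟨b, fun i j hij => by rw [hb]; exact horth i j hij, fun i hi => by rw [hb]; exact hval i hi⟩

theorem sqSign_pow (h2 : (2 : F) ≠ 0) {c : F} (hc : c ≠ 0) (k : ℕ) : sqSign (c ^ k) = sqSign c ^ k := by
  induction k with
  | zero => simp [sqSign_of_isSquare]
  | succ k ih => rw [pow_succ, pow_succ, sqSign_mul h2 (pow_ne_zero _ hc) hc, ih]

/-- The sign changes supported on `S` in the commutator subgroup. -/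
theorem exists_elementary (hQ : Nondeg Q) (h2 : (2 : F) ≠ 0) {b : Basis κ F V} (hb : OrthBasis Q b)
    (S : Finset κ) (hS : ∀ i ∈ S, ∀ j ∈ S, IsSquare (Q (b i)) ↔ IsSquare (Q (b j))) :
    ∃ A : Subgroup (O Q), A ≤ commutator (O Q) ∧ (∀ a ∈ A, ∀ a' ∈ A, a * a' = a' * a) ∧
      (∀ a ∈ A, a ^ 2 = 1) ∧ 2 ^ (S.card - 1) ≤ Nat.card A := by
  classical
  let E : Subgroup (κ → ℤˣ) :=
    { carrier := {s | (∀ i, i ∉ S → s i = 1) ∧ ∏ i, s i = 1}
      mul_mem' := fun {s t} hs ht => ⟨fun i hi => by rw [Pi.mul_apply, hs.1 i hi, ht.1 i hi, mul_one],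
        by simp only [Pi.mul_apply]; rw [Finset.prod_mul_distrib, hs.2, ht.2, mul_one]⟩
      one_mem' := ⟨fun _ _ => rfl, Finset.prod_const_one⟩
      inv_mem' := fun {s} hs => ⟨fun i hi => by rw [Pi.inv_apply, hs.1 i hi, inv_one],
        by simp only [Pi.inv_apply]; rw [Finset.prod_inv_distrib, hs.2, inv_one]⟩ }
  refine ⟨E.map (diagO h2 hb), ?_, ?_, ?_, ?_⟩
  · rintro _ ⟨s, hs, rfl⟩
    rw [mem_commutator_iff hQ h2, (sign_diagO hQ h2 hb s).1, (sign_diagO hQ h2 hb s).2]
    refine ⟨hs.2, ?_⟩
    rcases S.eq_empty_or_nonempty with rfl | ⟨i0, hi0⟩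
    · exact Finset.prod_eq_one fun i _ => by rw [hs.1 i (Finset.notMem_empty i), ite_self]
    by_cases hsq : IsSquare (Q (b i0))
    · refine Finset.prod_eq_one fun i _ => ?_
      by_cases hi : i ∈ S
      · rw [if_pos ((hS i hi i0 hi0).2 hsq)]
      · rw [hs.1 i hi, ite_self]
    · refine Eq.trans (Finset.prod_congr rfl fun i _ => ?_) hs.2
      by_cases hi : i ∈ S
      · rw [if_neg fun h => hsq ((hS i hi i0 hi0).1 h)]
      · rw [hs.1 i hi, ite_self]
  · rintro _ ⟨s, -, rfl⟩ _ ⟨t, -, rfl⟩
    rw [← map_mul, ← map_mul, mul_comm]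
  · rintro _ ⟨s, -, rfl⟩
    rw [← map_pow, show s ^ 2 = 1 from funext fun i => by rw [Pi.pow_apply, Int.units_sq]; rfl, map_one]
  · rw [Subgroup.card_map_of_injective (diagO_injective h2 hb)]
    rcases S.eq_empty_or_nonempty with rfl | ⟨i0, hi0⟩
    · exact Nat.one_le_iff_ne_zero.2 Nat.card_pos.ne'
    have hcard : Nat.card (↥(S.erase i0) → ℤˣ) = 2 ^ (S.card - 1) := by
      rw [Nat.card_fun, Nat.card_eq_fintype_card (α := ↥(S.erase i0)), Fintype.card_coe,
        Finset.card_erase_of_mem hi0, Nat.card_eq_fintype_card, Fintype.card_units_int]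
    rw [← hcard]
    let ext : (↥(S.erase i0) → ℤˣ) → κ → ℤˣ := fun t i =>
      if h : i ∈ S.erase i0 then t ⟨i, h⟩ else if i = i0 then ∏ j, t j else 1
    have hext : ∀ t, ext t ∈ E := by
      intro t
      refine ⟨fun i hi => ?_, ?_⟩
      · simp only [ext]
        rw [dif_neg fun h => hi (Finset.mem_of_mem_erase h), if_neg (by rintro rfl; exact hi hi0)]
      · rw [← Finset.prod_subset (Finset.subset_univ S) fun i _ hi => by
          simp only [ext]
          rw [dif_neg fun h => hi (Finset.mem_of_mem_erase h), if_neg (by rintro rfl; exact hi hi0)],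
          ← Finset.prod_erase_mul S _ hi0]
        have e1 : ext t i0 = ∏ j, t j := by
          simp only [ext]
          rw [dif_neg (Finset.notMem_erase i0 S)]; simp
        have e2 : ∏ i ∈ S.erase i0, ext t i = ∏ j, t j := by
          rw [← Finset.prod_coe_sort (S.erase i0)]
          exact Finset.prod_congr rfl fun j _ => by simp only [ext]; rw [dif_pos j.2]
        rw [e1, e2, Int.units_mul_self]
    refine Nat.card_le_card_of_injective (fun t => (⟨ext t, hext t⟩ : E)) fun t t' h => ?_
    funext j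
    have h' := congrFun (congrArg Subtype.val h) (j : κ)
    simp only [ext, dif_pos j.2] at h'
    exact h'

end General

section Matrices

variable {F : Type*} [Field F] [Fintype F] {ι : Type} [Fintype ι] [DecidableEq ι]
variable {Q : QuadraticForm F (ι → F)}

theorem rankAtLeast {κ : Type*} [Fintype κ] [DecidableEq κ] (hQ : Nondeg Q) (h2 : (2 : F) ≠ 0)
    {b : Basis κ F (ι → F)} (hb : OrthBasis Q b)
    (S : Finset κ) (hS : ∀ i ∈ S, ∀ j ∈ S, IsSquare (Q (b i)) ↔ IsSquare (Q (b j))) {k : ℕ}
    (hk : k + 1 ≤ S.card) : Cfsg.PRankAtLeast 2 k ↥(Cfsg.Omega F (⇑Q)) := by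
  obtain ⟨A, hA, hcomm, hsq, hcard⟩ := exists_elementary hQ h2 hb S hS
  have hle : A.map (toO Q).symm.toMonoidHom ≤ Cfsg.Omega F (⇑Q) := by
    rintro _ ⟨a, ha, rfl⟩
    exact (mem_omega_iff Q _).2 (by simpa using hA ha)
  refine ⟨(A.map (toO Q).symm.toMonoidHom).subgroupOf (Cfsg.Omega F (⇑Q)), ?_, ?_, ?_⟩
  · constructor
    constructor
    rintro ⟨⟨x, hxO⟩, hx⟩ ⟨⟨y, hyO⟩, hy⟩
    obtain ⟨a, ha, hax⟩ := hx
    obtain ⟨a', ha', hay⟩ := hy
    refine Subtype.ext (Subtype.ext ?_)
    change x * y = y * x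
    change _ = x at hax
    change _ = y at hay
    rw [← hax, ← hay, ← map_mul, ← map_mul, hcomm a ha a' ha']
  · rintro ⟨x, hxO⟩ ⟨a, ha, hax⟩
    refine Subtype.ext ?_
    change x ^ 2 = 1
    change _ = x at hax
    rw [← hax, ← map_pow, hsq a ha, map_one]
  · rw [Nat.card_congr (Subgroup.subgroupOfEquivOfLe hle).toEquiv,
      Subgroup.card_map_of_injective (f := (toO Q).symm.toMonoidHom) (toO Q).symm.injective]
    exact le_trans (Nat.pow_le_pow_right two_pos (by omega)) hcard

/-- All but one vector of an orthogonal basis in one class. -/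
theorem rankAtLeast_sub_two (hQ : Nondeg Q) (h2 : (2 : F) ≠ 0) {k : ℕ} (hN : Fintype.card ι = k + 2) :
    Cfsg.PRankAtLeast 2 k ↥(Cfsg.Omega F (⇑Q)) := by
  obtain ⟨b, hb, hval⟩ := exists_orthBasis hQ h2 one_ne_zero (N := k + 1) (by simp [hN])
  refine rankAtLeast hQ h2 hb (Finset.univ.erase 0) ?_ (by simp)
  intro i hi j hj
  rw [hval i (Finset.ne_of_mem_erase hi), hval j (Finset.ne_of_mem_erase hj)]

/-- All basis vectors in one class. -/
theorem rankAtLeast_sub_one (hQ : Nondeg Q) (h2 : (2 : F) ≠ 0) {k : ℕ} (hN : Fintype.card ι = k + 1)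
    (h : Even k ∨ negSign Q hQ h2 = 1) : Cfsg.PRankAtLeast 2 k ↥(Cfsg.Omega F (⇑Q)) := by
  classical
  have hfr : finrank F (ι → F) = k + 1 := by simp [hN]
  suffices hex : ∃ b : Basis (Fin (k + 1)) F (ι → F), OrthBasis Q b ∧
      ∀ i, IsSquare (Q (b i)) ↔ IsSquare (Q (b 0)) by
    obtain ⟨b, hb, hS⟩ := hex
    exact rankAtLeast hQ h2 hb Finset.univ (fun i _ j _ => (hS i).trans (hS j).symm) (by simp)
  have hprod : ∀ c : F, c ≠ 0 → ∃ b : Basis (Fin (k + 1)) F (ι → F), OrthBasis Q b ∧
      (∀ i, i ≠ 0 → Q (b i) = c) ∧ negSign Q hQ h2 = sqSign (Q (b 0)) * sqSign c ^ k := by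
    intro c hc
    obtain ⟨b, hb, hval⟩ := exists_orthBasis hQ h2 hc hfr
    refine ⟨b, hb, hval, ?_⟩
    rw [negSign_eq hQ h2 hb, Fin.prod_univ_succ,
      Finset.prod_congr rfl fun i _ => hval _ (Fin.succ_ne_zero i), Finset.prod_const, Finset.card_univ,
      Fintype.card_fin, sqSign_mul h2 (hb.value_ne_zero hQ h2 0) (pow_ne_zero _ hc)]
    rw [sqSign_pow h2 hc]
  obtain ⟨b, hb, hval, hneg⟩ := hprod 1 one_ne_zero
  rw [sqSign_of_isSquare (IsSquare.one (α := F)), one_pow, mul_one] at hneg
  rcases h with hk | hk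
  · obtain ⟨b', hb', hval', hneg'⟩ := hprod (Q (b 0)) (hb.value_ne_zero hQ h2 0)
    refine ⟨b', hb', fun i => ?_⟩
    by_cases hi : i = 0
    · rw [hi]
    · obtain ⟨j, hj⟩ := hk
      have hk1 : sqSign (Q (b 0)) ^ k = 1 := by
        generalize sqSign (Q (b 0)) = u
        rw [hj, ← two_mul, pow_mul, Int.units_sq, one_pow]
      rw [hk1, mul_one, hneg] at hneg'
      rw [hval' i hi, ← sqSign_eq_one_iff, ← sqSign_eq_one_iff, hneg']
  · refine ⟨b, hb, fun i => ?_⟩
    rw [hk, eq_comm, sqSign_eq_one_iff] at hneg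
    by_cases hi : i = 0
    · rw [hi]
    · exact iff_of_true (by rw [hval i hi]; exact IsSquare.one) hneg

/-- The upper bound. -/
theorem rankLE (hQ : Nondeg Q) (h2 : (2 : F) ≠ 0) {N : ℕ} (hN : Fintype.card ι = N + 1) :
    Cfsg.PRankLE 2 N ↥(Cfsg.Omega F (⇑Q)) ∧
      (3 ≤ N + 1 → Even (N + 1) → negSign Q hQ h2 ≠ 1 → Cfsg.PRankLE 2 (N - 1) ↥(Cfsg.Omega F (⇑Q))) := by
  classical
  have main : ∀ A : Subgroup ↥(Cfsg.Omega F (⇑Q)), IsMulCommutative A → (∀ a ∈ A, a ^ 2 = 1) →
      Nat.card A ≤ 2 ^ N ∧ (3 ≤ N + 1 → Even (N + 1) → Nat.card A = 2 ^ N → negSign Q hQ h2 = 1) := by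
    intro A hA hsq
    let M : A → Matrix ι ι F := fun a => (((a : ↥(Cfsg.Omega F (⇑Q))).1 : GL ι F) : Matrix ι ι F)
    have hM2 : ∀ a, M a * M a = 1 := by
      intro a
      have h := congrArg (fun x : ↥(Cfsg.Omega F (⇑Q)) => ((x.1 : GL ι F) : Matrix ι ι F)) (hsq a a.2)
      simpa [M, pow_two] using h
    have hMc : ∀ a a', M a * M a' = M a' * M a := by
      intro a a'
      have h := congrArg (fun x : A => ((x.1.1 : GL ι F) : Matrix ι ι F)) (mul_comm' a a')
      simpa [M] using h
    obtain ⟨b, s, hbs⟩ := exists_sign_basis h2 M hM2 hMc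
    have happ : ∀ (a : A) i, (toO Q (a : ↥(Cfsg.Omega F (⇑Q))).1 : (ι → F) ≃ₗ[F] (ι → F)) (b i) = s a i • b i :=
      fun a i => by rw [toO_apply]; exact (hbs a i).2
    have hdet : ∀ a, ∏ i, s a i = 1 := by
      intro a
      rw [← det_eq_prod b (s a) fun i => (hbs a i).2]
      have h := ((mem_commutator_iff hQ h2 _).1 ((mem_omega_iff Q _).1 (a : ↥(Cfsg.Omega F (⇑Q))).2)).1
      rw [detSign_eq_one_iff, ← LinearMap.det_toLin'] at *
      rw [← h]
      congr 1
    haveI : Nonempty ι := Fintype.card_pos_iff.1 (by omega)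
    obtain ⟨i0⟩ := ‹Nonempty ι›
    let Φ : A → ({i : ι // i ≠ i0} → Bool) := fun a i => decide (s a i = 1)
    have hne : (1 : F) ≠ -1 := fun h => h2 (by linear_combination h)
    have hΦ : Function.Injective Φ := by
      intro a a' h
      have hoff : ∀ i, i ≠ i0 → s a i = s a' i := by
        intro i hi
        have h1 := congrFun h ⟨i, hi⟩
        simp only [Φ, decide_eq_decide] at h1
        rcases (hbs a i).1 with e | e <;> rcases (hbs a' i).1 with e' | e' <;> rw [e, e'] at h1 ⊢
        · exact absurd (h1.1 rfl).symm hne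
        · exact absurd (h1.2 rfl).symm hne
      have hall : ∀ i, s a i = s a' i := by
        intro i
        by_cases hi : i = i0
        · subst hi
          have e := (hdet a).trans (hdet a').symm
          rw [← Finset.mul_prod_erase _ _ (Finset.mem_univ i), ← Finset.mul_prod_erase _ _ (Finset.mem_univ i),
            Finset.prod_congr rfl fun j hj => hoff j (Finset.ne_of_mem_erase hj)] at e
          exact mul_right_cancel₀ (Finset.prod_ne_zero_iff.2 fun j _ => by
            rcases (hbs a' j).1 with h | h <;> rw [h] <;> simp) e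
        · exact hoff i hi
      refine Subtype.ext (Subtype.ext (Subtype.ext (Units.ext ?_)))
      exact eq_of_eigen b (s a') (fun k => by rw [← hall k]; exact (hbs a k).2) fun k => (hbs a' k).2
    have hcardfun : Nat.card ({i : ι // i ≠ i0} → Bool) = 2 ^ N := by
      simp [Nat.card_eq_fintype_card, hN]
    refine ⟨hcardfun ▸ Nat.card_le_card_of_injective Φ hΦ, fun h3 hev hmax => ?_⟩
    have hbij := (Nat.bijective_iff_injective_and_card Φ).2 ⟨hΦ, hmax.trans hcardfun.symm⟩
    -- every even pattern occurs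
    have hpat : ∀ i j, i ≠ j → ∃ a, ∀ k, s a k = if k = i ∨ k = j then -1 else 1 := by
      intro i j hij
      obtain ⟨a, ha⟩ := hbij.2 fun k => decide (¬((k : ι) = i ∨ (k : ι) = j))
      have hoff : ∀ k, k ≠ i0 → s a k = if k = i ∨ k = j then -1 else 1 := by
        intro k hk
        have h1 := congrFun ha ⟨k, hk⟩
        simp only [Φ, decide_eq_decide] at h1
        split_ifs with h
        · exact (hbs a k).1.resolve_left fun e => h1.1 e h
        · exact h1.2 h
      refine ⟨a, fun k => ?_⟩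
      by_cases hk : k = i0
      · subst hk
        have e := hdet a
        have e' : ∏ l, (if l = i ∨ l = j then (-1 : F) else 1) = 1 := by
          rw [Finset.prod_ite, Finset.prod_const, Finset.prod_const_one, mul_one,
            show (Finset.univ.filter fun l => l = i ∨ l = j) = {i, j} by ext l; simp,
            Finset.card_pair hij]
          simp
        rw [← e'] at e
        rw [← Finset.mul_prod_erase _ _ (Finset.mem_univ k), ← Finset.mul_prod_erase _ _ (Finset.mem_univ k),
          Finset.prod_congr rfl fun l hl => hoff l (Finset.ne_of_mem_erase hl)] at e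
        exact mul_right_cancel₀ (Finset.prod_ne_zero_iff.2 fun l _ => by split_ifs <;> simp) e
      · exact hoff k hk
    have hb : OrthBasis Q b := by
      intro i j hij
      obtain ⟨k, -, hki, hkj⟩ : ∃ k, k ∈ (Finset.univ : Finset ι) ∧ k ≠ i ∧ k ≠ j := by
        have hc : ({i, j} : Finset ι).card < (Finset.univ : Finset ι).card := by
          rw [Finset.card_univ, hN]; exact lt_of_le_of_lt Finset.card_le_two (by omega)
        obtain ⟨k, hk1, hk2⟩ := Finset.exists_mem_notMem_of_card_lt_card hc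
        simp only [Finset.mem_insert, Finset.mem_singleton, not_or] at hk2
        exact ⟨k, hk1, hk2⟩
      obtain ⟨a, ha⟩ := hpat i k (Ne.symm hki)
      have h := O.polar_app (toO Q (a : ↥(Cfsg.Omega F (⇑Q))).1) (b i) (b j)
      rw [happ, happ, ha, ha, if_pos (Or.inl rfl), if_neg (by rintro (h | h); exacts [hij h.symm, hkj h.symm]),
        one_smul, polar_smul_left'] at h
      exact (mul_eq_zero.1 (show (2 : F) * polar Q (b i) (b j) = 0 by linear_combination -h)).resolve_left h2
    refine sqSign_prod_const hQ h2 hb (by rwa [hN]) fun i j => ?_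
    rcases eq_or_ne i j with rfl | hij
    · exact Iff.rfl
    obtain ⟨a, ha⟩ := hpat i j hij
    let t : ι → ℤˣ := fun k => if k = i ∨ k = j then -1 else 1
    have heq : toO Q (a : ↥(Cfsg.Omega F (⇑Q))).1 = diagO h2 hb t := by
      refine O.ext_app fun x => ?_
      rw [diagO_app]
      have h : (((toO Q (a : ↥(Cfsg.Omega F (⇑Q))).1 : (ι → F) ≃ₗ[F] (ι → F))) : (ι → F) →ₗ[F] (ι → F)) = diagLin b t :=
        b.ext fun k => by
          rw [LinearEquiv.coe_coe, happ, ha, diagLin_basis]
          simp only [t]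
          split_ifs <;> simp [sgn]
      exact DFunLike.congr_fun h x
    have hsp := ((mem_commutator_iff hQ h2 _).1 ((mem_omega_iff Q _).1 (a : ↥(Cfsg.Omega F (⇑Q))).2)).2
    rw [heq, (sign_diagO hQ h2 hb t).2,
      ← Finset.prod_subset (Finset.subset_univ {i, j}) (fun k _ hk => by
        simp only [Finset.mem_insert, Finset.mem_singleton] at hk
        simp only [t, if_neg hk, ite_self]), Finset.prod_pair hij] at hsp
    simp only [t, true_or, or_true, if_true] at hsp
    by_cases hi : IsSquare (Q (b i)) <;> by_cases hj : IsSquare (Q (b j)) <;>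
      simp [hi, hj] at hsp ⊢
  refine ⟨fun A hA hsq => (main A hA hsq).1, fun h3 hev hneg A hA hsq => ?_⟩
  obtain ⟨h1, h2'⟩ := main A hA hsq
  have hp : IsPGroup 2 A := fun a => ⟨1, by rw [pow_one]; exact Subtype.ext (hsq a a.2)⟩
  obtain ⟨e, he⟩ := IsPGroup.iff_card.1 hp
  rw [he] at h1 h2' ⊢
  have hle : e ≤ N := (Nat.pow_le_pow_iff_right (by norm_num)).1 h1
  refine Nat.pow_le_pow_right two_pos ?_
  rcases hle.lt_or_eq with h | h
  · omega
  · exact absurd (h2' h3 hev (by rw [h])) hneg

end Matrices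

end Cfsg.Agent.H52.OrthoRank
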