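import Cfsg.Agent.H52.TwoBase
import Cfsg.Agent.Linear.Unitriangular

/-!
Sylow 2-subgroups of special linear groups in odd characteristic: squares lie in the derived subgroup.
-/

set_option autoImplicit false
set_option linter.style.haveILetI false
set_option linter.unusedFintypeInType false
set_option linter.unusedDecidableInType false

namespace Cfsg.Agent.H52.SylowSquares

open Matrix Cfsg.Agent.H52.TwoBlock
open scoped MatrixGroups commutatorElement

variable {κ : Type*} [Fintype κ] [DecidableEq κ] {F : Type*} [Field F]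

/-- Squares of the determinant one part lie in its derived subgroup. -/
def Sq (T : Subgroup (GL κ F)) : Prop := ∀ x ∈ one1 T, x * x ∈ ⁅one1 T, one1 T⁆

/-- An involution of determinant `-1`. -/
def HasInv (T : Subgroup (GL κ F)) : Prop :=
  ∃ d ∈ T, GeneralLinearGroup.det d = -1 ∧ d * d = 1

theorem sq_of_mul {G : Type*} [Group G] {S : Subgroup G} {u v : G} (hu : u ∈ S) (hv : v ∈ S)
    (huu : u * u ∈ ⁅S, S⁆) (hvv : v * v ∈ ⁅S, S⁆) : u * v * (u * v) ∈ ⁅S, S⁆ := by
  have h := mul_mem (mul_mem huu (Subgroup.commutator_mem_commutator (inv_mem hu) hv)) hvv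
  simpa [commutatorElement_def, mul_assoc] using h

theorem sq_map {G H : Type*} [Group G] [Group H] (f : G →* H) {A : Subgroup G} {S : Subgroup H}
    (hA : A.map f ≤ S) {a : G} (ha : a * a ∈ ⁅A, A⁆) : f a * f a ∈ ⁅S, S⁆ := by
  refine Subgroup.commutator_mono hA hA ?_
  rw [← Subgroup.map_commutator, ← map_mul]
  exact ⟨_, ha, rfl⟩

theorem sq_wreath {T : Subgroup (GL κ F)} (hneg : (-1 : GL κ F) ∈ one1 T) (hT : Sq T) :
    Sq (wreath T hneg.1) := by
  set S := one1 (wreath T hneg.1)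
  have hone : ∀ c ∈ one1 T, blk (c, (1 : GL κ F)) ∈ S := fun c hc =>
    one1_blk hc.1 (one_mem _) (by simp [MonoidHom.mem_ker.1 hc.2])
  have hpair : ∀ b ∈ T, blk (b, b⁻¹) ∈ S := fun b hb => one1_blk hb (inv_mem hb) (by simp)
  have hblk : ∀ a ∈ T, ∀ b ∈ T, GeneralLinearGroup.det a * GeneralLinearGroup.det b = 1 →
      blk (a, b) * blk (a, b) ∈ ⁅S, S⁆ := by
    intro a ha b hb hd
    have hab : a * b ∈ one1 T := ⟨mul_mem ha hb, by show GeneralLinearGroup.det (a * b) = 1; rw [map_mul, hd]⟩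
    have e : blk (a, b) = blk (a * b, (1 : GL κ F)) * blk (b⁻¹, b⁻¹⁻¹) := by rw [← map_mul]; simp
    rw [e]
    refine sq_of_mul (hone _ hab) (hpair _ (inv_mem hb)) ?_ ?_
    · exact sq_map (blk.comp (MonoidHom.inl (GL κ F) (GL κ F))) (by rintro _ ⟨c, hc, rfl⟩; exact hone c hc) (hT _ hab)
    · have h := Subgroup.commutator_mem_commutator (hpair _ (inv_mem hb)) (sw_mem_one1 T hneg.1)
      have : ⁅(blk (b⁻¹, b⁻¹⁻¹) : GL (κ ⊕ κ) F), sw⁆ = blk (b⁻¹, b⁻¹⁻¹) * blk (b⁻¹, b⁻¹⁻¹) := by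
        rw [commutatorElement_def, ← map_inv, mul_assoc (blk _), sw_blk, ← mul_assoc, mul_inv_cancel_right]
        simp
      rwa [this] at h
  intro x hx
  have hdet : ∀ p, GeneralLinearGroup.det (blk p : GL (κ ⊕ κ) F) = 1 →
      GeneralLinearGroup.det p.1 * GeneralLinearGroup.det p.2 = 1 := fun p h => by rwa [det_blk] at h
  rcases hx.1 with ⟨p, hp, rfl⟩ | ⟨p, hp, e⟩
  · exact hblk _ hp.1 _ hp.2 (hdet p hx.2)
  · have hxe : x = blk p * sw⁻¹ := eq_mul_inv_of_mul_eq e.symm
    have hd := hdet p (by rw [e, map_mul, det_sw, mul_one]; exact MonoidHom.mem_ker.1 hx.2)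
    rw [hxe]
    refine sq_of_mul (one1_blk hp.1 hp.2 hd) (inv_mem (sw_mem_one1 T hneg.1)) (hblk _ hp.1 _ hp.2 hd) ?_
    rw [← _root_.mul_inv_rev, sw_sq]
    refine inv_mem ?_
    have := pair_mem_commutator (hT := hneg.1) hneg
    simpa using this

theorem negOne_wreath {T : Subgroup (GL κ F)} (hneg : (-1 : GL κ F) ∈ one1 T) :
    (-1 : GL (κ ⊕ κ) F) ∈ one1 (wreath T hneg.1) := by
  have h := one1_blk (hT := hneg.1) (p := ((-1 : GL κ F), (-1 : GL κ F))) hneg.1 hneg.1
    (by rw [MonoidHom.mem_ker.1 hneg.2, mul_one])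
  have : (-1 : GL (κ ⊕ κ) F) = blk ((-1 : GL κ F), (-1 : GL κ F)) := by
    apply Units.ext
    rw [Units.val_neg, Units.val_one, blk_coe, ← fromBlocks_one, fromBlocks_neg]
    simp
  rwa [this]

theorem hasInv_wreath {T : Subgroup (GL κ F)} (hneg : (-1 : GL κ F) ∈ T) (hd : HasInv T) :
    HasInv (wreath T hneg) := by
  obtain ⟨d, hd, hdd, hd1⟩ := hd
  refine ⟨blk (d, 1), diagPart_le T hneg (blk_mem_diagPart.2 ⟨hd, one_mem _⟩), ?_, ?_⟩
  · rw [det_blk, map_one, mul_one, hdd]
  · rw [← map_mul, Prod.mk_mul_mk, hd1, one_mul, Prod.mk_one_one, map_one]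

section Sum

variable {ι : Type*} [Fintype ι] [DecidableEq ι]

/-- Block diagonal pairs of different sizes. -/
def dia : GL κ F × GL ι F →* GL (κ ⊕ ι) F :=
  MonoidHom.toHomUnits
    { toFun := fun p => fromBlocks (p.1 : Matrix κ κ F) 0 0 (p.2 : Matrix ι ι F)
      map_one' := by simp [fromBlocks_one]
      map_mul' := fun p q => by simp [fromBlocks_multiply] }

theorem dia_injective : Function.Injective (dia : GL κ F × GL ι F →* GL (κ ⊕ ι) F) := by
  intro p q h
  have h' : fromBlocks (p.1 : Matrix κ κ F) 0 0 (p.2 : Matrix ι ι F) = fromBlocks (q.1 : Matrix κ κ F) 0 0 (q.2 : Matrix ι ι F) :=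
    congrArg (fun g : GL (κ ⊕ ι) F => (g : Matrix (κ ⊕ ι) (κ ⊕ ι) F)) h
  rw [fromBlocks_inj] at h'
  exact Prod.ext (Units.ext h'.1) (Units.ext h'.2.2.2)

theorem det_dia (p : GL κ F × GL ι F) :
    GeneralLinearGroup.det (dia p) = GeneralLinearGroup.det p.1 * GeneralLinearGroup.det p.2 :=
  Units.ext (by simp [dia, det_fromBlocks_zero₂₁])

theorem sq_sum {T : Subgroup (GL κ F)} {U : Subgroup (GL ι F)} (hT : Sq T) (hU : Sq U) (hdT : HasInv T)
    (hdU : HasInv U) (hs : ∀ t ∈ T, GeneralLinearGroup.det t = 1 ∨ GeneralLinearGroup.det t = -1) :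
    Sq ((T.prod U).map dia) := by
  intro x hx
  obtain ⟨⟨a, b⟩, ⟨ha, hb⟩, rfl⟩ := hx.1
  set S := one1 ((T.prod U).map dia)
  have hmem : ∀ a ∈ T, ∀ b ∈ U, GeneralLinearGroup.det a * GeneralLinearGroup.det b = 1 → dia (a, b) ∈ S :=
    fun a ha b hb hd => ⟨⟨(a, b), ⟨ha, hb⟩, rfl⟩, MonoidHom.mem_ker.2 (by rw [det_dia]; exact hd)⟩
  have hdet : GeneralLinearGroup.det a * GeneralLinearGroup.det b = 1 := by
    rw [← det_dia (a, b)]; exact MonoidHom.mem_ker.1 hx.2
  have hone : ∀ c ∈ one1 T, ∀ e ∈ one1 U, dia (c, e) * dia (c, e) ∈ ⁅S, S⁆ := by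
    intro c hc e he
    have hc' : dia (c, (1 : GL ι F)) ∈ S := hmem c hc.1 1 (one_mem _) (by simp [MonoidHom.mem_ker.1 hc.2])
    have he' : dia ((1 : GL κ F), e) ∈ S := hmem 1 (one_mem _) e he.1 (by simp [MonoidHom.mem_ker.1 he.2])
    have : dia (c, e) = dia (c, (1 : GL ι F)) * dia ((1 : GL κ F), e) := by rw [← map_mul]; simp
    rw [this]
    refine sq_of_mul hc' he' ?_ ?_
    · exact sq_map (dia.comp (MonoidHom.inl (GL κ F) (GL ι F)))
        (by rintro _ ⟨c, hc, rfl⟩; exact hmem c hc.1 1 (one_mem _) (by simp [MonoidHom.mem_ker.1 hc.2])) (hT _ hc)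
    · exact sq_map (dia.comp (MonoidHom.inr (GL κ F) (GL ι F)))
        (by rintro _ ⟨e, he, rfl⟩; exact hmem 1 (one_mem _) e he.1 (by simp [MonoidHom.mem_ker.1 he.2])) (hU _ he)
  rcases hs a ha with h | h
  · rw [h, one_mul] at hdet
    exact hone a ⟨ha, MonoidHom.mem_ker.2 h⟩ b ⟨hb, MonoidHom.mem_ker.2 hdet⟩
  · obtain ⟨d, hd, hdd, hd1⟩ := hdT
    obtain ⟨d', hd', hdd', hd1'⟩ := hdU
    have hb' : GeneralLinearGroup.det b = -1 := by
      rw [h, neg_one_mul, neg_eq_iff_eq_neg] at hdet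
      exact hdet
    have hc : a * d ∈ one1 T := ⟨mul_mem ha hd, MonoidHom.mem_ker.2 (by rw [map_mul, h, hdd]; simp)⟩
    have he : b * d' ∈ one1 U := ⟨mul_mem hb hd', MonoidHom.mem_ker.2 (by rw [map_mul, hb', hdd']; simp)⟩
    have e : dia (a, b) = dia (a * d, b * d') * dia (d, d') := by
      rw [← map_mul, Prod.mk_mul_mk, mul_assoc, hd1, mul_one, mul_assoc, hd1', mul_one]
    rw [e]
    refine sq_of_mul (hmem _ hc.1 _ he.1 (by rw [MonoidHom.mem_ker.1 hc.2, MonoidHom.mem_ker.1 he.2, one_mul]))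
      (hmem _ hd _ hd' (by rw [hdd, hdd']; simp)) (hone _ hc _ he) ?_
    rw [← map_mul, Prod.mk_mul_mk, hd1, hd1', Prod.mk_one_one, map_one]
    exact one_mem _

theorem hasInv_sum {T : Subgroup (GL κ F)} (U : Subgroup (GL ι F)) (hd : HasInv T) :
    HasInv ((T.prod U).map dia) := by
  obtain ⟨d, hd, hdd, hd1⟩ := hd
  refine ⟨dia (d, 1), ⟨(d, 1), ⟨hd, one_mem _⟩, rfl⟩, ?_, ?_⟩
  · rw [det_dia, map_one, mul_one, hdd]
  · rw [← map_mul, Prod.mk_mul_mk, hd1, one_mul, Prod.mk_one_one, map_one]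

theorem sq_reidx (e : κ ≃ ι) {T : Subgroup (GL κ F)} (hT : Sq T) : Sq (T.map (reidx e).toMonoidHom) := by
  intro x hx
  obtain ⟨y, rfl⟩ := (reidx e).surjective x
  refine sq_map (reidx e).toMonoidHom ?_ (hT y ((mem_one1_reidx e T y).1 hx))
  rintro _ ⟨z, hz, rfl⟩
  exact (mem_one1_reidx e T z).2 hz

theorem hasInv_reidx (e : κ ≃ ι) {T : Subgroup (GL κ F)} (hd : HasInv T) : HasInv (T.map (reidx e).toMonoidHom) := by
  obtain ⟨d, hd, hdd, hd1⟩ := hd
  exact ⟨reidx e d, ⟨d, hd, rfl⟩, by rw [det_reidx, hdd], by rw [← map_mul, hd1, map_one]⟩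

end Sum

open TwoBase in
theorem sq_base [Fintype F] : Sq (base F) := by
  set S := one1 (base F)
  obtain ⟨c₀, hc₀, hd₀⟩ := exists_norm_neg_one (F := F)
  have hK : c₀ * R ∈ S := ⟨mul_mem (C2_le hc₀) R_mem, MonoidHom.mem_ker.2 (by
    rw [map_mul, hd₀, det_R, neg_one_mul, neg_neg])⟩
  have hC : ∀ c ∈ C2 F, GeneralLinearGroup.det c = 1 → c * c ∈ ⁅S, S⁆ := by
    intro c hc hd
    have hcS : c ∈ S := ⟨C2_le hc, MonoidHom.mem_ker.2 hd⟩
    obtain ⟨x, y, hxy⟩ := mem_Ct.1 hc.1
    have hn : x ^ 2 + y ^ 2 = 1 := by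
      have := congrArg Units.val hd
      rw [GeneralLinearGroup.val_det_apply, hxy, det_M, Units.val_one] at this
      exact this
    have hRc : R * c * R = c⁻¹ := by
      refine eq_inv_of_mul_eq_one_left (Units.ext ?_)
      rw [Units.val_mul, R_conj_coe hxy, hxy, M_mul, Units.val_one, ← one_smul F (1 : Matrix (Fin 2) (Fin 2) F),
        ← M_scalar, M_inj]
      exact ⟨by linear_combination hn, by ring⟩
    have h := Subgroup.commutator_mem_commutator hcS hK
    have e : ⁅c, c₀ * R⁆ = c * c := by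
      rw [commutatorElement_def, _root_.mul_inv_rev, R_inv]
      calc c * (c₀ * R) * c⁻¹ * (R * c₀⁻¹) = c * (c₀ * (R * c * R)⁻¹ * c₀⁻¹) := by
            rw [_root_.mul_inv_rev, _root_.mul_inv_rev, R_inv]; group
        _ = c * (c₀ * c * c₀⁻¹) := by rw [hRc, inv_inv]
        _ = c * c := by rw [Ct_comm hc₀.1 hc.1, mul_inv_cancel_right]
    rwa [e] at h
  intro x hx
  rcases hx.1 with hc | hc
  · exact hC x hc hx.2
  · -- outside the cyclic part the square is `-1`
    obtain ⟨c, hcdef⟩ : ∃ c, c = x * R := ⟨_, rfl⟩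
    rw [← hcdef] at hc
    obtain ⟨a, b, hab⟩ := mem_Ct.1 hc.1
    have hn : a ^ 2 + b ^ 2 = -1 := by
      have h : GeneralLinearGroup.det c = -1 := by rw [hcdef, map_mul, MonoidHom.mem_ker.1 hx.2, det_R, one_mul]
      have := congrArg Units.val h
      rw [GeneralLinearGroup.val_det_apply, hab, det_M] at this
      simpa using this
    have e : x * x = TwoBase.J * TwoBase.J := by
      have : x * x = c * (R * c * R) := by
        rw [show x = c * R by rw [hcdef, mul_assoc, R_sq, mul_one]]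
        group
      rw [this]
      apply Units.ext
      rw [Units.val_mul c, R_conj_coe hab, hab, Units.val_mul, coe_J, M_mul, M_mul, M_inj]
      exact ⟨by linear_combination hn, by ring⟩
    rw [e]
    exact hC _ J_mem det_J

theorem factorization_GL [Fintype F] (hq : Odd (Fintype.card F)) (n : ℕ) :
    (Nat.card (GL (Fin n) F)).factorization 2 = ∑ j ∈ Finset.range n, padicValNat 2 (Fintype.card F ^ (j + 1) - 1) := by
  haveI := Fact.mk Nat.prime_two
  set q := Fintype.card F with hqd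
  have hq1 : 2 ≤ q := Fintype.one_lt_card
  have hqodd : ¬ 2 ∣ q := by rw [Nat.odd_iff] at hq; omega
  rw [Nat.factorization_def _ Nat.prime_two, Matrix.card_GL_field, ← hqd, Cfsg.Agent.Linear.prod_q_pow_sub,
    Fin.prod_univ_eq_prod_range (fun i => q ^ (n - i) - 1) n, ← Finset.prod_range_reflect]
  have hprod : ∀ m, m ≤ n → padicValNat 2 (∏ j ∈ Finset.range m, (q ^ (n - (n - 1 - j)) - 1)) =
      ∑ j ∈ Finset.range m, padicValNat 2 (q ^ (j + 1) - 1) ∧ ∏ j ∈ Finset.range m, (q ^ (n - (n - 1 - j)) - 1) ≠ 0 := by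
    intro m
    induction m with
    | zero => intro _; simp
    | succ m ih =>
      intro hm
      obtain ⟨h1, h0⟩ := ih (by omega)
      rw [Finset.prod_range_succ, Finset.sum_range_succ, show n - (n - 1 - m) = m + 1 by omega]
      have hne : q ^ (m + 1) - 1 ≠ 0 := Cfsg.Agent.Arith.pow_sub_one_ne_zero hq1 (by omega)
      exact ⟨by rw [padicValNat.mul h0 hne, h1], mul_ne_zero h0 hne⟩
  obtain ⟨h1, h0⟩ := hprod n le_rfl
  rw [padicValNat.mul (pow_ne_zero _ (by omega)) h0, h1,
    padicValNat.eq_zero_of_not_dvd (fun h => hqodd (Nat.prime_two.dvd_of_dvd_pow h)), zero_add]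

theorem factorization_GL_add [Fintype F] (hq : Odd (Fintype.card F)) (k r : ℕ) (hr : r < 2 ^ k) :
    (Nat.card (GL (Fin (2 ^ k + r)) F)).factorization 2 =
      (Nat.card (GL (Fin (2 ^ k)) F)).factorization 2 + (Nat.card (GL (Fin r) F)).factorization 2 := by
  haveI := Fact.mk Nat.prime_two
  rw [factorization_GL hq, factorization_GL hq, factorization_GL hq, Finset.sum_range_add]
  congr 1
  set q := Fintype.card F
  have hq1 : 2 ≤ q := Fintype.one_lt_card
  have hqodd : ¬ 2 ∣ q := by rw [Nat.odd_iff] at hq; omega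
  refine Finset.sum_congr rfl fun i hi => ?_
  rw [Finset.mem_range] at hi
  have hk : 1 ≤ k := by
    rcases Nat.eq_zero_or_pos k with rfl | hk
    · omega
    · exact hk
  by_cases hev : 2 ∣ i + 1
  · have hev2 : 2 ∣ 2 ^ k + i + 1 := by
      rw [add_assoc]; exact dvd_add (dvd_pow_self 2 (by omega)) hev
    have h1 := Cfsg.Agent.Arith.padicValNat_two_pow_sub_one hq1 (n := 2 ^ k + i + 1) (by omega) hev2 hqodd
    have h2 := Cfsg.Agent.Arith.padicValNat_two_pow_sub_one hq1 (n := i + 1) (by omega) hev hqodd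
    have hlt : padicValNat 2 (i + 1) ≤ k := by
      by_contra hc
      have := Nat.le_of_dvd (by omega) ((padicValNat_dvd_iff_le (p := 2) (by omega : i + 1 ≠ 0)).2 (not_le.1 hc).le)
      have : 2 ^ k < 2 ^ padicValNat 2 (i + 1) := Nat.pow_lt_pow_right (by norm_num) (not_le.1 hc)
      omega
    have hval : padicValNat 2 (2 ^ k + i + 1) = padicValNat 2 (i + 1) := by
      rcases hlt.eq_or_lt with he | hlt
      · -- `i + 1 = 2 ^ k`
        have hle := Nat.le_of_dvd (by omega) (he ▸ (pow_padicValNat_dvd (p := 2) (n := i + 1)) : 2 ^ k ∣ i + 1)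
        omega
      have hd : ∀ j ≤ k, (2 ^ j ∣ 2 ^ k + i + 1 ↔ 2 ^ j ∣ i + 1) := fun j hj => by
        rw [add_assoc]; exact (Nat.dvd_add_right (pow_dvd_pow 2 hj))
      refine le_antisymm ?_ ?_
      · by_contra hc
        have h3 := (hd (padicValNat 2 (i + 1) + 1) hlt).1
          ((padicValNat_dvd_iff_le (by omega)).2 (by omega))
        have := (padicValNat_dvd_iff_le (p := 2) (by omega : i + 1 ≠ 0)).1 h3
        omega
      · exact (padicValNat_dvd_iff_le (by omega)).1 ((hd _ hlt.le).2 pow_padicValNat_dvd)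
    omega
  · have hodd2 : ¬ 2 ∣ 2 ^ k + i + 1 := by
      rw [add_assoc]; exact fun h => hev ((Nat.dvd_add_right (dvd_pow_self 2 (by omega))).1 h)
    rw [Cfsg.Agent.Arith.padicValNat_pow_sub_one Nat.prime_two hq1 (by omega) (by omega) (fun _ => Or.inr hodd2),
      Cfsg.Agent.Arith.padicValNat_pow_sub_one Nat.prime_two hq1 (by omega) (by omega) (fun _ => Or.inr hev),
      padicValNat.eq_zero_of_not_dvd hodd2, padicValNat.eq_zero_of_not_dvd hev]

theorem det_pm_one [Fintype F] (hq : Fintype.card F % 4 = 3) {T : Subgroup (GL κ F)} (hT : IsPGroup 2 T)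
    {t : GL κ F} (ht : t ∈ T) : GeneralLinearGroup.det t = 1 ∨ GeneralLinearGroup.det t = -1 := by
  obtain ⟨e, he⟩ := hT ⟨t, ht⟩
  set u := GeneralLinearGroup.det t
  have h1 : orderOf u ∣ 2 ^ e := orderOf_dvd_of_pow_eq_one (by
    rw [← map_pow, show t ^ 2 ^ e = 1 from congrArg Subtype.val he, map_one])
  have h2 : orderOf u ∣ Fintype.card F - 1 := by
    rw [← Cfsg.Agent.Linear.card_units']; exact orderOf_dvd_natCard u
  obtain ⟨j, -, hj⟩ := (Nat.dvd_prime_pow Nat.prime_two).1 h1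
  have hu : u ^ 2 = 1 := by
    apply orderOf_dvd_iff_pow_eq_one.1
    rcases j with _ | _ | j
    · simp [hj]
    · simp [hj]
    · exfalso
      have h4 : 4 ∣ Fintype.card F - 1 := (dvd_trans ⟨2 ^ j, by rw [hj]; ring⟩ h2)
      omega
  have hu' : (u : F) ^ 2 = 1 := by rw [← Units.val_pow_eq_pow_val, hu, Units.val_one]
  rcases sq_eq_one_iff.1 hu' with h | h
  · exact Or.inl (Units.ext h)
  · exact Or.inr (Units.ext (by rw [h]; simp))

theorem exists_sq_pow [Fintype F] (hq : Odd (Fintype.card F)) : ∀ k : ℕ, 1 ≤ k →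
    ∃ T : Subgroup (GL (Fin (2 ^ k)) F), IsPGroup 2 T ∧
      Nat.card T = 2 ^ (Nat.card (GL (Fin (2 ^ k)) F)).factorization 2 ∧ (-1 : GL (Fin (2 ^ k)) F) ∈ one1 T ∧
      Sq T ∧ HasInv T := by
  intro k
  induction k with
  | zero => intro h; omega
  | succ k ih =>
    intro _
    have hneg : ∀ {α β : Type} [Fintype α] [DecidableEq α] [Fintype β] [DecidableEq β] (e : α ≃ β)
        {T : Subgroup (GL α F)}, (-1 : GL α F) ∈ one1 T → (-1 : GL β F) ∈ one1 (T.map (reidx e).toMonoidHom) := by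
      intro α β _ _ _ _ e T h
      have h' := (mem_one1_reidx e T _).2 h
      rwa [show reidx e (-1 : GL α F) = -1 from Units.ext (by
        rw [reidx_coe, Units.val_neg, Units.val_one, map_neg, map_one, Units.val_neg, Units.val_one])] at h'
    rcases Nat.eq_zero_or_pos k with rfl | hk
    · let e : Fin 2 ≃ Fin (2 ^ (0 + 1)) := finCongr (by norm_num)
      have hG := TwoBase.good_base hq
      have hinj : Function.Injective (reidx (F := F) e).toMonoidHom := (reidx e).injective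
      refine ⟨(TwoBase.base F).map (reidx e).toMonoidHom, hG.two.map _,
        (good_reidx e hG).card, hneg e ⟨hG.negOne, MonoidHom.mem_ker.2 (Units.ext ?_)⟩,
        sq_reidx e (sq_base), hasInv_reidx e ⟨_, TwoBase.R_mem, TwoBase.det_R, TwoBase.R_sq⟩⟩
      rw [GeneralLinearGroup.val_det_apply, Units.val_neg, Units.val_one, det_neg, det_one]
      simp
    · obtain ⟨T, hT, hc, hn, hsq, hd⟩ := ih hk
      haveI : Nonempty (Fin (2 ^ k)) := ⟨⟨0, Nat.two_pow_pos k⟩⟩
      let e : Fin (2 ^ k) ⊕ Fin (2 ^ k) ≃ Fin (2 ^ (k + 1)) :=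
        finSumFinEquiv.trans (finCongr (by rw [pow_succ]; ring))
      have hcard : Nat.card ((wreath T hn.1).map (reidx e).toMonoidHom) =
          2 ^ (Nat.card (GL (Fin (2 ^ (k + 1))) F)).factorization 2 := by
        rw [Subgroup.card_map_of_injective (show Function.Injective (reidx (F := F) e).toMonoidHom from (reidx e).injective),
          card_wreath, hc, TwoBase.factorization_GL_double hq k hk, pow_succ,
          two_mul ((Nat.card (GL (Fin (2 ^ k)) F)).factorization 2), pow_add, mul_comm]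
      exact ⟨_, IsPGroup.of_card hcard, hcard, hneg e (negOne_wreath hn), sq_reidx e (sq_wreath hn hsq),
        hasInv_reidx e (hasInv_wreath hn.1 hd)⟩

theorem exists_sq [Fintype F] (hq : Fintype.card F % 4 = 3) : ∀ n : ℕ, 1 ≤ n →
    ∃ T : Subgroup (GL (Fin n) F), Nat.card T = 2 ^ (Nat.card (GL (Fin n) F)).factorization 2 ∧ Sq T ∧ HasInv T := by
  have hodd : Odd (Fintype.card F) := by rw [Nat.odd_iff]; omega
  have h2 := TwoBase.two_ne_zero_of_odd hodd
  haveI := Fact.mk Nat.prime_two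
  intro n
  induction n using Nat.strong_induction_on with
  | h n ih =>
    intro hn
    obtain ⟨k, r, hr, rfl⟩ : ∃ k r, r < 2 ^ k ∧ n = 2 ^ k + r := by
      refine ⟨Nat.log 2 n, n - 2 ^ Nat.log 2 n, ?_, ?_⟩
      · have := Nat.lt_pow_succ_log_self (by norm_num : 1 < 2) n
        have := Nat.pow_log_le_self 2 (show n ≠ 0 by omega)
        rw [pow_succ] at *
        omega
      · have := Nat.pow_log_le_self 2 (show n ≠ 0 by omega)
        omega
    obtain ⟨A, hA, hAc, hAs, hAd⟩ : ∃ A : Subgroup (GL (Fin (2 ^ k)) F), IsPGroup 2 A ∧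
        Nat.card A = 2 ^ (Nat.card (GL (Fin (2 ^ k)) F)).factorization 2 ∧ Sq A ∧ HasInv A := by
      rcases Nat.eq_zero_or_pos k with rfl | hk
      · let d : GL (Fin (2 ^ 0)) F := -1
        have hd2 : d * d = 1 := by simp [d]
        have hdne : d ≠ 1 := fun h => by
          have h' := congrArg (fun g : GL (Fin (2 ^ 0)) F => (g : Matrix (Fin (2 ^ 0)) (Fin (2 ^ 0)) F) 0 0) h
          simp only [d, Units.val_neg, Units.val_one, Matrix.neg_apply, Matrix.one_apply_eq] at h'
          exact h2 (by linear_combination -h')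
        have hdd : GeneralLinearGroup.det d = -1 := Units.ext (by
          simp [d, GeneralLinearGroup.val_det_apply])
        have ho : orderOf d = 2 := orderOf_eq_prime (by rw [sq, hd2]) hdne
        have hv : (Nat.card (GL (Fin (2 ^ 0)) F)).factorization 2 = 1 := by
          rw [factorization_GL hodd, pow_zero, Finset.sum_range_one, zero_add, pow_one,
            Cfsg.Agent.Arith.padicValNat_eq_one_of_mod_four (by omega)]
        refine ⟨Subgroup.zpowers d, IsPGroup.of_card (n := 1) (by rw [Nat.card_zpowers, ho, pow_one]),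
          by rw [Nat.card_zpowers, ho, hv, pow_one], ?_, ⟨d, Subgroup.mem_zpowers d, hdd, hd2⟩⟩
        intro x hx
        obtain ⟨z, rfl⟩ := Subgroup.mem_zpowers_iff.1 hx.1
        rw [← _root_.zpow_add, ← two_mul, _root_.zpow_mul, show d ^ (2 : ℤ) = 1 by rw [zpow_two, hd2], _root_.one_zpow]
        exact one_mem _
      · obtain ⟨T, hT, hc, -, hs, hd⟩ := exists_sq_pow hodd k hk
        exact ⟨T, hT, hc, hs, hd⟩
    rcases Nat.eq_zero_or_pos r with rfl | hr0
    · exact ⟨A, hAc, hAs, hAd⟩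
    obtain ⟨B, hBc, hBs, hBd⟩ := ih r (by have := Nat.two_pow_pos k; omega) hr0
    refine ⟨((A.prod B).map dia).map (reidx finSumFinEquiv).toMonoidHom, ?_,
      sq_reidx _ (sq_sum hAs hBs hAd hBd fun t ht => det_pm_one hq hA ht), hasInv_reidx _ (hasInv_sum B hAd)⟩
    rw [Subgroup.card_map_of_injective (show Function.Injective (reidx (F := F) finSumFinEquiv).toMonoidHom from
        (reidx finSumFinEquiv).injective), Subgroup.card_map_of_injective dia_injective,
      Nat.card_congr (A.prodEquiv B).toEquiv, Nat.card_prod, hAc, hBc, factorization_GL_add hodd k r hr, pow_add]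

theorem transfer [Fintype F] {n : ℕ} (hn : 1 ≤ n) {T : Subgroup (GL (Fin n) F)}
    (hTc : Nat.card T = 2 ^ (Nat.card (GL (Fin n) F)).factorization 2) (hT : Sq T)
    (P : Sylow 2 (SpecialLinearGroup (Fin n) F)) :
    ∀ x : (P : Subgroup (SpecialLinearGroup (Fin n) F)), x ^ 2 ∈ commutator (P : Subgroup (SpecialLinearGroup (Fin n) F)) := by
  haveI := Fact.mk Nat.prime_two
  haveI : Nonempty (Fin n) := ⟨⟨0, hn⟩⟩
  let f : SpecialLinearGroup (Fin n) F →* GL (Fin n) F := SpecialLinearGroup.toGL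
  have hinj : Function.Injective f := Cfsg.Agent.Linear.toGL_injective
  have hT2 : IsPGroup 2 T := IsPGroup.of_card hTc
  set S₀ : Subgroup (SpecialLinearGroup (Fin n) F) := (one1 T).comap f
  have hp₀ : IsPGroup 2 S₀ := (hT2.to_le inf_le_left).comap_of_injective f hinj
  have hmap : S₀.map f = one1 T := by
    rw [Subgroup.map_comap_eq, inf_eq_right.2]
    intro x hx
    rw [Cfsg.Agent.Linear.range_toGL]
    exact hx.2
  have hc₁ : Nat.card S₀ = Nat.card (one1 T) := by rw [← hmap, Subgroup.card_map_of_injective hinj]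
  have hc₂ : Nat.card T = Nat.card (one1 T) *
      Nat.card ((GeneralLinearGroup.det : GL (Fin n) F →* Fˣ).domRestrict T).range := by
    rw [← Subgroup.index_ker, MonoidHom.ker_domRestrict,
      ← ((GeneralLinearGroup.det : GL (Fin n) F →* Fˣ).ker.subgroupOf T).card_mul_index]
    congr 1
    rw [one1, ← Subgroup.card_map_of_injective T.subtype_injective, Subgroup.subgroupOf_map_subtype, inf_comm]
  have hcard : Nat.card S₀ = 2 ^ (Nat.card (SpecialLinearGroup (Fin n) F)).factorization 2 := by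
    obtain ⟨e, he⟩ := IsPGroup.iff_card.1 hp₀
    have hr : IsPGroup 2 ((GeneralLinearGroup.det : GL (Fin n) F →* Fˣ).domRestrict T).range :=
      IsPGroup.of_surjective hT2 _ (MonoidHom.rangeRestrict_surjective _)
    obtain ⟨d, hd⟩ := IsPGroup.iff_card.1 hr
    have hd' : d ≤ (Nat.card Fˣ).factorization 2 :=
      (Nat.prime_two.pow_dvd_iff_le_factorization Nat.card_pos.ne').1 (hd ▸ Subgroup.card_subgroup_dvd_card _)
    have he' : e ≤ (Nat.card (SpecialLinearGroup (Fin n) F)).factorization 2 :=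
      (Nat.prime_two.pow_dvd_iff_le_factorization Nat.card_pos.ne').1 (he ▸ Subgroup.card_subgroup_dvd_card _)
    rw [← hc₁, he, hd, hTc, ← pow_add, Cfsg.Agent.Linear.card_GL_eq,
      Nat.factorization_mul Nat.card_pos.ne' Nat.card_pos.ne', Finsupp.add_apply] at hc₂
    have := Nat.pow_right_injective (le_refl 2) hc₂
    rw [he]
    congr 1
    omega
  obtain ⟨x, hx⟩ := MulAction.exists_smul_eq (SpecialLinearGroup (Fin n) F) (Sylow.ofCard S₀ hcard) P
  have hP : (P : Subgroup (SpecialLinearGroup (Fin n) F)).map f = (one1 T).map (MulAut.conj (f x)).toMonoidHom := by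
    rw [← hx, ← hmap, Sylow.coe_subgroup_smul, Subgroup.map_map]
    show (S₀.map (MulAut.conj x).toMonoidHom).map f = _
    rw [Subgroup.map_map]
    congr 1
    ext y
    simp
  intro y
  let g : (P : Subgroup (SpecialLinearGroup (Fin n) F)) →* GL (Fin n) F := f.comp (P : Subgroup (SpecialLinearGroup (Fin n) F)).subtype
  have hg : g.range = (P : Subgroup (SpecialLinearGroup (Fin n) F)).map f := by
    rw [MonoidHom.range_comp, Subgroup.range_subtype]
  obtain ⟨t, ht, he⟩ : g y ∈ (one1 T).map (MulAut.conj (f x)).toMonoidHom := by rw [← hP, ← hg]; exact ⟨y, rfl⟩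
  have h := sq_map (MulAut.conj (f x)).toMonoidHom (S := g.range) (le_of_eq (hP.symm.trans hg.symm)) (hT t ht)
  rw [he, ← map_mul, ← sq, MonoidHom.range_eq_map, ← Subgroup.map_commutator] at h
  exact (Subgroup.mem_map_iff_mem (show Function.Injective g from hinj.comp Subtype.val_injective)).1 h

theorem result_pow [Fintype F] (hq : Odd (Fintype.card F)) (k : ℕ) (hk : 1 ≤ k)
    (P : Sylow 2 (SpecialLinearGroup (Fin (2 ^ k)) F)) :
    ∀ x : (P : Subgroup (SpecialLinearGroup (Fin (2 ^ k)) F)),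
      x ^ 2 ∈ commutator (P : Subgroup (SpecialLinearGroup (Fin (2 ^ k)) F)) := by
  obtain ⟨T, -, hc, -, hs, -⟩ := exists_sq_pow hq k hk
  exact transfer Nat.one_le_two_pow hc hs P

theorem result_three [Fintype F] (hq : Fintype.card F % 4 = 3) (n : ℕ) (hn : 1 ≤ n)
    (P : Sylow 2 (SpecialLinearGroup (Fin n) F)) :
    ∀ x : (P : Subgroup (SpecialLinearGroup (Fin n) F)),
      x ^ 2 ∈ commutator (P : Subgroup (SpecialLinearGroup (Fin n) F)) := by
  obtain ⟨T, hc, hs, -⟩ := exists_sq hq n hn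
  exact transfer hn hc hs P

end Cfsg.Agent.H52.SylowSquares
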