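import Mathlib
import Cfsg.Agent.Unitary.Generation

/-!
`SU₃(q)`: coordinates in a frame, and a criterion for a subgroup to be the whole group.
-/

set_option autoImplicit false
set_option linter.unusedSectionVars false

namespace Cfsg.Agent.H52.SUThree

open Cfsg Matrix Cfsg.Agent.Unitary

variable {F : Type*} [Field F] [Fintype F] {q : ℕ}

/-- A frame `u, w, f`. -/
structure Frame (q : ℕ) (u w f : Fin 3 → F) : Prop where
  uu : hermForm 3 F q u u = 0
  ff : hermForm 3 F q f f = 0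
  ww : hermForm 3 F q w w = 1
  uf : hermForm 3 F q u f = 1
  fu : hermForm 3 F q f u = 1
  wu : hermForm 3 F q w u = 0
  uw : hermForm 3 F q u w = 0
  wf : hermForm 3 F q w f = 0
  fw : hermForm 3 F q f w = 0

theorem exists_frame (hF : Fintype.card F = q ^ 2) : ∃ u w f : Fin 3 → F, Frame q u w f := by
  obtain ⟨u, -, hu0, hu⟩ := exists_isotropic hF (nondeg_top (n := 3) hF) (by simp)
  obtain ⟨f, -, hf, hfu⟩ := exists_partner hF (nondeg_top (n := 3) hF) Submodule.mem_top hu0 hu
  have huf : hermForm 3 F q u f = 1 := by rw [← herm_swap hF f u, hfu, one_pow]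
  have hne : hermForm 3 F q u f ≠ 0 := by rw [huf]; exact one_ne_zero
  have hP := nondeg_pair hF hu hf hne
  have hd := finrank_perp_add hF hP
  rw [finrank_pair (indep_pair hF hu hne), perp_span hF] at hd
  have hW : Nondeg q (perp q ({u, f} : Set (Fin 3 → F))) := by
    rw [← perp_span hF]; exact nondeg_perp hF hP
  obtain ⟨g, hg, hspan⟩ := exists_ON_basis hF _ hW
  have h1 : Module.finrank F (perp q ({u, f} : Set (Fin 3 → F))) = 1 := by omega
  obtain ⟨i⟩ : Nonempty (Fin (Module.finrank F (perp q ({u, f} : Set (Fin 3 → F))))) := ⟨⟨0, by omega⟩⟩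
  have hmem : g i ∈ perp q ({u, f} : Set (Fin 3 → F)) := by
    rw [← hspan]; exact Submodule.subset_span ⟨i, rfl⟩
  obtain ⟨h2, h3⟩ := mem_perp_pair.1 hmem
  refine ⟨u, g i, f, hu, hf, ?_, huf, hfu, h2, (herm_eq_zero_symm hF).1 h2, h3, (herm_eq_zero_symm hF).1 h3⟩
  rw [hg, if_pos rfl]

variable {u w f : Fin 3 → F}

/-- The vector with given coordinates. -/
def vec (u w f : Fin 3 → F) (p r s : F) : Fin 3 → F := p • u + r • w + s • f

theorem Frame.coord_u (hfr : Frame q u w f) (p r s : F) : hermForm 3 F q (vec u w f p r s) u = s := by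
  simp [vec, herm_add_left, herm_smul_left, hfr.uu, hfr.wu, hfr.fu]

theorem Frame.coord_w (hfr : Frame q u w f) (p r s : F) : hermForm 3 F q (vec u w f p r s) w = r := by
  simp [vec, herm_add_left, herm_smul_left, hfr.uw, hfr.ww, hfr.fw]

theorem Frame.coord_f (hfr : Frame q u w f) (p r s : F) : hermForm 3 F q (vec u w f p r s) f = p := by
  simp [vec, herm_add_left, herm_smul_left, hfr.uf, hfr.wf, hfr.ff]

theorem Frame.mul_eq_one (hfr : Frame q u w f) :
    (Matrix.of ![cj q f, cj q w, cj q u]) * (Matrix.of fun i j => ![u i, w i, f i] j) = 1 := by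
  ext i j
  have e : ∀ x z : Fin 3 → F, ∑ k, cj q z k * x k = hermForm 3 F q x z :=
    fun x z => Finset.sum_congr rfl fun k _ => mul_comm _ _
  fin_cases i <;> fin_cases j <;>
    simp [Matrix.mul_apply, e, hfr.uu, hfr.ff, hfr.ww, hfr.uf, hfr.fu, hfr.wu, hfr.uw, hfr.wf, hfr.fw]

theorem Frame.expand (hfr : Frame q u w f) (x : Fin 3 → F) :
    x = vec u w f (hermForm 3 F q x f) (hermForm 3 F q x w) (hermForm 3 F q x u) := by
  have h := congrArg (fun M => M *ᵥ x) (mul_eq_one_comm.1 hfr.mul_eq_one)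
  simp only [one_mulVec, ← mulVec_mulVec] at h
  conv_lhs => rw [← h]
  ext i
  simp [Matrix.mulVec, dotProduct, Fin.sum_univ_three, vec, herm_eq_dot]
  ring

theorem Frame.herm_vec (hfr : Frame q u w f) (hF : Fintype.card F = q ^ 2) (p r s p' r' s' : F) :
    hermForm 3 F q (vec u w f p r s) (vec u w f p' r' s') = p * s' ^ q + r * r' ^ q + s * p' ^ q := by
  nth_rw 2 [vec]
  rw [herm_add_right hF, herm_add_right hF, herm_smul_right, herm_smul_right, herm_smul_right,
    hfr.coord_u, hfr.coord_w, hfr.coord_f]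
  ring

/-- An element of `SU₃` from its matrix in the frame. -/
theorem exists_map (hF : Fintype.card F = q ^ 2) (hfr : Frame q u w f) (D : Matrix (Fin 3) (Fin 3) F)
    (hD : D.det = 1)
    (hp : ∀ x y : Fin 3 → F, (D *ᵥ x) 0 * (D *ᵥ y) 2 ^ q + (D *ᵥ x) 1 * (D *ᵥ y) 1 ^ q + (D *ᵥ x) 2 * (D *ᵥ y) 0 ^ q
      = x 0 * y 2 ^ q + x 1 * y 1 ^ q + x 2 * y 0 ^ q) :
    ∃ g : SU 3 F q, ∀ p r s, ap g (vec u w f p r s) =
      vec u w f ((D *ᵥ ![p, r, s]) 0) ((D *ᵥ ![p, r, s]) 1) ((D *ᵥ ![p, r, s]) 2) := by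
  set X : Matrix (Fin 3) (Fin 3) F := Matrix.of fun i j => ![u i, w i, f i] j with hX
  set Y : Matrix (Fin 3) (Fin 3) F := Matrix.of ![cj q f, cj q w, cj q u] with hY
  have hYX : Y * X = 1 := hfr.mul_eq_one
  have hXv : ∀ c : Fin 3 → F, X *ᵥ c = vec u w f (c 0) (c 1) (c 2) := fun c => by
    ext i
    simp [hX, Matrix.mulVec, dotProduct, Fin.sum_univ_three, vec]
    ring
  have hYv : ∀ x, Y *ᵥ x = ![hermForm 3 F q x f, hermForm 3 F q x w, hermForm 3 F q x u] := fun x => by
    ext i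
    fin_cases i <;> simp [hY, Matrix.mulVec, herm_eq_dot, dotProduct_comm x]
  have hpres : Preserves q (X * D * Y) := by
    intro x y
    rw [← mulVec_mulVec, ← mulVec_mulVec, hXv, ← mulVec_mulVec, ← mulVec_mulVec, hXv,
      hfr.herm_vec hF, hp, hYv, hYv]
    conv_rhs => rw [hfr.expand x, hfr.expand y, hfr.herm_vec hF]
    simp
  have hdet : (X * D * Y).det = 1 := by
    rw [det_mul, det_mul, hD, mul_one, mul_comm, ← det_mul, hYX, det_one]
  refine ⟨toSU hpres hdet, fun p r s => ?_⟩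
  change (X * D * Y) *ᵥ _ = _
  rw [← mulVec_mulVec, ← mulVec_mulVec, hXv, hYv, hfr.coord_f, hfr.coord_w, hfr.coord_u]

/-- The condition on the parameters. -/
def Ok (q : ℕ) (b β : F) : Prop := β + β ^ q + b * b ^ q = 0

theorem Ok.spec (hfr : Frame q u w f) {b β : F} (h : Ok q b β) : ESpec q u (b • w) β :=
  ⟨hfr.uu, by rw [herm_smul_left, hfr.wu, mul_zero], by
    rw [herm_smul_left, herm_smul_right, hfr.ww, mul_one]
    exact h⟩

theorem Ok.spec' (hfr : Frame q u w f) {b β : F} (h : Ok q b β) : ESpec q f (b • w) β :=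
  ⟨hfr.ff, by rw [herm_smul_left, hfr.wf, mul_zero], by
    rw [herm_smul_left, herm_smul_right, hfr.ww, mul_one]
    exact h⟩

theorem ap_E (hF : Fintype.card F = q ^ 2) (hfr : Frame q u w f) {b β : F} (h : Ok q b β) (p r s : F) :
    ap (eSU hF (h.spec hfr)) (vec u w f p r s) = vec u w f (p - b ^ q * r + β * s) (r + b * s) s := by
  rw [ap_eSU, herm_smul_right, hfr.coord_u, hfr.coord_w]
  simp only [vec]
  module

theorem ap_E' (hF : Fintype.card F = q ^ 2) (hfr : Frame q u w f) {b β : F} (h : Ok q b β) (p r s : F) :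
    ap (eSU hF (h.spec' hfr)) (vec u w f p r s) = vec u w f p (r + b * p) (s - b ^ q * r + β * p) := by
  rw [ap_eSU, herm_smul_right, hfr.coord_f, hfr.coord_w]
  simp only [vec]
  module

theorem Ok.add (hF : Fintype.card F = q ^ 2) {a α b β : F} (h : Ok q a α) (h' : Ok q b β) :
    Ok q (a + b) (α + β - b * a ^ q) := by
  simp only [Ok, add_pow_q hF, sub_pow_q hF, mul_pow, pow_q_q hF] at *
  linear_combination h + h'

theorem Ok.neg (hF : Fintype.card F = q ^ 2) {a α : F} (h : Ok q a α) : Ok q (-a) (α ^ q) := by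
  simp only [Ok, neg_pow_q hF, pow_q_q hF] at *
  linear_combination h

theorem Ok.zero (hF : Fintype.card F = q ^ 2) : Ok q (0 : F) 0 := by simp [Ok, q_ne_zero hF]

theorem exists_ok (hF : Fintype.card F = q ^ 2) (b : F) : ∃ β, Ok q b β := by
  obtain ⟨β, hβ⟩ := exists_trace_eq hF (a := -(b * b ^ q)) (by rw [neg_pow_q hF, norm_pow_q hF])
  exact ⟨β, by rw [Ok, hβ, neg_add_cancel]⟩

theorem eq_of_ap (hfr : Frame q u w f) {A B : SU 3 F q}
    (h : ∀ p r s, ap A (vec u w f p r s) = ap B (vec u w f p r s)) : A = B :=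
  ap_ext fun x => by rw [hfr.expand x]; exact h _ _ _

theorem E_mul (hF : Fintype.card F = q ^ 2) (hfr : Frame q u w f) {a α b β : F} (h : Ok q a α) (h' : Ok q b β) :
    eSU hF (h.spec hfr) * eSU hF (h'.spec hfr) = eSU hF ((h.add hF h').spec hfr) :=
  eq_of_ap hfr fun p r s => by
    rw [ap_mul, ap_E hF hfr h', ap_E hF hfr h, ap_E hF hfr (h.add hF h'), add_pow_q hF]
    congr 1 <;> ring

theorem E_inv (hF : Fintype.card F = q ^ 2) (hfr : Frame q u w f) {a α : F} (h : Ok q a α) :
    (eSU hF (h.spec hfr))⁻¹ = eSU hF ((h.neg hF).spec hfr) := by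
  refine inv_eq_of_mul_eq_one_right (eq_of_ap hfr fun p r s => ?_)
  rw [ap_mul, ap_E hF hfr (h.neg hF), ap_E hF hfr h, ap_one, neg_pow_q hF]
  have h2 : α + α ^ q + a * a ^ q = 0 := h
  congr 1
  · linear_combination s * h2
  · ring

theorem E'_inv (hF : Fintype.card F = q ^ 2) (hfr : Frame q u w f) {a α : F} (h : Ok q a α) :
    (eSU hF (h.spec' hfr))⁻¹ = eSU hF ((h.neg hF).spec' hfr) := by
  refine inv_eq_of_mul_eq_one_right (eq_of_ap hfr fun p r s => ?_)
  rw [ap_mul, ap_E' hF hfr (h.neg hF), ap_E' hF hfr h, ap_one, neg_pow_q hF]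
  have h2 : α + α ^ q + a * a ^ q = 0 := h
  congr 1
  · ring
  · linear_combination p * h2

theorem E_congr (hF : Fintype.card F = q ^ 2) (hfr : Frame q u w f) {a α a' α' : F} (h : Ok q a α) (h' : Ok q a' α')
    (ha : a = a') (hα : α = α') : eSU hF (h.spec hfr) = eSU hF (h'.spec hfr) := by
  subst ha hα
  rfl

/-- The parameters of the Eichler elements in `H`. -/
def params (hF : Fintype.card F = q ^ 2) (hfr : Frame q u w f) (H : Subgroup (SU 3 F q)) : AddSubgroup F where
  carrier := {b | ∃ β, ∃ h : Ok q b β, eSU hF (h.spec hfr) ∈ H}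
  zero_mem' := ⟨0, Ok.zero hF, by
    have : eSU hF ((Ok.zero (F := F) hF).spec hfr) = 1 := eq_of_ap hfr fun p r s => by
      rw [ap_E hF hfr (Ok.zero hF), ap_one, zero_pow (q_ne_zero hF)]; congr 1 <;> ring
    rw [this]; exact one_mem _⟩
  add_mem' := by
    rintro a b ⟨α, h, hm⟩ ⟨β, h', hm'⟩
    exact ⟨_, h.add hF h', by rw [← E_mul hF hfr h h']; exact mul_mem hm hm'⟩
  neg_mem' := by
    rintro a ⟨α, h, hm⟩
    exact ⟨_, h.neg hF, by rw [← E_inv hF hfr h]; exact inv_mem hm⟩

/-- An additive subgroup stable under `κ` and containing a nonzero element is everything if `κ`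
lies in no proper subfield. -/
theorem params_eq_top {L : AddSubgroup F} {a κ : F} (ha : a ≠ 0) (haL : a ∈ L) (hst : ∀ b ∈ L, κ * b ∈ L)
    (hκ : ∀ K : Subfield F, κ ∈ K → K = ⊤) : L = ⊤ := by
  let S : Subring F :=
    { carrier := {x | ∀ b ∈ L, x * b ∈ L}
      mul_mem' := fun hx hy b hb => by rw [mul_assoc]; exact hx _ (hy b hb)
      one_mem' := fun b hb => by rwa [one_mul]
      add_mem' := fun hx hy b hb => by rw [add_mul]; exact L.add_mem (hx b hb) (hy b hb)
      zero_mem' := fun b _ => by rw [zero_mul]; exact L.zero_mem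
      neg_mem' := fun hx b hb => by rw [neg_mul]; exact L.neg_mem (hx b hb) }
  let K : Subfield F :=
    { S with
      inv_mem' := fun x hx => by
        rcases eq_or_ne x 0 with rfl | h0
        · rw [_root_.inv_zero]; exact hx
        have hc : x ^ (Fintype.card F - 1 - 1) * x = 1 := by
          rw [← pow_succ, Nat.sub_add_cancel (by have := Fintype.one_lt_card (α := F); omega),
            FiniteField.pow_card_sub_one_eq_one x h0]
        rw [← eq_inv_of_mul_eq_one_left hc]
        exact S.pow_mem hx _ }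
  have htop : K = ⊤ := hκ K hst
  refine eq_top_iff.2 fun b _ => ?_
  have h : b * a⁻¹ ∈ K := by rw [htop]; exact Subfield.mem_top _
  have := (show ∀ c ∈ L, b * a⁻¹ * c ∈ L from h) a haL
  rwa [inv_mul_cancel_right₀ ha] at this

/-- A subfield is the whole field if it contains an element outside all proper subfield sizes. -/
theorem subfield_eq_top {κ : F}
    (hκ : ∀ r e : ℕ, 2 ≤ r → 2 ≤ e → r ^ e = Fintype.card F → κ ^ r ≠ κ) (K : Subfield F) (hmem : κ ∈ K) :
    K = ⊤ := by
  classical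
  haveI : Fintype K := Fintype.ofFinite K
  have hcard : Fintype.card F = Fintype.card K ^ Module.finrank K F := Module.card_eq_pow_finrank
  by_contra hne
  have hr : 2 ≤ Fintype.card K := Fintype.one_lt_card
  have he : 2 ≤ Module.finrank K F := by
    by_contra hlt
    have hpos : 0 < Module.finrank K F := Module.finrank_pos
    have h1 : Module.finrank K F = 1 := by omega
    rw [h1, pow_one] at hcard
    refine hne (eq_top_iff.2 fun x _ => ?_)
    have hb := (Fintype.bijective_iff_injective_and_card (Subtype.val : K → F)).2 ⟨Subtype.val_injective, hcard.symm⟩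
    obtain ⟨y, rfl⟩ := hb.2 x
    exact y.2
  exact hκ _ _ hr he hcard.symm (congrArg Subtype.val (FiniteField.pow_card (⟨κ, hmem⟩ : K)))

/-- The criterion. -/
theorem eq_top_of (hF : Fintype.card F = q ^ 2) (hq : 3 ≤ q) (hfr : Frame q u w f) (H : Subgroup (SU 3 F q))
    {a α : F} (ha : Ok q a α) (ha0 : a ≠ 0) (hmem : eSU hF (ha.spec hfr) ∈ H)
    {h : SU 3 F q} (hh : h ∈ H) {μ ν κ : F} (hμ : ap h (vec u w f 1 0 0) = vec u w f μ 0 0)
    (hν : ap h (vec u w f 0 1 0) = vec u w f κ ν 0)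
    (hfield : ∀ r e : ℕ, 2 ≤ r → 2 ≤ e → r ^ e = Fintype.card F → (μ ^ q * ν) ^ r ≠ μ ^ q * ν)
    {g : SU 3 F q} (hg : g ∈ H) (hgu : hermForm 3 F q (ap g (vec u w f 1 0 0)) u ≠ 0) : H = ⊤ := by
  have hvu : vec u w f 1 0 0 = u := by simp [vec]
  have hvw : vec u w f 0 1 0 = w := by simp [vec]
  have hstab : ∀ b ∈ params hF hfr H, μ ^ q * ν * b ∈ params hF hfr H := by
    rintro b ⟨β, hb, hbm⟩
    obtain ⟨h1, h2⟩ : ap h u = μ • u ∧ ap h (b • w) = (b * ν) • w + (b * κ) • u := by
      rw [hvu] at hμ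
      rw [hvw] at hν
      refine ⟨by rw [hμ]; simp [vec], ?_⟩
      rw [ap_smul, hν]
      simp only [vec]
      module
    have hspec := eSpec_ap h (hb.spec hfr)
    have hconj := conj_eSU hF h (hb.spec hfr) hspec
    set β' := β * μ * μ ^ q + μ ^ q * (b * κ) - μ * (b * κ) ^ q with hβ'
    have hok : Ok q (μ ^ q * ν * b) β' := by
      have h3 := hspec.tr
      rw [h2, show (b * ν) • w + (b * κ) • u = vec u w f (b * κ) (b * ν) 0 by simp [vec]; abel,
        hfr.herm_vec hF, zero_pow (q_ne_zero hF)] at h3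
      simp only [Ok, hβ', add_pow_q hF, sub_pow_q hF, mul_pow, pow_q_q hF]
      linear_combination (μ * μ ^ q) * h3
    refine ⟨β', hok, ?_⟩
    have e : eSU hF hspec = eSU hF (hok.spec hfr) := eq_of_ap hfr fun p r s => by
      rw [ap_E hF hfr hok, ap_eSU, h1, h2, herm_smul_right, herm_add_right hF, herm_smul_right, herm_smul_right,
        hfr.coord_u, hfr.coord_w]
      simp only [vec, hβ', mul_pow, pow_q_q hF]
      module
    rw [← e, ← hconj]
    exact mul_mem (mul_mem hh hbm) (inv_mem hh)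
  have htop := params_eq_top ha0 (show a ∈ params hF hfr H from ⟨α, ha, hmem⟩) hstab (subfield_eq_top hfield)
  have hex : ∀ b : F, ∃ β, ∃ hb : Ok q b β, eSU hF (hb.spec hfr) ∈ H := fun b =>
    (htop ▸ AddSubgroup.mem_top b : b ∈ params hF hfr H)
  have hZ : ∀ {c : F} (hc : Ok q (0 : F) c), eSU hF (hc.spec hfr) ∈ H := by
    intro c hc
    have hc' : c + c ^ q = 0 := by simpa [Ok] using hc
    obtain ⟨e, he⟩ : ∃ e : F, e - e ^ q = c := by
      obtain ⟨δ, hδ0, hδ⟩ := exists_skew hF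
      have hcq : c ^ q = -c := eq_neg_of_add_eq_zero_right hc'
      obtain ⟨y, hy⟩ := exists_trace_eq hF (a := c / δ) (by rw [div_pow, hcq, hδ, neg_div_neg_eq])
      refine ⟨δ * y, ?_⟩
      rw [mul_pow, hδ]
      field_simp at hy
      linear_combination hy
    obtain ⟨β, hb, hbm⟩ := hex e
    obtain ⟨γ, hg1, hgm⟩ := hex 1
    have hk := mul_mem (mul_mem (mul_mem hbm hgm) (inv_mem hbm)) (inv_mem hgm)
    have hid : eSU hF (hb.spec hfr) * eSU hF (hg1.spec hfr) * (eSU hF (hb.spec hfr))⁻¹ * (eSU hF (hg1.spec hfr))⁻¹ =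
        eSU hF (hc.spec hfr) := by
      rw [E_inv hF hfr hb, E_inv hF hfr hg1, E_mul hF hfr hb hg1, E_mul hF hfr (hb.add hF hg1) (hb.neg hF),
        E_mul hF hfr ((hb.add hF hg1).add hF (hb.neg hF)) (hg1.neg hF)]
      refine E_congr hF hfr (((hb.add hF hg1).add hF (hb.neg hF)).add hF (hg1.neg hF)) hc (by ring) ?_
      have h1 : β + β ^ q + e * e ^ q = 0 := hb
      have h2 : γ + γ ^ q + 1 * 1 ^ q = 0 := hg1
      simp only [add_pow_q hF, neg_pow_q hF, one_pow] at h1 h2 ⊢
      linear_combination he + h1 + h2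
    rwa [hid] at hk
  have hall : ∀ {b β : F} (hb : Ok q b β), eSU hF (hb.spec hfr) ∈ H := by
    intro b β hb
    obtain ⟨γ, hg1, hgm⟩ := hex b
    have hc : Ok q (0 : F) (β - γ) := by
      have h1 : γ + γ ^ q + b * b ^ q = 0 := hg1
      have h2 : β + β ^ q + b * b ^ q = 0 := hb
      simp only [Ok, sub_pow_q hF, zero_mul, add_zero]
      linear_combination h2 - h1
    have := mul_mem hgm (hZ hc)
    rw [E_mul hF hfr hg1 hc] at this
    rwa [E_congr hF hfr (hg1.add hF hc) hb (by ring) (by rw [zero_mul]; ring)] at this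
  have horb : ∀ x, hermForm 3 F q x x = 0 → hermForm 3 F q x u ≠ 0 →
      ∃ (b β : F) (hb : Ok q b β), x = hermForm 3 F q x u • ap (eSU hF (hb.spec hfr)) f := by
    intro x hx hxu
    have hexp := hfr.expand x
    set p := hermForm 3 F q x f
    set r := hermForm 3 F q x w
    set s := hermForm 3 F q x u with hs
    rw [hexp, hfr.herm_vec hF] at hx
    have hb : Ok q (r / s) (p / s) := by
      have hsq := (pow_q_eq_zero_iff hF).not.2 hxu
      simp only [Ok, div_pow]
      field_simp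
      linear_combination hx
    refine ⟨_, _, hb, ?_⟩
    rw [show ap (eSU hF (hb.spec hfr)) f = ap (eSU hF (hb.spec hfr)) (vec u w f 0 0 1) by simp [vec], ap_E hF hfr hb]
    conv_lhs => rw [hexp]
    simp only [vec]
    match_scalars <;> field_simp
    all_goals ring
  have hu0 : u ≠ 0 := fun h => by simpa [h] using hfr.uf
  have hnon : ∀ x, hermForm 3 F q x x = 0 → hermForm 3 F q x u ≠ 0 →
      ∃ k ∈ H, ∃ c : F, c ≠ 0 ∧ ap k u = c • x := by
    intro x hx hxu
    rw [hvu] at hgu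
    obtain ⟨b, β, hb, hbx⟩ := horb (ap g u) (by rw [herm_ap]; exact hfr.uu) hgu
    obtain ⟨b', β', hb', hbx'⟩ := horb x hx hxu
    refine ⟨eSU hF (hb'.spec hfr) * (eSU hF (hb.spec hfr))⁻¹ * g,
      mul_mem (mul_mem (hall hb') (inv_mem (hall hb))) hg, hermForm 3 F q (ap g u) u / hermForm 3 F q x u,
      div_ne_zero hgu hxu, ?_⟩
    calc ap (eSU hF (hb'.spec hfr) * (eSU hF (hb.spec hfr))⁻¹ * g) u
        = hermForm 3 F q (ap g u) u • ap (eSU hF (hb'.spec hfr)) f := by
          rw [ap_mul]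
          conv_lhs => rw [hbx]
          rw [ap_smul, ap_mul, ap_inv_ap]
      _ = (hermForm 3 F q (ap g u) u / hermForm 3 F q x u) •
            (hermForm 3 F q x u • ap (eSU hF (hb'.spec hfr)) f) := by rw [smul_smul, div_mul_cancel₀ _ hxu]
      _ = _ := by rw [← hbx']
  rw [← top_le_iff, ← tgroup_eq_top hF (Or.inr ⟨rfl, hq⟩), tgroup, Subgroup.closure_le]
  rintro A ⟨x, c, hx, hA⟩
  have hAx : ∀ y, ap A y = y + (c * hermForm 3 F q y x) • x := fun y => by
    rw [ap_def, hA, unitaryTransvection_mulVec]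
  rcases eq_or_ne x 0 with rfl | hx0
  · rw [SetLike.mem_coe, show A = 1 from ap_ext fun y => by rw [hAx]; simp]
    exact one_mem _
  have hc : c + c ^ q = 0 := by
    obtain ⟨y, -, hy, hyx⟩ := exists_partner hF (nondeg_top (n := 3) hF) Submodule.mem_top hx0 hx
    have h1 := herm_ap A y y
    have hxy : hermForm 3 F q x y = 1 := by rw [← herm_swap hF y x, hyx, one_pow]
    rw [hAx, hyx, mul_one] at h1
    simp only [herm_add_left, herm_add_right hF, herm_smul_left, herm_smul_right, hy, hx, hyx, hxy] at h1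
    linear_combination h1
  obtain ⟨k, hk, d, hd0, hkd⟩ : ∃ k ∈ H, ∃ d : F, d ≠ 0 ∧ ap k u = d • x := by
    by_cases hxu : hermForm 3 F q x u = 0
    · refine ⟨1, one_mem _, ?_⟩
      have hexp := hfr.expand x
      rw [hxu] at hexp
      rw [hexp, hfr.herm_vec hF, zero_pow (q_ne_zero hF)] at hx
      have hr : hermForm 3 F q x w = 0 := by
        have h2 : hermForm 3 F q x w * hermForm 3 F q x w ^ q = 0 := by linear_combination hx
        rcases mul_eq_zero.1 h2 with h | h
        · exact h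
        · exact (pow_q_eq_zero_iff hF).1 h
      rw [hr] at hexp
      have hp : hermForm 3 F q x f ≠ 0 := fun h => hx0 (by rw [hexp, h]; simp [vec])
      refine ⟨(hermForm 3 F q x f)⁻¹, inv_ne_zero hp, ?_⟩
      rw [ap_one, congrArg (fun y => (hermForm 3 F q x f)⁻¹ • y) hexp]
      simp [vec, smul_smul, inv_mul_cancel₀ hp]
    · exact hnon x hx hxu
  have hdq := (pow_q_eq_zero_iff hF).not.2 hd0
  have hok : Ok q (0 : F) (c / (d * d ^ q)) := by
    simp only [Ok, div_pow, mul_pow, pow_q_q hF, zero_mul, add_zero]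
    field_simp
    linear_combination hc
  have hspec := eSpec_ap k (hok.spec hfr)
  have e : A = eSU hF hspec := ap_ext fun y => by
    rw [hAx, ap_eSU, hkd, zero_smul, ap_zero, herm_smul_right, herm_zero_right hF]
    match_scalars <;> field_simp
    all_goals ring
  rw [SetLike.mem_coe, e, ← conj_eSU hF k (hok.spec hfr) hspec]
  exact mul_mem (mul_mem hk (hZ hok)) (inv_mem hk)

/-- Regular unipotent: `(u - 1)³ = 0 ≠ (u - 1)²`. -/
theorem regular (hF : Fintype.card F = q ^ 2) (hfr : Frame q u w f) {a α : F} (ha : Ok q a α) (ha0 : a ≠ 0) :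
    IsNilpotent (mat (eSU hF (ha.spec hfr)) - 1) ∧ (mat (eSU hF (ha.spec hfr)) - 1) ^ (3 - 1) ≠ 0 := by
  set N := mat (eSU hF (ha.spec hfr)) - 1 with hN
  have hap : ∀ p r s, N *ᵥ vec u w f p r s = vec u w f (-(a ^ q) * r + α * s) (a * s) 0 := by
    intro p r s
    rw [hN, sub_mulVec, one_mulVec, ← ap_def, ap_E hF hfr ha]
    simp only [vec]
    module
  constructor
  · refine ⟨3, Matrix.ext_iff_mulVec.2 fun x => ?_⟩
    rw [hfr.expand x, pow_succ, pow_succ, pow_one, ← mulVec_mulVec, ← mulVec_mulVec, hap, hap, hap, zero_mulVec]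
    simp [vec]
  · intro h
    have h1 := congrArg (fun M => hermForm 3 F q (M *ᵥ vec u w f 0 0 1) f) h
    simp only [show 3 - 1 = 2 by rfl, pow_two, ← mulVec_mulVec, hap, hfr.coord_f, zero_mulVec, herm_zero_left] at h1
    simp [ha0, pow_q_eq_zero_iff hF] at h1

/-- Conjugates of the lower regular unipotents among the upper ones. -/
theorem exists_conj (hF : Fintype.card F = q ^ 2) (hfr : Frame q u w f) {lam a α x ξ : F} (hlam : lam ≠ 0)
    (hx : Ok q x ξ) (ha : Ok q a α) (ha0 : a ≠ 0) (hal : lam * a = -(x * (lam ^ q) ^ 2)) :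
    ∃ g : SU 3 F q, g * eSU hF (ha.spec hfr) * g⁻¹ = eSU hF (hx.spec' hfr) := by
  have hlq := (pow_q_eq_zero_iff hF).not.2 hlam
  obtain ⟨g, hg⟩ := exists_map hF hfr !![0, 0, lam; 0, -(lam ^ q / lam), 0; (lam ^ q)⁻¹, 0, 0]
    (by simp [det_fin_three]; field_simp)
    (fun y z => by
      simp [Matrix.mulVec, dotProduct, Fin.sum_univ_three, neg_pow_q hF, mul_pow, div_pow, pow_q_q hF]
      field_simp
      ring)
  have hga : ∀ p r s, ap g (vec u w f p r s) = vec u w f (lam * s) (-(lam ^ q / lam) * r) ((lam ^ q)⁻¹ * p) := by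
    intro p r s
    rw [hg]
    congr 1 <;> simp [Matrix.mulVec, dotProduct, Fin.sum_univ_three]
  have hspec := eSpec_ap g (hx.spec' hfr)
  set α0 := lam * lam ^ q * ξ with hα0
  have hx' : ξ + ξ ^ q + x * x ^ q = 0 := hx
  have hok0 : Ok q a α0 := by
    have ha' : a = -(x * (lam ^ q) ^ 2) / lam := by field_simp; linear_combination hal
    have hl : ((lam ^ q) ^ 2) ^ q = lam ^ 2 := by rw [pow_right_comm, pow_q_q hF]
    rw [Ok, hα0, ha', div_pow, neg_pow_q hF, mul_pow x, mul_pow (lam * lam ^ q), mul_pow lam, pow_q_q hF, hl]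
    field_simp
    linear_combination (lam * lam ^ q) * hx'
  have e : eSU hF hspec = eSU hF (hok0.spec hfr) := eq_of_ap hfr fun p r s => by
    have hgu : ap g f = vec u w f lam 0 0 := by
      have := hga 0 0 1
      simpa [vec] using this
    have hgw : ap g (x • w) = vec u w f 0 (-(lam ^ q / lam) * x) 0 := by
      have := hga 0 x 0
      simpa [vec] using this
    rw [ap_E hF hfr hok0, ap_eSU, hgu, hgw]
    have ha' : a = -(x * (lam ^ q) ^ 2) / lam := by field_simp; linear_combination hal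
    simp only [hfr.herm_vec hF, zero_pow (q_ne_zero hF), mul_zero, add_zero, zero_add, hα0, ha']
    simp only [div_pow, neg_pow_q hF, mul_pow, pow_q_q hF]
    simp only [vec]
    match_scalars <;> field_simp
    all_goals first
      | ring1
      | (ring_nf; rw [show lam ^ (q ^ 2 * 2) = lam ^ 2 by rw [pow_mul, ← hF, FiniteField.pow_card]]; ring1)
  have h2 : α - α0 + (α - α0) ^ q = 0 := by
    simp only [Ok] at ha hok0
    rw [sub_pow_q hF]
    linear_combination ha - hok0
  obtain ⟨z, hz⟩ : ∃ z : F, z - z ^ q = α - α0 := by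
    obtain ⟨δ, hδ0, hδ⟩ := exists_skew hF
    obtain ⟨y, hy⟩ := exists_trace_eq hF (a := (α - α0) / δ) (by
      rw [div_pow, eq_neg_of_add_eq_zero_right h2, hδ, neg_div_neg_eq])
    refine ⟨δ * y, ?_⟩
    rw [mul_pow, hδ]
    field_simp at hy
    linear_combination hy
  have haq := (pow_q_eq_zero_iff hF).not.2 ha0
  obtain ⟨β, hb⟩ := exists_ok hF (z / a ^ q)
  have key : eSU hF (hb.spec hfr) * eSU hF (hok0.spec hfr) * (eSU hF (hb.spec hfr))⁻¹ = eSU hF (ha.spec hfr) := by
    rw [E_inv hF hfr hb, E_mul hF hfr hb hok0, E_mul hF hfr (hb.add hF hok0) (hb.neg hF)]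
    refine E_congr hF hfr ((hb.add hF hok0).add hF (hb.neg hF)) ha (by ring) ?_
    have h1 : β + β ^ q + z / a ^ q * (z / a ^ q) ^ q = 0 := hb
    simp only [add_pow_q hF, div_pow, pow_q_q hF] at h1 ⊢
    field_simp at h1 ⊢
    linear_combination h1 + (a * a ^ q) * hz
  refine ⟨(eSU hF (hb.spec hfr) * g)⁻¹, ?_⟩
  have hc := conj_eSU hF g (hx.spec' hfr) hspec
  rw [e] at hc
  rw [← key, ← hc]
  group

end Cfsg.Agent.H52.SUThree
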