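import Mathlib

/-!
Sylow 2-subgroups of symmetric and alternating groups through the pairing model
`(β × Bool) ⊕ γ`, `γ` of at most one element: they are self-normalizing
(alternating: degree at least 6).
-/

set_option autoImplicit false

namespace Cfsg.Agent.H52

open Subgroup

/-! ### Self-normalizing Sylow 2-subgroups -/

/-- Every Sylow 2-subgroup is self-normalizing. -/
def SelfNorm (G : Type*) [Group G] : Prop :=
  ∀ P : Sylow 2 G, normalizer ((P : Subgroup G) : Set G) ≤ (P : Subgroup G)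

theorem selfNorm_of_one {G : Type*} [Group G] [Finite G] (P : Sylow 2 G)
    (h : normalizer ((P : Subgroup G) : Set G) ≤ (P : Subgroup G)) : SelfNorm G := by
  intro Q x hx
  obtain ⟨g, rfl⟩ := MulAction.exists_smul_eq G P Q
  have h2 : (g⁻¹ * x * g) • P = P := by
    rw [mul_smul, mul_smul, Sylow.smul_eq_iff_mem_normalizer.2 hx, inv_smul_smul]
  have h3 := h (Sylow.smul_eq_iff_mem_normalizer.1 h2)
  refine ⟨g⁻¹ * x * g, h3, ?_⟩
  simp [MulAut.conj_apply, mul_assoc]

theorem SelfNorm.congr {G H : Type*} [Group G] [Group H] [Finite G] [Finite H] (h : SelfNorm G)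
    (e : G ≃* H) : SelfNorm H := by
  intro Q x hx
  have hf : Function.Surjective e.symm.toMonoidHom := e.symm.surjective
  let P : Sylow 2 G := Q.mapSurjective hf
  have hP : (P : Subgroup G) = (Q : Subgroup H).map e.symm.toMonoidHom := Sylow.coe_mapSurjective hf Q
  have h1 : e.symm x ∈ normalizer ((P : Subgroup G) : Set G) := by
    rw [mem_normalizer_iff]
    intro y
    rw [hP, mem_map_equiv, mem_map_equiv]
    have h2 := mem_normalizer_iff.1 hx (e y)
    simpa using h2
  have h3 := h P h1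
  rw [hP, mem_map_equiv] at h3
  simpa using h3

theorem selfNorm_of_subsingleton {G : Type*} [Group G] [Subsingleton G] : SelfNorm G := by
  intro P x _
  rw [Subsingleton.elim x 1]
  exact one_mem _

/-! ### The pairing model -/

variable {β γ : Type*}

/-- The element of `C₂ ≀ Sym β` acting on `(β × Bool) ⊕ γ`. -/
def wr (σ : Equiv.Perm β) (f : β → Bool) : Equiv.Perm ((β × Bool) ⊕ γ) where
  toFun := fun x => match x with
    | Sum.inl (b, c) => Sum.inl (σ b, xor c (f b))
    | Sum.inr u => Sum.inr u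
  invFun := fun x => match x with
    | Sum.inl (b, c) => Sum.inl (σ.symm b, xor c (f (σ.symm b)))
    | Sum.inr u => Sum.inr u
  left_inv := by rintro (⟨b, c⟩ | u) <;> simp
  right_inv := by rintro (⟨b, c⟩ | u) <;> simp

@[simp] theorem wr_inl (σ : Equiv.Perm β) (f : β → Bool) (b : β) (c : Bool) :
    (wr σ f : Equiv.Perm ((β × Bool) ⊕ γ)) (Sum.inl (b, c)) = Sum.inl (σ b, xor c (f b)) := rfl

@[simp] theorem wr_inr (σ : Equiv.Perm β) (f : β → Bool) (u : γ) :
    (wr σ f : Equiv.Perm ((β × Bool) ⊕ γ)) (Sum.inr u) = Sum.inr u := rfl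

theorem wr_mul (σ τ : Equiv.Perm β) (f h : β → Bool) :
    (wr σ f : Equiv.Perm ((β × Bool) ⊕ γ)) * wr τ h = wr (σ * τ) (fun b => xor (h b) (f (τ b))) := by
  ext (⟨b, c⟩ | u) <;> simp [Bool.xor_assoc]

theorem wr_one : (wr 1 (fun _ => false) : Equiv.Perm ((β × Bool) ⊕ γ)) = 1 := by
  ext (⟨b, c⟩ | u) <;> simp

theorem wr_inv (σ : Equiv.Perm β) (f : β → Bool) :
    (wr σ f : Equiv.Perm ((β × Bool) ⊕ γ))⁻¹ = wr σ⁻¹ (fun b => f (σ⁻¹ b)) := by
  rw [inv_eq_iff_mul_eq_one, wr_mul, mul_inv_cancel, ← wr_one]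
  congr 1
  funext b
  simp

theorem wr_injective :
    Function.Injective (fun x : Equiv.Perm β × (β → Bool) => (wr x.1 x.2 : Equiv.Perm ((β × Bool) ⊕ γ))) := by
  rintro ⟨σ, f⟩ ⟨τ, h⟩ e
  have key : ∀ b, σ b = τ b ∧ f b = h b := fun b => by
    simpa using DFunLike.congr_fun e (Sum.inl (b, false))
  exact Prod.ext (Equiv.ext fun b => (key b).1) (funext fun b => (key b).2)

/-- The involution exchanging the two points of each pair. -/
def pairing : Equiv.Perm ((β × Bool) ⊕ γ) := wr 1 (fun _ => true)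

@[simp] theorem pairing_inl (b : β) (c : Bool) :
    (pairing : Equiv.Perm ((β × Bool) ⊕ γ)) (Sum.inl (b, c)) = Sum.inl (b, !c) := by
  simp [pairing]

@[simp] theorem pairing_inr (u : γ) :
    (pairing : Equiv.Perm ((β × Bool) ⊕ γ)) (Sum.inr u) = Sum.inr u := rfl

theorem pairing_pairing (x : (β × Bool) ⊕ γ) :
    (pairing : Equiv.Perm ((β × Bool) ⊕ γ)) (pairing x) = x := by
  rcases x with ⟨b, c⟩ | u <;> simp

theorem pairing_comm_wr (σ : Equiv.Perm β) (f : β → Bool) (x : (β × Bool) ⊕ γ) :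
    (pairing : Equiv.Perm ((β × Bool) ⊕ γ)) (wr σ f x) = wr σ f (pairing x) := by
  rcases x with ⟨b, c⟩ | u <;> simp

theorem eq_wr_of_comm [Finite β] [Subsingleton γ] (g : Equiv.Perm ((β × Bool) ⊕ γ))
    (hg : ∀ x, g (pairing x) = pairing (g x)) :
    ∃ σ : Equiv.Perm β, ∃ f : β → Bool, g = wr σ f := by
  have hr : ∀ u, g (Sum.inr u) = Sum.inr u := by
    intro u
    have h := hg (Sum.inr u)
    rw [pairing_inr] at h
    rcases hgu : g (Sum.inr u) with ⟨b, c⟩ | v
    · rw [hgu, pairing_inl] at h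
      simp at h
    · rw [Subsingleton.elim v u]
  have hl : ∀ b, ∃ q : β × Bool, g (Sum.inl (b, false)) = Sum.inl q := by
    intro b
    rcases hgu : g (Sum.inl (b, false)) with q | v
    · exact ⟨q, rfl⟩
    · exfalso
      have := g.injective (hgu.trans (hr v).symm)
      simp at this
  choose q hq using hl
  have hinj : Function.Injective (fun b => (q b).1) := by
    intro a b hab
    simp only at hab
    by_cases hc : (q a).2 = (q b).2
    · have h2 : q a = q b := Prod.ext hab hc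
      have := g.injective ((hq a).trans (by rw [h2, ← hq b]))
      simpa using this
    · have h2 : g (Sum.inl (a, false)) = g (pairing (Sum.inl (b, false))) := by
        rw [hg, hq, hq]
        rcases ha : q a with ⟨a1, a2⟩
        rcases hb : q b with ⟨b1, b2⟩
        rw [ha, hb] at hab hc
        simp only at hab hc
        rw [pairing_inl, hab]
        cases a2 <;> cases b2 <;> first | rfl | exact absurd rfl hc
      simpa using g.injective h2
  refine ⟨Equiv.ofBijective _ (Finite.injective_iff_bijective.1 hinj), fun b => (q b).2, ?_⟩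
  refine Equiv.ext fun x => ?_
  rcases x with ⟨b, c⟩ | u
  · cases c
    · simp [hq]
    · have h := hg (Sum.inl (b, false))
      rw [pairing_inl, hq] at h
      rcases hqb : q b with ⟨q1, q2⟩
      rw [hqb, pairing_inl] at h
      simpa [hqb] using h
  · simp [hr]

/-- The preimage in `C₂ ≀ Sym β` of a subgroup of `Sym β`. -/
def wrSub (R : Subgroup (Equiv.Perm β)) : Subgroup (Equiv.Perm ((β × Bool) ⊕ γ)) where
  carrier := {g | ∃ σ ∈ R, ∃ f : β → Bool, g = wr σ f}
  mul_mem' := by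
    rintro _ _ ⟨σ, hσ, f, rfl⟩ ⟨τ, hτ, h, rfl⟩
    exact ⟨σ * τ, R.mul_mem hσ hτ, _, wr_mul σ τ f h⟩
  one_mem' := ⟨1, R.one_mem, _, wr_one.symm⟩
  inv_mem' := by
    rintro _ ⟨σ, hσ, f, rfl⟩
    exact ⟨σ⁻¹, R.inv_mem hσ, _, wr_inv σ f⟩

theorem wr_mem_wrSub {R : Subgroup (Equiv.Perm β)} {σ : Equiv.Perm β} (h : σ ∈ R) (f : β → Bool) :
    (wr σ f : Equiv.Perm ((β × Bool) ⊕ γ)) ∈ wrSub R := ⟨σ, h, f, rfl⟩

theorem wrSub_comm {R : Subgroup (Equiv.Perm β)} {g : Equiv.Perm ((β × Bool) ⊕ γ)}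
    (h : g ∈ wrSub R) (x : (β × Bool) ⊕ γ) : g (pairing x) = pairing (g x) := by
  obtain ⟨σ, -, f, rfl⟩ := h
  exact (pairing_comm_wr σ f x).symm

theorem card_wrSub [Fintype β] (R : Subgroup (Equiv.Perm β)) :
    Nat.card (wrSub (γ := γ) R) = Nat.card R * 2 ^ Fintype.card β := by
  have h : (wrSub (γ := γ) R : Set (Equiv.Perm ((β × Bool) ⊕ γ))) =
      (fun x : Equiv.Perm β × (β → Bool) => wr x.1 x.2) '' ((R : Set (Equiv.Perm β)) ×ˢ Set.univ) := by
    ext g
    simp [wrSub, eq_comm]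
  rw [← SetLike.coe_sort_coe (wrSub R), h, Nat.card_image_of_injective wr_injective,
    Nat.card_congr (Equiv.Set.prod _ _), Nat.card_prod, Nat.card_univ, Nat.card_fun,
    Nat.card_eq_fintype_card (α := β), Nat.card_eq_two_iff.2 ⟨false, true, by simp, by ext b; cases b <;> simp⟩]
  rfl

theorem factorization_two_factorial (m e : ℕ) (he : e ≤ 1) :
    (Nat.factorial (2 * m + e)).factorization 2 = m + (Nat.factorial m).factorization 2 := by
  simp only [Nat.factorization_def _ Nat.prime_two]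
  rw [padicValNat_factorial_mul_add m (by omega), padicValNat_factorial_mul]
  ring

/-- The standard Sylow 2-subgroup of the model. -/
def wrSylow [Fintype β] [Fintype γ] [Subsingleton γ] (R : Sylow 2 (Equiv.Perm β)) :
    Sylow 2 (Equiv.Perm ((β × Bool) ⊕ γ)) :=
  Sylow.ofCard (wrSub (R : Subgroup (Equiv.Perm β))) (by
    rw [card_wrSub, Sylow.card_eq_multiplicity, Nat.card_perm, Nat.card_perm, ← pow_add]
    congr 1
    rw [Nat.card_sum, Nat.card_prod, Nat.card_eq_fintype_card (α := β),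
      Nat.card_eq_fintype_card (α := Bool), Fintype.card_bool, mul_comm _ 2,
      factorization_two_factorial _ _ (Finite.card_le_one_iff_subsingleton.2 ‹_›)]
    ring)

@[simp] theorem coe_wrSylow [Fintype β] [Fintype γ] [Subsingleton γ] (R : Sylow 2 (Equiv.Perm β)) :
    ((wrSylow R : Sylow 2 (Equiv.Perm ((β × Bool) ⊕ γ))) : Subgroup (Equiv.Perm ((β × Bool) ⊕ γ))) =
      wrSub (R : Subgroup (Equiv.Perm β)) := Sylow.coe_ofCard _ _

/-- The transposition of a single pair. -/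
def tau [DecidableEq β] (b : β) : Equiv.Perm ((β × Bool) ⊕ γ) :=
  wr 1 (fun x => decide (x = b))

theorem tau_eq_swap [DecidableEq β] [DecidableEq γ] (b : β) :
    (tau b : Equiv.Perm ((β × Bool) ⊕ γ)) = Equiv.swap (Sum.inl (b, false)) (Sum.inl (b, true)) := by
  refine Equiv.ext fun x => ?_
  rcases x with ⟨a, c⟩ | u
  · by_cases h : a = b
    · subst h; cases c <;> simp [tau]
    · rw [Equiv.swap_apply_of_ne_of_ne (by simp [h]) (by simp [h])]
      simp [tau, h]
  · simp [tau, Equiv.swap_apply_of_ne_of_ne]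

theorem tau_mem [DecidableEq β] (R : Subgroup (Equiv.Perm β)) (b : β) :
    (tau b : Equiv.Perm ((β × Bool) ⊕ γ)) ∈ wrSub R := wr_mem_wrSub R.one_mem _

theorem comm_of_mapsPairs {g : Equiv.Perm ((β × Bool) ⊕ γ)}
    (h1 : ∀ b c, g (pairing (Sum.inl (b, c))) = pairing (g (Sum.inl (b, c))))
    (h2 : ∀ b c, g⁻¹ (pairing (Sum.inl (b, c))) = pairing (g⁻¹ (Sum.inl (b, c))))
    (x : (β × Bool) ⊕ γ) : g (pairing x) = pairing (g x) := by
  rcases x with ⟨b, c⟩ | u
  · exact h1 b c
  · rw [pairing_inr]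
    rcases hgu : g (Sum.inr u) with ⟨a, d⟩ | v
    · exfalso
      have hi : g⁻¹ (Sum.inl (a, d)) = Sum.inr u := by rw [← hgu, Equiv.Perm.coe_inv, Equiv.symm_apply_apply]
      have h := h2 a d
      rw [hi, pairing_inr, ← hi] at h
      simpa using g⁻¹.injective h
    · rfl

theorem mem_wrSub_of_normalizes [Finite β] [Subsingleton γ] {R : Subgroup (Equiv.Perm β)}
    (hR : normalizer (R : Set (Equiv.Perm β)) ≤ R) {T : Set (Equiv.Perm ((β × Bool) ⊕ γ))}
    {g : Equiv.Perm ((β × Bool) ⊕ γ)} (hT : T ⊆ (wrSub (γ := γ) R : Set (Equiv.Perm ((β × Bool) ⊕ γ))))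
    (hsurj : ∀ σ ∈ R, ∃ f, (wr σ f : Equiv.Perm ((β × Bool) ⊕ γ)) ∈ T)
    (hg : ∀ t, t ∈ T ↔ g * t * g⁻¹ ∈ T)
    (hcomm : ∀ x, g (pairing x) = pairing (g x)) : g ∈ wrSub R := by
  obtain ⟨σ, f, rfl⟩ := eq_wr_of_comm g hcomm
  refine wr_mem_wrSub (hR ?_) f
  rw [mem_normalizer_iff]
  have key : ∀ s : Equiv.Perm β, ∀ φ : Equiv.Perm β, ∀ k : β → Bool, ∀ h : β → Bool,
      (wr φ k * wr s h * (wr φ k)⁻¹ : Equiv.Perm ((β × Bool) ⊕ γ)) ∈ wrSub R → φ * s * φ⁻¹ ∈ R := by
    intro s φ k h hmem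
    rw [wr_inv, wr_mul, wr_mul] at hmem
    obtain ⟨σ', hσ', f', e⟩ := hmem
    have e2 := (Prod.ext_iff.1 (wr_injective (a₁ := (_, _)) (a₂ := (_, _)) e)).1
    simp only at e2
    rw [e2]
    exact hσ'
  intro s
  constructor
  · intro hs
    obtain ⟨h, hh⟩ := hsurj s hs
    exact key s σ f h (hT ((hg _).1 hh))
  · intro hs
    obtain ⟨h, hh⟩ := hsurj _ hs
    have h3 : (wr σ f)⁻¹ * wr (σ * s * σ⁻¹) h * ((wr σ f)⁻¹)⁻¹ ∈ T := by
      refine (hg _).2 ?_
      simpa [mul_assoc] using hh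
    have h4 := hT h3
    rw [wr_inv] at h4
    have h5 := key _ _ _ _ h4
    simpa [mul_assoc] using h5

theorem exists_moved_of_mem [DecidableEq β] {R : Subgroup (Equiv.Perm β)}
    [Fintype β] [Fintype γ] [DecidableEq γ] [Subsingleton γ]
    {g : Equiv.Perm ((β × Bool) ⊕ γ)} (hg : g ∈ normalizer ((wrSub (γ := γ) R : Subgroup (Equiv.Perm ((β × Bool) ⊕ γ))) : Set (Equiv.Perm ((β × Bool) ⊕ γ))))
    (b : β) (c : Bool) : g (pairing (Sum.inl (b, c))) = pairing (g (Sum.inl (b, c))) := by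
  set y := g (Sum.inl (b, c))
  set y' := g (Sum.inl (b, !c))
  have hy : y ≠ y' := fun h => by simpa using g.injective h
  have hmem := (mem_normalizer_iff.1 hg _).1 (tau_mem R b)
  have heq : g * tau b * g⁻¹ = Equiv.swap y y' := by
    rw [tau_eq_swap, ← Equiv.swap_apply_apply]
    cases c
    · rfl
    · exact Equiv.swap_comm _ _
  rw [heq] at hmem
  rw [pairing_inl]
  change y' = pairing y
  have key : ∀ a a' : (β × Bool) ⊕ γ, a ≠ a' → Equiv.swap a a' ∈ wrSub R → pairing a = a ∨ pairing a = a' := by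
    intro a a' haa h
    by_contra hc'
    rw [not_or] at hc'
    have h1 := wrSub_comm h a
    rw [Equiv.swap_apply_of_ne_of_ne hc'.1 hc'.2, Equiv.swap_apply_left] at h1
    exact haa ((pairing : Equiv.Perm ((β × Bool) ⊕ γ)).injective h1)
  rcases key y y' hy hmem with h | h
  · exfalso
    rcases key y' y hy.symm (by rwa [Equiv.swap_comm]) with h' | h'
    · rcases hy1 : y with ⟨a, d⟩ | u
      · rw [hy1, pairing_inl] at h; simp at h
      · rcases hy2 : y' with ⟨a, d⟩ | v
        · rw [hy2, pairing_inl] at h'; simp at h'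
        · exact hy (by rw [hy1, hy2, Subsingleton.elim u v])
    · exact hy ((h'.symm.trans (by rw [← h', pairing_pairing] at h; exact h.symm)).trans rfl)
  · exact h.symm

theorem selfNorm_model [Fintype β] [DecidableEq β] [Fintype γ] [DecidableEq γ] [Subsingleton γ]
    (h : SelfNorm (Equiv.Perm β)) : SelfNorm (Equiv.Perm ((β × Bool) ⊕ γ)) := by
  obtain ⟨R⟩ : Nonempty (Sylow 2 (Equiv.Perm β)) := inferInstance
  refine selfNorm_of_one (wrSylow R) ?_
  rw [coe_wrSylow]
  intro g hg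
  refine mem_wrSub_of_normalizes (h R) subset_rfl (fun σ hσ => ⟨fun _ => false, wr_mem_wrSub hσ _⟩)
    (fun t => mem_normalizer_iff.1 hg t) (comm_of_mapsPairs (exists_moved_of_mem hg) ?_)
  exact exists_moved_of_mem (inv_mem hg)

/-- Pairing equivalence. -/
noncomputable def modelEquiv (n : ℕ) : ((Fin (n / 2) × Bool) ⊕ Fin (n % 2)) ≃ Fin n :=
  (Fintype.equivFinOfCardEq (by
    simp only [Fintype.card_sum, Fintype.card_prod, Fintype.card_fin, Fintype.card_bool]
    omega))

instance subsingleton_fin_mod (n : ℕ) : Subsingleton (Fin (n % 2)) :=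
  Fintype.card_le_one_iff_subsingleton.1 (by rw [Fintype.card_fin]; omega)

theorem selfNorm_perm_fin (n : ℕ) : SelfNorm (Equiv.Perm (Fin n)) := by
  induction n using Nat.strong_induction_on with
  | _ n ih =>
    rcases Nat.lt_or_ge n 2 with h | h
    · haveI : Subsingleton (Fin n) := Fintype.card_le_one_iff_subsingleton.1 (by rw [Fintype.card_fin]; omega)
      exact selfNorm_of_subsingleton
    · exact (selfNorm_model (ih (n / 2) (by omega))).congr (modelEquiv n).permCongrHom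

/-! ### Alternating groups -/

/-- The trace of the standard Sylow 2-subgroup on the alternating group is a Sylow 2-subgroup. -/
theorem exists_altSylow {α : Type*} [Fintype α] [DecidableEq α] (P : Sylow 2 (Equiv.Perm α))
    {t : Equiv.Perm α} (ht : t ∈ P) (hodd : t ∉ alternatingGroup α) :
    ∃ S : Sylow 2 (alternatingGroup α),
      (S : Subgroup (alternatingGroup α)) = (P : Subgroup (Equiv.Perm α)).subgroupOf (alternatingGroup α) := by
  haveI : Nontrivial α := by
    by_contra h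
    rw [not_nontrivial_iff_subsingleton] at h
    exact hodd (by rw [Subsingleton.elim t 1]; exact one_mem _)
  have h2 : (alternatingGroup α).index = 2 := alternatingGroup.index_eq_two
  have h3 : (alternatingGroup α).relIndex (P : Subgroup (Equiv.Perm α)) = 2 := by
    have h4 : (alternatingGroup α).relIndex (P : Subgroup (Equiv.Perm α)) ∣ 2 :=
      by
      calc (alternatingGroup α).relIndex (P : Subgroup (Equiv.Perm α)) ∣ (alternatingGroup α).index :=
            Subgroup.relIndex_dvd_index_of_normal _ _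
        _ = 2 := h2
    refine ((Nat.dvd_prime Nat.prime_two).1 h4).resolve_left (fun h5 => hodd ?_)
    exact Subgroup.relIndex_eq_one.1 h5 ht
  have h6 : (P : Subgroup (Equiv.Perm α)).relIndex (alternatingGroup α) = (P : Subgroup (Equiv.Perm α)).index := by
    have ha := Subgroup.relIndex_mul_index
      (inf_le_left : (P : Subgroup (Equiv.Perm α)) ⊓ alternatingGroup α ≤ P)
    have hb := Subgroup.relIndex_mul_index
      (inf_le_right : (P : Subgroup (Equiv.Perm α)) ⊓ alternatingGroup α ≤ alternatingGroup α)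
    rw [Subgroup.inf_relIndex_left, h3] at ha
    rw [Subgroup.inf_relIndex_right, h2] at hb
    omega
  refine ⟨((P.2.comap_subtype (K := alternatingGroup α))).toSylow ?_, rfl⟩
  change ¬ 2 ∣ (P : Subgroup (Equiv.Perm α)).relIndex (alternatingGroup α)
  rw [h6]
  exact P.not_dvd_index

theorem tau_notMem_alternating [Fintype β] [DecidableEq β] [Fintype γ] [DecidableEq γ] (b : β) :
    (tau b : Equiv.Perm ((β × Bool) ⊕ γ)) ∉ alternatingGroup _ := by
  rw [Equiv.Perm.mem_alternatingGroup, tau_eq_swap, Equiv.Perm.sign_swap (by simp)]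
  decide

/-- Every element of `Sym β` lifts to an even element. -/
theorem exists_even_lift [Fintype β] [DecidableEq β] [Fintype γ] [DecidableEq γ] [Nonempty β]
    (σ : Equiv.Perm β) :
    ∃ f, (wr σ f : Equiv.Perm ((β × Bool) ⊕ γ)) ∈ alternatingGroup _ := by
  by_cases h : (wr σ (fun _ => false) : Equiv.Perm ((β × Bool) ⊕ γ)) ∈ alternatingGroup _
  · exact ⟨_, h⟩
  · obtain ⟨b⟩ := ‹Nonempty β›
    have h2 : wr σ (fun _ => false) * tau b ∈ alternatingGroup ((β × Bool) ⊕ γ) := by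
      rw [Equiv.Perm.mem_alternatingGroup] at h ⊢
      rw [map_mul, tau_eq_swap, Equiv.Perm.sign_swap (by simp)]
      rcases Int.units_eq_one_or (Equiv.Perm.sign (wr σ (fun _ => false) : Equiv.Perm ((β × Bool) ⊕ γ))) with h' | h'
      · exact absurd h' h
      · rw [h']; decide
    rw [tau, wr_mul, mul_one] at h2
    exact ⟨_, h2⟩

theorem tau_mul_tau_even [Fintype β] [DecidableEq β] [Fintype γ] [DecidableEq γ] (b b' : β) :
    (tau b * tau b' : Equiv.Perm ((β × Bool) ⊕ γ)) ∈ alternatingGroup _ := by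
  rw [Equiv.Perm.mem_alternatingGroup, map_mul, tau_eq_swap, tau_eq_swap,
    Equiv.Perm.sign_swap (by simp), Equiv.Perm.sign_swap (by simp)]
  decide

theorem mem_support_tau_mul [Fintype β] [DecidableEq β] [Fintype γ] [DecidableEq γ] {b b' : β}
    (h : b ≠ b') (x : (β × Bool) ⊕ γ) :
    x ∈ (tau b * tau b' : Equiv.Perm ((β × Bool) ⊕ γ)).support ↔
      ∃ c, x = Sum.inl (b, c) ∨ x = Sum.inl (b', c) := by
  rcases x with ⟨a, c⟩ | u
  · by_cases h1 : a = b
    · subst h1; simp [tau, wr_mul, h]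
    · by_cases h2 : a = b'
      · subst h2; simp [tau, wr_mul, h1]
      · simp [tau, wr_mul, h1, h2]
  · simp [tau, wr_mul]

theorem mapsPairs_alt [Fintype β] [DecidableEq β] [Fintype γ] [DecidableEq γ]
    (hβ : 3 ≤ Fintype.card β) {R : Subgroup (Equiv.Perm β)} {g : Equiv.Perm ((β × Bool) ⊕ γ)}
    (hg : ∀ t, (t ∈ wrSub (γ := γ) R ∧ t ∈ alternatingGroup ((β × Bool) ⊕ γ)) ↔ (g * t * g⁻¹ ∈ wrSub R ∧ g * t * g⁻¹ ∈ alternatingGroup _))
    (b : β) (c : Bool) : g (pairing (Sum.inl (b, c))) = pairing (g (Sum.inl (b, c))) := by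
  classical
  set x : (β × Bool) ⊕ γ := Sum.inl (b, c) with hx
  obtain ⟨b₁, hb₁⟩ : ∃ b₁, b₁ ≠ b := Fintype.exists_ne_of_one_lt_card (by omega) b
  have ht : tau b * tau b₁ ∈ wrSub (γ := γ) R ∧ tau b * tau b₁ ∈ alternatingGroup ((β × Bool) ⊕ γ) :=
    ⟨mul_mem (tau_mem R b) (tau_mem R b₁), tau_mul_tau_even b b₁⟩
  have ht' := (hg _).1 ht
  -- the image of a moved point is moved
  rcases hgx : g x with ⟨a, d⟩ | u
  swap
  · exfalso
    obtain ⟨σ, -, f, e⟩ := ht'.1
    have h0 := DFunLike.congr_fun e (g x)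
    rw [Equiv.Perm.mul_apply, Equiv.Perm.mul_apply, Equiv.Perm.coe_inv, Equiv.symm_apply_apply, hgx, wr_inr, ← hgx] at h0
    have h1 := g.injective h0
    exact (Equiv.Perm.mem_support.1 ((mem_support_tau_mul hb₁.symm x).2 ⟨c, Or.inl rfl⟩)) h1
  -- the image of the partner is the partner
  set y := g (pairing x) with hy
  have hne : y ≠ g x := fun h => by simpa [hx] using g.injective h
  by_contra hcon
  have hcon' : y ≠ Sum.inl (a, !d) := by rwa [pairing_inl] at hcon
  have hya : ∀ d', y ≠ Sum.inl (a, d') := by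
    intro d'
    rw [hgx] at hne
    cases d <;> cases d' <;> first | exact hne | exact hcon'
  have hex : ∃ a' : β, a' ≠ a ∧ ∀ d', y ≠ Sum.inl (a', d') := by
    rcases hy' : y with ⟨e, d''⟩ | v
    · obtain ⟨a', h1, h2⟩ : ∃ a', a' ≠ a ∧ a' ≠ e := by
        obtain ⟨a', ha'⟩ := Finset.card_pos.1
          (show 0 < ((Finset.univ.erase a).erase e).card by
            have h1 := Finset.pred_card_le_card_erase (a := e) (s := Finset.univ.erase a)
            rw [Finset.card_erase_of_mem (Finset.mem_univ a), Finset.card_univ] at h1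
            omega)
        simp only [Finset.mem_erase, Finset.mem_univ, and_true] at ha'
        exact ⟨a', ha'.2, ha'.1⟩
      exact ⟨a', h1, fun d' h => h2 (congrArg Prod.fst (Sum.inl.inj h)).symm⟩
    · obtain ⟨a', h1⟩ := Fintype.exists_ne_of_one_lt_card (show 1 < Fintype.card β by omega) a
      exact ⟨a', h1, fun d' h => by simp at h⟩
  obtain ⟨a', ha', hya'⟩ := hex
  set s : Equiv.Perm ((β × Bool) ⊕ γ) := g⁻¹ * (tau a * tau a') * g with hs
  have hs' : s ∈ wrSub R ∧ s ∈ alternatingGroup _ := by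
    refine (hg s).2 ?_
    rw [show g * s * g⁻¹ = tau a * tau a' by rw [hs]; group]
    exact ⟨mul_mem (tau_mem R a) (tau_mem R a'), tau_mul_tau_even a a'⟩
  have hsx : s x ≠ x := by
    intro h
    have h0 := congrArg g h
    rw [hs, Equiv.Perm.mul_apply, Equiv.Perm.mul_apply, Equiv.Perm.coe_inv, Equiv.apply_symm_apply, hgx] at h0
    exact Equiv.Perm.mem_support.1 ((mem_support_tau_mul ha'.symm (Sum.inl (a, d))).2 ⟨d, Or.inl rfl⟩) h0
  apply hsx
  apply (pairing : Equiv.Perm ((β × Bool) ⊕ γ)).injective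
  rw [← wrSub_comm hs'.1]
  apply g.injective
  rw [hs, Equiv.Perm.mul_apply, Equiv.Perm.mul_apply, Equiv.Perm.coe_inv, Equiv.apply_symm_apply, ← hy,
    Equiv.Perm.notMem_support.1]
  rw [mem_support_tau_mul ha'.symm]
  rintro ⟨d', h | h⟩
  · exact hya d' h
  · exact hya' d' h

theorem selfNorm_alt_model [Fintype β] [DecidableEq β] [Fintype γ] [DecidableEq γ] [Subsingleton γ]
    (hβ : 3 ≤ Fintype.card β) (h : SelfNorm (Equiv.Perm β)) :
    SelfNorm (alternatingGroup ((β × Bool) ⊕ γ)) := by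
  obtain ⟨R⟩ : Nonempty (Sylow 2 (Equiv.Perm β)) := inferInstance
  haveI : Nonempty β := Fintype.card_pos_iff.1 (by omega)
  obtain ⟨b⟩ := ‹Nonempty β›
  have hmem : (tau b : Equiv.Perm ((β × Bool) ⊕ γ)) ∈
      ((wrSylow (γ := γ) R : Sylow 2 (Equiv.Perm ((β × Bool) ⊕ γ))) : Subgroup (Equiv.Perm ((β × Bool) ⊕ γ))) := by
    rw [coe_wrSylow]; exact tau_mem _ b
  obtain ⟨S, hS⟩ := exists_altSylow (wrSylow (γ := γ) R) hmem (tau_notMem_alternating b)
  rw [coe_wrSylow] at hS
  refine selfNorm_of_one S ?_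
  rw [hS]
  intro g hg
  rw [mem_subgroupOf]
  have hg' : ∀ t, (t ∈ wrSub (R : Subgroup (Equiv.Perm β)) ∧ t ∈ alternatingGroup _) ↔
      ((g : Equiv.Perm ((β × Bool) ⊕ γ)) * t * (g : Equiv.Perm ((β × Bool) ⊕ γ))⁻¹ ∈ wrSub (R : Subgroup (Equiv.Perm β)) ∧
        (g : Equiv.Perm ((β × Bool) ⊕ γ)) * t * (g : Equiv.Perm ((β × Bool) ⊕ γ))⁻¹ ∈ alternatingGroup _) := by
    intro t
    have hA : (g : Equiv.Perm ((β × Bool) ⊕ γ)) * t * (g : Equiv.Perm ((β × Bool) ⊕ γ))⁻¹ ∈ alternatingGroup _ ↔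
        t ∈ alternatingGroup _ := by
      rw [Equiv.Perm.mem_alternatingGroup, Equiv.Perm.mem_alternatingGroup, map_mul, map_mul, map_inv,
        mul_right_comm, mul_inv_cancel, one_mul]
    rw [hA]
    constructor
    · rintro ⟨h1, h2⟩
      exact ⟨(mem_normalizer_iff.1 hg ⟨t, h2⟩).1 h1, h2⟩
    · rintro ⟨h1, h2⟩
      exact ⟨(mem_normalizer_iff.1 hg ⟨t, h2⟩).2 h1, h2⟩
  refine mem_wrSub_of_normalizes (T := {t | t ∈ wrSub (R : Subgroup (Equiv.Perm β)) ∧ t ∈ alternatingGroup _})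
    (h R) (fun t ht => ht.1) ?_ hg' (comm_of_mapsPairs (mapsPairs_alt hβ hg') ?_)
  · intro σ hσ
    obtain ⟨f, hf⟩ := exists_even_lift (γ := γ) σ
    exact ⟨f, wr_mem_wrSub hσ f, hf⟩
  · refine mapsPairs_alt hβ (R := (R : Subgroup (Equiv.Perm β))) fun t => ?_
    rw [hg' ((g : Equiv.Perm ((β × Bool) ⊕ γ))⁻¹ * t * ((g : Equiv.Perm ((β × Bool) ⊕ γ))⁻¹)⁻¹)]
    simp [mul_assoc]

theorem selfNorm_alternating (n : ℕ) (hn : 6 ≤ n) : SelfNorm (alternatingGroup (Fin n)) := by
  refine (selfNorm_alt_model (γ := Fin (n % 2)) ?_ (selfNorm_perm_fin (n / 2))).congr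
    (modelEquiv n).altCongrHom
  rw [Fintype.card_fin]
  omega

end Cfsg.Agent.H52
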