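import Mathlib
import Cfsg.Prelude.Def_TwoFusion
import Cfsg.Agent.H52.PairModel

/-!
Sylow 2-subgroups of alternating groups as even parts of products over the binary blocks,
and their decomposability.
-/

set_option autoImplicit false

namespace Cfsg.Agent.H52.Blocks

open Equiv Equiv.Perm

variable {α : Type*} [Fintype α] [DecidableEq α]

/-- A transitive 2-group on `2 ^ k` points with a regular cycle and a transposition. -/
structure Blk (k : ℕ) (W : Subgroup (Perm α)) (c t : Perm α) (a b : α) : Prop where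
  card_eq : Fintype.card α = 2 ^ k
  pos : 1 ≤ k
  isp : IsPGroup 2 W
  c_mem : c ∈ W
  c_cycle : c.IsCycle
  c_supp : c.support = Finset.univ
  t_mem : t ∈ W
  t_eq : t = swap a b
  ne : a ≠ b

namespace Blk

variable {k : ℕ} {W : Subgroup (Perm α)} {c t : Perm α} {a b : α}

theorem exists_blk {k : ℕ} (hk : 1 ≤ k) (hcard : Fintype.card α = 2 ^ k) (W : Sylow 2 (Perm α)) :
    ∃ c t a b, Blk k (W : Subgroup (Perm α)) c t a b := by
  have e : α ≃ Fin (2 ^ k) := Fintype.equivFinOfCardEq hcard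
  haveI : Nontrivial α := Fintype.one_lt_card_iff_nontrivial.1 (by
    rw [hcard]; exact Nat.one_lt_two_pow (by omega))
  have h2k : 2 ≤ 2 ^ k := Nat.le_self_pow (by omega) 2
  set c0 : Perm α := e.symm.permCongr (finRotate (2 ^ k)) with hc0
  obtain ⟨m, hm⟩ : ∃ m, 2 ^ k = m + 2 := ⟨2 ^ k - 2, by omega⟩
  have hcyc : (finRotate (2 ^ k)).IsCycle := by rw [hm]; exact isCycle_finRotate
  have hsupp : ∀ x, c0 x ≠ x := by
    intro x hx
    rw [hc0, Equiv.permCongr_apply, Equiv.symm_symm, Equiv.symm_apply_eq] at hx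
    have h3 : ∀ y : Fin (m + 2), finRotate (m + 2) y ≠ y := fun y => Perm.mem_support.1 (by
      rw [support_finRotate]; exact Finset.mem_univ y)
    revert hx
    generalize e x = y
    revert y
    rw [hm]
    exact h3
  have hcyc0 : c0.IsCycle := by
    obtain ⟨x, hx, hall⟩ := hcyc
    refine ⟨e.symm x, hsupp _, fun y hy => ?_⟩
    obtain ⟨i, hi⟩ := hall (y := e y) (fun h => hy (by
      rw [hc0, Equiv.permCongr_apply, Equiv.symm_symm, h, Equiv.symm_apply_apply]))
    refine ⟨i, ?_⟩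
    rw [hc0, show (e.symm.permCongr (finRotate (2 ^ k))) ^ i = e.symm.permCongr ((finRotate (2 ^ k)) ^ i) from
      (map_zpow e.symm.permCongrHom _ i).symm, Equiv.permCongr_apply, Equiv.symm_symm,
      Equiv.apply_symm_apply, hi, Equiv.symm_apply_apply]
  have hord : orderOf c0 = 2 ^ k := by
    rw [hcyc0.orderOf, show c0.support = Finset.univ from Finset.eq_univ_of_forall fun x => Perm.mem_support.2 (hsupp x),
      Finset.card_univ, hcard]
  obtain ⟨W0, hW0⟩ := (IsPGroup.of_card (p := 2) (n := k) (by rw [Nat.card_zpowers, hord]) :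
    IsPGroup 2 (Subgroup.zpowers c0)).exists_le_sylow
  obtain ⟨a0, b0, hab⟩ := exists_pair_ne α
  obtain ⟨W1, hW1⟩ := (IsPGroup.of_card (p := 2) (n := 1) (by
    rw [Nat.card_zpowers, pow_one, Perm.IsSwap.orderOf ⟨a0, b0, hab, rfl⟩]) :
    IsPGroup 2 (Subgroup.zpowers (swap a0 b0))).exists_le_sylow
  obtain ⟨g, hg⟩ := MulAction.exists_smul_eq (Perm α) W0 W
  obtain ⟨h, hh⟩ := MulAction.exists_smul_eq (Perm α) W1 W
  refine ⟨g * c0 * g⁻¹, swap (h a0) (h b0), h a0, h b0, hcard, hk, W.2, ?_, hcyc0.conj, ?_, ?_, rfl,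
    h.injective.ne hab⟩
  · rw [← hg]
    exact Subgroup.smul_mem_pointwise_smul c0 (MulAut.conj g) _ (hW0 (Subgroup.mem_zpowers _))
  · refine Finset.eq_univ_of_forall fun x => Perm.mem_support.2 fun hx => hsupp (g⁻¹ x) ?_
    have := congrArg (g⁻¹ : Perm α) hx
    simpa using this
  · rw [← hh, Equiv.swap_apply_apply]
    exact Subgroup.smul_mem_pointwise_smul (swap a0 b0) (MulAut.conj h) _ (hW1 (Subgroup.mem_zpowers _))

variable (h : Blk k W c t a b)
include h

theorem two_le : 2 ≤ 2 ^ k := by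
  calc 2 = 2 ^ 1 := rfl
    _ ≤ 2 ^ k := Nat.pow_le_pow_right (by norm_num) h.pos

theorem half_add : 2 ^ (k - 1) + 2 ^ (k - 1) = 2 ^ k := by
  rw [← two_mul, ← pow_succ', Nat.sub_add_cancel h.pos]

theorem orderOf_c : orderOf c = 2 ^ k := by
  rw [h.c_cycle.orderOf, h.c_supp, Finset.card_univ, h.card_eq]

theorem trans' (x y : α) : ∃ i : ℕ, (c ^ i) x = y := by
  have hm : ∀ z, c z ≠ z := fun z => Perm.mem_support.1 (by rw [h.c_supp]; exact Finset.mem_univ z)
  exact (h.c_cycle.sameCycle (hm x) (hm y)).exists_nat_pow_eq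

theorem pow_eq_one_of_fix (i : ℕ) (x : α) (hx : (c ^ i) x = x) : c ^ i = 1 := by
  refine Equiv.ext fun y => ?_
  obtain ⟨j, rfl⟩ := h.trans' x y
  rw [← Perm.mul_apply, ← pow_add, add_comm, pow_add, Perm.mul_apply, hx]
  rfl

theorem eq_pow_of_commute (g : Perm α) (hg : Commute g c) : ∃ i : ℕ, g = c ^ i := by
  obtain ⟨i, hi⟩ := h.trans' a (g a)
  refine ⟨i, Equiv.ext fun y => ?_⟩
  obtain ⟨j, rfl⟩ := h.trans' a y
  rw [← Perm.mul_apply, (hg.pow_right j).eq, Perm.mul_apply, ← hi, ← Perm.mul_apply, ← Perm.mul_apply,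
    ← pow_add, ← pow_add, add_comm]

omit h in
/-- The involution of the regular cycle. -/
def invol (k : ℕ) (c : Perm α) : Perm α := c ^ (2 ^ (k - 1))

theorem invol_sq : invol k c * invol k c = 1 := by
  rw [invol, ← pow_add, h.half_add, ← h.orderOf_c, pow_orderOf_eq_one]

theorem invol_ne : invol k c ≠ 1 := by
  rw [invol]
  refine pow_ne_one_of_lt_orderOf (by positivity) ?_
  rw [h.orderOf_c]
  exact Nat.pow_lt_pow_right (by norm_num) (Nat.sub_lt h.pos one_pos)

theorem invol_fix (x : α) : invol k c x ≠ x := fun hx => h.invol_ne (h.pow_eq_one_of_fix _ x hx)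

theorem invol_mem : invol k c ∈ W := Subgroup.pow_mem _ h.c_mem _

theorem pow_sq_eq_one (i : ℕ) (hi : c ^ i * c ^ i = 1) : c ^ i = 1 ∨ c ^ i = invol k c := by
  rw [← pow_add, ← orderOf_dvd_iff_pow_eq_one, h.orderOf_c, ← h.half_add, ← two_mul, ← two_mul] at hi
  obtain ⟨d, hd⟩ := Nat.dvd_of_mul_dvd_mul_left two_pos hi
  rcases Nat.even_or_odd d with ⟨e, rfl⟩ | ⟨e, rfl⟩
  · left
    rw [← orderOf_dvd_iff_pow_eq_one, h.orderOf_c, hd, ← h.half_add]
    exact ⟨e, by ring⟩
  · right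
    rw [invol, hd, show 2 ^ (k - 1) * (2 * e + 1) = (2 ^ (k - 1) + 2 ^ (k - 1)) * e + 2 ^ (k - 1) by ring,
      pow_add, h.half_add, pow_mul, ← h.orderOf_c, pow_orderOf_eq_one, one_pow, one_mul]

theorem invol_central (w : Perm α) (hw : w ∈ W) : Commute (invol k c) w := by
  haveI : Nontrivial W := ⟨⟨⟨c, h.c_mem⟩, 1, fun e => h.c_cycle.ne_one (congrArg Subtype.val e)⟩⟩
  haveI := h.isp.center_nontrivial
  obtain ⟨⟨⟨y, hy⟩, hyc⟩, hy1⟩ := exists_ne (1 : Subgroup.center W)
  have hy1' : y ≠ 1 := fun e => hy1 (Subtype.ext (Subtype.ext e))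
  have hcomm : ∀ v ∈ W, Commute y v := fun v hv =>
    (congrArg Subtype.val (Subgroup.mem_center_iff.1 hyc ⟨v, hv⟩)).symm
  obtain ⟨i, rfl⟩ := h.eq_pow_of_commute y (hcomm c h.c_mem)
  obtain ⟨j, hjk, hj⟩ : ∃ j, j ≤ k ∧ orderOf (c ^ i) = 2 ^ j := by
    have h1 : orderOf (c ^ i) ∣ 2 ^ k := by rw [← h.orderOf_c]; exact orderOf_pow_dvd i
    exact (Nat.dvd_prime_pow Nat.prime_two).1 h1
  rcases j with _ | j
  · exact absurd (orderOf_eq_one_iff.1 hj) hy1'
  · have hsq : c ^ (i * 2 ^ j) * c ^ (i * 2 ^ j) = 1 := by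
      rw [← pow_two, ← pow_mul, mul_assoc, ← pow_succ, pow_mul, ← hj, pow_orderOf_eq_one]
    have hne : c ^ (i * 2 ^ j) ≠ 1 := by
      rw [pow_mul]
      exact pow_ne_one_of_lt_orderOf (by positivity) (by rw [hj]; exact Nat.pow_lt_pow_right (by norm_num) (Nat.lt_succ_self j))
    rw [← (h.pow_sq_eq_one _ hsq).resolve_left hne, pow_mul]
    exact (hcomm w hw).pow_left _

theorem b_eq : b = invol k c a := by
  have hc := (h.invol_central t h.t_mem).eq
  rw [h.t_eq, Equiv.mul_swap_eq_swap_mul] at hc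
  have h2 := mul_right_cancel hc
  have h3 := DFunLike.congr_fun h2 (invol k c a)
  rw [swap_apply_left] at h3
  by_contra hne
  rw [swap_apply_of_ne_of_ne (h.invol_fix a) (fun e => hne e.symm)] at h3
  exact h.ne ((invol k c).injective h3).symm

theorem central_mem (x : Perm α) (hc : Commute x c) (ht : Commute x t) : x = 1 ∨ x = invol k c := by
  obtain ⟨i, rfl⟩ := h.eq_pow_of_commute x hc
  have h1 := ht.eq
  rw [h.t_eq, Equiv.mul_swap_eq_swap_mul] at h1
  have h2 := mul_right_cancel h1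
  have hmem : ∀ y, y = a ∨ y = b → (c ^ i) y = a ∨ (c ^ i) y = b := by
    intro y hy
    by_contra hcon
    rw [not_or] at hcon
    have h3 := DFunLike.congr_fun h2 ((c ^ i) y)
    rw [swap_apply_of_ne_of_ne hcon.1 hcon.2] at h3
    rcases hy with rfl | rfl
    · rw [swap_apply_left] at h3
      exact h.ne ((c ^ i).injective h3).symm
    · rw [swap_apply_right] at h3
      exact h.ne ((c ^ i).injective h3)
  refine h.pow_sq_eq_one i ?_
  have hfix : (c ^ i * c ^ i) a = a := by
    rcases hmem a (Or.inl rfl) with e | e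
    · rw [Perm.mul_apply, e, e]
    · rcases hmem b (Or.inr rfl) with e' | e'
      · rw [Perm.mul_apply, e, e']
      · exact absurd ((c ^ i).injective (e.trans e'.symm)) h.ne
  rw [← pow_add] at hfix ⊢
  exact h.pow_eq_one_of_fix _ a hfix

theorem sign_c : sign c = -1 := by
  rw [h.c_cycle.sign, h.c_supp, Finset.card_univ, h.card_eq, Even.neg_one_pow]
  exact (Nat.even_pow.2 ⟨even_two, by have := h.pos; omega⟩)

theorem sign_t : sign t = -1 := by rw [h.t_eq, sign_swap h.ne]

theorem t_sq : t * t = 1 := by rw [h.t_eq]; exact swap_mul_self a b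

theorem sign_invol (hk : 2 ≤ k) : sign (invol k c) = 1 := by
  rw [invol, map_pow, h.sign_c]
  exact (Nat.even_pow.2 ⟨even_two, by omega⟩).neg_one_pow

theorem invol_sq_root (hk : 2 ≤ k) :
    c ^ (2 ^ (k - 2)) * c ^ (2 ^ (k - 2)) = invol k c := by
  rw [invol, ← pow_add]
  congr 1
  rw [← two_mul, ← pow_succ']
  congr 1
  omega

theorem noncomm (hk : 2 ≤ k) : ¬ Commute c t := by
  intro hct
  rcases h.central_mem c (Commute.refl c) hct with e | e
  · exact h.c_cycle.ne_one e
  · have := h.orderOf_c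
    rw [e] at this
    have h2 : orderOf (invol k c) ∣ 2 := orderOf_dvd_of_pow_eq_one (by rw [pow_two, h.invol_sq])
    rw [this] at h2
    have h4 : 2 ^ k ≤ 2 := Nat.le_of_dvd two_pos h2
    have : 2 ^ 2 ≤ 2 ^ k := Nat.pow_le_pow_right (by norm_num) hk
    omega

/-- Two commuting subgroups covering the cycle and the transposition: one of them is central. -/
theorem central_factor (A B : Subgroup (Perm α)) (hAB : ∀ x ∈ A, ∀ y ∈ B, Commute x y)
    (hc : ∃ x ∈ A, ∃ y ∈ B, c = x * y) (ht : ∃ x ∈ A, ∃ y ∈ B, t = x * y) :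
    (∀ x ∈ A, x = 1 ∨ x = invol k c) ∨ (∀ y ∈ B, y = 1 ∨ y = invol k c) := by
  obtain ⟨x, hx, y, hy, hxy⟩ := hc
  obtain ⟨x', hx', y', hy', hxy'⟩ := ht
  have hxc : Commute x c := by rw [hxy]; exact (Commute.refl x).mul_right (hAB x hx y hy)
  have hyc : Commute y c := by rw [hxy]; exact (hAB x hx y hy).symm.mul_right (Commute.refl y)
  obtain ⟨i, rfl⟩ := h.eq_pow_of_commute x hxc
  obtain ⟨j, rfl⟩ := h.eq_pow_of_commute y hyc
  have gen : ∀ l, l % 2 = 1 → ∀ v, Commute v (c ^ l) → Commute v c := by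
    intro l hl v hv
    have hcop : l.Coprime (orderOf c) := by
      rw [h.orderOf_c]
      exact (Nat.coprime_two_right.2 (Nat.odd_iff.2 hl)).pow_right k
    obtain ⟨m, hm⟩ := exists_pow_eq_self_of_coprime hcop
    rw [← hm]
    exact hv.pow_right m
  have hij : i % 2 = 1 ∨ j % 2 = 1 := by
    by_contra hcon
    rw [← pow_add] at hxy
    have h3 : c ^ 1 = c ^ (i + j) := by rwa [pow_one]
    rw [pow_eq_pow_iff_modEq, h.orderOf_c] at h3
    have h4 : 1 ≡ i + j [MOD 2] := h3.of_dvd (dvd_pow_self 2 (by have := h.pos; omega))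
    rw [Nat.ModEq] at h4
    omega
  rcases hij with hi | hj
  · right
    intro v hv
    refine h.central_mem v (gen i hi v (hAB _ hx v hv).symm) ?_
    obtain ⟨m, hm⟩ := h.eq_pow_of_commute v (gen i hi v (hAB _ hx v hv).symm)
    obtain ⟨m', hm'⟩ := h.eq_pow_of_commute y' (gen i hi y' (hAB _ hx y' hy').symm)
    rw [hxy']
    refine (hAB x' hx' v hv).symm.mul_right ?_
    rw [hm, hm']
    exact Commute.pow_pow (Commute.refl c) _ _
  · left
    intro v hv
    refine h.central_mem v (gen j hj v (hAB v hv _ hy)) ?_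
    obtain ⟨m, hm⟩ := h.eq_pow_of_commute v (gen j hj v (hAB v hv _ hy))
    obtain ⟨m', hm'⟩ := h.eq_pow_of_commute x' (gen j hj x' (hAB x' hx' _ hy))
    rw [hxy']
    refine Commute.mul_right ?_ (hAB v hv y' hy')
    rw [hm, hm']
    exact Commute.pow_pow (Commute.refl c) _ _

/-- The centralizer of the even part of a big block. -/
theorem central_even (hk : 3 ≤ k) (x : Perm α) (hx : x ∈ W)
    (hcomm : ∀ w ∈ W, sign w = 1 → Commute x w) : x = 1 ∨ x = invol k c := by
  have hsign : ∀ j : ℕ, sign (c ^ j * t * (c ^ j)⁻¹) = -1 := by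
    intro j; rw [map_mul, map_mul, mul_right_comm, ← map_mul, mul_inv_cancel, map_one, one_mul, h.sign_t]
  have hswap : ∀ j : ℕ, c ^ j * t * (c ^ j)⁻¹ = swap ((c ^ j) a) ((c ^ j) b) := by
    intro j; rw [h.t_eq, Equiv.swap_apply_apply]
  have hdist : ∀ i j : ℕ, i < 2 ^ (k - 1) → j < 2 ^ (k - 1) → i ≠ j →
      (c ^ i) a ≠ (c ^ j) a ∧ (c ^ i) a ≠ (c ^ j) b := by
    intro i j hi hj hij
    have key : ∀ u v : ℕ, (c ^ u) a = (c ^ v) a → u < 2 ^ k → v < 2 ^ k → u = v := by
      intro u v huv hu hv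
      refine pow_injOn_Iio_orderOf (x := c) (by simpa [h.orderOf_c] using hu) (by simpa [h.orderOf_c] using hv) ?_
      refine Equiv.ext fun y => ?_
      obtain ⟨w, rfl⟩ := h.trans' a y
      rw [← Perm.mul_apply, (Commute.pow_pow (Commute.refl c) u w).eq, Perm.mul_apply, huv,
        ← Perm.mul_apply, (Commute.pow_pow (Commute.refl c) w v).eq, Perm.mul_apply]
    have hh := h.half_add
    refine ⟨fun e => hij (key i j e (by omega) (by omega)), fun e => ?_⟩
    rw [h.b_eq, invol, ← Perm.mul_apply, ← pow_add] at e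
    have := key i _ e (by omega) (by omega)
    omega
  have h4 : 4 ≤ 2 ^ (k - 1) := by
    calc 4 = 2 ^ 2 := rfl
      _ ≤ 2 ^ (k - 1) := Nat.pow_le_pow_right (by norm_num) (by omega)
  have hxz : x b = invol k c (x a) := by
    rw [h.b_eq, ← Perm.mul_apply, ← (h.invol_central x hx).eq, Perm.mul_apply]
  have hcases : ∀ j : ℕ, 1 ≤ j → j < 2 ^ (k - 1) →
      x a = a ∨ x a = b ∨ x a = (c ^ j) a ∨ x a = (c ^ j) b := by
    intro j hj1 hj
    set u := t * (c ^ j * t * (c ^ j)⁻¹) with hu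
    have humem : u ∈ W := W.mul_mem h.t_mem
      (W.mul_mem (W.mul_mem (W.pow_mem h.c_mem j) h.t_mem) (W.inv_mem (W.pow_mem h.c_mem j)))
    have husign : sign u = 1 := by rw [hu, map_mul, hsign, h.sign_t]; decide
    obtain ⟨d1, d2⟩ := hdist 0 j (by positivity) hj (by omega)
    simp only [pow_zero, Perm.one_apply] at d1 d2
    have hua : u a = b := by
      rw [hu, Perm.mul_apply, hswap, swap_apply_of_ne_of_ne d1 d2, h.t_eq, swap_apply_left]
    by_contra hcon
    simp only [not_or] at hcon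
    obtain ⟨c1, c2, c3, c4⟩ := hcon
    have hfix : u (x a) = x a := by
      rw [hu, Perm.mul_apply, hswap, swap_apply_of_ne_of_ne c3 c4, h.t_eq, swap_apply_of_ne_of_ne c1 c2]
    rw [← Perm.mul_apply, ← (hcomm u humem husign).eq, Perm.mul_apply, hua] at hfix
    exact h.ne (x.injective hfix).symm
  have hxa : x a = a ∨ x a = b := by
    rcases hcases 1 le_rfl (by omega) with e | e | e | e
    · exact Or.inl e
    · exact Or.inr e
    all_goals
      rcases hcases 2 (by omega) (by omega) with e' | e' | e' | e'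
      · exact Or.inl e'
      · exact Or.inr e'
      all_goals
        exfalso
        obtain ⟨d1, d2⟩ := hdist 1 2 (by omega) (by omega) (by omega)
        obtain ⟨d3, d4⟩ := hdist 2 1 (by omega) (by omega) (by omega)
        rw [e] at e'
        first
          | exact d1 e'
          | exact d2 e'
          | exact d4 e'.symm
          | (refine d1 ?_
             have hb : ∀ j : ℕ, (c ^ j) b = invol k c ((c ^ j) a) := fun j => by
               rw [h.b_eq, invol, ← Perm.mul_apply, (Commute.pow_pow (Commute.refl c) j _).eq, Perm.mul_apply]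
             rw [hb, hb] at e'
             exact (invol k c).injective e')
  have hxt : Commute x t := by
    change x * t = t * x
    rw [h.t_eq, Equiv.mul_swap_eq_swap_mul]
    congr 1
    have hz : invol k c b = a := by rw [h.b_eq, ← Perm.mul_apply, h.invol_sq]; rfl
    rcases hxa with e | e <;> rw [hxz, e]
    · rw [← h.b_eq]
    · rw [hz, swap_comm]
  refine h.central_mem x ?_ hxt
  have h1 := hcomm (c * t) (W.mul_mem h.c_mem h.t_mem) (by rw [map_mul, h.sign_c, h.sign_t]; decide)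
  have h2 := h1.mul_right hxt
  rwa [mul_assoc, h.t_sq, mul_one] at h2

end Blk

/-! ### The even part of a product of blocks -/

section Product

variable {ι : Type*} [Fintype ι] [DecidableEq ι] {β : ι → Type*} [∀ i, Fintype (β i)] [∀ i, DecidableEq (β i)]

/-- The elements of the product of the `W i` whose total sign is even. -/
def even (W : ∀ i, Subgroup (Perm (β i))) : Subgroup (∀ i, Perm (β i)) where
  carrier := {x | (∀ i, x i ∈ W i) ∧ ∏ i, sign (x i) = 1}
  mul_mem' := by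
    rintro x y ⟨hx, hx'⟩ ⟨hy, hy'⟩
    refine ⟨fun i => (W i).mul_mem (hx i) (hy i), ?_⟩
    simp only [Pi.mul_apply, map_mul, Finset.prod_mul_distrib, hx', hy', mul_one]
  one_mem' := ⟨fun i => (W i).one_mem, by simp⟩
  inv_mem' := by
    rintro x ⟨hx, hx'⟩
    refine ⟨fun i => (W i).inv_mem (hx i), ?_⟩
    simp [hx']

/-- Decomposable into two nontrivial direct factors. -/
def Decomp {G : Type*} [Group G] (P : Subgroup G) : Prop :=
  ∃ S₁ S₂ : Subgroup G, S₁ ≠ ⊥ ∧ S₂ ≠ ⊥ ∧ Cfsg.IsInternalDirectProduct S₁ S₂ P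

theorem Decomp.map_iff {G H : Type*} [Group G] [Group H] (f : G →* H) (hf : Function.Injective f)
    (P : Subgroup G) : Decomp (P.map f) ↔ Decomp P := by
  constructor
  · rintro ⟨S₁, S₂, h1, h2, hle1, hle2, hc, hinf, hsup⟩
    have e1 : (S₁.comap f).map f = S₁ := Subgroup.map_comap_eq_self (hle1.trans (Subgroup.map_le_range f P))
    have e2 : (S₂.comap f).map f = S₂ := Subgroup.map_comap_eq_self (hle2.trans (Subgroup.map_le_range f P))
    refine ⟨S₁.comap f, S₂.comap f, fun e => h1 (by rw [← e1, e, Subgroup.map_bot]),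
      fun e => h2 (by rw [← e2, e, Subgroup.map_bot]), ?_, ?_, ?_, ?_, ?_⟩
    · rw [← Subgroup.comap_map_eq_self_of_injective hf P]; exact Subgroup.comap_mono hle1
    · rw [← Subgroup.comap_map_eq_self_of_injective hf P]; exact Subgroup.comap_mono hle2
    · intro x hx y hy
      apply hf
      rw [map_mul, map_mul]
      exact hc _ hx _ hy
    · rw [← Subgroup.comap_inf, hinf]
      exact (MonoidHom.comap_bot f).trans ((MonoidHom.ker_eq_bot_iff f).2 hf)
    · refine Subgroup.map_injective hf ?_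
      rw [Subgroup.map_sup, e1, e2, hsup]
  · rintro ⟨S₁, S₂, h1, h2, hle1, hle2, hc, hinf, hsup⟩
    refine ⟨S₁.map f, S₂.map f, ?_, ?_, Subgroup.map_mono hle1, Subgroup.map_mono hle2, ?_, ?_, ?_⟩
    · exact fun e => h1 ((Subgroup.map_eq_bot_iff_of_injective _ hf).1 e)
    · exact fun e => h2 ((Subgroup.map_eq_bot_iff_of_injective _ hf).1 e)
    · rintro _ ⟨x, hx, rfl⟩ _ ⟨y, hy, rfl⟩
      rw [← map_mul, ← map_mul, hc x hx y hy]
    · rw [← Subgroup.map_inf _ _ f hf, hinf, Subgroup.map_bot]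
    · rw [← Subgroup.map_sup, hsup]

theorem exists_mul_of_direct {G : Type*} [Group G] {A B P : Subgroup G}
    (h : Cfsg.IsInternalDirectProduct A B P) {g : G} (hg : g ∈ P) : ∃ a ∈ A, ∃ b ∈ B, g = a * b := by
  obtain ⟨-, -, hc, -, hsup⟩ := h
  rw [← hsup] at hg
  have hn : A ≤ Subgroup.normalizer (B : Set G) := by
    intro a ha
    rw [Subgroup.mem_normalizer_iff]
    intro y
    constructor
    · intro hy
      rwa [hc a ha y hy, mul_inv_cancel_right]
    · intro hy
      have h1 := hc a ha _ hy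
      rw [← mul_assoc, mul_assoc (a * y), inv_mul_cancel, mul_one, mul_assoc] at h1
      rwa [mul_left_cancel h1] at hy
  rw [← SetLike.mem_coe, Subgroup.coe_mul_of_left_le_normalizer_right _ _ hn] at hg
  obtain ⟨a, ha, b, hb, rfl⟩ := Set.mem_mul.1 hg
  exact ⟨a, ha, b, hb, rfl⟩

variable {k : ι → ℕ} {W : ∀ i, Subgroup (Perm (β i))}

theorem single_mem (i : ι) {w : Perm (β i)} (hw : w ∈ W i) (hs : sign w = 1) :
    Pi.mulSingle i w ∈ even W := by
  refine ⟨fun l => ?_, ?_⟩
  · rcases eq_or_ne l i with rfl | hl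
    · rwa [Pi.mulSingle_eq_same]
    · rw [Pi.mulSingle_eq_of_ne hl]; exact one_mem _
  · rw [Fintype.prod_eq_single i fun l hl => by rw [Pi.mulSingle_eq_of_ne hl, map_one], Pi.mulSingle_eq_same, hs]

theorem pair_mem {i j : ι} (hij : i ≠ j) {w : Perm (β i)} (hw : w ∈ W i) {v : Perm (β j)} (hv : v ∈ W j)
    (hs : sign w * sign v = 1) : Pi.mulSingle i w * Pi.mulSingle j v ∈ even W := by
  refine ⟨fun l => ?_, ?_⟩
  · rw [Pi.mul_apply]
    refine mul_mem ?_ ?_
    · rcases eq_or_ne l i with rfl | hl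
      · rwa [Pi.mulSingle_eq_same]
      · rw [Pi.mulSingle_eq_of_ne hl]; exact one_mem _
    · rcases eq_or_ne l j with rfl | hl
      · rwa [Pi.mulSingle_eq_same]
      · rw [Pi.mulSingle_eq_of_ne hl]; exact one_mem _
  · simp only [Pi.mul_apply, map_mul, Finset.prod_mul_distrib]
    rw [Fintype.prod_eq_single i fun l hl => by rw [Pi.mulSingle_eq_of_ne hl, map_one],
      Fintype.prod_eq_single j fun l hl => by rw [Pi.mulSingle_eq_of_ne hl, map_one],
      Pi.mulSingle_eq_same, Pi.mulSingle_eq_same, hs]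

/-- The hypotheses on a family of blocks. -/
structure System (k : ι → ℕ) (W : ∀ i, Subgroup (Perm (β i)))
    (c t : ∀ i, Perm (β i)) : Prop where
  inj : Function.Injective k
  isp : ∀ i, IsPGroup 2 (W i)
  triv : ∀ i, k i = 0 → ∀ w ∈ W i, w = 1
  small : ∀ i, k i = 1 → ∀ w ∈ W i, w = 1 ∨ w = t i
  blk : ∀ i, 1 ≤ k i → ∃ a b, Blk (k i) (W i) (c i) (t i) a b

variable {c t : ∀ i, Perm (β i)}

omit [DecidableEq ι] in
theorem System.z_sq (S : System k W c t) (i : ι) (hi : 1 ≤ k i) :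
    Blk.invol (k i) (c i) * Blk.invol (k i) (c i) = 1 := by
  obtain ⟨a, b, h⟩ := S.blk i hi; exact h.invol_sq

/-- A family with at least two non-trivial blocks is indecomposable unless it has both a small
block and two big ones. -/
theorem System.not_decomp_multi (S : System k W c t)
    (hm : ∀ i, ∃ j, j ≠ i ∧ 1 ≤ k j)
    (hsmall : (∀ i, k i ≠ 1) ∨ ∀ i j, 2 ≤ k i → 2 ≤ k j → i = j) : ¬ Decomp (even W) := by
  rintro ⟨A, B, hA, hB, hdir⟩
  have hproj : ∀ i, ∀ w ∈ W i, ∃ g ∈ even W, g i = w := by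
    intro i w hw
    rcases Int.units_eq_one_or (sign w) with hs | hs
    · exact ⟨_, single_mem i hw hs, by rw [Pi.mulSingle_eq_same]⟩
    · obtain ⟨j, hji, hj⟩ := hm i
      obtain ⟨a, b, h⟩ := S.blk j hj
      refine ⟨_, pair_mem hji.symm hw h.t_mem (by rw [hs, h.sign_t]; decide), ?_⟩
      rw [Pi.mul_apply, Pi.mulSingle_eq_same, Pi.mulSingle_eq_of_ne hji.symm, mul_one]
  have hfac : ∀ i, 2 ≤ k i →
      (∀ x ∈ A, x i = 1 ∨ x i = Blk.invol (k i) (c i)) ∨ (∀ y ∈ B, y i = 1 ∨ y i = Blk.invol (k i) (c i)) := by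
    intro i hi
    obtain ⟨a, b, h⟩ := S.blk i (by omega)
    have := h.central_factor (A.map (Pi.evalMonoidHom _ i)) (B.map (Pi.evalMonoidHom _ i))
      (by rintro _ ⟨x, hx, rfl⟩ _ ⟨y, hy, rfl⟩; exact congrFun (hdir.2.2.1 x hx y hy) i)
      (by
        obtain ⟨g, hg, hgi⟩ := hproj i _ h.c_mem
        obtain ⟨x, hx, y, hy, rfl⟩ := exists_mul_of_direct hdir hg
        exact ⟨_, ⟨x, hx, rfl⟩, _, ⟨y, hy, rfl⟩, hgi.symm⟩)
      (by
        obtain ⟨g, hg, hgi⟩ := hproj i _ h.t_mem
        obtain ⟨x, hx, y, hy, rfl⟩ := exists_mul_of_direct hdir hg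
        exact ⟨_, ⟨x, hx, rfl⟩, _, ⟨y, hy, rfl⟩, hgi.symm⟩)
    exact this.imp (fun H x hx => H _ ⟨x, hx, rfl⟩) (fun H x hx => H _ ⟨x, hx, rfl⟩)
  have hevenz : ∀ i, 2 ≤ k i → ∀ w : Perm (β i), (w = 1 ∨ w = Blk.invol (k i) (c i)) → sign w = 1 := by
    rintro i hi w (rfl | rfl)
    · exact map_one _
    · obtain ⟨a, b, h⟩ := S.blk i (by omega); exact h.sign_invol hi
  have key : ∀ (A B : Subgroup (∀ i, Perm (β i))), Cfsg.IsInternalDirectProduct A B (even W) →
      (∀ i, 2 ≤ k i → ∀ y ∈ B, y i = 1 ∨ y i = Blk.invol (k i) (c i)) → B = ⊥ := by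
    intro A B hdir hcen
    have hsq : ∀ y ∈ B, y * y = 1 := by
      intro y hy
      funext i
      obtain ⟨hyW, -⟩ := hdir.2.1 hy
      rcases Nat.lt_or_ge (k i) 2 with hi | hi
      · rcases Nat.eq_zero_or_pos (k i) with hi0 | hi0
        · simp [S.triv i hi0 _ (hyW i)]
        · obtain ⟨a, b, h⟩ := S.blk i hi0
          rcases S.small i (by omega) _ (hyW i) with e | e
          · simp [e]
          · rw [Pi.mul_apply, e, h.t_sq]; rfl
      · rcases hcen i hi y hy with e | e
        · simp [e]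
        · rw [Pi.mul_apply, e, S.z_sq i (by omega)]; rfl
    have hsquare : ∀ g ∈ even W, g * g ∈ A := by
      intro g hg
      obtain ⟨x, hx, y, hy, rfl⟩ := exists_mul_of_direct hdir hg
      have hxy : Commute x y := hdir.2.2.1 x hx y hy
      rw [← pow_two, hxy.mul_pow, pow_two, pow_two, hsq y hy, mul_one]
      exact A.mul_mem hx hx
    have hz : ∀ i, 2 ≤ k i → Pi.mulSingle i (Blk.invol (k i) (c i)) ∈ A := by
      intro i hi
      obtain ⟨a, b, h⟩ := S.blk i (by omega)
      rcases Nat.lt_or_ge (k i) 3 with hi3 | hi3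
      · obtain ⟨j, hji, hj⟩ := hm i
        obtain ⟨a', b', h'⟩ := S.blk j hj
        have := hsquare _ (pair_mem hji.symm (Subgroup.pow_mem _ h.c_mem (2 ^ (k i - 2))) h'.t_mem (by
          rw [map_pow, h.sign_c, h'.sign_t, show k i - 2 = 0 by omega]; decide))
        have hcm : Commute (Pi.mulSingle (M := fun l => Perm (β l)) i (c i ^ 2 ^ (k i - 2))) (Pi.mulSingle j (t j)) :=
          Pi.mulSingle_commute (f := fun l => Perm (β l)) hji.symm _ _
        rw [← pow_two, hcm.mul_pow, pow_two, pow_two, ← Pi.mulSingle_mul, ← Pi.mulSingle_mul,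
          h.invol_sq_root hi, h'.t_sq, Pi.mulSingle_one, mul_one] at this
        exact this
      · have := hsquare _ (single_mem i (Subgroup.pow_mem _ h.c_mem (2 ^ (k i - 2))) (by
          rw [map_pow, h.sign_c]
          exact (Nat.even_pow.2 ⟨even_two, by omega⟩).neg_one_pow))
        rwa [← Pi.mulSingle_mul, h.invol_sq_root hi] at this
    rw [Subgroup.eq_bot_iff_forall]
    intro y hy
    obtain ⟨hyW, hys⟩ := hdir.2.1 hy
    have hysmall : ∀ i, k i = 1 → y i = 1 := by
      intro i hi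
      have h1 : sign (y i) = 1 := by
        rwa [Fintype.prod_eq_single i (fun l hl => ?_)] at hys
        rcases Nat.lt_or_ge (k l) 2 with hl2 | hl2
        · have : k l = 0 := by
            have : k l ≠ 1 := fun e => hl (S.inj (e.trans hi.symm))
            omega
          rw [S.triv l this _ (hyW l), map_one]
        · exact hevenz l hl2 _ (hcen l hl2 y hy)
      rcases S.small i hi _ (hyW i) with e | e
      · exact e
      · obtain ⟨a, b, h⟩ := S.blk i (by omega)
        rw [e, h.sign_t] at h1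
        exact absurd h1 (by decide)
    have hyA : y ∈ A := by
      refine Subgroup.pi_mem_of_mulSingle_mem y fun i => ?_
      have h1 : Pi.mulSingle i (1 : Perm (β i)) ∈ A := by rw [Pi.mulSingle_one]; exact one_mem _
      rcases Nat.lt_or_ge (k i) 2 with hi | hi
      · have : y i = 1 := by
          rcases Nat.eq_zero_or_pos (k i) with h0 | h0
          · exact S.triv i h0 _ (hyW i)
          · exact hysmall i (by omega)
        rwa [this]
      · rcases hcen i hi y hy with e | e <;> rw [e]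
        · exact h1
        · exact hz i hi
    exact Subgroup.mem_bot.1 (by rw [← hdir.2.2.2.1]; exact ⟨hyA, hy⟩)
  by_cases hAc : ∀ i, 2 ≤ k i → ∀ x ∈ A, x i = 1 ∨ x i = Blk.invol (k i) (c i)
  · refine hA (key B A ?_ hAc)
    obtain ⟨h1, h2, h3, h4, h5⟩ := hdir
    exact ⟨h2, h1, fun x hx y hy => (h3 y hy x hx).symm, by rw [inf_comm, h4], by rw [sup_comm, h5]⟩
  by_cases hBc : ∀ i, 2 ≤ k i → ∀ x ∈ B, x i = 1 ∨ x i = Blk.invol (k i) (c i)
  · exact hB (key A B hdir hBc)
  push Not at hAc hBc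
  obtain ⟨i, hi, x0, hx0, hxi⟩ := hAc
  obtain ⟨j, hj, y0, hy0, hyj⟩ := hBc
  have hBi := (hfac i hi).resolve_left (fun H => hxi.2 ((H x0 hx0).resolve_left hxi.1))
  have hAj := (hfac j hj).resolve_right (fun H => hyj.2 ((H y0 hy0).resolve_left hyj.1))
  have hij : i ≠ j := by
    rintro rfl
    exact hxi.2 ((hAj x0 hx0).resolve_left hxi.1)
  have hno1 : ∀ l, k l ≠ 1 := hsmall.resolve_right (fun H => hij (H i j hi hj))
  obtain ⟨a1, b1, h1⟩ := S.blk i (by omega)
  obtain ⟨a2, b2, h2⟩ := S.blk j (by omega)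
  have hg : Pi.mulSingle i (c i) * Pi.mulSingle j (c j) ∈ even W :=
    pair_mem hij h1.c_mem h2.c_mem (by rw [h1.sign_c, h2.sign_c]; decide)
  obtain ⟨x, hx, y, hy, hxy⟩ := exists_mul_of_direct hdir hg
  have hxy' : ∀ l, Pi.mulSingle (M := fun l => Perm (β l)) i (c i) l * Pi.mulSingle (M := fun l => Perm (β l)) j (c j) l = x l * y l :=
    fun l => congrFun hxy l
  obtain ⟨hxW, hxs⟩ := hdir.1 hx
  rw [Fintype.prod_eq_single i (fun l hl => ?_)] at hxs
  · have := congrArg sign (hxy' i)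
    rw [Pi.mulSingle_eq_same, Pi.mulSingle_eq_of_ne hij, mul_one, h1.sign_c, map_mul,
      hevenz i hi _ (hBi y hy), mul_one, hxs] at this
    exact absurd this (by decide)
  · rcases Nat.lt_or_ge (k l) 2 with hl2 | hl2
    · rw [S.triv l (by have := hno1 l; omega) _ (hxW l), map_one]
    · rcases eq_or_ne l j with rfl | hlj
      · exact hevenz l hl2 _ (hAj x hx)
      · rcases hfac l hl2 with H | H
        · exact hevenz l hl2 _ (H x hx)
        · have := congrArg sign (hxy' l)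
          rw [Pi.mulSingle_eq_of_ne hl, Pi.mulSingle_eq_of_ne hlj, mul_one, map_one, map_mul,
            hevenz l hl2 _ (H y hy), mul_one] at this
          exact this.symm

/-- A single block of exponent at least three is indecomposable. -/
theorem System.not_decomp_single (S : System k W c t) (i : ι) (hi : 3 ≤ k i)
    (hone : ∀ j, j ≠ i → k j = 0) : ¬ Decomp (even W) := by
  rintro ⟨A, B, hA, hB, hdir⟩
  obtain ⟨a, b, h⟩ := S.blk i (by omega)
  have heq : ∀ g ∈ even W, g = Pi.mulSingle i (g i) ∧ sign (g i) = 1 := by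
    rintro g ⟨hgW, hgs⟩
    have h1 : ∀ j, j ≠ i → g j = 1 := fun j hj => S.triv j (hone j hj) _ (hgW j)
    refine ⟨funext fun j => ?_, ?_⟩
    · rcases eq_or_ne j i with rfl | hj
      · rw [Pi.mulSingle_eq_same]
      · rw [Pi.mulSingle_eq_of_ne hj, h1 j hj]
    · rwa [Fintype.prod_eq_single i (fun j hj => by rw [h1 j hj, map_one])] at hgs
  have hP : IsPGroup 2 (even W) := by
    rintro ⟨g, hg⟩
    obtain ⟨m, hm⟩ := S.isp i ⟨g i, hg.1 i⟩
    refine ⟨m, Subtype.ext ?_⟩
    change g ^ 2 ^ m = 1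
    have h2 : (g i) ^ 2 ^ m = 1 := congrArg Subtype.val hm
    rw [(heq g hg).1]
    funext j
    rcases eq_or_ne j i with rfl | hj
    · rw [Pi.pow_apply, Pi.mulSingle_eq_same, h2]; rfl
    · rw [Pi.pow_apply, Pi.mulSingle_eq_of_ne hj, one_pow]; rfl
  have key : ∀ (A B : Subgroup (∀ i, Perm (β i))), A ≠ ⊥ → Cfsg.IsInternalDirectProduct A B (even W) →
      Pi.mulSingle i (Blk.invol (k i) (c i)) ∈ A := by
    intro A B hA hdir
    haveI : Nontrivial A := (Subgroup.nontrivial_iff_ne_bot A).2 hA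
    haveI := (hP.to_le hdir.1).center_nontrivial
    obtain ⟨⟨⟨x, hx⟩, hxc⟩, hx1⟩ := exists_ne (1 : Subgroup.center A)
    have hcomm : ∀ g ∈ even W, Commute x g := by
      intro g hg
      obtain ⟨u, hu, v, hv, rfl⟩ := exists_mul_of_direct hdir hg
      exact (show Commute x u from (congrArg Subtype.val (Subgroup.mem_center_iff.1 hxc ⟨u, hu⟩)).symm).mul_right
        (hdir.2.2.1 x hx v hv)
    obtain ⟨hxi, -⟩ := heq x (hdir.1 hx)
    have := h.central_even hi (x i) ((hdir.1 hx).1 i) (fun w hw hs => by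
      have := congrFun (hcomm _ (single_mem i hw hs)).eq i
      rw [Pi.mul_apply, Pi.mul_apply, Pi.mulSingle_eq_same] at this
      exact this)
    rcases this with e | e
    · have hx1' : x = 1 := by rw [hxi, e, Pi.mulSingle_one]
      exact absurd (Subtype.ext (Subtype.ext hx1')) hx1
    · rwa [← e, ← hxi]
  have hzA := key A B hA hdir
  have hzB := key B A hB ⟨hdir.2.1, hdir.1, fun x hx y hy => (hdir.2.2.1 y hy x hx).symm,
    by rw [inf_comm]; exact hdir.2.2.2.1, by rw [sup_comm]; exact hdir.2.2.2.2⟩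
  have : Pi.mulSingle i (Blk.invol (k i) (c i)) = (1 : ∀ i, Perm (β i)) :=
    Subgroup.mem_bot.1 (by rw [← hdir.2.2.2.1]; exact ⟨hzA, hzB⟩)
  exact h.invol_ne (by simpa using congrFun this i)

/-- A small block together with two big ones gives a decomposition. -/
theorem System.decomp (S : System k W c t) (s i j : ι) (hs : k s = 1) (hi : 2 ≤ k i) (hj : 2 ≤ k j)
    (hij : i ≠ j) : Decomp (even W) := by
  obtain ⟨a, b, h1⟩ := S.blk i (by omega)
  obtain ⟨a2, b2, h2⟩ := S.blk j (by omega)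
  obtain ⟨a3, b3, h3⟩ := S.blk s (by omega)
  have hsi : s ≠ i := by rintro rfl; omega
  have hsj : s ≠ j := by rintro rfl; omega
  let S₁ : Subgroup (∀ l, Perm (β l)) := even W ⊓ Subgroup.pi ({i, s} : Set ι)ᶜ (fun _ => ⊥)
  let S₂ : Subgroup (∀ l, Perm (β l)) := even W ⊓ Subgroup.pi ({i} : Set ι) (fun _ => ⊥)
  have m1 : ∀ x, x ∈ S₁ ↔ x ∈ even W ∧ ∀ l, l ≠ i → l ≠ s → x l = 1 := by
    intro x; simp [S₁, Subgroup.mem_pi]
  have m2 : ∀ x, x ∈ S₂ ↔ x ∈ even W ∧ x i = 1 := by
    intro x; simp [S₂, Subgroup.mem_pi]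
  refine ⟨S₁, S₂, ?_, ?_, inf_le_left, inf_le_left, ?_, ?_, ?_⟩
  · intro e
    have hmem : Pi.mulSingle i (Blk.invol (k i) (c i)) ∈ S₁ :=
      (m1 _).2 ⟨single_mem i h1.invol_mem (h1.sign_invol hi), fun l hl _ => Pi.mulSingle_eq_of_ne hl _⟩
    rw [e, Subgroup.mem_bot, Pi.mulSingle_eq_one_iff] at hmem
    exact h1.invol_ne hmem
  · intro e
    have hmem : Pi.mulSingle j (Blk.invol (k j) (c j)) ∈ S₂ :=
      (m2 _).2 ⟨single_mem j h2.invol_mem (h2.sign_invol hj), Pi.mulSingle_eq_of_ne hij _⟩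
    rw [e, Subgroup.mem_bot, Pi.mulSingle_eq_one_iff] at hmem
    exact h2.invol_ne hmem
  · intro x hx y hy
    rw [m1] at hx
    rw [m2] at hy
    funext l
    rcases eq_or_ne l i with rfl | hli
    · simp [hy.2]
    · rcases eq_or_ne l s with rfl | hls
      · rcases S.small _ hs _ (hx.1.1 l) with e | e <;> rcases S.small _ hs _ (hy.1.1 l) with e' | e' <;>
          simp [e, e']
      · simp [hx.2 l hli hls]
  · rw [Subgroup.eq_bot_iff_forall]
    intro x hx
    obtain ⟨hx1, hx2⟩ := hx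
    replace hx1 := (m1 x).1 hx1
    replace hx2 := (m2 x).1 hx2
    have hne : ∀ l, l ≠ s → x l = 1 := by
      intro l hl
      rcases eq_or_ne l i with rfl | hli
      · exact hx2.2
      · exact hx1.2 l hli hl
    funext l
    rcases eq_or_ne l s with rfl | hl
    · have hsgn := hx1.1.2
      rw [Fintype.prod_eq_single l (fun m hm => by rw [hne m hm, map_one])] at hsgn
      rcases S.small _ hs _ (hx1.1.1 l) with e | e
      · exact e
      · rw [e, h3.sign_t] at hsgn; exact absurd hsgn (by decide)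
    · exact hne l hl
  · refine le_antisymm (sup_le inf_le_left inf_le_left) fun g hg => ?_
    obtain ⟨u, hu, hu'⟩ : ∃ u ∈ W s, sign (g i) * sign u = 1 := by
      rcases Int.units_eq_one_or (sign (g i)) with e | e
      · exact ⟨1, one_mem _, by rw [e, map_one, one_mul]⟩
      · exact ⟨t s, h3.t_mem, by rw [e, h3.sign_t]; decide⟩
    set g1 := Pi.mulSingle (M := fun l => Perm (β l)) i (g i) * Pi.mulSingle (M := fun l => Perm (β l)) s u with hg1
    have hg1e : g1 ∈ even W := pair_mem hsi.symm (hg.1 i) hu hu'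
    have e1 : g1 ∈ S₁ := (m1 _).2 ⟨hg1e, fun l hl hl' => by
      rw [hg1, Pi.mul_apply, Pi.mulSingle_eq_of_ne hl, Pi.mulSingle_eq_of_ne hl', mul_one]⟩
    have e2 : g1⁻¹ * g ∈ S₂ := (m2 _).2 ⟨mul_mem (inv_mem hg1e) hg, by
      rw [Pi.mul_apply, Pi.inv_apply, hg1, Pi.mul_apply, Pi.mulSingle_eq_same, Pi.mulSingle_eq_of_ne hsi.symm,
        mul_one, inv_mul_cancel]⟩
    have := Subgroup.mul_mem_sup e1 e2
    rwa [mul_inv_cancel_left] at this

end Product

end Cfsg.Agent.H52.Blocks
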