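import Mathlib
import Cfsg.Agent.H52.SylowTwoBlocks

/-!
Decomposability of the Sylow 2-subgroups of alternating groups.
-/

set_option autoImplicit false

namespace Cfsg.Agent.H52.Blocks

open Equiv Equiv.Perm

/-- The exponents of the binary expansion. -/
abbrev Bits (n : ℕ) := {i // i ∈ n.bitIndices.toFinset}

theorem sum_bits (n : ℕ) : ∑ i : Bits n, 2 ^ (i : ℕ) = n := by
  rw [Finset.sum_coe_sort n.bitIndices.toFinset (fun i => 2 ^ i), List.sum_toFinset _ Nat.bitIndices_nodup]
  exact Nat.sum_map_two_pow_bitIndices n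

/-- The 2-adic valuation of `n!` is additive over the binary expansion. -/
theorem factorization_factorial_bits (n : ℕ) :
    (Nat.factorial n).factorization 2 =
      ((n.bitIndices).map fun i => (Nat.factorial (2 ^ i)).factorization 2).sum := by
  induction n using Nat.strong_induction_on with
  | _ n ih =>
    rcases Nat.eq_zero_or_pos n with rfl | hn
    · simp
    set m := n / 2 with hm
    have hstep : ∀ i, (Nat.factorial (2 ^ (i + 1))).factorization 2 = 2 ^ i + (Nat.factorial (2 ^ i)).factorization 2 := by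
      intro i
      have := factorization_two_factorial (2 ^ i) 0 (by omega)
      rwa [add_zero, ← pow_succ'] at this
    have hsum : ((m.bitIndices.map (· + 1)).map fun i => (Nat.factorial (2 ^ i)).factorization 2).sum =
        m + (Nat.factorial m).factorization 2 := by
      rw [List.map_map, Function.comp_def]
      simp only [hstep]
      rw [List.sum_map_add, Nat.sum_map_two_pow_bitIndices, ← ih m (by omega)]
    rcases Nat.mod_two_eq_zero_or_one n with h | h
    · rw [show n = 2 * m by omega, Nat.bitIndices_two_mul, hsum]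
      exact factorization_two_factorial m 0 (by omega)
    · rw [show n = 2 * m + 1 by omega, Nat.bitIndices_two_mul_add_one, List.map_cons, List.sum_cons, hsum]
      rw [factorization_two_factorial m 1 le_rfl]
      simp

theorem sum_factorization_bits (n : ℕ) :
    ∑ i : Bits n, (Nat.factorial (2 ^ (i : ℕ))).factorization 2 = (Nat.factorial n).factorization 2 := by
  rw [factorization_factorial_bits, ← List.sum_toFinset _ Nat.bitIndices_nodup]
  exact Finset.sum_coe_sort n.bitIndices.toFinset (fun i => (Nat.factorial (2 ^ i)).factorization 2)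

/-- The blocks fill the whole set. -/
noncomputable def blockEquiv (n : ℕ) : (Σ i : Bits n, Fin (2 ^ (i : ℕ))) ≃ Fin n :=
  Fintype.equivFinOfCardEq (by rw [Fintype.card_sigma]; simpa using sum_bits n)

/-- Products of permutations of the blocks as permutations. -/
noncomputable def blockHom (n : ℕ) : (∀ i : Bits n, Perm (Fin (2 ^ (i : ℕ)))) →* Perm (Fin n) :=
  (blockEquiv n).permCongrHom.toMonoidHom.comp (Perm.sigmaCongrRightHom _)

theorem blockHom_injective (n : ℕ) : Function.Injective (blockHom n) :=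
  (blockEquiv n).permCongrHom.injective.comp Perm.sigmaCongrRightHom_injective

theorem sign_blockHom (n : ℕ) (x : ∀ i : Bits n, Perm (Fin (2 ^ (i : ℕ)))) :
    sign (blockHom n x) = ∏ i, sign (x i) := by
  let f : (∀ i : Bits n, Perm (Fin (2 ^ (i : ℕ)))) →* ℤˣ :=
    { toFun := fun x => ∏ i, sign (x i)
      map_one' := by simp
      map_mul' := fun x y => by simp only [Pi.mul_apply, map_mul, Finset.prod_mul_distrib] }
  suffices h : sign.comp (blockHom n) = f from DFunLike.congr_fun h x
  refine MonoidHom.ext fun y => ?_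
  refine Subgroup.pi_mem_of_mulSingle_mem (H := (sign.comp (blockHom n)).eqLocus f) y fun i => ?_
  change (sign.comp (blockHom n)) (Pi.mulSingle i (y i)) = f (Pi.mulSingle i (y i))
  generalize y i = w
  have hrhs : f (Pi.mulSingle i w) = sign w := by
    change ∏ l, sign (Pi.mulSingle (M := fun l : Bits n => Perm (Fin (2 ^ (l : ℕ)))) i w l) = sign w
    rw [Fintype.prod_eq_single i fun l hl => by rw [Pi.mulSingle_eq_of_ne hl, map_one], Pi.mulSingle_eq_same]
  rw [hrhs]
  induction w using Perm.swap_induction_on with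
  | one => simp
  | swap_mul g a b hab ih =>
    rw [Pi.mulSingle_mul, map_mul, ih (by
      change ∏ l, sign (Pi.mulSingle (M := fun l : Bits n => Perm (Fin (2 ^ (l : ℕ)))) i g l) = sign g
      rw [Fintype.prod_eq_single i fun l hl => by rw [Pi.mulSingle_eq_of_ne hl, map_one], Pi.mulSingle_eq_same]),
      map_mul, sign_swap hab]
    congr 1
    have h1 : blockHom n (Pi.mulSingle i (swap a b)) = swap (blockEquiv n ⟨i, a⟩) (blockEquiv n ⟨i, b⟩) := by
      refine Equiv.ext fun z => ?_
      obtain ⟨⟨j, y⟩, rfl⟩ := (blockEquiv n).surjective z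
      change blockEquiv n ((Perm.sigmaCongrRightHom _ (Pi.mulSingle i (swap a b))) ((blockEquiv n).symm (blockEquiv n ⟨j, y⟩))) = _
      rw [Equiv.symm_apply_apply, (blockEquiv n).injective.swap_apply]
      congr 1
      change (⟨j, Pi.mulSingle (M := fun l : Bits n => Perm (Fin (2 ^ (l : ℕ)))) i (swap a b) j y⟩ : Σ l : Bits n, Fin (2 ^ (l : ℕ))) = _
      rcases eq_or_ne j i with rfl | hj
      · rw [Pi.mulSingle_eq_same, Equiv.swap_apply_def, Equiv.swap_apply_def]
        split_ifs <;> simp_all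
      · rw [Pi.mulSingle_eq_of_ne hj, Equiv.swap_apply_of_ne_of_ne]
        · rfl
        · exact fun h => hj (congrArg Sigma.fst h)
        · exact fun h => hj (congrArg Sigma.fst h)
    rw [MonoidHom.comp_apply, h1, sign_swap]
    exact (blockEquiv n).injective.ne (fun h => hab (by simpa using h))

/-- A Sylow 2-subgroup on each block. -/
noncomputable def blockW (n : ℕ) (i : Bits n) : Sylow 2 (Perm (Fin (2 ^ (i : ℕ)))) :=
  Classical.arbitrary _

theorem exists_blockSylow (n : ℕ) : ∃ P : Sylow 2 (Perm (Fin n)), (P : Subgroup (Perm (Fin n))) =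
    (Subgroup.pi Set.univ fun i : Bits n => (blockW n i : Subgroup (Perm (Fin (2 ^ (i : ℕ)))))).map (blockHom n) := by
  refine ⟨Sylow.ofCard _ ?_, Sylow.coe_ofCard _ _⟩
  rw [Subgroup.card_map_of_injective (blockHom_injective n)]
  have e : Nat.card (Subgroup.pi Set.univ fun i : Bits n => (blockW n i : Subgroup (Perm (Fin (2 ^ (i : ℕ)))))) =
      Nat.card (∀ i : Bits n, (blockW n i : Subgroup (Perm (Fin (2 ^ (i : ℕ)))))) :=
    Nat.card_congr
      { toFun := fun x i => ⟨x.1 i, x.2 i (Set.mem_univ i)⟩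
        invFun := fun x => ⟨fun i => (x i).1, fun i _ => (x i).2⟩
        left_inv := fun _ => rfl
        right_inv := fun _ => rfl }
  rw [e, Nat.card_pi, Nat.card_perm, Nat.card_fin]
  simp only [Sylow.card_eq_multiplicity, Nat.card_perm, Nat.card_fin]
  rw [Finset.prod_pow_eq_pow_sum, sum_factorization_bits]

theorem exists_altBlockSylow (n : ℕ) (hn : 2 ≤ n) : ∃ S : Sylow 2 (alternatingGroup (Fin n)),
    (S : Subgroup (alternatingGroup (Fin n))).map (alternatingGroup (Fin n)).subtype =
      (even fun i : Bits n => (blockW n i : Subgroup (Perm (Fin (2 ^ (i : ℕ)))))).map (blockHom n) := by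
  obtain ⟨P, hP⟩ := exists_blockSylow n
  haveI : Nontrivial (Fin n) := Fin.nontrivial_iff_two_le.2 hn
  obtain ⟨a, b, hab⟩ := exists_pair_ne (Fin n)
  obtain ⟨W1, hW1⟩ := (IsPGroup.of_card (p := 2) (n := 1) (by
    rw [Nat.card_zpowers, pow_one, Perm.IsSwap.orderOf ⟨a, b, hab, rfl⟩]) :
    IsPGroup 2 (Subgroup.zpowers (swap a b))).exists_le_sylow
  obtain ⟨g, hg⟩ := MulAction.exists_smul_eq (Perm (Fin n)) W1 P
  have ht : g * swap a b * g⁻¹ ∈ P := by
    change g * swap a b * g⁻¹ ∈ (P : Subgroup (Perm (Fin n)))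
    rw [← hg]
    exact Subgroup.smul_mem_pointwise_smul (swap a b) (MulAut.conj g) _ (hW1 (Subgroup.mem_zpowers _))
  obtain ⟨S, hS⟩ := exists_altSylow P ht (by
    rw [mem_alternatingGroup, map_mul, map_mul, mul_right_comm, ← map_mul, mul_inv_cancel, map_one, one_mul,
      sign_swap hab]
    decide)
  refine ⟨S, ?_⟩
  rw [hS, Subgroup.subgroupOf_map_subtype, hP]
  ext x
  simp only [Subgroup.mem_inf, Subgroup.mem_map]
  constructor
  · rintro ⟨⟨y, hy, rfl⟩, hx⟩
    rw [mem_alternatingGroup, sign_blockHom] at hx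
    exact ⟨y, ⟨fun i => hy i (Set.mem_univ i), hx⟩, rfl⟩
  · rintro ⟨y, ⟨hy, hy'⟩, rfl⟩
    exact ⟨⟨y, fun i _ => hy i, rfl⟩, by rw [mem_alternatingGroup, sign_blockHom, hy']⟩

theorem decomp_congr {G : Type*} [Group G] [Finite G] (P Q : Sylow 2 G) :
    Decomp (P : Subgroup G) ↔ Decomp (Q : Subgroup G) := by
  obtain ⟨g, hg⟩ := MulAction.exists_smul_eq G P Q
  have e : (Q : Subgroup G) = (P : Subgroup G).map (MulAut.conj g).toMonoidHom := by rw [← hg]; rfl
  rw [e]
  exact (Decomp.map_iff _ (MulAut.conj g).injective _).symm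

theorem exists_system (n : ℕ) : ∃ c t : ∀ i : Bits n, Perm (Fin (2 ^ (i : ℕ))),
    System (fun i : Bits n => (i : ℕ)) (fun i : Bits n => (blockW n i : Subgroup (Perm (Fin (2 ^ (i : ℕ)))))) c t := by
  classical
  have h : ∀ i : Bits n, ∃ c t : Perm (Fin (2 ^ (i : ℕ))), 1 ≤ (i : ℕ) →
      ∃ a b, Blk (i : ℕ) (blockW n i : Subgroup (Perm (Fin (2 ^ (i : ℕ))))) c t a b := by
    intro i
    by_cases hi : 1 ≤ (i : ℕ)
    · obtain ⟨c, t, h⟩ := Blk.exists_blk hi (Fintype.card_fin _) (blockW n i)
      exact ⟨c, t, fun _ => h⟩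
    · exact ⟨1, 1, fun h => absurd h hi⟩
  choose c t h using h
  refine ⟨c, t, ⟨Subtype.val_injective, fun i : Bits n => (blockW n i).2, ?_, ?_, h⟩⟩
  · intro i hi w _
    haveI : Subsingleton (Fin (2 ^ (i : ℕ))) := Fintype.card_le_one_iff_subsingleton.1 (by rw [Fintype.card_fin, hi]; simp)
    exact Subsingleton.elim _ _
  · intro i hi w _
    obtain ⟨a, b, hb⟩ := h i (le_of_eq hi.symm)
    rw [hb.t_eq]
    have hcard : Fintype.card (Perm (Fin (2 ^ (i : ℕ)))) = 2 := by
      rw [Fintype.card_perm, Fintype.card_fin, hi]; rfl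
    obtain ⟨p, q, hpq, hall⟩ := (Nat.card_eq_two_iff).1 (by rw [Nat.card_eq_fintype_card, hcard] : Nat.card (Perm (Fin (2 ^ (i : ℕ)))) = 2)
    have hne : swap a b ≠ (1 : Perm (Fin (2 ^ (i : ℕ)))) := fun e => hb.ne (by simpa using DFunLike.congr_fun e b)
    have mem : ∀ z, z = p ∨ z = q := fun z => by
      have := Set.ext_iff.1 hall z
      simpa using this
    rcases mem w with e | e <;> rcases mem 1 with e1 | e1 <;> rcases mem (swap a b) with e2 | e2
    all_goals first
      | exact Or.inl (e.trans e1.symm)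
      | exact Or.inr (e.trans e2.symm)
      | exact absurd (e2.trans e1.symm) hne

theorem klein_decomp {G : Type*} [Group G] [Finite G] (P : Subgroup G) (hcard : Nat.card P = 4)
    (hexp : ∀ g ∈ P, g * g = 1) : Decomp P := by
  have hcomm : ∀ x ∈ P, ∀ y ∈ P, x * y = y * x := by
    intro x hx y hy
    have hinv : ∀ g ∈ P, g⁻¹ = g := fun g hg => inv_eq_of_mul_eq_one_left (hexp g hg)
    rw [← hinv _ (P.mul_mem hx hy), mul_inv_rev, hinv x hx, hinv y hy]
  have hord : ∀ g ∈ P, g ≠ 1 → Nat.card (Subgroup.zpowers g) = 2 := fun g hg h1 => by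
    rw [Nat.card_zpowers]; exact orderOf_eq_prime (by rw [pow_two]; exact hexp g hg) h1
  haveI : Nontrivial P := Finite.one_lt_card_iff_nontrivial.1 (by omega)
  obtain ⟨⟨x, hx⟩, hx1⟩ := exists_ne (1 : P)
  have hx1' : x ≠ 1 := fun h => hx1 (Subtype.ext h)
  obtain ⟨y, hy, hyx⟩ : ∃ y ∈ P, y ∉ Subgroup.zpowers x := by
    by_contra hcon
    push Not at hcon
    have := Subgroup.card_le_of_le hcon
    rw [hord x hx hx1', hcard] at this
    omega
  have hy1 : y ≠ 1 := fun h => hyx (h ▸ one_mem _)
  haveI : Fact (Nat.card (Subgroup.zpowers y)).Prime := ⟨by rw [hord y hy hy1]; exact Nat.prime_two⟩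
  refine ⟨Subgroup.zpowers x, Subgroup.zpowers y, by simpa using hx1', by simpa using hy1,
    Subgroup.zpowers_le.2 hx, Subgroup.zpowers_le.2 hy,
    fun a ha b hb => hcomm a (Subgroup.zpowers_le.2 hx ha) b (Subgroup.zpowers_le.2 hy hb), ?_, ?_⟩
  · rcases Subgroup.eq_bot_or_eq_top_of_prime_card ((Subgroup.zpowers x).subgroupOf (Subgroup.zpowers y)) with h | h
    · rw [Subgroup.subgroupOf_eq_bot] at h
      exact disjoint_iff.1 h
    · rw [Subgroup.subgroupOf_eq_top] at h
      exact absurd (h (Subgroup.mem_zpowers y)) hyx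
  · have hle : Subgroup.zpowers x ⊔ Subgroup.zpowers y ≤ P :=
      sup_le (Subgroup.zpowers_le.2 hx) (Subgroup.zpowers_le.2 hy)
    refine Subgroup.eq_of_le_of_card_ge hle ?_
    have h1 := Subgroup.card_dvd_of_le hle
    have h2 := Subgroup.card_dvd_of_le (le_sup_left : Subgroup.zpowers x ≤ Subgroup.zpowers x ⊔ Subgroup.zpowers y)
    rw [hord x hx hx1'] at h2
    rw [hcard] at h1 ⊢
    have h3 : Nat.card (Subgroup.zpowers x ⊔ Subgroup.zpowers y : Subgroup G) ≠ 2 := by
      intro h
      have := Subgroup.eq_of_le_of_card_ge (le_sup_left : Subgroup.zpowers x ≤ Subgroup.zpowers x ⊔ Subgroup.zpowers y)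
        (by rw [h, hord x hx hx1'])
      exact hyx (this ▸ Subgroup.mem_sup_right (Subgroup.mem_zpowers y))
    obtain ⟨j, hj2, hj⟩ := (Nat.dvd_prime_pow Nat.prime_two (m := 2)).1 h1
    interval_cases j <;> omega

theorem perm_five_sq : ∀ g : Perm (Fin 5), sign g = 1 → g ^ 4 = 1 → g * g = 1 := by decide +kernel

theorem perm_four_sq : ∀ g : Perm (Fin 4), sign g = 1 → g ^ 4 = 1 → g * g = 1 := by decide +kernel

theorem decomp_four_five (n : ℕ) (hn : n = 4 ∨ n = 5) (P : Sylow 2 (alternatingGroup (Fin n))) :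
    Decomp (P : Subgroup (alternatingGroup (Fin n))) := by
  haveI : Nontrivial (Fin n) := Fin.nontrivial_iff_two_le.2 (by omega)
  have hA : Nat.card (alternatingGroup (Fin n)) = n.factorial / 2 := by
    have := two_mul_nat_card_alternatingGroup (α := Fin n)
    rw [Nat.card_perm, Nat.card_fin] at this
    omega
  have hcard : Nat.card (P : Subgroup (alternatingGroup (Fin n))) = 4 := by
    obtain ⟨m, hm⟩ := P.2.exists_card_eq
    have h1 := (P : Subgroup (alternatingGroup (Fin n))).card_mul_index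
    have h2 := P.not_dvd_index
    rw [hm, hA] at h1
    have hm' : m ≤ 6 := by
      by_contra hcon
      have : 2 ^ 7 ≤ 2 ^ m := Nat.pow_le_pow_right (by norm_num) (by omega)
      have : 2 ^ m ≤ n.factorial / 2 := Nat.le_of_dvd (by rcases hn with rfl | rfl <;> decide) (Dvd.intro _ h1)
      rcases hn with rfl | rfl <;> simp [Nat.factorial] at * <;> omega
    rw [hm]
    rcases hn with rfl | rfl <;> simp only [Nat.factorial] at h1 <;> interval_cases m <;> omega
  refine klein_decomp _ hcard fun g hg => ?_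
  have h4 : g ^ 4 = 1 := by
    have := pow_card_eq_one' (x := (⟨g, hg⟩ : (P : Subgroup (alternatingGroup (Fin n)))))
    rw [hcard] at this
    simpa using congrArg Subtype.val this
  have h4' : (g : Perm (Fin n)) ^ 4 = 1 := by rw [← Subgroup.coe_pow, h4]; rfl
  apply Subtype.ext
  rcases hn with rfl | rfl
  · exact perm_four_sq g g.2 h4'
  · exact perm_five_sq g g.2 h4'

theorem alternating_sylow_two_decomp_iff (n : ℕ) (hn : 4 ≤ n) (P : Sylow 2 (alternatingGroup (Fin n))) :
    Decomp (P : Subgroup (alternatingGroup (Fin n))) ↔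
      (n = 4 ∨ n = 5 ∨ ((n % 4 = 2 ∨ n % 4 = 3) ∧ ∀ r : ℕ, 4 * (n / 4) ≠ 2 ^ r)) := by
  by_cases h45 : n = 4 ∨ n = 5
  · simp only [decomp_four_five n h45 P, true_iff]
    tauto
  rw [not_or] at h45
  obtain ⟨S, hS⟩ := exists_altBlockSylow n (by omega)
  obtain ⟨c, t, hsys⟩ := exists_system n
  rw [decomp_congr P S, ← Decomp.map_iff (alternatingGroup (Fin n)).subtype (Subgroup.subtype_injective _), hS,
    Decomp.map_iff (blockHom n) (blockHom_injective n)]
  have hmem : ∀ i, i ∈ n.bitIndices.toFinset ↔ n.testBit i = true := fun i => by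
    rw [List.mem_toFinset, Nat.mem_bitIndices]
  have h1iff : n.testBit 1 = true ↔ (n % 4 = 2 ∨ n % 4 = 3) := by
    rw [Nat.testBit_eq_decide_div_mod_eq, decide_eq_true_eq]
    norm_num
    omega
  have hshift : ∀ j, (n / 4).testBit j = n.testBit (j + 2) := fun j => by
    rw [show n / 4 = n / 2 ^ 2 by norm_num, Nat.testBit_div_two_pow]
  have hq : n / 4 ≠ 0 := by omega
  obtain ⟨j0, hj0⟩ : ∃ j, n.testBit (j + 2) = true := by
    obtain ⟨j, hj, -⟩ := Nat.exists_most_significant_bit hq
    exact ⟨j, by rw [← hshift, hj]⟩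
  set i0 : Bits n := ⟨j0 + 2, (hmem _).2 hj0⟩
  have htwo : (∀ r : ℕ, 4 * (n / 4) ≠ 2 ^ r) ↔ ∃ i : Bits n, 2 ≤ (i : ℕ) ∧ i ≠ i0 := by
    constructor
    · intro h
      by_contra hcon
      push Not at hcon
      refine h (j0 + 2) ?_
      rw [pow_add, mul_comm, show (2 : ℕ) ^ 2 = 4 by norm_num]
      congr 1
      refine Nat.eq_of_testBit_eq fun j => ?_
      rw [hshift, Nat.testBit_two_pow]
      rcases hb : n.testBit (j + 2) with _ | _
      · refine (decide_eq_false ?_).symm
        rintro rfl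
        rw [hj0] at hb
        exact Bool.noConfusion hb
      · refine (decide_eq_true ?_).symm
        have := hcon ⟨j + 2, (hmem _).2 hb⟩ (by simp)
        have e : j + 2 = j0 + 2 := congrArg Subtype.val this
        omega
    · rintro ⟨⟨i, hi⟩, hi2, hne⟩ r hr
      have key : ∀ j, n.testBit (j + 2) = true → r = j + 2 := by
        intro j hj
        have h2 : (2 ^ r).testBit (j + 2) = true := by
          rw [← hr, show (4 : ℕ) = 2 ^ 2 by norm_num, Nat.testBit_two_pow_mul]
          simp [← hshift] at hj ⊢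
          exact hj
        rw [Nat.testBit_two_pow] at h2
        simpa using h2
      obtain ⟨j, hij⟩ : ∃ j, i = j + 2 := ⟨i - 2, by simp at hi2; omega⟩
      subst hij
      exact hne (Subtype.ext ((key j ((hmem _).1 hi)).symm.trans (key j0 hj0)))
  constructor
  · intro hdec
    right; right
    by_contra hcon
    by_cases hm : ∀ i : Bits n, ∃ j, j ≠ i ∧ 1 ≤ (j : ℕ)
    · refine hsys.not_decomp_multi hm ?_ hdec
      rw [not_and_or] at hcon
      rcases hcon with h | h
      · left
        intro i hi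
        exact h (h1iff.1 ((hmem 1).1 (hi ▸ i.2)))
      · right
        intro i j hi hj
        rw [htwo] at h
        push Not at h
        rw [h i hi, h j hj]
    · push Not at hm
      obtain ⟨i, hi⟩ := hm
      have hone : ∀ j, j ≠ i → (j : ℕ) = 0 := fun j hj => by have := hi j hj; omega
      have hii : i = i0 := by
        by_contra hne
        have h2 : j0 + 2 = 0 := hone i0 (Ne.symm hne)
        omega
      subst hii
      refine hsys.not_decomp_single i0 ?_ hone hdec
      by_contra hlt
      have hj00 : j0 = 0 := by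
        have h2 : ¬ 3 ≤ j0 + 2 := hlt
        omega
      subst hj00
      have hsum := sum_bits n
      rw [← Finset.add_sum_erase _ _ (Finset.mem_univ i0)] at hsum
      have hle : ∑ x ∈ Finset.univ.erase i0, 2 ^ (x : ℕ) ≤ 1 := by
        rw [Finset.sum_congr rfl (fun x hx => by rw [hone x (Finset.ne_of_mem_erase hx), pow_zero]), Finset.sum_const,
          smul_eq_mul, mul_one, Finset.card_le_one]
        intro x hx y hy
        exact Subtype.ext ((hone x (Finset.ne_of_mem_erase hx)).trans (hone y (Finset.ne_of_mem_erase hy)).symm)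
      have hv : 2 ^ ((i0 : Bits n) : ℕ) = 4 := rfl
      omega
  · rintro (h | h | ⟨h1, h2⟩)
    · omega
    · omega
    obtain ⟨i, hi, hne⟩ := htwo.1 h2
    exact hsys.decomp ⟨1, (hmem 1).2 (h1iff.2 h1)⟩ i i0 rfl hi (Nat.le_add_left 2 j0) hne

end Cfsg.Agent.H52.Blocks
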