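import Mathlib

/-!
Fixed points of products of two conjugacy classes of the alternating group.
-/

set_option autoImplicit false
set_option linter.unusedFintypeInType false
set_option linter.unusedDecidableInType false
set_option linter.unusedSectionVars false

namespace Cfsg.Agent.H52.ClassProductFix

open Equiv Finset

variable {α : Type*} [Fintype α] [DecidableEq α]

/-- The points where `b` and a conjugate of `c` agree. -/
def agree (c b g : Perm α) : Finset α := univ.filter fun x => b x = g (c (g⁻¹ x))

theorem agree_card_symm (c b g : Perm α) : #(agree b c g) = #(agree c b g⁻¹) := by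
  refine card_equiv (g⁻¹ : Perm α) fun x => ?_
  simp only [agree, mem_filter, mem_univ, true_and]
  constructor
  · intro h
    simp [h]
  · intro h
    have := congrArg g h
    simpa using this.symm

theorem exists_extend {ι : Type*} {s t : ι → α} (hs : Function.Injective s) (ht : Function.Injective t) :
    ∃ g : Perm α, ∀ i, g (s i) = t i := by
  classical
  refine ⟨Equiv.extendSubtype ((Equiv.ofInjective s hs).symm.trans (Equiv.ofInjective t ht)), fun i => ?_⟩
  refine (Equiv.extendSubtype_apply_of_mem _ _ (Set.mem_range_self i)).trans ?_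
  rw [Equiv.trans_apply]
  simp [Equiv.ofInjective_symm_apply]

theorem exists_even_extend {ι : Type*} [Fintype ι] {s t : ι → α} (hs : Function.Injective s)
    (ht : Function.Injective t) (hcard : Fintype.card ι + 2 ≤ Fintype.card α) :
    ∃ g : Perm α, Perm.sign g = 1 ∧ ∀ i, g (s i) = t i := by
  obtain ⟨g, hg⟩ := exists_extend hs ht
  rcases Int.units_eq_one_or (Perm.sign g) with h | h
  · exact ⟨g, h, hg⟩
  have h2 : 1 < #(univ.image t)ᶜ := by
    have := card_image_le (s := (univ : Finset ι)) (f := t)
    rw [card_compl]
    rw [card_univ] at this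
    omega
  obtain ⟨y, hy, z, hz, hyz⟩ := one_lt_card.1 h2
  refine ⟨Equiv.swap y z * g, by rw [map_mul, Perm.sign_swap hyz, h]; rfl, fun i => ?_⟩
  rw [Perm.mul_apply, hg, swap_apply_of_ne_of_ne]
  · exact fun e => mem_compl.1 hy (mem_image.2 ⟨i, mem_univ i, e⟩)
  · exact fun e => mem_compl.1 hz (mem_image.2 ⟨i, mem_univ i, e⟩)

/-- The even permutations. -/
def evens (α : Type*) [Fintype α] [DecidableEq α] : Finset (Perm α) := univ.filter fun g => Perm.sign g = 1

theorem evens_pos : 0 < #(evens α) := card_pos.2 ⟨1, by simp [evens]⟩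

theorem single_card (hn : 3 ≤ Fintype.card α) (x u : α) :
    Fintype.card α * #((evens α).filter fun g => g⁻¹ x = u) = #(evens α) := by
  have hfib : ∀ u' : α, #((evens α).filter fun g => g⁻¹ x = u') = #((evens α).filter fun g => g⁻¹ x = u) := by
    intro u'
    obtain ⟨h, hh, he⟩ := exists_even_extend (ι := Fin 1) (s := fun _ => u') (t := fun _ => u)
      (fun a b _ => Subsingleton.elim a b) (fun a b _ => Subsingleton.elim a b) (by simp; omega)
    refine card_equiv (Equiv.mulRight h⁻¹) fun g => ?_
    simp only [evens, mem_filter, mem_univ, true_and, Equiv.coe_mulRight, map_mul, map_inv, hh, inv_one,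
      mul_one, mul_inv_rev, inv_inv, Perm.mul_apply]
    exact and_congr_right fun _ => ⟨fun e => by rw [e]; exact he 0, fun e => h.injective (e.trans (he 0).symm)⟩
  have h := card_eq_sum_card_fiberwise (f := fun g : Perm α => g⁻¹ x) (s := evens α) (t := univ)
    (fun g _ => mem_univ _)
  rw [sum_congr rfl fun u' _ => hfib u', sum_const, smul_eq_mul, card_univ] at h
  exact h.symm

theorem pair_card (hn : 4 ≤ Fintype.card α) {x y u v : α} (hxy : x ≠ y) (huv : u ≠ v) :
    (Fintype.card α * Fintype.card α - Fintype.card α) * #((evens α).filter fun g => g⁻¹ x = u ∧ g⁻¹ y = v) =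
      #(evens α) := by
  have hfib : ∀ p ∈ (univ : Finset α).offDiag,
      #((evens α).filter fun g => (g⁻¹ x, g⁻¹ y) = p) = #((evens α).filter fun g => g⁻¹ x = u ∧ g⁻¹ y = v) := by
    rintro ⟨u', v'⟩ hp
    have huv' : u' ≠ v' := (mem_offDiag.1 hp).2.2
    obtain ⟨h, hh, he⟩ := exists_even_extend (s := ![u', v']) (t := ![u, v])
      (by intro a b; fin_cases a <;> fin_cases b <;> simp [huv', huv'.symm])
      (by intro a b; fin_cases a <;> fin_cases b <;> simp [huv, huv.symm]) (by simp; omega)
    have e0 : h u' = u := by simpa using he 0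
    have e1 : h v' = v := by simpa using he 1
    refine card_equiv (Equiv.mulRight h⁻¹) fun g => ?_
    simp only [evens, mem_filter, mem_univ, true_and, Equiv.coe_mulRight, map_mul, map_inv, hh, inv_one,
      mul_one, mul_inv_rev, inv_inv, Perm.mul_apply, Prod.mk.injEq]
    refine and_congr_right fun _ => and_congr ?_ ?_
    · exact ⟨fun e => by rw [e]; exact e0, fun e => h.injective (e.trans e0.symm)⟩
    · exact ⟨fun e => by rw [e]; exact e1, fun e => h.injective (e.trans e1.symm)⟩
  have h := card_eq_sum_card_fiberwise (f := fun g : Perm α => (g⁻¹ x, g⁻¹ y)) (s := evens α)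
    (t := (univ : Finset α).offDiag)
    (fun g _ => mem_offDiag.2 ⟨mem_univ _, mem_univ _, fun e => hxy (g⁻¹.injective e)⟩)
  rw [sum_congr rfl hfib, sum_const, smul_eq_mul, offDiag_card, card_univ] at h
  exact h.symm

/-- The number of fixed points. -/
def nfix (c : Perm α) : ℕ := #(univ.filter fun u => c u = u)

theorem nfix_le {c : Perm α} (hc : c ≠ 1) : nfix c + 2 ≤ Fintype.card α := by
  have h := c.two_le_card_support_of_ne_one hc
  have h2 := card_filter_add_card_filter_not (s := (univ : Finset α)) (fun u => c u = u)
  have h3 : univ.filter (fun u => ¬ c u = u) = c.support := by ext; simp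
  rw [h3, card_univ] at h2
  rw [nfix]
  omega

theorem agree_at_card (hn : 4 ≤ Fintype.card α) (c b : Perm α) (x : α) :
    (Fintype.card α * Fintype.card α - Fintype.card α) * #((evens α).filter fun g => b x = g (c (g⁻¹ x))) =
      if b x = x then (Fintype.card α - 1) * nfix c * #(evens α)
      else (Fintype.card α - nfix c) * #(evens α) := by
  split_ifs with hx
  · have h := card_eq_sum_card_fiberwise (f := fun g : Perm α => g⁻¹ x)
      (s := (evens α).filter fun g => b x = g (c (g⁻¹ x))) (t := univ.filter fun u => c u = u)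
      (fun g hg => by
        simp only [coe_filter, Set.mem_ofPred_eq, mem_univ, true_and] at hg ⊢
        rw [hx] at hg
        exact g.injective (hg.2.symm.trans (by simp)))
    have heq : ∀ u ∈ univ.filter (fun u => c u = u),
        Fintype.card α * #(((evens α).filter fun g => b x = g (c (g⁻¹ x))).filter fun g => g⁻¹ x = u) =
          #(evens α) := by
      intro u hu
      rw [← single_card (by omega) x u, filter_filter]
      congr 2
      refine filter_congr fun g _ => and_iff_right_of_imp fun e => ?_
      rw [e, (mem_filter.1 hu).2, ← e, hx]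
      simp
    rw [h, Finset.mul_sum, show Fintype.card α * Fintype.card α - Fintype.card α =
      (Fintype.card α - 1) * Fintype.card α by rw [Nat.sub_mul, one_mul]]
    rw [sum_congr rfl fun u hu => by rw [mul_assoc, heq u hu], sum_const, smul_eq_mul, nfix]
    ring
  · have h := card_eq_sum_card_fiberwise (f := fun g : Perm α => g⁻¹ x)
      (s := (evens α).filter fun g => b x = g (c (g⁻¹ x))) (t := univ.filter fun u => ¬ c u = u)
      (fun g hg => by
        simp only [coe_filter, Set.mem_ofPred_eq, mem_univ, true_and] at hg ⊢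
        intro e
        rw [e] at hg
        exact hx (hg.2.trans (by simp)))
    have heq : ∀ u ∈ univ.filter (fun u => ¬ c u = u),
        (Fintype.card α * Fintype.card α - Fintype.card α) *
          #(((evens α).filter fun g => b x = g (c (g⁻¹ x))).filter fun g => g⁻¹ x = u) = #(evens α) := by
      intro u hu
      rw [← pair_card hn (x := x) (y := b x) (u := u) (v := c u) (Ne.symm hx) (Ne.symm (mem_filter.1 hu).2),
        filter_filter]
      congr 2
      refine filter_congr fun g _ => ⟨fun e => ⟨e.2, ?_⟩, fun e => ⟨?_, e.1⟩⟩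
      · rw [e.1, e.2]; simp
      · rw [e.1, ← e.2]; simp
    rw [h, Finset.mul_sum, sum_congr rfl heq, sum_const, smul_eq_mul]
    congr 1
    have h2 := card_filter_add_card_filter_not (s := (univ : Finset α)) (fun u => c u = u)
    rw [card_univ] at h2
    rw [nfix]
    omega

/-- The average number of agreements. -/
theorem average (hn : 4 ≤ Fintype.card α) (c b : Perm α) {K : ℕ}
    (hK : ∀ g : Perm α, Perm.sign g = 1 → #(agree c b g) = K) :
    (Fintype.card α * Fintype.card α - Fintype.card α) * K =
      nfix b * ((Fintype.card α - 1) * nfix c) + (Fintype.card α - nfix b) * (Fintype.card α - nfix c) := by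
  refine Nat.eq_of_mul_eq_mul_right (evens_pos (α := α)) ?_
  have h1 : ∑ x : α, #((evens α).filter fun g => b x = g (c (g⁻¹ x))) = K * #(evens α) := by
    simp only [card_filter]
    rw [sum_comm, sum_congr rfl fun g hg => (show _ = K from ?_), sum_const, smul_eq_mul, mul_comm]
    rw [← hK g (mem_filter.1 hg).2, agree, card_filter]
  rw [mul_assoc, ← h1, Finset.mul_sum, sum_congr rfl fun x _ => agree_at_card hn c b x, sum_ite,
    sum_const, sum_const, smul_eq_mul, smul_eq_mul]
  have h2 := card_filter_add_card_filter_not (s := (univ : Finset α)) (fun u => b u = u)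
  rw [card_univ] at h2
  rw [show #(univ.filter fun u => ¬ b u = u) = Fintype.card α - nfix b by rw [nfix]; omega, nfix, nfix]
  ring

theorem free_of_odd (c b : Perm α) {K : ℕ} (hK : ∀ g : Perm α, Perm.sign g = 1 → #(agree c b g) = K)
    {z : Perm α} (hz : Perm.sign z = -1) (hcomm : (∀ x, z (c x) = c (z x)) ∨ ∀ x, z (b x) = b (z x))
    (g : Perm α) : #(agree c b g) = K := by
  rcases Int.units_eq_one_or (Perm.sign g) with h | h
  · exact hK g h
  rcases hcomm with hc | hb
  · rw [← hK (g * z) (by rw [map_mul, h, hz]; rfl)]
    congr 1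
    refine filter_congr fun x _ => ?_
    rw [mul_inv_rev, Perm.mul_apply, Perm.mul_apply, hc]
    simp
  · rw [← hK (z * g) (by rw [map_mul, h, hz]; rfl)]
    refine card_equiv z fun x => ?_
    simp only [agree, mem_filter, mem_univ, true_and, mul_inv_rev, Perm.mul_apply, ← hb]
    simp

theorem le_agree {c b g : Perm α} {k : ℕ} {x : Fin k → α} (hx : Function.Injective x)
    (h : ∀ i, b (x i) = g (c (g⁻¹ (x i)))) : k ≤ #(agree c b g) := by
  rw [← Fintype.card_fin k, ← card_univ, ← card_image_of_injective univ hx]
  refine card_le_card fun y hy => ?_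
  obtain ⟨i, -, rfl⟩ := mem_image.1 hy
  simp [agree, h i]

theorem swap_comm {c : Perm α} {x : α} (h : c (c x) = x) (y : α) :
    Equiv.swap x (c x) (c y) = c (Equiv.swap x (c x) y) := by
  have h' := c.injective.swap_apply x (c x) y
  rwa [h, Equiv.swap_comm (c x) x] at h'

theorem core (hn : 5 ≤ Fintype.card α) (c b : Perm α) (hc : c ≠ 1) (hb : b ≠ 1) (hle : nfix c ≤ nfix b) {K : ℕ}
    (hK : ∀ g : Perm α, Perm.sign g = 1 → #(agree c b g) = K) : False := by
  have havg := average (by omega) c b hK
  have hfc := nfix_le hc
  have hfb := nfix_le hb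
  obtain ⟨y, hy⟩ : ∃ y, c y ≠ y := by
    by_contra! h
    exact hc (Equiv.ext h)
  obtain ⟨x, hx⟩ : ∃ x, b x ≠ x := by
    by_contra! h
    exact hb (Equiv.ext h)
  -- one agreement
  have h1 : 1 ≤ K := by
    obtain ⟨g, hg, he⟩ := exists_even_extend (s := ![y, c y]) (t := ![x, b x])
      (by intro a d; fin_cases a <;> fin_cases d <;> simp [hy, Ne.symm hy])
      (by intro a d; fin_cases a <;> fin_cases d <;> simp [hx, Ne.symm hx]) (by simp; omega)
    have e0 : g y = x := by simpa using he 0
    have e1 : g (c y) = b x := by simpa using he 1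
    rw [← hK g hg]
    exact le_agree (x := fun _ : Fin 1 => x) (fun a d _ => Subsingleton.elim a d)
      fun _ => by rw [← e1, ← e0]; simp
  -- two agreements when `c` has at most one fixed point
  have h2 : nfix c = 1 ∨ (nfix c = 0 ∧ nfix b ≤ 1) → 2 ≤ K := by
    rintro (hc1 | ⟨hc0, hb1⟩)
    · obtain ⟨p, hp⟩ := card_pos.1 (show 0 < #(univ.filter fun u => c u = u) by rw [← nfix, hc1]; norm_num)
      obtain ⟨q, hq⟩ := card_pos.1 (show 0 < #(univ.filter fun u => b u = u) by rw [← nfix]; omega)
      simp only [mem_filter, mem_univ, true_and] at hp hq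
      have n1 : p ≠ y := fun e => hy (e ▸ hp)
      have n2 : p ≠ c y := fun e => hy (c.injective (by rw [← e, hp]))
      have m1 : q ≠ x := fun e => hx (e ▸ hq)
      have m2 : q ≠ b x := fun e => hx (b.injective (by rw [← e, hq]))
      obtain ⟨g, hg, he⟩ := exists_even_extend (s := ![p, y, c y]) (t := ![q, x, b x])
        (by intro a d; fin_cases a <;> fin_cases d <;> simp [hy, Ne.symm hy, n1, n2, n1.symm, n2.symm])
        (by intro a d; fin_cases a <;> fin_cases d <;> simp [hx, Ne.symm hx, m1, m2, m1.symm, m2.symm])
        (by simp; omega)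
      have e0 : g p = q := by simpa using he 0
      have e1 : g y = x := by simpa using he 1
      have e2 : g (c y) = b x := by simpa using he 2
      rw [← hK g hg]
      refine le_agree (x := ![q, x]) (by intro a d; fin_cases a <;> fin_cases d <;> simp [m1, m1.symm]) ?_
      intro i
      fin_cases i
      · show b q = g (c (g⁻¹ q))
        rw [hq, show g⁻¹ q = p by rw [← e0]; simp, hp, e0]
      · show b x = g (c (g⁻¹ x))
        rw [← e2, ← e1]
        simp
    · -- fixed-point-free against at most one fixed point
      by_cases hinv : (∀ u, c (c u) = u) ∨ ∀ u, b (b u) = u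
      · obtain ⟨z, hz, hzc⟩ : ∃ z : Perm α, Perm.sign z = -1 ∧
            ((∀ u, z (c u) = c (z u)) ∨ ∀ u, z (b u) = b (z u)) := by
          rcases hinv with h | h
          · exact ⟨Equiv.swap y (c y), Perm.sign_swap (Ne.symm hy), Or.inl (swap_comm (h y))⟩
          · exact ⟨Equiv.swap x (b x), Perm.sign_swap (Ne.symm hx), Or.inr (swap_comm (h x))⟩
        have hall := free_of_odd c b hK hz hzc
        have hcm : ∀ u, c u ≠ u := fun u hu => by
          have : 0 < nfix c := card_pos.2 ⟨u, by simp [hu]⟩
          omega
        obtain ⟨w, hw⟩ : ∃ w, w ∉ ({y, c y, c⁻¹ y} : Finset α) := by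
          by_contra! h
          have h' := card_le_card (fun (u : α) (_ : u ∈ univ) => h u)
          have h'' := (card_le_three (a := y) (b := c y) (c := c⁻¹ y))
          rw [card_univ] at h'
          omega
        obtain ⟨t, ht, htm⟩ : ∃ t, t ∉ ({x, b x, b⁻¹ x} : Finset α) ∧ b t ≠ t := by
          by_contra! h
          have h' : (univ : Finset α) ⊆ {x, b x, b⁻¹ x} ∪ univ.filter (fun u => b u = u) := by
            intro u _
            by_cases hu : u ∈ ({x, b x, b⁻¹ x} : Finset α)
            · exact mem_union_left _ hu
            · exact mem_union_right _ (by simp [h u hu])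
          have h'' := (card_le_card h').trans (card_union_le _ _)
          have := card_le_three (a := x) (b := b x) (c := b⁻¹ x)
          rw [card_univ, ← nfix] at h''
          omega
        simp only [mem_insert, mem_singleton, not_or] at hw ht
        have w1 : c w ≠ y := fun e => hw.2.2 (by rw [← e]; simp)
        have t1 : b t ≠ x := fun e => ht.2.2 (by rw [← e]; simp)
        obtain ⟨g, he⟩ := exists_extend (s := ![y, c y, w, c w]) (t := ![x, b x, t, b t])
          (by intro a d; fin_cases a <;> fin_cases d <;>
            simp [hy, Ne.symm hy, hw.1, Ne.symm hw.1, hw.2.1, Ne.symm hw.2.1, w1, Ne.symm w1, hcm w,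
              Ne.symm (hcm w)])
          (by intro a d; fin_cases a <;> fin_cases d <;>
            simp [hx, Ne.symm hx, ht.1, Ne.symm ht.1, ht.2.1, Ne.symm ht.2.1, t1, Ne.symm t1, htm,
              Ne.symm htm])
        have e0 : g y = x := by simpa using he 0
        have e1 : g (c y) = b x := by simpa using he 1
        have e2 : g w = t := by simpa using he 2
        have e3 : g (c w) = b t := by simpa using he 3
        rw [← hall g]
        refine le_agree (x := ![x, t]) (by intro a d; fin_cases a <;> fin_cases d <;> simp [ht.1, Ne.symm ht.1]) ?_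
        intro i
        fin_cases i
        · show b x = g (c (g⁻¹ x))
          rw [← e1, ← e0]
          simp
        · show b t = g (c (g⁻¹ t))
          rw [← e3, ← e2]
          simp
      push Not at hinv
      obtain ⟨⟨u, hu⟩, v, hv⟩ := hinv
      have u1 : c u ≠ u := fun e => hu (by rw [e, e])
      have v1 : b v ≠ v := fun e => hv (by rw [e, e])
      obtain ⟨g, hg, he⟩ := exists_even_extend (s := ![u, c u, c (c u)]) (t := ![v, b v, b (b v)])
        (by intro a d; fin_cases a <;> fin_cases d <;> simp [u1, Ne.symm u1, hu, Ne.symm hu])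
        (by intro a d; fin_cases a <;> fin_cases d <;> simp [v1, Ne.symm v1, hv, Ne.symm hv])
        (by simp; omega)
      have e0 : g u = v := by simpa using he 0
      have e1 : g (c u) = b v := by simpa using he 1
      have e2 : g (c (c u)) = b (b v) := by simpa using he 2
      rw [← hK g hg]
      refine le_agree (x := ![v, b v]) (by intro a d; fin_cases a <;> fin_cases d <;> simp [v1, Ne.symm v1]) ?_
      intro i
      fin_cases i
      · show b v = g (c (g⁻¹ v))
        rw [← e1, ← e0]
        simp
      · show b (b v) = g (c (g⁻¹ (b v)))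
        rw [← e2, ← e1]
        simp
  -- at least the fixed points of `c`
  have h3 : 2 ≤ nfix c → nfix c ≤ K := by
    intro hc2
    obtain ⟨p, hp, q, hq, hpq⟩ := one_lt_card.1 (show 1 < #(univ.filter fun u => c u = u) from hc2)
    simp only [mem_filter, mem_univ, true_and] at hp hq
    have hcomm : ∀ u, Equiv.swap p q (c u) = c (Equiv.swap p q u) := fun u => by
      have h' := c.injective.swap_apply p q u
      rwa [hp, hq] at h'
    obtain ⟨e⟩ := Function.Embedding.nonempty_of_card_le
      (α := {u // c u = u}) (β := {u // b u = u}) (by simpa [Fintype.card_subtype, nfix] using hle)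
    obtain ⟨g, hg⟩ := exists_extend (s := fun u : {u // c u = u} => (u : α)) (t := fun u => (e u : α))
      Subtype.val_injective (Subtype.val_injective.comp e.injective)
    rw [← free_of_odd c b hK (Perm.sign_swap hpq) (Or.inl hcomm) g]
    refine card_le_card_of_injOn g (fun u hu => ?_) g.injective.injOn
    simp only [coe_filter, mem_univ, true_and, Set.mem_ofPred_eq] at hu
    have hgu := hg ⟨u, hu⟩
    simp only at hgu
    simp only [agree, coe_filter, mem_univ, true_and, Set.mem_ofPred_eq]
    rw [show g⁻¹ (g u) = u by simp, hu, hgu]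
    exact (e ⟨u, hu⟩).2
  obtain ⟨m, hm⟩ := Nat.exists_eq_add_of_le hfb
  obtain ⟨m', hm'⟩ := Nat.exists_eq_add_of_le hfc
  generalize Fintype.card α = n at *
  obtain ⟨k, rfl⟩ : ∃ k, n = k + 1 := ⟨n - 1, by omega⟩
  simp only [Nat.add_sub_cancel, show (k + 1) * (k + 1) - (k + 1) = (k + 1) * k by
    rw [Nat.mul_succ, Nat.add_sub_cancel]] at havg
  rw [show k + 1 - nfix b = 2 + m by omega, show k + 1 - nfix c = 2 + m' by omega] at havg
  have key : ∀ L, L ≤ K → (k + 1) * k * L ≤ nfix b * (k * nfix c) + (2 + m) * (2 + m') := fun L hL =>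
    havg ▸ Nat.mul_le_mul_left _ hL
  rcases Nat.lt_or_ge 1 (nfix c) with hc2 | hc2
  · have h := key _ (h3 hc2)
    rw [show (k + 1) * k * nfix c = nfix b * (k * nfix c) + (2 + m) * (k * nfix c) by rw [hm]; ring] at h
    have h' := Nat.le_of_mul_le_mul_left (Nat.le_of_add_le_add_left h) (by omega : 0 < 2 + m)
    have h'' := Nat.mul_le_mul_left k (Nat.succ_le_of_lt hc2)
    omega
  rcases Nat.eq_zero_or_pos (nfix c) with hc0 | hc0
  · have hzero : ∀ L, L ≤ K → k * L ≤ 2 + m := fun L hL => by
      have h := key L hL
      rw [hc0, mul_zero, mul_zero, zero_add, show 2 + m' = k + 1 by omega, mul_assoc,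
        mul_comm (2 + m)] at h
      exact Nat.le_of_mul_le_mul_left h (by omega)
    rcases Nat.lt_or_ge 1 (nfix b) with hb2 | hb2
    · have := hzero 1 h1
      omega
    · have := hzero 2 (h2 (Or.inr ⟨hc0, hb2⟩))
      omega
  · have hc1 : nfix c = 1 := by omega
    have h := key 2 (h2 (Or.inl hc1))
    rw [hc1, mul_one, show 2 + m' = k by omega, ← add_mul,
      show (k + 1) * k * 2 = (2 * (k + 1)) * k by ring] at h
    have h' := Nat.le_of_mul_le_mul_right h (by omega)
    omega

/-- The products of two classes do not have a constant number of fixed points. -/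
theorem not_constant (hn : 5 ≤ Fintype.card α) (c b : Perm α) (hc : c ≠ 1) (hb : b ≠ 1) :
    ∃ g : Perm α, Perm.sign g = 1 ∧ #(agree c b g) ≠ #(agree c b 1) := by
  by_contra! h
  rcases le_total (nfix c) (nfix b) with hle | hle
  · exact core hn c b hc hb hle h
  · refine core hn b c hb hc hle (K := #(agree c b 1)) fun g hg => ?_
    rw [agree_card_symm]
    exact h g⁻¹ (by rw [map_inv, hg, inv_one])

theorem nat_card_fixedPoints (c b g : Perm α) :
    Nat.card (Function.fixedPoints ⇑(g * c⁻¹ * g⁻¹ * b)) = #(agree c b g) := by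
  rw [← Nat.card_eq_finsetCard]
  refine Nat.card_congr (Equiv.subtypeEquivRight fun x => ?_)
  simp only [Function.mem_fixedPoints, Function.IsFixedPt, agree, mem_filter, mem_univ, true_and,
    Perm.mul_apply, Perm.inv_eq_iff_eq]
  exact ⟨fun h => by conv_rhs => rw [← h]; simp, fun h => by rw [h]; simp⟩

end Cfsg.Agent.H52.ClassProductFix
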