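import Mathlib
import Cfsg.Agent.S0215

/-!
A nontrivial automorphism of order prime to the group order cannot fix the centralizer of an
involution of a non-abelian simple group elementwise.

Let `F` be the fixed subgroup.  Every conjugate of `τ` fixes exactly one point of `G ⧸ F`, and every
invariant 2-subgroup lies in `F`.  If two conjugates of `τ` agree on one point, their product lies
in a point stabilizer and is inverted by both, so they have the same fixed point.  Counting images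
of a point shows that a conjugate is determined by its fixed point, so `τ` is isolated and the
Z*-theorem applies.
-/

set_option autoImplicit false

namespace Cfsg.Agent.H52.CoprimeInvol

variable {G : Type*} [Group G] [Finite G] {a : MulAut G} {r : ℕ}

/-- The fixed subgroup of an automorphism. -/
def fixedSub (a : MulAut G) : Subgroup G := MonoidHom.eqLocus a.toMonoidHom (MonoidHom.id G)

theorem mem_fixedSub {g : G} : g ∈ fixedSub a ↔ a g = g := Iff.rfl

theorem eq_one_of_pow_eq_one (hr : r.Prime) (hrG : ¬ r ∣ Nat.card G) {c : G} (hc : c ^ r = 1) :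
    c = 1 := by
  rcases (Nat.dvd_prime hr).1 (orderOf_dvd_of_pow_eq_one hc) with h | h
  · exact orderOf_eq_one_iff.1 h
  · exact absurd (h ▸ orderOf_dvd_natCard c) hrG

/-- An element conjugating `τ` into the fixed subgroup is fixed. -/
theorem mem_of_conj (hr : r.Prime) (hrG : ¬ r ∣ Nat.card G) (har : a ^ r = 1) {τ : G}
    (hτ : ∀ c, c * τ = τ * c → a c = c) {h : G} (hh : h * τ * h⁻¹ ∈ fixedSub a) :
    h ∈ fixedSub a := by
  set c := h⁻¹ * a h with hcdef
  have hah : a h = h * c := by rw [hcdef, mul_inv_cancel_left]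
  have hcτ : c * τ = τ * c := by
    have h1 : a h * τ * (a h)⁻¹ = h * τ * h⁻¹ := by
      conv_rhs => rw [← mem_fixedSub.1 hh]
      rw [map_mul, map_mul, map_inv, hτ τ rfl]
    calc c * τ = h⁻¹ * (a h * τ * (a h)⁻¹) * a h := by rw [hcdef]; group
      _ = τ * c := by rw [h1, hcdef]; group
  have hc : a c = c := hτ c hcτ
  have hpow : ∀ k : ℕ, (a ^ k) h = h * c ^ k := by
    intro k
    induction k with
    | zero => simp
    | succ k ih =>
      rw [pow_succ', MulAut.mul_apply, ih, map_mul, map_pow, hc, hah, mul_assoc, ← pow_succ']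
  have h2 := hpow r
  rw [har, MulAut.one_apply, left_eq_mul] at h2
  rw [mem_fixedSub, hah, eq_one_of_pow_eq_one hr hrG h2, mul_one]

/-- A `2`-subgroup containing `τ` is fixed. -/
theorem le_of_mem (hr : r.Prime) (hrG : ¬ r ∣ Nat.card G) (har : a ^ r = 1) {τ : G}
    (hτ : ∀ c, c * τ = τ * c → a c = c) {R : Subgroup G} (hR : IsPGroup 2 R) (hτR : τ ∈ R) :
    R ≤ fixedSub a := by
  have : Fact (Nat.Prime 2) := ⟨Nat.prime_two⟩
  by_contra hle
  set W := (fixedSub a).subgroupOf R with hW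
  have hlt : W < ⊤ := lt_top_iff_ne_top.2 fun h => hle fun x hx =>
    (show (⟨x, hx⟩ : R) ∈ W from h ▸ Subgroup.mem_top _)
  haveI := hR.isNilpotent
  obtain ⟨x, hx, hxW⟩ := SetLike.exists_of_lt (normalizerCondition_of_isNilpotent W hlt)
  refine hxW (mem_of_conj hr hrG har hτ ?_)
  exact (Subgroup.mem_normalizer_iff.1 hx ⟨τ, hτR⟩).1 (hτ τ rfl)

/-- A permutation of order dividing `r` of a finite type of size prime to `r` fixes a point. -/
theorem exists_fixed (hr : r.Prime) {X : Type*} [Finite X] (σ : Equiv.Perm X) (hσ : σ ^ r = 1)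
    (hX : ¬ r ∣ Nat.card X) : ∃ x, σ x = x := by
  classical
  have := Fintype.ofFinite X
  have : Fact r.Prime := ⟨hr⟩
  rw [Nat.card_eq_fintype_card] at hX
  exact Equiv.Perm.exists_fixed_point_of_prime (n := 1) hX (by rwa [pow_one])

/-- An invariant subgroup has an invariant Sylow 2-subgroup. -/
theorem exists_invariant_sylow (hr : r.Prime) (hrG : ¬ r ∣ Nat.card G) (har : a ^ r = 1)
    (Y : Subgroup G) (hY : ∀ y ∈ Y, a y ∈ Y) :
    ∃ Q : Sylow 2 Y, ∀ x ∈ (Q : Subgroup Y).map Y.subtype, a x ∈ (Q : Subgroup Y).map Y.subtype := by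
  have : Fact (Nat.Prime 2) := ⟨Nat.prime_two⟩
  have hYmap : Y.map a.toMonoidHom = Y := by
    refine Subgroup.eq_of_le_of_card_ge ?_ ?_
    · rintro _ ⟨y, hy, rfl⟩
      exact hY y hy
    · rw [Subgroup.card_map_of_injective (f := a.toMonoidHom) a.injective]
  let e : MulAut Y := (a.subgroupMap Y).trans (MulEquiv.subgroupCongr hYmap)
  have he : ∀ y : Y, ((e y : Y) : G) = a y := fun y => rfl
  have hpow : ∀ (k : ℕ) (y : Y), (((e ^ k) y : Y) : G) = (a ^ k) y := by
    intro k
    induction k with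
    | zero => intro y; rfl
    | succ k ih => intro y; rw [pow_succ', MulAut.mul_apply, he, ih, pow_succ', MulAut.mul_apply]
  have her : e ^ r = 1 := MulEquiv.ext fun y => Subtype.ext (by rw [hpow, har]; rfl)
  let σ : Equiv.Perm (Sylow 2 Y) := MulAction.toPerm e
  have hσ : σ ^ r = 1 := by
    rw [show σ = MulAction.toPermHom (MulAut Y) (Sylow 2 Y) e from rfl, ← map_pow, her, map_one]
  obtain ⟨Q, hQ⟩ := exists_fixed hr σ hσ
    (fun h => hrG ((h.trans (Sylow.card_dvd_index (default : Sylow 2 Y))).trans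
      ((Subgroup.index_dvd_card _).trans (Subgroup.card_subgroup_dvd_card Y))))
  refine ⟨Q, ?_⟩
  rintro _ ⟨y, hy, rfl⟩
  have : e y ∈ ((e • Q : Sylow 2 Y) : Subgroup Y) := by
    rw [Sylow.pointwise_smul_def]
    exact Subgroup.smul_mem_pointwise_smul y e _ hy
  rw [show e • Q = Q from hQ] at this
  exact ⟨e y, this, he y⟩

/-- Every invariant 2-subgroup is fixed. -/
theorem invariant_le (hr : r.Prime) (hrG : ¬ r ∣ Nat.card G) (har : a ^ r = 1) {τ : G}
    (hτ2 : orderOf τ = 2) (hτ : ∀ c, c * τ = τ * c → a c = c) {Q : Subgroup G}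
    (hQ : IsPGroup 2 Q) (hQi : ∀ x ∈ Q, a x ∈ Q) : Q ≤ fixedSub a := by
  have : Fact (Nat.Prime 2) := ⟨Nat.prime_two⟩
  obtain ⟨R, hQR, ⟨hR, hRi⟩, hmax⟩ :=
    Finite.exists_le_maximal (p := fun R : Subgroup G => IsPGroup 2 R ∧ ∀ x ∈ R, a x ∈ R) ⟨hQ, hQi⟩
  -- `R` is a Sylow subgroup
  set N := Subgroup.normalizer (R : Set G) with hN
  have hRmap : R.map a.toMonoidHom = R := by
    refine Subgroup.eq_of_le_of_card_ge ?_ ?_
    · rintro _ ⟨y, hy, rfl⟩
      exact hRi y hy
    · rw [Subgroup.card_map_of_injective (f := a.toMonoidHom) a.injective]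
  have hNi : ∀ y ∈ N, a y ∈ N := by
    intro y hy
    refine Subgroup.mem_normalizer_iff.2 fun x => ?_
    have hmem : ∀ z, a z ∈ R ↔ z ∈ R := fun z => by
      refine ⟨fun h => ?_, hRi z⟩
      rw [← hRmap] at h
      obtain ⟨w, hw, hwz⟩ := h
      exact a.injective hwz ▸ hw
    obtain ⟨x, rfl⟩ := a.surjective x
    rw [← map_inv, ← map_mul, ← map_mul, hmem, hmem]
    exact Subgroup.mem_normalizer_iff.1 hy x
  obtain ⟨P, hP⟩ := exists_invariant_sylow hr hrG har N hNi
  have hRP : R ≤ (P : Subgroup N).map N.subtype := by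
    intro x hx
    refine ⟨⟨x, Subgroup.le_normalizer hx⟩, ?_, rfl⟩
    haveI : (R.subgroupOf N).Normal := Subgroup.normal_in_normalizer
    have hRN : IsPGroup 2 (R.subgroupOf N) :=
      hR.comap_of_injective N.subtype (Subgroup.subtype_injective N)
    exact (P.3 (hRN.to_sup_of_normal_left P.2) le_sup_right).le
      (le_sup_left (a := R.subgroupOf N) hx)
  have hPR : (P : Subgroup N).map N.subtype ≤ R :=
    hmax ⟨P.2.map _, hP⟩ hRP
  obtain ⟨R', hR'⟩ := hR.exists_le_sylow
  have hRR' : R = R' := by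
    by_contra hne
    have hlt : R.subgroupOf R' < ⊤ := lt_top_iff_ne_top.2 fun h =>
      hne (le_antisymm hR' (Subgroup.subgroupOf_eq_top.1 h))
    haveI := R'.2.isNilpotent
    obtain ⟨x, hx, hxW⟩ := SetLike.exists_of_lt (normalizerCondition_of_isNilpotent _ hlt)
    refine hxW ?_
    have hxN : (x : G) ∈ N := by
      refine Subgroup.mem_normalizer_iff.2 fun y => ?_
      constructor
      · intro hy
        exact (Subgroup.mem_normalizer_iff.1 hx ⟨y, hR' hy⟩).1 hy
      · intro hy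
        have hyR : y ∈ (R' : Subgroup G) := by
          have := mul_mem (mul_mem ((R' : Subgroup G).inv_mem x.2) (hR' hy)) x.2
          simpa [mul_assoc] using this
        exact (Subgroup.mem_normalizer_iff.1 hx ⟨y, hyR⟩).2 hy
    -- `⟨R, x⟩` lies in a Sylow subgroup of `N`, which has the order of `R`
    have hK : IsPGroup 2 ((R ⊔ Subgroup.zpowers (x : G)).subgroupOf N) :=
      (R'.2.to_le (sup_le hR' (Subgroup.zpowers_le.2 x.2))).comap_of_injective N.subtype
        (Subgroup.subtype_injective N)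
    obtain ⟨P', hP'⟩ := hK.exists_le_sylow
    have hKN : R ⊔ Subgroup.zpowers (x : G) ≤ N :=
      sup_le Subgroup.le_normalizer (Subgroup.zpowers_le.2 hxN)
    have hcard : Nat.card ↥(R ⊔ Subgroup.zpowers (x : G)) ≤ Nat.card R :=
      calc Nat.card ↥(R ⊔ Subgroup.zpowers (x : G))
          = Nat.card ((R ⊔ Subgroup.zpowers (x : G)).subgroupOf N) :=
            (Nat.card_congr (Subgroup.subgroupOfEquivOfLe hKN).toEquiv).symm
        _ ≤ Nat.card P' := Subgroup.card_le_of_le hP'
        _ = Nat.card P := by rw [P'.card_eq_multiplicity, P.card_eq_multiplicity]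
        _ = Nat.card ((P : Subgroup N).map N.subtype) :=
            (Subgroup.card_map_of_injective (Subgroup.subtype_injective N)).symm
        _ ≤ Nat.card R := Subgroup.card_le_of_le hPR
    have heq := Subgroup.eq_of_le_of_card_ge (le_sup_left : R ≤ R ⊔ Subgroup.zpowers (x : G)) hcard
    exact heq.symm ▸ (le_sup_right : Subgroup.zpowers (x : G) ≤ _) (Subgroup.mem_zpowers (x : G))
  -- `R` is conjugate to a fixed Sylow subgroup by a fixed element
  obtain ⟨S, hS⟩ := (IsPGroup.of_card (n := 1) (by rw [Nat.card_zpowers, hτ2, pow_one]) :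
    IsPGroup 2 (Subgroup.zpowers τ)).exists_le_sylow
  have hSF : (S : Subgroup G) ≤ fixedSub a :=
    le_of_mem hr hrG har hτ S.2 (hS (Subgroup.mem_zpowers τ))
  obtain ⟨g₀, hg₀⟩ := MulAction.exists_smul_eq G S R'
  let X := {g : G // g • S = R'}
  have hsmem : ∀ g : G, g • S = R' ↔ ∀ s ∈ (S : Subgroup G), g * s * g⁻¹ ∈ R := by
    intro g
    constructor
    · rintro h s hs
      rw [hRR', ← h]
      exact ⟨s, hs, rfl⟩
    · intro h
      refine Sylow.ext (Subgroup.eq_of_le_of_card_ge ?_ ?_)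
      · rw [← hRR']
        rintro _ ⟨s, hs, rfl⟩
        exact h s hs
      · exact le_of_eq (by rw [R'.card_eq_multiplicity, (g • S).card_eq_multiplicity])
  have hinv : ∀ g : G, g • S = R' → a g • S = R' := by
    intro g hg
    rw [hsmem] at hg ⊢
    intro s hs
    have := hRi _ (hg s hs)
    rwa [map_mul, map_mul, map_inv, mem_fixedSub.1 (hSF hs)] at this
  let f : X → X := fun g => ⟨a g.1, hinv g.1 g.2⟩
  have hf : Function.Bijective f := Finite.injective_iff_bijective.1 fun x y h =>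
    Subtype.ext (a.injective (congrArg Subtype.val h))
  let σ : Equiv.Perm X := Equiv.ofBijective f hf
  have hpow : ∀ (k : ℕ) (g : X), ((σ ^ k) g).1 = (a ^ k) g.1 := by
    intro k
    induction k with
    | zero => intro g; rfl
    | succ k ih =>
      intro g
      rw [pow_succ', Equiv.Perm.mul_apply, pow_succ', MulAut.mul_apply]
      show a _ = _
      rw [ih]
  have hσ : σ ^ r = 1 := Equiv.ext fun g => Subtype.ext (by rw [hpow, har]; rfl)
  have hX : Nat.card X = Nat.card (MulAction.stabilizer G S) := by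
    refine Nat.card_congr ⟨fun g => ⟨g₀⁻¹ * g.1, ?_⟩, fun n => ⟨g₀ * n.1, ?_⟩, ?_, ?_⟩
    · rw [MulAction.mem_stabilizer_iff, mul_smul, g.2, ← hg₀, inv_smul_smul]
    · rw [mul_smul, MulAction.mem_stabilizer_iff.1 n.2, hg₀]
    · exact fun g => Subtype.ext (mul_inv_cancel_left _ _)
    · exact fun n => Subtype.ext (inv_mul_cancel_left _ _)
  obtain ⟨g, hg⟩ := exists_fixed hr σ hσ
    (fun h => hrG ((hX ▸ h).trans (Subgroup.card_subgroup_dvd_card _)))
  have hgF : g.1 ∈ fixedSub a := congrArg Subtype.val hg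
  refine hQR.trans ?_
  rw [hRR', ← g.2]
  rintro _ ⟨s, hs, rfl⟩
  exact mul_mem (mul_mem hgF (hSF hs)) (inv_mem hgF)

/-- If a conjugate of `τ` inverts a fixed element, its point stabilizer contains that element. -/
theorem mem_of_inverts (hr : r.Prime) (hrG : ¬ r ∣ Nat.card G) (har : a ^ r = 1) {τ : G}
    (hτ2 : orderOf τ = 2) (hτ : ∀ c, c * τ = τ * c → a c = c) {j g : G} (hj : j ∈ fixedSub a)
    (hinv : (g * τ * g⁻¹) * j * (g * τ * g⁻¹)⁻¹ = j⁻¹) : g⁻¹ * j * g ∈ fixedSub a := by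
  have : Fact (Nat.Prime 2) := ⟨Nat.prime_two⟩
  set Y := Subgroup.normalizer ((Subgroup.zpowers j : Subgroup G) : Set G) with hY
  have hjle : ∀ z ∈ Subgroup.zpowers j, a z = z := fun z hz =>
    mem_fixedSub.1 ((Subgroup.zpowers_le.2 hj) hz)
  have hYi : ∀ y ∈ Y, a y ∈ Y := by
    intro y hy
    refine Subgroup.mem_normalizer_iff.2 fun x => ?_
    obtain ⟨x, rfl⟩ := a.surjective x
    have hmem : ∀ z, a z ∈ Subgroup.zpowers j ↔ z ∈ Subgroup.zpowers j := fun z =>
      ⟨fun h => by rw [← a.injective (hjle _ h)]; exact h, fun h => by rwa [hjle z h]⟩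
    rw [← map_inv, ← map_mul, ← map_mul, hmem, hmem]
    exact Subgroup.mem_normalizer_iff.1 hy x
  obtain ⟨Q, hQ⟩ := exists_invariant_sylow hr hrG har Y hYi
  have hQF := invariant_le hr hrG har hτ2 hτ (Q.2.map Y.subtype) hQ
  have hu2 : orderOf (g * τ * g⁻¹) = 2 := by
    rw [← hτ2]
    exact MulEquiv.orderOf_eq (MulAut.conj g) τ
  have huY : g * τ * g⁻¹ ∈ Y := by
    refine Subgroup.mem_normalizer_fintype fun z hz => ?_
    obtain ⟨k, rfl⟩ := Subgroup.mem_zpowers_iff.1 hz
    rw [← conj_zpow, hinv]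
    exact zpow_mem (inv_mem (Subgroup.mem_zpowers j)) k
  have hPu : IsPGroup 2 (Subgroup.zpowers (⟨_, huY⟩ : Y)) :=
    IsPGroup.of_card (n := 1) (by rw [Nat.card_zpowers, Subgroup.orderOf_mk, hu2, pow_one])
  obtain ⟨P, hP⟩ := hPu.exists_le_sylow
  obtain ⟨y, hy⟩ := MulAction.exists_smul_eq Y P Q
  have h1 : (y : G) * (g * τ * g⁻¹) * (y : G)⁻¹ ∈ fixedSub a := by
    refine hQF ⟨y * ⟨_, huY⟩ * y⁻¹, ?_, rfl⟩
    rw [← hy]
    exact ⟨_, hP (Subgroup.mem_zpowers _), rfl⟩
  have h2 : (y : G) * g ∈ fixedSub a := mem_of_conj hr hrG har hτ (by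
    rwa [show (y : G) * g * τ * ((y : G) * g)⁻¹ = (y : G) * (g * τ * g⁻¹) * (y : G)⁻¹ by group])
  have h3 : (y : G) * j * (y : G)⁻¹ ∈ fixedSub a :=
    (Subgroup.zpowers_le.2 hj) ((Subgroup.mem_normalizer_iff.1 y.2 j).1 (Subgroup.mem_zpowers j))
  rw [show g⁻¹ * j * g = ((y : G) * g)⁻¹ * ((y : G) * j * (y : G)⁻¹) * ((y : G) * g) by group]
  exact mul_mem (mul_mem (inv_mem h2) h3) h2

/-- Two conjugates of `τ` agreeing on one point have the same fixed point. -/
theorem point_eq (hr : r.Prime) (hrG : ¬ r ∣ Nat.card G) (har : a ^ r = 1) {τ : G}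
    (hτ2 : orderOf τ = 2) (hτ : ∀ c, c * τ = τ * c → a c = c) {g h x : G}
    (he : (h * τ * h⁻¹ * x)⁻¹ * (g * τ * g⁻¹ * x) ∈ fixedSub a) : g⁻¹ * h ∈ fixedSub a := by
  have ht : τ * τ = 1 := by rw [← pow_two, ← hτ2, pow_orderOf_eq_one]
  have hi : τ⁻¹ = τ := inv_eq_of_mul_eq_one_right ht
  set u := g * τ * g⁻¹ with hu
  set v := h * τ * h⁻¹ with hv
  have hui : u⁻¹ = u := by rw [hu]; simp [mul_assoc, hi]
  have hvi : v⁻¹ = v := by rw [hv]; simp [mul_assoc, hi]
  set j := (v * x)⁻¹ * (u * x) with hj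
  have hinv : (x⁻¹ * g) * τ * (x⁻¹ * g)⁻¹ * j * ((x⁻¹ * g) * τ * (x⁻¹ * g)⁻¹)⁻¹ = j⁻¹ := by
    rw [show (x⁻¹ * g) * τ * (x⁻¹ * g)⁻¹ = x⁻¹ * u * x by rw [hu]; group, hj,
      mul_inv_rev v x, hvi]
    have huu : u * u = 1 := by rw [← mul_inv_cancel u, hui]
    simp [mul_assoc, hui, hvi]
    rw [← mul_assoc u u, huu, one_mul]
  have h1 := mem_of_inverts hr hrG har hτ2 hτ he hinv
  have h2 : (x⁻¹ * g)⁻¹ * j * (x⁻¹ * g) = g⁻¹ * v * g * τ := by
    rw [hj, mul_inv_rev v x, hvi, hu]
    simp [mul_assoc]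
  rw [h2] at h1
  have h3 : g⁻¹ * v * g ∈ fixedSub a := by
    have := mul_mem h1 (show τ ∈ fixedSub a from hτ τ rfl)
    rwa [mul_assoc, ht, mul_one] at this
  refine mem_of_conj hr hrG har hτ ?_
  rwa [show g⁻¹ * h * τ * (g⁻¹ * h)⁻¹ = g⁻¹ * v * g by rw [hv]; group]

open QuotientGroup in
/-- The main theorem, for an automorphism of prime order. -/
theorem prime_case [IsSimpleGroup G] (hG : ¬ IsMulCommutative G) (hr : r.Prime)
    (hrG : ¬ r ∣ Nat.card G) (har : a ^ r = 1) (ha : a ≠ 1) {τ : G} (hτ2 : orderOf τ = 2)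
    (hτ : ∀ c, c * τ = τ * c → a c = c) : False := by
  have : Fact (Nat.Prime 2) := ⟨Nat.prime_two⟩
  set F := fixedSub a with hF
  have hτF : τ ∈ F := hτ τ rfl
  have hcore : F.normalCore = ⊥ := by
    refine (Subgroup.normalCore_normal F).eq_bot_or_eq_top.resolve_right fun h => ha ?_
    exact MulEquiv.ext fun g => mem_fixedSub.1 (F.normalCore_le (h ▸ Subgroup.mem_top g))
  let U : G ⧸ F → G := fun p => p.out * τ * p.out⁻¹
  -- images of a point determine the fixed point
  have key : ∀ (g h x : G), (g * τ * g⁻¹) • ((x : G) : G ⧸ F) = (h * τ * h⁻¹) • ((x : G) : G ⧸ F) →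
      ((g : G) : G ⧸ F) = (h : G) := by
    intro g h x he
    rw [MulAction.Quotient.smul_coe, MulAction.Quotient.smul_coe, smul_eq_mul, smul_eq_mul,
      eq_comm, QuotientGroup.eq] at he
    exact QuotientGroup.eq.2 (point_eq hr hrG har hτ2 hτ he)
  have hall : ∀ h : G, ∀ q : G ⧸ F, (h * τ * h⁻¹) • q = U (h : G) • q := by
    intro h q
    induction q using QuotientGroup.induction_on with
    | _ x =>
    have hinj : Function.Injective fun p : G ⧸ F => U p • ((x : G) : G ⧸ F) := by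
      intro p p' hp
      have := key _ _ _ hp
      rwa [QuotientGroup.out_eq', QuotientGroup.out_eq'] at this
    obtain ⟨p, hp⟩ := (Finite.injective_iff_surjective.1 hinj) ((h * τ * h⁻¹) • ((x : G) : G ⧸ F))
    have := key _ _ _ hp
    rw [QuotientGroup.out_eq'] at this
    subst this
    exact hp.symm
  have hU : ∀ h : G, h * τ * h⁻¹ = U (h : G) := by
    intro h
    refine inv_mul_eq_one.1 (Subgroup.mem_bot.1 (hcore ▸ ?_))
    rw [Subgroup.normalCore_eq_ker, MonoidHom.mem_ker]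
    refine Equiv.ext fun q => ?_
    rw [MulAction.toPermHom_apply, MulAction.toPerm_apply, Equiv.Perm.one_apply, mul_smul,
      ← hall h q, inv_smul_smul]
  have hcent : ∀ h ∈ F, h * τ * h⁻¹ = τ := by
    intro h hh
    have h1 := hU 1
    rw [one_mul, inv_one, mul_one] at h1
    have h2 : ((h : G) : G ⧸ F) = ((1 : G) : G ⧸ F) := QuotientGroup.eq.2 (by simpa using inv_mem hh)
    rw [hU h, h2, ← h1]
  obtain ⟨P, hP⟩ := (IsPGroup.of_card (n := 1) (by rw [Nat.card_zpowers, hτ2, pow_one]) :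
    IsPGroup 2 (Subgroup.zpowers τ)).exists_le_sylow
  have hτP : τ ∈ P := hP (Subgroup.mem_zpowers τ)
  have hPF := le_of_mem hr hrG har hτ P.2 hτP
  obtain ⟨N, hN, hNodd, hNc⟩ := Cfsg.Agent.S0215.result P τ hτ2 hτP fun g hg =>
    hcent g (mem_of_conj hr hrG har hτ (hPF hg))
  have hNb : N = ⊥ := hN.eq_bot_or_eq_top.resolve_right fun h => by
    subst h
    rw [Subgroup.card_top] at hNodd
    exact absurd (hτ2 ▸ orderOf_dvd_natCard τ) hNodd.not_two_dvd_nat
  have hz : τ ∈ Subgroup.center G := Subgroup.mem_center_iff.2 fun g => by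
    have h := hNc g
    rw [hNb, Subgroup.mem_bot, mul_inv_eq_one, mul_inv_eq_iff_eq_mul] at h
    exact h.symm
  have htop : Subgroup.center G = ⊤ := (inferInstance : (Subgroup.center G).Normal).eq_bot_or_eq_top.resolve_left
    fun h => by
      rw [h, Subgroup.mem_bot] at hz
      rw [hz, orderOf_one] at hτ2
      exact absurd hτ2 (by norm_num)
  exact hG ⟨⟨fun x y => (Subgroup.mem_center_iff.1 (htop ▸ Subgroup.mem_top y) x)⟩⟩

/-- A nontrivial coprime automorphism moves the centralizer of every involution. -/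
theorem moves [IsSimpleGroup G] (hG : ¬ IsMulCommutative G) (hcop : (orderOf a).Coprime (Nat.card G))
    (ha : a ≠ 1) {τ : G} (hτ2 : orderOf τ = 2) (hτ : ∀ c, c * τ = τ * c → a c = c) : False := by
  obtain ⟨r, hr, hrd⟩ := Nat.exists_prime_and_dvd (n := orderOf a) fun h => ha (orderOf_eq_one_iff.1 h)
  have : Finite (MulAut G) := inferInstance
  set b := a ^ (orderOf a / r) with hb
  have hbord : orderOf b = r := orderOf_pow_orderOf_div (orderOf_pos a).ne' hrd
  refine prime_case hG hr (fun h => hr.not_dvd_one (hcop ▸ Nat.dvd_gcd hrd h))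
    (a := b) (hbord ▸ pow_orderOf_eq_one b) (fun h => ?_) hτ2 fun c hc => ?_
  · rw [h, orderOf_one] at hbord
    exact hr.one_lt.ne hbord
  · have : ∀ k : ℕ, (a ^ k) c = c := by
      intro k
      induction k with
      | zero => rfl
      | succ k ih => rw [pow_succ', MulAut.mul_apply, ih, hτ c hc]
    exact this _

end Cfsg.Agent.H52.CoprimeInvol
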