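import Cfsg.Agent.PGroups.Basic
import Cfsg.Agent.PGroups.CyclicMaximal

/-!
An odd `p`-group acting on an abelian `p'`-group in which every element is a product of a fixed
point of `c` and a fixed point of `d`, for `c`, `d` in two generating sets, acts trivially.
-/

set_option autoImplicit false
set_option linter.style.haveILetI false
set_option linter.unusedSectionVars false

namespace Cfsg.Agent.H52

open Subgroup
open scoped commutatorElement

variable {V : Type*} [CommGroup V] [Finite V]

/-- Fixed subgroup of an automorphism. -/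
def fixSub (a : MulAut V) : Subgroup V where
  carrier := {v | a v = v}
  mul_mem' {x y} hx hy := show a (x * y) = x * y by rw [map_mul, hx, hy]
  one_mem' := map_one a
  inv_mem' {x} hx := show a x⁻¹ = x⁻¹ by rw [map_inv, hx]

theorem mem_fixSub {a : MulAut V} {v : V} : v ∈ fixSub a ↔ a v = v := Iff.rfl

/-- A power of an automorphism with fixed displacement. -/
theorem pow_apply_of_shift {a : MulAut V} {v w : V} (hv : a v = w * v) (hw : a w = w) (n : ℕ) :
    (a ^ n) v = w ^ n * v := by
  induction n with
  | zero => simp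
  | succ n ih => rw [pow_succ', MulAut.mul_apply, ih, map_mul, map_pow, hw, hv, pow_succ, mul_assoc]

theorem eq_one_of_pow {p : ℕ} (hV : (Nat.card V).Coprime p) (k : ℕ) {v : V} (h : v ^ p ^ k = 1) : v = 1 := by
  rw [← orderOf_eq_one_iff]
  exact Nat.eq_one_of_dvd_coprimes (Nat.Coprime.pow_right k hV) (orderOf_dvd_natCard v)
    (orderOf_dvd_of_pow_eq_one h)

/-- The norm map of an automorphism of order dividing `p`. -/
def cycleNorm (p : ℕ) (a : MulAut V) : V →* V where
  toFun v := ∏ i ∈ Finset.range p, (a ^ i) v
  map_one' := by simp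
  map_mul' x y := by simp [Finset.prod_mul_distrib]

theorem cycleNorm_fixed {p : ℕ} {a : MulAut V} (ha : a ^ p = 1) (v : V) :
    a (cycleNorm p a v) = cycleNorm p a v := by
  change a (∏ i ∈ Finset.range p, (a ^ i) v) = _
  rw [map_prod]
  have h1 : ∀ i, a ((a ^ i) v) = (a ^ (i + 1)) v := fun i => by rw [pow_succ', MulAut.mul_apply]
  simp only [h1]
  have h2 := Finset.prod_range_succ' (fun i => (a ^ i) v) p
  rw [Finset.prod_range_succ, ha] at h2
  simp only [pow_zero] at h2
  exact (mul_right_cancel h2).symm

theorem cycleNorm_of_fixed {p : ℕ} {a : MulAut V} {v : V} (hv : a v = v) : cycleNorm p a v = v ^ p := by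
  change ∏ i ∈ Finset.range p, (a ^ i) v = v ^ p
  have h : ∀ i, (a ^ i) v = v := by
    intro i
    induction i with
    | zero => simp
    | succ i ih => rw [pow_succ', MulAut.mul_apply, ih, hv]
  simp [h]

theorem cycleNorm_commute {p : ℕ} {a b : MulAut V} (h : Commute a b) (v : V) :
    b (cycleNorm p a v) = cycleNorm p a (b v) := by
  change b (∏ i ∈ Finset.range p, (a ^ i) v) = ∏ i ∈ Finset.range p, (a ^ i) (b v)
  rw [map_prod]
  refine Finset.prod_congr rfl fun i _ => ?_
  rw [← MulAut.mul_apply, ← MulAut.mul_apply, (h.pow_left i).eq]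

section Structure

variable {p : ℕ} [hp : Fact p.Prime] (hV : (Nat.card V).Coprime p) {z e : MulAut V}
  (hzp : z ^ p = 1) (hep : e ^ p = 1) (hze : Commute z e) (hz : fixSub z = ⊥)

/-- The twisted elements `e z^j`. -/
def twist (z e : MulAut V) (j : ZMod p) : MulAut V := e * z ^ j.val

include hzp in
theorem zpow_add (a b : ZMod p) : z ^ (a + b).val = z ^ a.val * z ^ b.val := by
  rw [← pow_add, pow_eq_pow_iff_modEq]
  exact (Nat.ModEq.of_dvd (orderOf_dvd_of_pow_eq_one hzp) (by
    rw [ZMod.val_add]; exact Nat.mod_modEq _ _))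

include hzp hep hze in
theorem twist_pow (j : ZMod p) : (twist z e j) ^ p = 1 := by
  rw [twist, ((hze.pow_left j.val).symm).mul_pow, hep, ← pow_mul, mul_comm, pow_mul, hzp, one_pow, one_mul]

include hze in
theorem twist_commute (j k : ZMod p) : Commute (twist z e j) (twist z e k) := by
  have h1 : Commute e (z ^ k.val) := (hze.pow_left _).symm
  have h2 : Commute (z ^ j.val) e := hze.pow_left _
  exact ((Commute.refl e).mul_right h1).mul_left (h2.mul_right ((Commute.refl z).pow_pow _ _))

include hz in
theorem eq_one_of_fixed_pow (hzp : z ^ p = 1) {n : ℕ} (hn : ¬ p ∣ n) {v : V} (h : (z ^ n) v = v) : v = 1 := by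
  obtain ⟨u, hu⟩ := exists_pow_eq_self_of_coprime (x := z) (n := n) (Nat.Coprime.coprime_dvd_right
    (orderOf_dvd_of_pow_eq_one hzp) ((hp.out.coprime_iff_not_dvd.2 hn).symm))
  have h1 : ((z ^ n) ^ u) v = v := by
    generalize u = i
    induction i with
    | zero => simp
    | succ i ih => rw [pow_succ', MulAut.mul_apply, ih, h]
  rw [hu] at h1
  have : v ∈ fixSub z := h1
  rwa [hz, Subgroup.mem_bot] at this

include hzp hz hze in
theorem eq_one_of_fixed_two {j k : ZMod p} (hjk : j ≠ k) {v : V} (hj : twist z e j v = v)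
    (hk : twist z e k v = v) : v = 1 := by
  refine eq_one_of_fixed_pow hz hzp (n := (j - k).val) ?_ ?_
  · intro hd
    have hlt := ZMod.val_lt (j - k)
    rcases Nat.eq_zero_or_pos (j - k).val with h0 | h0
    · exact hjk (sub_eq_zero.1 ((ZMod.val_eq_zero _).1 h0))
    · exact absurd (Nat.le_of_dvd h0 hd) (by omega)
  · have h1 : twist z e j = twist z e k * z ^ (j - k).val := by
      rw [twist, twist, mul_assoc, ← zpow_add hzp, add_sub_cancel]
    have h2 : Commute (twist z e k) (z ^ (j - k).val) :=
      ((hze.pow_left _).symm).mul_left ((Commute.refl z).pow_pow _ _)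
    rw [h1, h2.eq, MulAut.mul_apply, hk] at hj
    exact hj

include hzp hep hze hz in
theorem prod_cycleNorm (v : V) : ∏ j : ZMod p, cycleNorm p (twist z e j) v = v ^ p := by
  classical
  change ∏ j : ZMod p, ∏ i ∈ Finset.range p, ((twist z e j) ^ i) v = v ^ p
  have hr : Finset.range p = Finset.range ((p - 1) + 1) := by rw [Nat.sub_add_cancel hp.out.one_le]
  rw [Finset.prod_comm, hr, Finset.prod_range_succ']
  rw [show ∏ j : ZMod p, ((twist z e j) ^ 0) v = v ^ p by simp [ZMod.card]]
  rw [Finset.prod_eq_one, one_mul]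
  intro i hi
  rw [Finset.mem_range] at hi
  have hexp : ∀ j : ZMod p, ((twist z e j) ^ (i + 1)) v = (e ^ (i + 1)) ((z ^ ((i + 1) * j.val)) v) := by
    intro j
    rw [twist, ((hze.pow_left j.val).symm).mul_pow, MulAut.mul_apply, ← pow_mul, mul_comm]
  simp only [hexp, ← map_prod]
  suffices h : ∏ j : ZMod p, (z ^ ((i + 1) * j.val)) v = 1 by rw [h, map_one]
  refine eq_one_of_fixed_pow hz hzp (n := i + 1)
    (fun hd => absurd (Nat.le_of_dvd (Nat.succ_pos _) hd) (by omega)) ?_
  rw [map_prod]
  refine Fintype.prod_equiv (Equiv.addRight 1) _ _ fun j => ?_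
  rw [Equiv.coe_addRight, ← MulAut.mul_apply, ← pow_add,
    show i + 1 + (i + 1) * j.val = (i + 1) * (j.val + 1) by ring]
  congr 1
  rw [pow_eq_pow_iff_modEq]
  refine Nat.ModEq.of_dvd (orderOf_dvd_of_pow_eq_one hzp) (Nat.ModEq.mul_left _ ?_)
  rw [ZMod.val_add, ZMod.val_one]
  exact (Nat.mod_modEq _ _).symm

include hV hzp hep hze hz in
theorem card_eq_prod :
    Nat.card V = ∏ j : ZMod p, Nat.card (fixSub (twist z e j)) := by
  classical
  haveI := Fintype.ofFinite V
  rw [← Nat.card_pi]
  have key := prod_cycleNorm hzp hep hze hz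
  refine le_antisymm ?_ ?_
  · refine Nat.card_le_card_of_injective
      (fun v j => (⟨cycleNorm p (twist z e j) v, cycleNorm_fixed (twist_pow hzp hep hze j) v⟩ : fixSub (twist z e j))) ?_
    intro v w h
    have h2 : v ^ p = w ^ p := by
      rw [← key v, ← key w]
      exact Finset.prod_congr rfl fun j _ => congrArg Subtype.val (congrFun h j)
    have h3 : (v * w⁻¹) ^ p ^ 1 = 1 := by rw [pow_one, mul_pow, h2, inv_pow, mul_inv_cancel]
    exact mul_inv_eq_one.1 (eq_one_of_pow hV 1 h3)
  · refine Nat.card_le_card_of_injective (fun w => ∏ j : ZMod p, (w j : V)) ?_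
    intro w w' h
    funext k
    have hk : ∀ u : (∀ j : ZMod p, fixSub (twist z e j)),
        cycleNorm p (twist z e k) (∏ j : ZMod p, (u j : V)) = (u k : V) ^ p := by
      intro u
      rw [map_prod, Finset.prod_eq_single k]
      · exact cycleNorm_of_fixed (u k).2
      · intro j _ hjk
        refine eq_one_of_fixed_two hzp hze hz hjk ?_ (cycleNorm_fixed (twist_pow hzp hep hze k) _)
        rw [cycleNorm_commute (twist_commute hze k j), show twist z e j (u j : V) = (u j : V) from (u j).2]
      · simp
    have h2 := congrArg (cycleNorm p (twist z e k)) h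
    simp only [hk] at h2
    have h3 : ((w k : V) * (w' k : V)⁻¹) ^ p ^ 1 = 1 := by rw [pow_one, mul_pow, h2, inv_pow, mul_inv_cancel]
    exact Subtype.ext (mul_inv_eq_one.1 (eq_one_of_pow hV 1 h3))

include hV hzp hep hze hz in
theorem eq_bot_or_no_move {c : MulAut V} (hcz : Commute c z) {k : ZMod p} (hk : k ≠ 0)
    (hce : c * e * c⁻¹ = e * z ^ k.val) :
    Nat.card (fixSub c) ≤ Nat.card (fixSub (twist z e (0 : ZMod p))) ∧
      Nat.card V = Nat.card (fixSub (twist z e (0 : ZMod p))) ^ p := by
  classical
  haveI := Fintype.ofFinite V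
  have hmove : ∀ j : ZMod p, c * twist z e j * c⁻¹ = twist z e (j + k) := by
    intro j
    have h1 : c * z ^ j.val * c⁻¹ = z ^ j.val := by rw [(hcz.pow_right _).eq, mul_inv_cancel_right]
    calc c * (e * z ^ j.val) * c⁻¹ = (c * e * c⁻¹) * (c * z ^ j.val * c⁻¹) := by group
      _ = e * z ^ k.val * z ^ j.val := by rw [hce, h1]
      _ = e * z ^ (j + k).val := by rw [add_comm, zpow_add hzp, mul_assoc]
  have hpi : ∀ (j : ZMod p) (v : V), c (cycleNorm p (twist z e j) v) = cycleNorm p (twist z e (j + k)) (c v) := by
    intro j v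
    change c (∏ i ∈ Finset.range p, ((twist z e j) ^ i) v) = ∏ i ∈ Finset.range p, ((twist z e (j + k)) ^ i) (c v)
    rw [map_prod]
    refine Finset.prod_congr rfl fun i _ => ?_
    rw [← MulAut.mul_apply, ← MulAut.mul_apply, ← hmove, conj_pow, inv_mul_cancel_right]
  have hcard : ∀ j : ZMod p, Nat.card (fixSub (twist z e j)) = Nat.card (fixSub (twist z e (j + k))) := by
    intro j
    refine Nat.card_congr (Equiv.subtypeEquiv c.toEquiv fun v => ?_)
    change twist z e j v = v ↔ twist z e (j + k) (c v) = c v
    rw [← hmove, MulAut.mul_apply, MulAut.mul_apply, MulAut.inv_apply_self]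
    exact c.injective.eq_iff.symm
  have hall : ∀ j : ZMod p, ∃ i : ℕ, j = (i : ZMod p) * k := fun j => ⟨(j * k⁻¹).val, by
    rw [ZMod.natCast_rightInverse (j * k⁻¹), inv_mul_cancel_right₀ hk]⟩
  have hconst : ∀ j : ZMod p, Nat.card (fixSub (twist z e j)) = Nat.card (fixSub (twist z e (0 : ZMod p))) := by
    intro j
    obtain ⟨i, rfl⟩ := hall j
    induction i with
    | zero => simp
    | succ i ih => rw [Nat.cast_succ, add_mul, one_mul, ← hcard, ih]
  refine ⟨?_, ?_⟩
  · refine Nat.card_le_card_of_injective (fun v =>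
      (⟨cycleNorm p (twist z e (0 : ZMod p)) v, cycleNorm_fixed (twist_pow hzp hep hze 0) _⟩ :
        fixSub (twist z e (0 : ZMod p)))) ?_
    intro v w h
    set u : V := (v : V) * (w : V)⁻¹ with hu
    have hcu : c u = u := by rw [hu, map_mul, map_inv, v.2, w.2]
    have h0 : cycleNorm p (twist z e (0 : ZMod p)) u = 1 := by
      rw [hu, map_mul, map_inv, show cycleNorm p (twist z e (0 : ZMod p)) (v : V) = cycleNorm p (twist z e (0 : ZMod p)) (w : V)
        from congrArg Subtype.val h, mul_inv_cancel]
    have hj : ∀ j : ZMod p, cycleNorm p (twist z e j) u = 1 := by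
      intro j
      obtain ⟨i, rfl⟩ := hall j
      induction i with
      | zero => simpa using h0
      | succ i ih =>
        rw [Nat.cast_succ, add_mul, one_mul]
        conv_lhs => rw [← hcu]
        rw [← hpi, ih, map_one]
    have hzero : u ^ p = 1 := by
      rw [← prod_cycleNorm hzp hep hze hz u]
      exact Finset.prod_eq_one fun j _ => hj j
    have : u = 1 := eq_one_of_pow hV 1 (by rw [pow_one, hzero])
    exact Subtype.ext (mul_inv_eq_one.1 this)
  · rw [card_eq_prod hV hzp hep hze hz, Finset.prod_congr rfl fun j _ => hconst j,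
      Finset.prod_const, Finset.card_univ, ZMod.card]

end Structure

theorem card_le_mul {c d : MulAut V} (h : ∀ v, ∃ a b, c a = a ∧ d b = b ∧ v = a * b) :
    Nat.card V ≤ Nat.card (fixSub c) * Nat.card (fixSub d) := by
  rw [← Nat.card_prod]
  refine Nat.card_le_card_of_surjective (fun x : fixSub c × fixSub d => (x.1 : V) * (x.2 : V)) ?_
  intro v
  obtain ⟨a, b, ha, hb, rfl⟩ := h v
  exact ⟨(⟨a, ha⟩, ⟨b, hb⟩), rfl⟩

universe u

/-- The covering condition forces a trivial action. -/
theorem trivial_of_cover {p : ℕ} [hp : Fact p.Prime] (hp2 : p ≠ 2) {A : Type*} [Group A] [Finite A]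
    (hA : IsPGroup p A) (C D : Set A) (hC : closure C = ⊤) (hD : closure D = ⊤) :
    ∀ (n : ℕ) (V : Type u) [CommGroup V] [Finite V], Nat.card V ≤ n → (Nat.card V).Coprime p →
      ∀ f : A →* MulAut V, (∀ c ∈ C, ∀ d ∈ D, ∀ v, ∃ a b, f c a = a ∧ f d b = b ∧ v = a * b) → f = 1 := by
  intro n
  induction n with
  | zero => intro V _ _ hn; have : 0 < Nat.card V := Nat.card_pos; omega
  | succ n ih =>
    intro V _ _ hn hV f hcov
    by_contra hf
    have hVne : Nontrivial V := by
      by_contra h
      rw [not_nontrivial_iff_subsingleton] at h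
      exact hf (MonoidHom.ext fun a => MulEquiv.ext fun v => Subsingleton.elim _ _)
    have hR : IsPGroup p f.range := hA.of_surjective f.rangeRestrict f.rangeRestrict_surjective
    -- nontrivial central elements act without fixed points
    have hfpf : ∀ a : A, (∀ b, Commute (f a) (f b)) → f a ≠ 1 → fixSub (f a) = ⊥ := by
      intro a hcomm hne
      by_contra hW
      set W : Subgroup V := fixSub (f a) with hWdef
      have hinv : ∀ b, W.map (f b).toMonoidHom = W := by
        intro b
        refine Subgroup.eq_of_le_of_card_ge ?_ (le_of_eq ?_)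
        · rintro _ ⟨w, hw, rfl⟩
          change f a (f b w) = f b w
          rw [← MulAut.mul_apply, (hcomm b).eq, MulAut.mul_apply, mem_fixSub.1 hw]
        · exact (Subgroup.card_map_of_injective (f b).injective).symm
      let f' : A →* MulAut (V ⧸ W) :=
        { toFun := fun b => QuotientGroup.congr W W (f b) (hinv b)
          map_one' := by
            ext x
            induction x using QuotientGroup.induction_on with
            | H v => simp
          map_mul' := fun b b' => by
            ext x
            induction x using QuotientGroup.induction_on with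
            | H v => exact congrArg QuotientGroup.mk (DFunLike.congr_fun (map_mul f b b') v) }
      have hlt : Nat.card (V ⧸ W) < Nat.card V := by
        have h1 := Subgroup.card_eq_card_quotient_mul_card_subgroup W
        have h2 : 1 < Nat.card W := (Subgroup.one_lt_card_iff_ne_bot _).2 hW
        have h3 : 0 < Nat.card (V ⧸ W) := Nat.card_pos
        rw [h1]
        exact lt_mul_of_one_lt_right h3 h2
      have h0 := ih (V ⧸ W) (by omega) (Nat.Coprime.coprime_dvd_left (Subgroup.card_quotient_dvd_card W) hV) f' (by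
        intro c hc d hd x
        induction x using QuotientGroup.induction_on with
        | H v =>
          obtain ⟨x, y, hx, hy, rfl⟩ := hcov c hc d hd v
          exact ⟨QuotientGroup.mk x, QuotientGroup.mk y, congrArg QuotientGroup.mk hx, congrArg QuotientGroup.mk hy, rfl⟩)
      apply hne
      refine MulEquiv.ext fun v => ?_
      have h1 : QuotientGroup.mk (f a v) = (QuotientGroup.mk v : V ⧸ W) := by
        exact DFunLike.congr_fun (DFunLike.congr_fun h0 a) (QuotientGroup.mk v)
      rw [QuotientGroup.eq_iff_div_mem] at h1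
      have hshift : f a v = (f a v / v) * v := (div_mul_cancel _ _).symm
      obtain ⟨k, hk⟩ := hA a
      have h2 := pow_apply_of_shift hshift h1 (p ^ k)
      rw [← map_pow, hk, map_one, MulAut.one_apply] at h2
      have h3 : (f a v / v) ^ p ^ k = 1 := by
        have := h2.symm
        rwa [mul_eq_right] at this
      have h4 := eq_one_of_pow hV k h3
      rw [hshift, h4, one_mul, MulAut.one_apply]
    have hgen : ∀ S : Set A, closure S = ⊤ → ∀ H : Subgroup (MulAut V), (∀ s ∈ S, f s ∈ H) → f.range ≤ H := by
      intro S hS H h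
      rw [MonoidHom.range_eq_map, ← hS, MonoidHom.map_closure, closure_le]
      rintro _ ⟨s, hs, rfl⟩
      exact h s hs
    by_cases hcyc : IsCyclic f.range
    · have hcomm : ∀ a b, Commute (f a) (f b) := by
        intro a b
        haveI := hcyc
        letI := IsCyclic.commGroup (α := f.range)
        exact congrArg Subtype.val (mul_comm (⟨f a, a, rfl⟩ : f.range) ⟨f b, b, rfl⟩)
      have hex : ∀ S : Set A, closure S = ⊤ → ∃ s ∈ S, fixSub (f s) = ⊥ := by
        intro S hS
        by_contra h
        refine hf (MonoidHom.range_eq_bot_iff.1 (le_bot_iff.1 (hgen S hS ⊥ fun s hs => ?_)))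
        by_contra hne
        exact h ⟨s, hs, hfpf s (hcomm s) hne⟩
      obtain ⟨c, hc, hc'⟩ := hex C hC
      obtain ⟨d, hd, hd'⟩ := hex D hD
      have := card_le_mul (hcov c hc d hd)
      rw [hc', hd', Subgroup.card_bot] at this
      have := Finite.one_lt_card (α := V)
      omega
    · obtain ⟨E, hEn, hEc, hEp, hEcard⟩ := Cfsg.Agent.PGroups.exists_normal_elementary_sq hR hp2 hcyc
      haveI := hEn
      have hEne : E ≠ ⊥ := fun h => by
        rw [h, Subgroup.card_bot] at hEcard
        have := Nat.one_lt_pow (n := 2) (by norm_num) hp.out.one_lt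
        omega
      obtain ⟨⟨z, hzEZ⟩, hz1⟩ := (Subgroup.ne_bot_iff_exists_ne_one).1 (Cfsg.Agent.PGroups.inf_center_ne_bot hR E hEne)
      have hz1' : z ≠ 1 := fun h => hz1 (Subtype.ext h)
      obtain ⟨hzE, hzc⟩ := Subgroup.mem_inf.1 hzEZ
      have hzord : orderOf z = p := orderOf_eq_prime (hEp z hzE) hz1'
      obtain ⟨e, heE, hez⟩ : ∃ e ∈ E, e ∉ zpowers z := by
        by_contra h
        simp only [not_exists, not_and, not_not] at h
        have h1 := Subgroup.card_le_of_le h
        rw [hEcard, Nat.card_zpowers, hzord, pow_two] at h1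
        exact absurd h1 (not_le.2 (lt_mul_of_one_lt_right hp.out.pos hp.out.one_lt))
      haveI hZn : (zpowers z).Normal := ⟨fun x hx g => by
        obtain ⟨i, rfl⟩ := hx
        rw [(Subgroup.mem_center_iff.1 (zpow_mem hzc i) g), mul_inv_cancel_right]
        exact ⟨i, rfl⟩⟩
      have hshift : ∀ g : f.range, ∃ k : ZMod p, g * e * g⁻¹ = e * z ^ k.val := by
        intro g
        have hq : Nat.card (E.map (QuotientGroup.mk' (zpowers z))) = p := by
          have h1 := Subgroup.card_mul_index ((zpowers z).subgroupOf E)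
          rw [Nat.card_congr (subgroupOfEquivOfLe (zpowers_le.2 hzE)).toEquiv, Nat.card_zpowers, hzord,
            hEcard, pow_two] at h1
          have h2 : Nat.card (E.map (QuotientGroup.mk' (zpowers z))) = (zpowers z).relIndex E := by
            rw [← Subgroup.relIndex_ker, QuotientGroup.ker_mk']
          rw [h2]
          exact Nat.eq_of_mul_eq_mul_left hp.out.pos h1
        haveI : (E.map (QuotientGroup.mk' (zpowers z))).Normal := hEn.map _ (QuotientGroup.mk'_surjective _)
        have hc := Cfsg.Agent.PGroups.le_center_of_card_eq (hR.to_quotient (zpowers z)) _ hq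
          (Subgroup.mem_map_of_mem (QuotientGroup.mk' (zpowers z)) heE)
        have h3 := Subgroup.mem_center_iff.1 hc (QuotientGroup.mk' (zpowers z) g)
        rw [← map_mul, ← map_mul] at h3
        have h4 : e⁻¹ * (g * e * g⁻¹) ∈ zpowers z := by
          rw [← QuotientGroup.eq_one_iff, ← QuotientGroup.mk'_apply (zpowers z), map_mul, map_mul (QuotientGroup.mk' (zpowers z)) (g * e), h3, map_mul]
          simp
        obtain ⟨k, hk⟩ := mem_powers_iff_mem_zpowers.2 h4
        refine ⟨(k : ZMod p), ?_⟩
        rw [ZMod.val_natCast, ← hzord, pow_mod_orderOf]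
        change z ^ k = e⁻¹ * (g * e * g⁻¹) at hk
        rw [hk, mul_inv_cancel_left]
      have hzfix : fixSub (z : MulAut V) = ⊥ := by
        obtain ⟨a, ha⟩ := z.2
        rw [← ha]
        refine hfpf a (fun b => ?_) (fun h => hz1' (Subtype.ext (ha.symm.trans h)))
        rw [ha]
        exact (congrArg Subtype.val (Subgroup.mem_center_iff.1 hzc ⟨f b, b, rfl⟩)).symm
      have hzp : (z : MulAut V) ^ p = 1 := congrArg Subtype.val (hEp z hzE)
      have hep : (e : MulAut V) ^ p = 1 := congrArg Subtype.val (hEp e heE)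
      have hze : Commute (z : MulAut V) e := congrArg Subtype.val
        (congrArg Subtype.val (hEc.is_comm.comm ⟨z, hzE⟩ ⟨e, heE⟩))
      by_cases hecen : e ∈ center f.range
      · have h1 : ∀ j : ZMod p, fixSub (twist (z : MulAut V) e j) = ⊥ := by
          intro j
          have hmem : e * z ^ j.val ∈ center f.range := mul_mem hecen (pow_mem hzc _)
          have hne : e * z ^ j.val ≠ 1 := fun h => hez (by
            rw [mul_eq_one_iff_eq_inv] at h; rw [h]; exact inv_mem (pow_mem (mem_zpowers z) _))
          obtain ⟨a, ha⟩ := (e * z ^ j.val).2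
          have h2 : twist (z : MulAut V) e j = f a := by rw [ha]; simp [twist]
          rw [h2]
          refine hfpf a (fun b => ?_) (fun h => hne (Subtype.ext (ha.symm.trans h)))
          rw [ha]
          exact (congrArg Subtype.val (Subgroup.mem_center_iff.1 hmem ⟨f b, b, rfl⟩)).symm
        have h3 := card_eq_prod hV hzp hep hze hzfix
        simp only [h1, Subgroup.card_bot, Finset.prod_const_one] at h3
        have := Finite.one_lt_card (α := V)
        omega
      · have hex : ∀ S : Set A, closure S = ⊤ → ∃ s ∈ S, ∃ k : ZMod p, k ≠ 0 ∧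
            f s * (e : MulAut V) * (f s)⁻¹ = (e : MulAut V) * (z : MulAut V) ^ k.val := by
          intro S hS
          by_contra h
          refine hecen (Subgroup.mem_center_iff.2 fun g => Subtype.ext ?_)
          have hle := hgen S hS (centralizer {(e : MulAut V)}) fun s hs => by
            obtain ⟨k, hk⟩ := hshift ⟨f s, s, rfl⟩
            have hk0 : k = 0 := by
              by_contra hk0
              exact h ⟨s, hs, k, hk0, congrArg Subtype.val hk⟩
            rw [hk0, ZMod.val_zero, pow_zero, mul_one, mul_inv_eq_iff_eq_mul] at hk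
            exact mem_centralizer_singleton_iff.2 (congrArg Subtype.val hk)
          exact mem_centralizer_singleton_iff.1 (hle g.2)
        have hbound : ∀ S : Set A, closure S = ⊤ → ∃ s ∈ S,
            Nat.card (fixSub (f s)) ≤ Nat.card (fixSub (twist (z : MulAut V) e (0 : ZMod p))) ∧
            Nat.card V = Nat.card (fixSub (twist (z : MulAut V) e (0 : ZMod p))) ^ p := by
          intro S hS
          obtain ⟨s, hs, k, hk, hk'⟩ := hex S hS
          exact ⟨s, hs, eq_bot_or_no_move hV hzp hep hze hzfix
            (congrArg Subtype.val (Subgroup.mem_center_iff.1 hzc ⟨f s, s, rfl⟩)) hk hk'⟩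
        obtain ⟨c, hc, hcle, hcard⟩ := hbound C hC
        obtain ⟨d, hd, hdle, -⟩ := hbound D hD
        have h4 := (card_le_mul (hcov c hc d hd)).trans (Nat.mul_le_mul hcle hdle)
        rw [hcard, ← pow_two] at h4
        have hlt : 2 < p := lt_of_le_of_ne hp.out.two_le (Ne.symm hp2)
        have hone : 1 < Nat.card V := Finite.one_lt_card
        rw [hcard] at hone
        have hw : 1 < Nat.card (fixSub (twist (z : MulAut V) e (0 : ZMod p))) :=
          (Nat.one_lt_pow_iff hp.out.ne_zero).1 hone
        exact absurd h4 (not_le.2 (Nat.pow_lt_pow_right hw hlt))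

end Cfsg.Agent.H52
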