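import Cfsg.Agent.H52.NilpotentPerm

/-!
Nilpotent groups of even permutations: the bound by the Sylow 2-subgroup of the alternating group.
-/

set_option autoImplicit false
set_option linter.style.haveILetI false
set_option linter.unusedFintypeInType false

namespace Cfsg.Agent.H52.NilpotentPerm

open Equiv

theorem v_four : v 4 = 3 := by simpa [v_one] using v_four_mul_add 1 0 (by norm_num)

theorem v_eight : v 8 = 7 := by simpa [v_two] using v_four_mul_add 2 0 (by norm_num)

theorem v_add_eight (n : ℕ) : v n + 7 ≤ v (n + 8) := by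
  have := v_add_le n 8
  rw [v_eight] at this
  exact this

theorem v_pos {n : ℕ} (hn : 2 ≤ n) : 1 ≤ v n := by
  have := v_mono hn
  rwa [v_two] at this

theorem bound_succ {x : ℕ} (hx : Odd x) : 2 * bound x ≤ bound (x + 1) := by
  obtain ⟨i, rfl | rfl⟩ : ∃ i, x = 4 * i + 1 ∨ x = 4 * i + 3 := by
    obtain ⟨k, rfl⟩ := hx
    exact ⟨k / 2, by omega⟩
  · rw [bound, bound, if_neg (by omega), if_neg (by omega), v_four_mul_add i 1 (by norm_num),
      show 4 * i + 1 + 1 = 4 * i + 2 by ring, v_four_mul_add i 2 (by norm_num)]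
    norm_num [pow_add]
    nlinarith [Nat.one_le_two_pow (n := v i), Nat.one_le_two_pow (n := 3 * i)]
  · rw [bound, bound, if_pos (by omega), if_neg (by omega), v_four_mul_add i 3 (by norm_num),
      show 4 * i + 3 + 1 = 4 * (i + 1) + 0 by ring, v_four_mul_add (i + 1) 0 (by norm_num)]
    have hi := v_mono (Nat.le_succ i)
    calc 2 * (3 * 2 ^ (3 * i + 3 / 2 + v i)) ≤ 2 * 2 ^ (3 * i + 3 + v i) := by
          norm_num [pow_add]; nlinarith [Nat.one_le_two_pow (n := v i), Nat.one_le_two_pow (n := 3 * i)]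
      _ ≤ 2 * 2 ^ (3 * (i + 1) + 0 / 2 + v (i + 1)) :=
          Nat.mul_le_mul_left _ (Nat.pow_le_pow_right two_pos (by simp only [Nat.zero_div, add_zero]; have : v i ≤ v (i + 1) := v_mono (Nat.le_succ i); omega))

theorem eight_step {c d X Y j : ℕ} (h1 : c * 3 ^ j ≤ d * X) (h2 : X * 2 ^ 14 ≤ Y) :
    c * (3 ^ j * 3 ^ 8) ≤ d * Y :=
  calc c * (3 ^ j * 3 ^ 8) = c * 3 ^ j * 3 ^ 8 := (mul_assoc _ _ _).symm
    _ ≤ d * X * 2 ^ 14 := Nat.mul_le_mul h1 (by norm_num)
    _ = d * (X * 2 ^ 14) := mul_assoc _ _ _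
    _ ≤ d * Y := Nat.mul_le_mul_left _ h2

theorem three_le_of_not_two {p : ℕ} (hp : p.Prime) (h : p ≠ 2) : 3 ≤ p := by have := hp.two_le; omega

/-- The order of a transitive nilpotent group. -/
theorem transitive_dvd {α : Type*} [Finite α] [Nonempty α] (N : Subgroup (Perm α)) [Group.IsNilpotent N]
    (ht : ∀ x y : α, ∃ g ∈ N, g x = y) :
    Nat.card N ∣ ∏ p ∈ (Nat.card α).primeFactors,
      p ^ padicValNat p (p ^ (Nat.card α).factorization p).factorial := by
  obtain ⟨x⟩ := ‹Nonempty α›
  refine Nat.dvd_iff_prime_pow_dvd_dvd _ _ |>.mpr fun p k hp hpk => ?_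
  haveI := Fact.mk hp
  obtain ⟨P⟩ : Nonempty (Sylow p N) := inferInstance
  obtain ⟨a, ha, hP⟩ := sylow_dvd ht x P
  refine dvd_trans (P.pow_dvd_card_of_pow_dvd_card hpk) (dvd_trans hP ?_)
  by_cases hmem : p ∈ (Nat.card α).primeFactors
  · refine dvd_trans (Nat.pow_dvd_pow p ?_) (Finset.dvd_prod_of_mem _ hmem)
    exact (padicValNat_dvd_iff_le (Nat.factorial_ne_zero _)).1 (pow_padicValNat_dvd.trans
      (Nat.factorial_dvd_factorial (Nat.pow_le_pow_right hp.pos
        ((hp.pow_dvd_iff_le_factorization Nat.card_pos.ne').1 ha))))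
  · have : a = 0 := by
      by_contra h0
      exact hmem (Nat.mem_primeFactors.2 ⟨hp, (dvd_pow_self p h0).trans ha, Nat.card_pos.ne'⟩)
    subst this
    simp

theorem transitive_card_dvd {α : Type*} [Finite α] (N : Subgroup (Perm α)) (x : α)
    (ht : ∀ y : α, ∃ g ∈ N, g x = y) : Nat.card α ∣ Nat.card N := by
  have h := Nat.card_congr (MulAction.orbitEquivQuotientStabilizer N x)
  have h' : Nat.card (MulAction.orbit N x) = Nat.card α := by
    refine Nat.card_congr (Equiv.subtypeUnivEquiv fun y => ?_)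
    obtain ⟨g, hg, rfl⟩ := ht y
    exact ⟨⟨g, hg⟩, rfl⟩
  rw [h'] at h
  rw [h]
  exact Subgroup.card_quotient_dvd_card _

theorem sq_prime_part {p : ℕ} [hp : Fact p.Prime] (hp2 : p ≠ 2) (a : ℕ) :
    (p ^ padicValNat p (p ^ a).factorial) ^ 2 ≤ 3 ^ (p ^ a - 1) := by
  set e := padicValNat p (p ^ a).factorial
  have h1 := sub_one_mul_padicValNat_factorial_lt_of_ne_zero p (pow_ne_zero a hp.out.ne_zero)
  calc (p ^ e) ^ 2 = (p ^ 2) ^ e := by rw [← pow_mul, ← pow_mul, mul_comm]
    _ ≤ (3 ^ (p - 1)) ^ e := Nat.pow_le_pow_left (sq_le_three_pow (three_le_of_not_two hp.out hp2)) e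
    _ ≤ 3 ^ (p ^ a - 1) := by rw [← pow_mul]; exact Nat.pow_le_pow_right (by norm_num) (Nat.le_sub_one_of_lt h1)

theorem sq_prod_prime_parts (n : ℕ) (hn : Odd n) :
    (∏ p ∈ n.primeFactors, p ^ padicValNat p (p ^ n.factorization p).factorial) ^ 2 ≤ 3 ^ (n - 1) := by
  have key : ∀ S : Finset ℕ, S ⊆ n.primeFactors →
      (∏ p ∈ S, p ^ padicValNat p (p ^ n.factorization p).factorial) ^ 2 ≤ 3 ^ ((∏ p ∈ S, p ^ n.factorization p) - 1) ∧
        1 ≤ ∏ p ∈ S, p ^ n.factorization p := by
    intro S
    induction S using Finset.induction_on with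
    | empty => intro _; simp
    | @insert q S hq ih =>
      intro hS
      have hqm : q ∈ n.primeFactors := hS (Finset.mem_insert_self q S)
      haveI := Fact.mk (Nat.prime_of_mem_primeFactors hqm)
      have hq2 : q ≠ 2 := by
        rintro rfl
        exact Nat.not_even_iff_odd.2 hn (even_iff_two_dvd.2 (Nat.dvd_of_mem_primeFactors hqm))
      obtain ⟨h1, h2⟩ := ih fun x hx => hS (Finset.mem_insert_of_mem hx)
      rw [Finset.prod_insert hq, Finset.prod_insert hq]
      have hQ1 : 1 ≤ q ^ n.factorization q := Nat.one_le_pow _ _ (Nat.pos_of_mem_primeFactors hqm)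
      refine ⟨?_, Nat.mul_pos hQ1 h2⟩
      rw [mul_pow]
      refine le_trans (Nat.mul_le_mul (sq_prime_part hq2 _) h1) ?_
      rw [← pow_add]
      refine Nat.pow_le_pow_right (by norm_num) ?_
      obtain ⟨a, ha⟩ := Nat.exists_eq_add_of_le hQ1
      obtain ⟨b, hb⟩ := Nat.exists_eq_add_of_le h2
      rw [ha, hb, show (1 + a) * (1 + b) = 1 + a + b + a * b by ring]
      omega
  have h := (key n.primeFactors subset_rfl).1
  rwa [show ∏ p ∈ n.primeFactors, p ^ n.factorization p = n from
    Nat.prod_factorization_pow_eq_self (by rintro rfl; exact absurd hn (by decide))] at h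

/-- The point of an invariant decomposition. -/
structure Split {α : Type*} (N : Subgroup (Perm α)) where
  q : α → Prop
  inv : ∀ g ∈ N, ∀ a, q (g a) ↔ q a
  inv' : ∀ g ∈ N, ∀ a, ¬ q (g a) ↔ ¬ q a
  ne : Nonempty (Subtype q)
  ne' : Nonempty {a // ¬ q a}
  trans : ∃ x, q x ∧ ∀ y, q y → ∃ g ∈ N, g x = y

theorem exists_split {α : Type*} (N : Subgroup (Perm α)) (x : α) (h : ¬ ∀ y : α, ∃ g ∈ N, g x = y) :
    Nonempty (Split N) := by
  push Not at h
  obtain ⟨y, hy⟩ := h
  have hq : ∀ g ∈ N, ∀ z, (∃ h ∈ N, h x = g z) ↔ ∃ h ∈ N, h x = z := by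
    intro g hg z
    constructor
    · rintro ⟨h, hh, hz⟩
      exact ⟨g⁻¹ * h, N.mul_mem (N.inv_mem hg) hh, by simp [hz]⟩
    · rintro ⟨h, hh, rfl⟩
      exact ⟨g * h, N.mul_mem hg hh, rfl⟩
  exact ⟨⟨fun z => ∃ g ∈ N, g x = z, hq, fun g hg z => not_congr (hq g hg z), ⟨⟨x, 1, N.one_mem, rfl⟩⟩,
    ⟨⟨y, fun ⟨g, hg, e⟩ => hy g hg e⟩⟩, x, ⟨1, N.one_mem, rfl⟩, fun _ h => h⟩⟩

namespace Split

variable {α : Type*} {N : Subgroup (Perm α)} (s : Split N)

/-- The action on the first part. -/
def fst : N →* Perm (Subtype s.q) := restrictHom N s.q s.inv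

/-- The action on the second part. -/
def snd : N →* Perm {a // ¬ s.q a} := restrictHom N (fun a => ¬ s.q a) s.inv'

theorem injective : Function.Injective (fun g => (s.fst.rangeRestrict g, s.snd.rangeRestrict g)) := by
  intro g g' h
  refine Subtype.ext (Equiv.ext fun z => ?_)
  by_cases hz : s.q z
  · exact congrArg Subtype.val (Equiv.Perm.ext_iff.1 (congrArg Subtype.val (congrArg Prod.fst h)) ⟨z, hz⟩)
  · exact congrArg Subtype.val (Equiv.Perm.ext_iff.1 (congrArg Subtype.val (congrArg Prod.snd h)) ⟨z, hz⟩)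

theorem card_le [Finite α] : Nat.card N ≤ Nat.card s.fst.range * Nat.card s.snd.range := by
  rw [← Nat.card_prod]
  exact Nat.card_le_card_of_injective _ s.injective

theorem card_add [Finite α] : Nat.card (Subtype s.q) + Nat.card {a // ¬ s.q a} = Nat.card α := by
  classical
  rw [← Nat.card_sum, Nat.card_congr (Equiv.sumCompl s.q)]

theorem card_pos [Finite α] : 0 < Nat.card (Subtype s.q) ∧ 0 < Nat.card {a // ¬ s.q a} :=
  ⟨Nat.card_pos_iff.2 ⟨s.ne, inferInstance⟩, Nat.card_pos_iff.2 ⟨s.ne', inferInstance⟩⟩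

theorem sign_eq [Fintype α] [DecidableEq α] [DecidablePred s.q] (g : N) :
    Perm.sign (g : Perm α) = Perm.sign (s.fst g) * Perm.sign (s.snd g) := by
  rw [← Perm.sign_sumCongr, ← Perm.sign_permCongr (Equiv.sumCompl s.q)]
  congr 1
  refine Equiv.ext fun z => ?_
  rw [Equiv.permCongr_apply]
  by_cases hz : s.q z
  · rw [Equiv.sumCompl_symm_apply_of_pos hz]; rfl
  · rw [Equiv.sumCompl_symm_apply_of_neg hz]; rfl

/-- If the action on the first part is not even, an even group has index two in the product. -/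
theorem two_mul_card_le [Fintype α] [DecidableEq α] [DecidablePred s.q] (hN : ∀ g ∈ N, Perm.sign g = 1)
    {g : N} (hg : Perm.sign (s.fst g) ≠ 1) :
    2 * Nat.card N ≤ Nat.card s.fst.range * Nat.card s.snd.range := by
  let Φ : N →* s.fst.range × s.snd.range := s.fst.rangeRestrict.prod s.snd.rangeRestrict
  let χ : s.fst.range × s.snd.range →* ℤˣ :=
    ((Perm.sign.comp s.fst.range.subtype).comp (MonoidHom.fst _ _)) *
      ((Perm.sign.comp s.snd.range.subtype).comp (MonoidHom.snd _ _))
  have hle : Φ.range ≤ χ.ker := by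
    rintro _ ⟨h, rfl⟩
    exact (s.sign_eq h).symm.trans (hN h h.2)
  have hne : χ.ker ≠ ⊤ := by
    intro htop
    have : ((s.fst.rangeRestrict g, 1) : s.fst.range × s.snd.range) ∈ χ.ker := htop ▸ Subgroup.mem_top _
    rw [MonoidHom.mem_ker] at this
    simp [χ] at this
    exact hg this
  have h1 : Nat.card N ≤ Nat.card χ.ker :=
    le_trans (le_of_eq (Nat.card_congr (MonoidHom.ofInjective (f := Φ) s.injective).toEquiv))
      (Subgroup.card_le_of_le hle)
  have h2 := χ.ker.card_mul_index
  have h3 : 2 ≤ χ.ker.index := by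
    have : χ.ker.index ≠ 1 := fun h => hne (Subgroup.index_eq_one.1 h)
    have := Subgroup.index_ne_zero_of_finite (H := χ.ker)
    omega
  rw [← Nat.card_prod, ← h2]
  calc 2 * Nat.card N ≤ χ.ker.index * Nat.card χ.ker := Nat.mul_le_mul h3 h1
    _ = _ := mul_comm _ _

end Split

theorem odd_card_range {α β : Type*} [Group α] [Group β] [Finite α] (f : α →* β) (h : Odd (Nat.card α)) :
    Odd (Nat.card f.range) := h.of_dvd_nat (Subgroup.card_range_dvd f)

/-- Nilpotent groups of odd order. -/
theorem odd_bound : ∀ (m : ℕ) (α : Type*) [Finite α] (N : Subgroup (Perm α)), Nat.card α = m → 1 ≤ m →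
    Group.IsNilpotent N → Odd (Nat.card N) →
    3 * Nat.card N ^ 2 ≤ 3 ^ m ∧ (Even m → 9 * Nat.card N ^ 2 ≤ 3 ^ m) ∧
      ((∃ x y : α, ∀ g ∈ N, g x ≠ y) → Odd m → 27 * Nat.card N ^ 2 ≤ 3 ^ m) := by
  intro m
  induction m using Nat.strong_induction_on with
  | _ m ih =>
    intro α _ N hm hm1 hnil hodd
    haveI : Nonempty α := (Nat.card_pos_iff.1 (hm ▸ hm1)).1
    obtain ⟨x⟩ := ‹Nonempty α›
    by_cases ht : ∀ y : α, ∃ g ∈ N, g x = y
    · have hmodd : Odd m := hodd.of_dvd_nat (hm ▸ transitive_card_dvd N x ht)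
      have ht' : ∀ y z : α, ∃ g ∈ N, g y = z := fun y z => by
        obtain ⟨g, hg, rfl⟩ := ht y
        obtain ⟨h, hh, rfl⟩ := ht z
        exact ⟨h * g⁻¹, N.mul_mem hh (N.inv_mem hg), by simp⟩
      refine ⟨?_, fun he => absurd he (Nat.not_even_iff_odd.2 hmodd), fun ⟨y, z, hyz⟩ => ?_⟩
      · have h1 := Nat.le_of_dvd (Finset.prod_pos fun p hp => pow_pos (Nat.pos_of_mem_primeFactors hp) _)
          (transitive_dvd N ht')
        rw [hm] at h1
        calc 3 * Nat.card N ^ 2 ≤ 3 * 3 ^ (m - 1) :=
              Nat.mul_le_mul_left _ ((Nat.pow_le_pow_left h1 2).trans (sq_prod_prime_parts m hmodd))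
          _ = 3 ^ m := by rw [← pow_succ']; congr 1; omega
      · obtain ⟨g, hg, e⟩ := ht' y z
        exact absurd e (hyz g hg)
    · obtain ⟨s⟩ := exists_split N x ht
      have hle := s.card_le
      have hsum := s.card_add
      obtain ⟨hp1, hp2⟩ := s.card_pos
      haveI := hnil
      obtain ⟨h1, h1e, -⟩ := ih (Nat.card (Subtype s.q)) (by omega) _ s.fst.range rfl hp1 (isNilpotent_range _)
        (odd_card_range _ hodd)
      obtain ⟨h2, h2e, -⟩ := ih (Nat.card {a // ¬ s.q a}) (by omega) _ s.snd.range rfl hp2 (isNilpotent_range _)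
        (odd_card_range _ hodd)
      have h3 := Nat.pow_le_pow_left hle 2
      rw [← hm, ← hsum, pow_add, mul_pow] at *
      refine ⟨?_, fun _ => ?_, fun _ hsodd => ?_⟩
      · nlinarith [Nat.mul_le_mul h1 h2]
      · nlinarith [Nat.mul_le_mul h1 h2]
      · rcases Nat.even_or_odd (Nat.card (Subtype s.q)) with he | ho
        · nlinarith [Nat.mul_le_mul (h1e he) h2]
        · rcases Nat.even_or_odd (Nat.card {a // ¬ s.q a}) with he' | ho'
          · nlinarith [Nat.mul_le_mul h1 (h2e he')]
          · exact absurd hsodd (Nat.not_odd_iff_even.2 (ho.add_odd ho'))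

/-- A 2-group of even permutations. -/
theorem two_group_bound {α : Type*} [Fintype α] [DecidableEq α] (hn : 2 ≤ Nat.card α) (N : Subgroup (Perm α))
    (hN : ∀ g ∈ N, Perm.sign g = 1) (h2 : IsPGroup 2 N) : 2 * Nat.card N ≤ 2 ^ v (Nat.card α) := by
  haveI : Nontrivial α := Finite.one_lt_card_iff_nontrivial.1 hn
  obtain ⟨e, he⟩ := IsPGroup.iff_card.1 h2
  have hle : N ≤ alternatingGroup α := fun g hg => Perm.mem_alternatingGroup.2 (hN g hg)
  have hd : 2 ^ (e + 1) ∣ (Nat.card α).factorial := by
    rw [← Nat.card_perm, ← two_mul_nat_card_alternatingGroup, pow_succ']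
    exact Nat.mul_dvd_mul_left 2 (he ▸ Subgroup.card_dvd_of_le hle)
  haveI := Fact.mk Nat.prime_two
  rw [he, ← pow_succ']
  exact Nat.pow_le_pow_right two_pos ((padicValNat_dvd_iff_le (Nat.factorial_ne_zero _)).1 hd)

theorem bound_lower (n : ℕ) : 2 * 2 ^ v n ≤ bound n := Nat.mul_le_mul_right _ (by split_ifs <;> norm_num)

/-- An even nilpotent group of even order is at most half of the bound. -/
theorem four_mul_card_le : ∀ (m : ℕ) (α : Type*) [Fintype α] [DecidableEq α] (N : Subgroup (Perm α)),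
    Nat.card α = m → Group.IsNilpotent N → (∀ g ∈ N, Perm.sign g = 1) → ¬ Odd (Nat.card N) →
    4 * Nat.card N ≤ bound m := by
  intro m
  induction m using Nat.strong_induction_on with
  | _ m ih =>
    intro α _ _ N hm hnil hN hodd
    haveI := hnil
    have hm2 : 2 ≤ m := by
      by_contra hc
      haveI : Subsingleton α := Finite.card_le_one_iff_subsingleton.1 (by omega)
      apply hodd
      rw [Nat.card_eq_one_iff_unique.2 ⟨inferInstance, inferInstance⟩]
      exact odd_one
    haveI : Nonempty α := (Nat.card_pos_iff.1 (by omega : 0 < Nat.card α)).1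
    obtain ⟨x⟩ := ‹Nonempty α›
    by_cases ht : ∀ y : α, ∃ g ∈ N, g x = y
    · have ht' : ∀ y z : α, ∃ g ∈ N, g y = z := fun y z => by
        obtain ⟨g, hg, rfl⟩ := ht y
        obtain ⟨h, hh, rfl⟩ := ht z
        exact ⟨h * g⁻¹, N.mul_mem hh (N.inv_mem hg), by simp⟩
      by_cases h2g : IsPGroup 2 N
      · have := two_group_bound (by omega) N hN h2g
        rw [hm] at this
        have := bound_lower m
        omega
      have hd := transitive_dvd N ht'
      rw [hm] at hd
      set f : ℕ → ℕ := fun p => p ^ padicValNat p (p ^ m.factorization p).factorial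
      have h2mem : 2 ∈ m.primeFactors := by
        by_contra h2
        apply hodd
        refine Odd.of_dvd_nat ?_ hd
        rw [Nat.odd_iff, Finset.prod_nat_mod]
        refine Nat.odd_iff.1 (Finset.prod_induction _ Odd (fun _ _ => Odd.mul) odd_one fun p hp => ?_)
        have hp' := Nat.prime_of_mem_primeFactors hp
        have hne : p ≠ 2 := fun h => h2 (h ▸ hp)
        exact (Nat.odd_iff.1 ((hp'.odd_of_ne_two hne).pow)).symm ▸ odd_one
      have hle := Nat.le_of_dvd (Finset.prod_pos fun p hp => pow_pos (Nat.pos_of_mem_primeFactors hp) _) hd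
      have hsplit : ∏ p ∈ m.primeFactors, f p = f 2 * ∏ p ∈ m.primeFactors.erase 2, f p :=
        (Finset.mul_prod_erase _ _ h2mem).symm
      set o := m / 2 ^ m.factorization 2 with ho
      have hmo : 2 ^ m.factorization 2 * o = m := Nat.ordProj_mul_ordCompl_eq_self m 2
      have hoodd : Odd o := Nat.odd_iff.2 (Nat.two_dvd_ne_zero.1 (Nat.not_dvd_ordCompl Nat.prime_two (by omega)))
      have hopf : o.primeFactors = m.primeFactors.erase 2 := by
        rw [← Nat.support_factorization o, ← Nat.support_factorization m, ho, Nat.factorization_ordCompl,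
          Finsupp.support_erase]
      have hofac : ∀ p ∈ m.primeFactors.erase 2, o.factorization p = m.factorization p := by
        intro p hp
        rw [ho, Nat.factorization_ordCompl, Finsupp.erase_ne (Finset.ne_of_mem_erase hp)]
      have ho1 : 1 < o := by
        by_contra hc
        have ho_one : o = 1 := by rcases hoodd with ⟨k, hk⟩; omega
        apply h2g
        rw [ho_one, mul_one] at hmo
        have hsub : m.primeFactors.erase 2 = ∅ := by rw [← hopf, ho_one]; simp
        rw [hsplit, hsub, Finset.prod_empty, mul_one] at hd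
        obtain ⟨e, -, he⟩ := (Nat.dvd_prime_pow Nat.prime_two).1 hd
        exact IsPGroup.of_card he
      haveI := Fact.mk Nat.prime_two
      have h2b := prime_pow_bound (p := 2) (m.factorization 2)
      have hob := prod_prime_pow_bound o (by omega)
      rw [hopf, Finset.prod_congr rfl fun p hp => by rw [hofac p hp]] at hob
      have h5 : 2 * (2 * Nat.card N) ≤ 2 * bound (2 ^ m.factorization 2 + o) := by
        refine le_trans ?_ (bound_add _ _)
        refine le_trans ?_ (Nat.mul_le_mul h2b hob)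
        change 2 * (2 * Nat.card N) ≤ 2 * f 2 * (2 * ∏ p ∈ m.primeFactors.erase 2, f p)
        have : Nat.card N ≤ f 2 * ∏ p ∈ m.primeFactors.erase 2, f p := hsplit ▸ hle
        nlinarith
      have hA : 2 ≤ 2 ^ m.factorization 2 := Nat.le_self_pow
        (Finsupp.mem_support_iff.1 (by rwa [Nat.support_factorization])) 2
      have hsum_odd : Odd (2 ^ m.factorization 2 + o) :=
        Even.add_odd (even_iff_two_dvd.2 (dvd_pow_self 2
          (Finsupp.mem_support_iff.1 (by rwa [Nat.support_factorization])))) hoodd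
      have h6 := bound_succ hsum_odd
      have h7 : bound (2 ^ m.factorization 2 + o + 1) ≤ bound m := by
        refine bound_mono ?_
        have : 3 ≤ o := by rcases hoodd with ⟨k, hk⟩; omega
        calc 2 ^ m.factorization 2 + o + 1 ≤ 2 ^ m.factorization 2 * o := by nlinarith
          _ = m := hmo
      omega
    · obtain ⟨s⟩ := exists_split N x ht
      classical
      have hsum := s.card_add
      obtain ⟨hp1, hp2⟩ := s.card_pos
      have hle := s.card_le
      have b1 := @NilpotentPerm.two_mul_card_le _ _ s.fst.range (isNilpotent_range _)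
      have b2 := @NilpotentPerm.two_mul_card_le _ _ s.snd.range (isNilpotent_range _)
      have badd := bound_add (Nat.card (Subtype s.q)) (Nat.card {a // ¬ s.q a})
      rw [hsum, hm] at badd
      have bmul := Nat.mul_le_mul b1 b2
      by_cases hg : ∃ g : N, Perm.sign (s.fst g) ≠ 1
      · obtain ⟨g, hg⟩ := hg
        have := s.two_mul_card_le hN hg
        nlinarith
      push Not at hg
      have he1 : ∀ g ∈ s.fst.range, Perm.sign g = 1 := by rintro _ ⟨g, rfl⟩; exact hg g
      have he2 : ∀ g ∈ s.snd.range, Perm.sign g = 1 := by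
        rintro _ ⟨g, rfl⟩
        have := s.sign_eq g
        rw [hN g g.2, hg g, one_mul] at this
        exact this.symm
      by_cases ho1 : Odd (Nat.card s.fst.range)
      · by_cases ho2 : Odd (Nat.card s.snd.range)
        · exfalso
          apply hodd
          refine Odd.of_dvd_nat (ho1.mul ho2) ?_
          rw [← Nat.card_prod]
          exact Subgroup.card_dvd_of_injective (s.fst.rangeRestrict.prod s.snd.rangeRestrict) s.injective
        · have h4 := ih (Nat.card {a // ¬ s.q a}) (by omega) _ s.snd.range rfl (isNilpotent_range _) he2 ho2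
          nlinarith [Nat.mul_le_mul b1 h4]
      · have h4 := ih (Nat.card (Subtype s.q)) (by omega) _ s.fst.range rfl (isNilpotent_range _) he1 ho1
        nlinarith [Nat.mul_le_mul h4 b2]

theorem even_arith {n : ℕ} (he : Even n) (h6 : n ≠ 6) : 4 * 3 ^ n ≤ 9 * 2 ^ (2 * v n) := by
  induction n using Nat.strong_induction_on with
  | _ n ih =>
    by_cases hbig : n < 8 ∨ n = 14
    · obtain ⟨k, rfl⟩ := he
      obtain rfl | rfl | rfl | rfl : k = 0 ∨ k = 1 ∨ k = 2 ∨ k = 7 := by omega
      · simp [v_zero]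
      · rw [show 1 + 1 = 2 from rfl, v_two]; norm_num
      · rw [show 2 + 2 = 4 from rfl, v_four]; norm_num
      · have : v 14 = 11 := by
          have h3 : v 3 = 1 := by simpa [v_zero] using v_four_mul_add 0 3 (by norm_num)
          simpa [h3] using v_four_mul_add 3 2 (by norm_num)
        rw [show 7 + 7 = 14 from rfl, this]; norm_num
    · obtain ⟨j, rfl⟩ : ∃ j, n = j + 8 := ⟨n - 8, by omega⟩
      have h1 := ih j (by omega) (by obtain ⟨k, hk⟩ := he; exact ⟨k - 4, by omega⟩) (by omega)
      have h2 := Nat.pow_le_pow_right two_pos (show 2 * v j + 14 ≤ 2 * v (j + 8) by have := v_add_eight j; omega)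
      rw [pow_add] at h2
      rw [pow_add]
      exact eight_step h1 h2

theorem intrans_arith_one : ∀ {n : ℕ}, n % 4 = 1 → 5 ≤ n → 4 * 3 ^ n ≤ 27 * 2 ^ (2 * v n) := by
  intro n
  induction n using Nat.strong_induction_on with
  | _ n ih =>
    intro hn h5
    by_cases hbig : n < 13
    · obtain rfl | rfl : n = 5 ∨ n = 9 := by omega
      · have : v 5 = 3 := by simpa [v_one] using v_four_mul_add 1 1 (by norm_num)
        rw [this]; norm_num
      · have : v 9 = 7 := by simpa [v_two] using v_four_mul_add 2 1 (by norm_num)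
        rw [this]; norm_num
    · obtain ⟨j, rfl⟩ : ∃ j, n = j + 8 := ⟨n - 8, by omega⟩
      have h1 := ih j (by omega) (by omega) (by omega)
      have h2 := Nat.pow_le_pow_right two_pos (show 2 * v j + 14 ≤ 2 * v (j + 8) by have := v_add_eight j; omega)
      rw [pow_add] at h2
      rw [pow_add]
      exact eight_step h1 h2

theorem intrans_arith_three : ∀ {n : ℕ}, n % 4 = 3 → 16 * 3 ^ n ≤ 27 * 9 * 2 ^ (2 * v n) := by
  intro n
  induction n using Nat.strong_induction_on with
  | _ n ih =>
    intro hn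
    by_cases hbig : n < 11
    · obtain rfl | rfl : n = 3 ∨ n = 7 := by omega
      · have : v 3 = 1 := by simpa [v_zero] using v_four_mul_add 0 3 (by norm_num)
        rw [this]; norm_num
      · have : v 7 = 4 := by simpa [v_one] using v_four_mul_add 1 3 (by norm_num)
        rw [this]; norm_num
    · obtain ⟨j, rfl⟩ : ∃ j, n = j + 8 := ⟨n - 8, by omega⟩
      have h1 := ih j (by omega) (by omega)
      have h2 := Nat.pow_le_pow_right two_pos (show 2 * v j + 14 ≤ 2 * v (j + 8) by have := v_add_eight j; omega)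
      rw [pow_add] at h2
      rw [pow_add]
      exact eight_step h1 h2

theorem trans_arith_one : ∀ {n : ℕ}, n % 4 = 1 → 17 ≤ n → 4 * 3 ^ n ≤ 3 * 2 ^ (2 * v n) := by
  intro n
  induction n using Nat.strong_induction_on with
  | _ n ih =>
    intro hn h5
    by_cases hbig : n < 25
    · obtain rfl | rfl : n = 17 ∨ n = 21 := by omega
      · have : v 17 = 15 := by simpa [v_four] using v_four_mul_add 4 1 (by norm_num)
        rw [this]; norm_num
      · have h5 : v 5 = 3 := by simpa [v_one] using v_four_mul_add 1 1 (by norm_num)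
        have : v 21 = 18 := by simpa [h5] using v_four_mul_add 5 1 (by norm_num)
        rw [this]; norm_num
    · obtain ⟨j, rfl⟩ : ∃ j, n = j + 8 := ⟨n - 8, by omega⟩
      have h1 := ih j (by omega) (by omega) (by omega)
      have h2 := Nat.pow_le_pow_right two_pos (show 2 * v j + 14 ≤ 2 * v (j + 8) by have := v_add_eight j; omega)
      rw [pow_add] at h2
      rw [pow_add]
      exact eight_step h1 h2

theorem trans_arith_three : ∀ {n : ℕ}, n % 4 = 3 → 19 ≤ n → 16 * 3 ^ n ≤ 27 * 2 ^ (2 * v n) := by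
  intro n
  induction n using Nat.strong_induction_on with
  | _ n ih =>
    intro hn h5
    by_cases hbig : n < 27
    · obtain rfl | rfl : n = 19 ∨ n = 23 := by omega
      · have : v 19 = 16 := by simpa [v_four] using v_four_mul_add 4 3 (by norm_num)
        rw [this]; norm_num
      · have h5 : v 5 = 3 := by simpa [v_one] using v_four_mul_add 1 1 (by norm_num)
        have : v 23 = 19 := by simpa [h5] using v_four_mul_add 5 3 (by norm_num)
        rw [this]; norm_num
    · obtain ⟨j, rfl⟩ : ∃ j, n = j + 8 := ⟨n - 8, by omega⟩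
      have h1 := ih j (by omega) (by omega) (by omega)
      have h2 := Nat.pow_le_pow_right two_pos (show 2 * v j + 14 ≤ 2 * v (j + 8) by have := v_add_eight j; omega)
      rw [pow_add] at h2
      rw [pow_add]
      exact eight_step h1 h2

/-- An even nilpotent group is at most half the bound, apart from degrees 1, 3, 5, 6, 9. -/
theorem alt_bound {α : Type*} [Fintype α] [DecidableEq α] (N : Subgroup (Perm α)) [hnil : Group.IsNilpotent N]
    (hN : ∀ g ∈ N, Perm.sign g = 1) {m : ℕ} (hm : Nat.card α = m) (h2 : 2 ≤ m) (h3 : m ≠ 3) (h5 : m ≠ 5)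
    (h6 : m ≠ 6) (h9 : m ≠ 9) : 4 * Nat.card N ≤ bound m := by
  by_cases hodd : Odd (Nat.card N)
  swap
  · exact four_mul_card_le m α N hm hnil hN hodd
  haveI : Nonempty α := (Nat.card_pos_iff.1 (by omega : 0 < Nat.card α)).1
  obtain ⟨hb, hbe, hbi⟩ := odd_bound m α N hm (by omega) hnil hodd
  refine (Nat.pow_le_pow_iff_left two_ne_zero).1 ?_
  have hsq : bound m ^ 2 = (if m % 4 = 3 then 9 else 4) * 2 ^ (2 * v m) := by
    rw [bound, mul_pow, ← pow_mul, mul_comm (v m)]
    split_ifs <;> norm_num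
  rw [hsq, mul_pow]
  rcases Nat.even_or_odd m with he | ho
  · have := hbe he
    have := even_arith he h6
    rw [if_neg (by obtain ⟨k, rfl⟩ := he; omega)]
    nlinarith
  have ho' : m % 2 = 1 := Nat.odd_iff.1 ho
  by_cases hint : ∃ x y : α, ∀ g ∈ N, g x ≠ y
  · have := hbi hint ho
    by_cases h4 : m % 4 = 3
    · have := intrans_arith_three h4
      rw [if_pos h4]
      nlinarith
    · have := intrans_arith_one (by obtain ⟨k, rfl⟩ := ho; omega : m % 4 = 1) (by omega)
      rw [if_neg h4]
      nlinarith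
  push Not at hint
  -- transitive of odd degree
  by_cases hbig : 17 ≤ m
  · by_cases h4 : m % 4 = 3
    · have := trans_arith_three h4 (by omega)
      rw [if_pos h4]
      nlinarith
    · have := trans_arith_one (by obtain ⟨k, rfl⟩ := ho; omega : m % 4 = 1) hbig
      rw [if_neg h4]
      nlinarith
  · have hd := transitive_dvd N hint
    rw [hm] at hd
    have hsqf : Squarefree m := by
      rcases ho with ⟨k, rfl⟩
      obtain rfl | rfl | rfl | rfl : k = 3 ∨ k = 5 ∨ k = 6 ∨ k = 7 := by omega
      · exact (Nat.Prime.prime (by norm_num)).squarefree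
      · exact (Nat.Prime.prime (by norm_num)).squarefree
      · exact (Nat.Prime.prime (by norm_num)).squarefree
      · exact (Nat.squarefree_mul (by norm_num : Nat.Coprime 3 5)).2
          ⟨Nat.prime_three.prime.squarefree, Nat.prime_five.prime.squarefree⟩
    have hprod : ∏ p ∈ m.primeFactors, p ^ padicValNat p (p ^ m.factorization p).factorial = m := by
      conv_rhs => rw [← Nat.prod_primeFactors_of_squarefree hsqf]
      refine Finset.prod_congr rfl fun p hp => ?_
      haveI := Fact.mk (Nat.prime_of_mem_primeFactors hp)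
      have h1 : m.factorization p = 1 := le_antisymm (hsqf.natFactorization_le_one p)
        (Nat.one_le_iff_ne_zero.2 (Finsupp.mem_support_iff.1 (by rwa [Nat.support_factorization])))
      have h := padicValNat_factorial_mul (p := p) 1
      rw [mul_one, Nat.factorial_one, padicValNat_one_right, zero_add] at h
      rw [h1, pow_one, h, pow_one]
    rw [hprod] at hd
    have hle := Nat.le_of_dvd (by omega) hd
    have hv : 16 * m ^ 2 ≤ (if m % 4 = 3 then 9 else 4) * 2 ^ (2 * v m) := by
      have h7 : v 7 = 4 := by simpa [v_one] using v_four_mul_add 1 3 (by norm_num)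
      have h11 : v 11 = 8 := by simpa [v_two] using v_four_mul_add 2 3 (by norm_num)
      have h13 : v 13 = 10 := by
        have h3' : v 3 = 1 := by simpa [v_zero] using v_four_mul_add 0 3 (by norm_num)
        simpa [h3'] using v_four_mul_add 3 1 (by norm_num)
      have h15 : v 15 = 11 := by
        have h3' : v 3 = 1 := by simpa [v_zero] using v_four_mul_add 0 3 (by norm_num)
        simpa [h3'] using v_four_mul_add 3 3 (by norm_num)
      rcases ho with ⟨k, rfl⟩
      obtain rfl | rfl | rfl | rfl : k = 3 ∨ k = 5 ∨ k = 6 ∨ k = 7 := by omega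
      · rw [show 2 * 3 + 1 = 7 from rfl, h7]; norm_num
      · rw [show 2 * 5 + 1 = 11 from rfl, h11]; norm_num
      · rw [show 2 * 6 + 1 = 13 from rfl, h13]; norm_num
      · rw [show 2 * 7 + 1 = 15 from rfl, h15]; norm_num
    have := Nat.pow_le_pow_left hle 2
    nlinarith

theorem two_mul_card_alt_sylow {α : Type*} [Fintype α] [DecidableEq α] [Nontrivial α]
    (P : Sylow 2 (alternatingGroup α)) : 2 * Nat.card P = 2 ^ v (Nat.card α) := by
  haveI := Fact.mk Nat.prime_two
  have h : (Nat.card (Perm α)).factorization 2 = (Nat.card (alternatingGroup α)).factorization 2 + 1 := by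
    rw [← two_mul_nat_card_alternatingGroup, Nat.factorization_mul two_ne_zero Nat.card_pos.ne']
    simp [Nat.Prime.factorization_self Nat.prime_two]; omega
  rw [P.card_eq_multiplicity, ← pow_succ', ← h, Nat.card_perm, v, Nat.factorization_def _ Nat.prime_two]

theorem sign_joinHom {m : ℕ} (a : Perm (Fin m) × Subgroup.zpowers rot) :
    Perm.sign (joinHom m a) = Perm.sign a.1 := by
  have : joinHom m a = finSumFinEquiv.permCongr (Perm.sumCongr a.1 (a.2 : Perm (Fin 3))) := rfl
  rw [this, Perm.sign_permCongr, Perm.sign_sumCongr]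
  have h3 : Perm.sign (a.2 : Perm (Fin 3)) = 1 := by
    obtain ⟨k, hk⟩ := a.2.2
    rw [← hk]
    simp only [map_zpow]
    rw [show Perm.sign rot = 1 by decide, one_zpow]
  rw [h3, mul_one]

/-- A nilpotent group of order `3 * 2 ^ e`, with `e` large, is the model of some subgroup. -/
theorem eq_model_even {m : ℕ} (hm : m % 4 = 0) (hm0 : m ≠ 0) (N : Subgroup (Perm (Fin (m + 3))))
    [Group.IsNilpotent N] {e : ℕ} (he : v (m - 1) < e) (hN : Nat.card N = 3 * 2 ^ e) :
    ∃ (g : Perm (Fin (m + 3))) (Q : Subgroup (Perm (Fin m))), Perm.sign g = 1 ∧ Nat.card Q = 2 ^ e ∧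
      N.map (MulAut.conj g).toMonoidHom = model Q := by
  haveI := Fact.mk Nat.prime_three
  haveI := Fact.mk Nat.prime_two
  obtain ⟨P3⟩ : Nonempty (Sylow 3 N) := inferInstance
  have hP3 : Nat.card P3 = 3 := by
    rw [P3.card_eq_multiplicity, hN, Nat.factorization_mul (by norm_num) (by positivity)]
    simp [Nat.Prime.factorization_pow Nat.prime_two, Nat.Prime.factorization_self Nat.prime_three]
  obtain ⟨⟨z, hzP⟩, hz⟩ := exists_prime_orderOf_dvd_card' (G := (P3 : Subgroup N)) 3 (by rw [hP3])
  rw [← Subgroup.orderOf_coe, ← Subgroup.orderOf_coe] at hz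
  have hcent : ∀ y ∈ N, y * (z : Perm (Fin (m + 3))) = z * y := by
    intro y hy
    have hle : (⊤ : Subgroup N) ≤ Subgroup.centralizer {z} := by
      rw [← sylow_sup_centralizer P3, sup_le_iff]
      constructor
      · intro u hu
        haveI := isCyclic_of_prime_card hP3
        letI := IsCyclic.commGroup (α := (P3 : Subgroup N))
        exact Subgroup.mem_centralizer_singleton_iff.2
          (congrArg Subtype.val (mul_comm (⟨u, hu⟩ : (P3 : Subgroup N)) ⟨z, hzP⟩))
      · exact Subgroup.centralizer_le (Set.singleton_subset_iff.2 hzP)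
    exact congrArg Subtype.val (Subgroup.mem_centralizer_singleton_iff.1 (hle (Subgroup.mem_top (⟨y, hy⟩ : N))))
  have hNC : N ≤ Subgroup.centralizer {(z : Perm (Fin (m + 3)))} := fun y hy =>
    Subgroup.mem_centralizer_singleton_iff.2 (hcent y hy)
  obtain ⟨k, hk⟩ := Equiv.Perm.cycleType_prime_order (σ := (z : Perm (Fin (m + 3)))) (by rw [hz]; exact Nat.prime_three)
  rw [hz] at hk
  have hk0 : k = 0 := by
    by_contra hk0
    have hsum : 3 * (k + 1) ≤ m + 3 := by
      have := Equiv.Perm.sum_cycleType_le (z : Perm (Fin (m + 3)))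
      rw [hk, Multiset.sum_replicate, Fintype.card_fin, smul_eq_mul] at this
      omega
    have hd : 2 ^ e ∣ Nat.card (Subgroup.centralizer {(z : Perm (Fin (m + 3)))}) :=
      dvd_trans (dvd_mul_left _ 3) (hN ▸ Subgroup.card_dvd_of_le hNC)
    rw [Equiv.Perm.nat_card_centralizer, hk] at hd
    simp only [Multiset.sum_replicate, Multiset.prod_replicate, Fintype.card_fin, smul_eq_mul,
      Multiset.toFinset_replicate, Nat.succ_ne_zero, if_false, Finset.prod_singleton, Multiset.count_replicate_self] at hd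
    rw [mul_comm ((m + 3 - (k + 1) * 3).factorial) (3 ^ (k + 1)), mul_assoc] at hd
    have hd' := (Nat.Coprime.pow e (k + 1) (show Nat.Coprime 2 3 by norm_num)).dvd_of_dvd_mul_left hd
    have h1 : e ≤ v (m + 3 - (k + 1) * 3) + v (k + 1) := by
      simp only [v]
      rw [← padicValNat.mul (Nat.factorial_ne_zero _) (Nat.factorial_ne_zero _)]
      exact (padicValNat_dvd_iff_le (mul_ne_zero (Nat.factorial_ne_zero _) (Nat.factorial_ne_zero _))).1 hd'
    have h2 : v (m + 3 - (k + 1) * 3) + v (k + 1) ≤ v (m - 1) :=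
      (v_add_le _ _).trans (v_mono (by omega))
    omega
  subst hk0
  obtain ⟨g₀, hg₀⟩ := isConj_iff.1 (Equiv.Perm.isConj_iff_cycleType_eq.2
    (show (z : Perm (Fin (m + 3))).cycleType = (cycle3 m).cycleType by rw [hk, cycle3_cycleType]; rfl))
  obtain ⟨g, hsg, hg⟩ : ∃ g, Perm.sign g = 1 ∧ g * (z : Perm (Fin (m + 3))) * g⁻¹ = cycle3 m := by
    rcases Int.units_eq_one_or (Perm.sign g₀) with h | h
    · exact ⟨g₀, h, hg₀⟩
    · set τ : Perm (Fin m) := Equiv.swap ⟨0, by omega⟩ ⟨1, by omega⟩
      have hτ : Perm.sign τ = -1 := Perm.sign_swap (by simp [Fin.ext_iff])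
      refine ⟨joinHom m (τ, 1) * g₀, by rw [map_mul, sign_joinHom, hτ, h]; rfl, ?_⟩
      have hc : joinHom m (τ, 1) * cycle3 m = cycle3 m * joinHom m (τ, 1) := by
        rw [cycle3, ← map_mul, ← map_mul]; simp
      calc _ = joinHom m (τ, 1) * (g₀ * (z : Perm (Fin (m + 3))) * g₀⁻¹) * (joinHom m (τ, 1))⁻¹ := by group
        _ = cycle3 m := by rw [hg₀, hc, mul_inv_cancel_right]
  set N' := N.map (MulAut.conj g).toMonoidHom with hN'
  have hle : N' ≤ (joinHom m).range := by
    rw [← centralizer_cycle3]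
    rintro _ ⟨y, hy, rfl⟩
    rw [Subgroup.mem_centralizer_singleton_iff, ← hg]
    change MulAut.conj g y * MulAut.conj g _ = MulAut.conj g _ * MulAut.conj g y
    rw [← map_mul, ← map_mul, hcent y hy]
  set A := N'.comap (joinHom m) with hA
  have hmap : A.map (joinHom m) = N' := Subgroup.map_comap_eq_self hle
  have hAcard : Nat.card A = 3 * 2 ^ e := by
    rw [← hN, ← Subgroup.card_map_of_injective (f := (MulAut.conj g).toMonoidHom) (MulAut.conj g).injective,
      ← hN', ← hmap, Subgroup.card_map_of_injective (joinHom_injective m)]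
  have hcA : ((1 : Perm (Fin m)), (⟨rot, Subgroup.mem_zpowers rot⟩ : Subgroup.zpowers rot)) ∈ A :=
    ⟨(z : Perm (Fin (m + 3))), z.2, hg⟩
  have htop : ∀ c : Subgroup.zpowers rot, ((1 : Perm (Fin m)), c) ∈ A := by
    intro c
    obtain ⟨i, hi⟩ := c.2
    rw [show ((1 : Perm (Fin m)), c) = ((1 : Perm (Fin m)), (⟨rot, Subgroup.mem_zpowers rot⟩ : Subgroup.zpowers rot)) ^ i from
      Prod.ext (by simp) (Subtype.ext (by simpa using hi.symm))]
    exact A.zpow_mem hcA i
  set Q := A.map (MonoidHom.fst (Perm (Fin m)) (Subgroup.zpowers rot)) with hQ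
  have hAQ : A = Q.prod ⊤ := by
    ext a
    refine ⟨fun ha => ⟨⟨a, ha, rfl⟩, Subgroup.mem_top _⟩, ?_⟩
    rintro ⟨⟨b, hb, hba⟩, -⟩
    have : a = b * ((1 : Perm (Fin m)), b.2⁻¹ * a.2) := Prod.ext (by simpa using hba.symm) (by simp)
    rw [this]
    exact A.mul_mem hb (htop _)
  refine ⟨g, Q, hsg, ?_, by rw [← hN', ← hmap, hAQ]; rfl⟩
  rw [hAQ, Nat.card_congr (Q.prodEquiv ⊤).toEquiv, Nat.card_prod, Subgroup.card_top, Nat.card_zpowers,
    orderOf_rot] at hAcard
  omega

theorem model_map_conj {m : ℕ} (Q : Subgroup (Perm (Fin m))) (h : Perm (Fin m)) :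
    model (Q.map (MulAut.conj h).toMonoidHom) = (model Q).map (MulAut.conj (joinHom m (h, 1))).toMonoidHom := by
  rw [model, model, Subgroup.map_map,
    show (MulAut.conj (joinHom m (h, 1))).toMonoidHom.comp (joinHom m) =
      (joinHom m).comp (MulAut.conj ((h, 1) : Perm (Fin m) × Subgroup.zpowers rot)).toMonoidHom from
      MonoidHom.ext fun x => (show MulAut.conj (joinHom m (h, 1)) (joinHom m x) = joinHom m (MulAut.conj _ x) by
        rw [MulAut.conj_apply, MulAut.conj_apply, map_mul, map_mul, map_inv]),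
    ← Subgroup.map_map]
  congr 1
  ext a
  constructor
  · rintro ⟨⟨b, hb, hba⟩, -⟩
    exact ⟨(b, a.2), ⟨hb, Subgroup.mem_top _⟩, Prod.ext (by simpa using hba) (by simp)⟩
  · rintro ⟨b, ⟨hb, -⟩, rfl⟩
    exact ⟨⟨b.1, hb, by simp⟩, Subgroup.mem_top _⟩

theorem model_le_alternating {m : ℕ} {Q : Subgroup (Perm (Fin m))} (hQ : Q ≤ alternatingGroup (Fin m)) :
    model Q ≤ alternatingGroup (Fin (m + 3)) := by
  rintro _ ⟨a, ⟨ha, -⟩, rfl⟩
  rw [Perm.mem_alternatingGroup, sign_joinHom]
  exact Perm.mem_alternatingGroup.1 (hQ ha)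

theorem map_conj_subtype {α : Type*} [Fintype α] [DecidableEq α] (M : Subgroup (alternatingGroup α))
    (k : alternatingGroup α) :
    (M.map (MulAut.conj k).toMonoidHom).map (alternatingGroup α).subtype =
      (M.map (alternatingGroup α).subtype).map (MulAut.conj (k : Perm α)).toMonoidHom := by
  rw [Subgroup.map_map, Subgroup.map_map]
  rfl

/-- Uniqueness of the extremal nilpotent subgroup of the alternating group. -/
theorem eq_model_alt {m : ℕ} (hm : m % 4 = 0) (hm0 : m ≠ 0) (P : Sylow 2 (alternatingGroup (Fin m)))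
    (N : Subgroup (alternatingGroup (Fin (m + 3)))) [Group.IsNilpotent N] (hN : Nat.card N = 3 * Nat.card P) :
    ∃ k : alternatingGroup (Fin (m + 3)), N.map (alternatingGroup (Fin (m + 3))).subtype =
      (model ((P : Subgroup (alternatingGroup (Fin m))).map (alternatingGroup (Fin m)).subtype)).map
        (MulAut.conj (k : Perm (Fin (m + 3)))).toMonoidHom := by
  haveI : Nontrivial (Fin m) := Fin.nontrivial_iff_two_le.2 (by omega)
  haveI := Fact.mk Nat.prime_two
  obtain ⟨e, he⟩ := IsPGroup.iff_card.1 P.2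
  have hcard := two_mul_card_alt_sylow P
  rw [Nat.card_fin] at hcard
  change Nat.card P = 2 ^ e at he
  rw [he, ← pow_succ'] at hcard
  have hev : v (m - 1) < e := by
    have := Nat.pow_right_injective (le_refl 2) hcard
    obtain ⟨i, rfl⟩ : ∃ i, m = 4 * (i + 1) := ⟨m / 4 - 1, by omega⟩
    have e1 := v_four_mul_add (i + 1) 0 (by norm_num)
    have e2 := v_four_mul_add i 3 (by norm_num)
    rw [show 4 * (i + 1) - 1 = 4 * i + 3 by omega]
    rw [add_zero] at e1
    have := v_mono (Nat.le_succ i)
    rw [Nat.succ_eq_add_one] at this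
    omega
  set N' := N.map (alternatingGroup (Fin (m + 3))).subtype with hN'def
  haveI : Group.IsNilpotent N' :=
    Group.nilpotent_of_mulEquiv (N.equivMapOfInjective _ (Subgroup.subtype_injective _))
  have hN' : Nat.card N' = 3 * 2 ^ e := by
    rw [hN'def, Subgroup.card_map_of_injective (Subgroup.subtype_injective _), hN, he]
  obtain ⟨g, Q, hg, hQ, hmodel⟩ := eq_model_even hm hm0 N' hev hN'
  have hQA : Q ≤ alternatingGroup (Fin m) := by
    intro b hb
    have : joinHom m (b, 1) ∈ N'.map (MulAut.conj g).toMonoidHom :=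
      hmodel ▸ ⟨(b, 1), ⟨hb, Subgroup.mem_top _⟩, rfl⟩
    obtain ⟨_, ⟨y, -, rfl⟩, hy⟩ := this
    rw [Perm.mem_alternatingGroup, ← show Perm.sign (joinHom m (b, 1)) = Perm.sign b from sign_joinHom _, ← hy]
    change Perm.sign (g * (y : Perm (Fin (m + 3))) * g⁻¹) = 1
    rw [map_mul, map_mul, map_inv, hg, Perm.mem_alternatingGroup.1 y.2]
    simp
  have hQ' : Nat.card (Q.subgroupOf (alternatingGroup (Fin m))) = 2 ^ e := by
    rw [Nat.card_congr (Subgroup.subgroupOfEquivOfLe hQA).toEquiv, hQ]
  obtain ⟨h, hh⟩ := MulAction.exists_smul_eq (alternatingGroup (Fin m)) P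
    (Sylow.ofCard (Q.subgroupOf (alternatingGroup (Fin m))) (by rw [hQ', ← he]; exact P.card_eq_multiplicity))
  have hQP : Q = ((P : Subgroup (alternatingGroup (Fin m))).map (alternatingGroup (Fin m)).subtype).map
      (MulAut.conj (h : Perm (Fin m))).toMonoidHom := by
    rw [← map_conj_subtype]
    have := congrArg (fun S : Sylow 2 (alternatingGroup (Fin m)) => (S : Subgroup (alternatingGroup (Fin m)))) hh
    rw [Sylow.coe_subgroup_smul] at this
    rw [show (P : Subgroup (alternatingGroup (Fin m))).map (MulAut.conj h).toMonoidHom =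
      Q.subgroupOf (alternatingGroup (Fin m)) from this, Subgroup.map_subgroupOf_eq_of_le hQA]
  refine ⟨⟨g⁻¹ * joinHom m (h, 1), ?_⟩, ?_⟩
  · rw [Perm.mem_alternatingGroup, map_mul, map_inv, hg, sign_joinHom]
    simp [Perm.mem_alternatingGroup.1 h.2]
  · rw [hQP, model_map_conj] at hmodel
    calc N' = (N'.map (MulAut.conj g).toMonoidHom).map (MulAut.conj g⁻¹).toMonoidHom := by
          rw [Subgroup.map_map]
          conv_lhs => rw [← N'.map_id]
          congr 1
          ext x
          simp [MulAut.conj_apply, mul_assoc]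
      _ = _ := by
          rw [hmodel, Subgroup.map_map]
          congr 1

end Cfsg.Agent.H52.NilpotentPerm
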