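import Mathlib

/-!
The order of a nilpotent permutation group is bounded by the Sylow 2-subgroup of the symmetric group,
up to the factor 3/2 in degrees congruent to 3 modulo 4.
-/

set_option autoImplicit false
set_option linter.style.haveILetI false

namespace Cfsg.Agent.H52.NilpotentPerm

open Equiv

/-- The 2-part exponent of `n!`. -/
def v (n : ℕ) : ℕ := padicValNat 2 n.factorial

/-- Twice the largest order of a nilpotent subgroup of `S_n`. -/
def bound (n : ℕ) : ℕ := (if n % 4 = 3 then 3 else 2) * 2 ^ v n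

theorem v_four_mul_add (i r : ℕ) (hr : r < 4) : v (4 * i + r) = 3 * i + r / 2 + v i := by
  haveI := Fact.mk Nat.prime_two
  have h1 : v (4 * i + r) = v (2 * (2 * i + r / 2)) := by
    conv_lhs => rw [show 4 * i + r = 2 * (2 * i + r / 2) + r % 2 by omega]
    exact padicValNat_factorial_mul_add (p := 2) _ (Nat.mod_lt r two_pos)
  have h2 : v (2 * (2 * i + r / 2)) = v (2 * i + r / 2) + (2 * i + r / 2) := padicValNat_factorial_mul (p := 2) _
  have h3 : v (2 * i + r / 2) = v (2 * i) := padicValNat_factorial_mul_add (p := 2) _ (by omega)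
  have h4 : v (2 * i) = v i + i := padicValNat_factorial_mul (p := 2) _
  omega

theorem v_zero : v 0 = 0 := by simp [v]

theorem v_one : v 1 = 0 := by simp [v]

theorem v_two : v 2 = 1 := by
  have := v_four_mul_add 0 2 (by norm_num)
  simpa [v_zero] using this

theorem v_add_le (a b : ℕ) : v a + v b ≤ v (a + b) := by
  haveI := Fact.mk Nat.prime_two
  rw [v, v, v, ← padicValNat.mul (Nat.factorial_ne_zero a) (Nat.factorial_ne_zero b)]
  exact (padicValNat_dvd_iff_le (Nat.factorial_ne_zero _)).1
    (pow_padicValNat_dvd.trans (Nat.factorial_mul_factorial_dvd_factorial_add a b))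

theorem v_mono {a b : ℕ} (h : a ≤ b) : v a ≤ v b := by
  obtain ⟨c, rfl⟩ := Nat.exists_eq_add_of_le h
  exact le_trans (Nat.le_add_right _ _) (v_add_le a c)

theorem bound_pos (n : ℕ) : 2 ≤ bound n := by
  rw [bound]
  exact le_trans (by split_ifs <;> norm_num) (Nat.le_mul_of_pos_right _ (Nat.two_pow_pos _))

theorem bound_add (a b : ℕ) : bound a * bound b ≤ 2 * bound (a + b) := by
  obtain ⟨i, r, hr, rfl⟩ : ∃ i r, r < 4 ∧ a = 4 * i + r := ⟨a / 4, a % 4, Nat.mod_lt _ (by norm_num), by omega⟩
  obtain ⟨j, s, hs, rfl⟩ : ∃ j s, s < 4 ∧ b = 4 * j + s := ⟨b / 4, b % 4, Nat.mod_lt _ (by norm_num), by omega⟩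
  have hv1 := v_add_le i j
  have hv2 := v_add_le (i + j) 1
  rw [v_one, add_zero] at hv2
  have hsum : v (4 * i + r + (4 * j + s)) = if r + s < 4 then 3 * (i + j) + (r + s) / 2 + v (i + j)
      else 3 * (i + j + 1) + (r + s - 4) / 2 + v (i + j + 1) := by
    split_ifs with h
    · rw [← v_four_mul_add _ _ h]; congr 1; ring
    · rw [← v_four_mul_add _ _ (by omega : r + s - 4 < 4)]; congr 1; omega
  rw [bound, bound, bound, hsum, v_four_mul_add i r hr, v_four_mul_add j s hs]
  have hra : (4 * i + r) % 4 = r := by omega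
  have hsb : (4 * j + s) % 4 = s := by omega
  have hab : (4 * i + r + (4 * j + s)) % 4 = (r + s) % 4 := by omega
  simp only [hra, hsb, hab]
  set x := 3 * i + v i
  set y := 3 * j + v j
  have key : ∀ (c d e k m : ℕ), x + y + k ≤ m → c * d * 2 ^ (r / 2 + s / 2) ≤ 2 * e * 2 ^ k →
      c * 2 ^ (3 * i + r / 2 + v i) * (d * 2 ^ (3 * j + s / 2 + v j)) ≤ 2 * (e * 2 ^ m) := by
    intro c d e k m hm hc
    calc c * 2 ^ (3 * i + r / 2 + v i) * (d * 2 ^ (3 * j + s / 2 + v j))
        = c * d * 2 ^ (r / 2 + s / 2) * 2 ^ (x + y) := by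
          simp only [x, y, pow_add]; ring
      _ ≤ 2 * e * 2 ^ k * 2 ^ (x + y) := Nat.mul_le_mul_right _ hc
      _ = 2 * e * 2 ^ (x + y + k) := by simp only [pow_add]; ring
      _ ≤ 2 * e * 2 ^ m := Nat.mul_le_mul_left _ (Nat.pow_le_pow_right two_pos hm)
      _ = 2 * (e * 2 ^ m) := by ring
  interval_cases r <;> interval_cases s <;> norm_num at * <;>
    first
      | (refine key _ _ _ 0 _ ?_ ?_ <;> (first | omega | norm_num); done)
      | (refine key _ _ _ 1 _ ?_ ?_ <;> (first | omega | norm_num); done)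
      | (refine key _ _ _ 2 _ ?_ ?_ <;> (first | omega | norm_num); done)
      | (refine key _ _ _ 3 _ ?_ ?_ <;> (first | omega | norm_num); done)
      | (refine key _ _ _ 4 _ ?_ ?_ <;> (first | omega | norm_num); done)

theorem bound_mono {a b : ℕ} (h : a ≤ b) : bound a ≤ bound b := by
  obtain ⟨c, rfl⟩ := Nat.exists_eq_add_of_le h
  have h1 := bound_add a c
  have h2 := bound_pos c
  have h3 : bound a * 2 ≤ bound a * bound c := Nat.mul_le_mul_left _ h2
  omega

theorem bound_eq_of_two (n : ℕ) (hn : n % 4 ≠ 3) : bound n = 2 * 2 ^ v n := by rw [bound, if_neg hn]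

theorem bound_eq_of_three (n : ℕ) (hn : n % 4 = 3) : bound n = 2 * (3 * 2 ^ v (n - 3)) := by
  obtain ⟨i, rfl⟩ : ∃ i, n = 4 * i + 3 := ⟨n / 4, by omega⟩
  rw [bound, if_pos hn, Nat.add_sub_cancel, v_four_mul_add i 3 (by norm_num)]
  have h := v_four_mul_add i 0 (by norm_num)
  rw [add_zero] at h
  rw [h]
  simp only [pow_add]
  ring

theorem le_two_pow_v {n : ℕ} (hn : 4 ≤ n) : n ≤ 2 ^ v n := by
  induction n using Nat.strong_induction_on with
  | _ n ih =>
    rcases Nat.lt_or_ge n 8 with h | h
    · have h4 := v_mono hn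
      have : v 4 = 3 := by simpa [v_one] using v_four_mul_add 1 0 (by norm_num)
      have : 2 ^ 3 ≤ 2 ^ v n := Nat.pow_le_pow_right two_pos (by omega)
      omega
    · have h2 := v_add_le (n - 4) 4
      rw [Nat.sub_add_cancel (by omega : 4 ≤ n)] at h2
      have : v 4 = 3 := by simpa [v_one] using v_four_mul_add 1 0 (by norm_num)
      have h3 := ih (n - 4) (by omega) (by omega)
      have h4 : 2 ^ (v (n - 4) + 3) ≤ 2 ^ v n := Nat.pow_le_pow_right two_pos (by omega)
      rw [pow_add] at h4
      omega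

theorem three_pow_le {n : ℕ} (hn : 25 ≤ n) (ho : Odd n) : 3 ^ (n - 1) ≤ 2 ^ (2 * v n) := by
  induction n using Nat.strong_induction_on with
  | _ n ih =>
    rcases Nat.lt_or_ge n 33 with h | h
    · obtain ⟨k, rfl⟩ := ho
      have h6 : v 6 = 4 := by simpa [v_one] using v_four_mul_add 1 2 (by norm_num)
      have h7 : v 7 = 4 := by simpa [v_one] using v_four_mul_add 1 3 (by norm_num)
      have a25 : v 25 = 22 := by simpa [h6] using v_four_mul_add 6 1 (by norm_num)
      have a27 : v 27 = 23 := by simpa [h6] using v_four_mul_add 6 3 (by norm_num)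
      have a29 : v 29 = 25 := by simpa [h7] using v_four_mul_add 7 1 (by norm_num)
      have a31 : v 31 = 26 := by simpa [h7] using v_four_mul_add 7 3 (by norm_num)
      obtain rfl | rfl | rfl | rfl : k = 12 ∨ k = 13 ∨ k = 14 ∨ k = 15 := by omega
      · rw [show 2 * 12 + 1 = 25 from rfl, a25]; norm_num
      · rw [show 2 * 13 + 1 = 27 from rfl, a27]; norm_num
      · rw [show 2 * 14 + 1 = 29 from rfl, a29]; norm_num
      · rw [show 2 * 15 + 1 = 31 from rfl, a31]; norm_num
    · have h1 := ih (n - 8) (by omega) (by omega) (by obtain ⟨k, rfl⟩ := ho; exact ⟨k - 4, by omega⟩)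
      have h2 := v_add_le (n - 8) 8
      rw [Nat.sub_add_cancel (by omega : 8 ≤ n)] at h2
      have h8 : v 8 = 7 := by simpa [v_two] using v_four_mul_add 2 0 (by norm_num)
      calc 3 ^ (n - 1) = 3 ^ (n - 8 - 1) * 3 ^ 8 := by rw [← pow_add]; congr 1; omega
        _ ≤ 2 ^ (2 * v (n - 8)) * 2 ^ 14 := Nat.mul_le_mul h1 (by norm_num)
        _ ≤ 2 ^ (2 * v n) := by rw [← pow_add]; exact Nat.pow_le_pow_right two_pos (by omega)

theorem sq_le_three_pow {p : ℕ} (hp : 3 ≤ p) : p ^ 2 ≤ 3 ^ (p - 1) := by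
  induction p, hp using Nat.le_induction with
  | base => norm_num
  | succ p hp ih =>
    calc (p + 1) ^ 2 ≤ 3 * p ^ 2 := by nlinarith
      _ ≤ 3 * 3 ^ (p - 1) := Nat.mul_le_mul_left _ ih
      _ = 3 ^ (p + 1 - 1) := by rw [← pow_succ']; congr 1; omega

/-- The Sylow subgroups of `S_{p^a}`. -/
theorem prime_pow_bound {p : ℕ} [hp : Fact p.Prime] (a : ℕ) :
    2 * p ^ padicValNat p (p ^ a).factorial ≤ bound (p ^ a) := by
  rcases eq_or_ne p 2 with rfl | hp2
  · change 2 * 2 ^ v (2 ^ a) ≤ _
    rw [bound]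
    exact Nat.mul_le_mul_right _ (by split_ifs <;> norm_num)
  have hp3 : 3 ≤ p := by have := hp.out.two_le; omega
  have hodd : Odd p := hp.out.odd_of_ne_two hp2
  match a with
  | 0 => simp [bound, v_one]
  | 1 =>
    rw [pow_one]
    have h := padicValNat_factorial_mul (p := p) 1
    rw [mul_one, Nat.factorial_one, padicValNat.one, zero_add] at h
    rw [h, pow_one]
    rcases eq_or_lt_of_le hp3 with h3 | h3
    · rw [← h3]
      have : v 3 = 1 := by simpa [v_zero] using v_four_mul_add 0 3 (by norm_num)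
      rw [bound, this]; norm_num
    · exact le_trans (Nat.mul_le_mul_left 2 (le_two_pow_v h3))
        (Nat.mul_le_mul_right _ (by split_ifs <;> norm_num))
  | a + 2 =>
    rcases Nat.lt_or_ge (p ^ (a + 2)) 25 with hlt | hge
    · have hp' : p < 5 := by
        by_contra hc
        have := Nat.pow_le_pow_left (not_lt.1 hc) 2
        have := Nat.pow_le_pow_right hp.out.pos (show 2 ≤ a + 2 by omega)
        omega
      have hp3' : p = 3 := by rcases hodd with ⟨k, rfl⟩; omega
      subst hp3'
      have ha : a = 0 := by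
        by_contra hc
        have := Nat.pow_le_pow_right (show 0 < 3 by norm_num) (show 3 ≤ a + 2 by omega)
        omega
      subst ha
      have h9 := padicValNat_factorial_mul (p := 3) 3
      have h3 := padicValNat_factorial_mul (p := 3) 1
      rw [mul_one, Nat.factorial_one, padicValNat.one, zero_add] at h3
      rw [show (3 : ℕ) ^ (0 + 2) = 3 * 3 from rfl, h9, h3, bound]
      have : v (3 * 3) = 7 := by simpa [v_two] using v_four_mul_add 2 1 (by norm_num)
      rw [this]; norm_num
    · have h1 := sub_one_mul_padicValNat_factorial_lt_of_ne_zero p (pow_ne_zero (a + 2) hp.out.ne_zero)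
      have h2 := three_pow_le hge hodd.pow
      set e := padicValNat p (p ^ (a + 2)).factorial
      have h3 : (p ^ e) ^ 2 ≤ (2 ^ v (p ^ (a + 2))) ^ 2 :=
        calc (p ^ e) ^ 2 = (p ^ 2) ^ e := by rw [← pow_mul, ← pow_mul, mul_comm]
          _ ≤ (3 ^ (p - 1)) ^ e := Nat.pow_le_pow_left (sq_le_three_pow hp3) e
          _ ≤ 3 ^ (p ^ (a + 2) - 1) := by rw [← pow_mul]; exact Nat.pow_le_pow_right (by norm_num) (by omega)
          _ ≤ _ := by rw [← pow_mul, mul_comm]; exact h2
      exact le_trans (Nat.mul_le_mul_left 2 ((Nat.pow_le_pow_iff_left two_ne_zero).1 h3))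
        (Nat.mul_le_mul_right _ (by split_ifs <;> norm_num))

theorem add_le_mul_pred {a b : ℕ} (ha : 2 ≤ a) (hb : 2 ≤ b) : a + b ≤ a * b := by nlinarith

/-- Coprime factors of the degree. -/
theorem prod_prime_pow_bound (n : ℕ) (hn : 0 < n) :
    2 * ∏ p ∈ n.primeFactors, p ^ padicValNat p (p ^ n.factorization p).factorial ≤ bound n := by
  rcases Nat.lt_or_ge n 2 with h | h
  · obtain rfl : n = 1 := by omega
    simp [bound, v_one]
  have key : ∀ S : Finset ℕ, S ⊆ n.primeFactors → S.Nonempty →
      2 * ∏ p ∈ S, p ^ padicValNat p (p ^ n.factorization p).factorial ≤ bound (∏ p ∈ S, p ^ n.factorization p) ∧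
        2 ≤ ∏ p ∈ S, p ^ n.factorization p := by
    intro S
    induction S using Finset.induction_on with
    | empty => intro _ h; exact absurd h Finset.not_nonempty_empty
    | @insert q S hq ih =>
      intro hS _
      have hqm : q ∈ n.primeFactors := hS (Finset.mem_insert_self q S)
      haveI := Fact.mk (Nat.prime_of_mem_primeFactors hqm)
      have hq1 := prime_pow_bound (p := q) (n.factorization q)
      have hq2 : 2 ≤ q ^ n.factorization q :=
        le_trans (Nat.prime_of_mem_primeFactors hqm).two_le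
          (Nat.le_self_pow (Finsupp.mem_support_iff.1 (by rwa [Nat.support_factorization])) q)
      rw [Finset.prod_insert hq, Finset.prod_insert hq]
      rcases S.eq_empty_or_nonempty with rfl | hne
      · simpa using ⟨hq1, hq2⟩
      obtain ⟨h1, h2⟩ := ih (fun x hx => hS (Finset.mem_insert_of_mem hx)) hne
      refine ⟨?_, le_trans hq2 (Nat.le_mul_of_pos_right _ (by omega))⟩
      have h3 := Nat.mul_le_mul hq1 h1
      have h4 := bound_add (q ^ n.factorization q) (∏ p ∈ S, p ^ n.factorization p)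
      have h5 := bound_mono (add_le_mul_pred hq2 h2)
      nlinarith
  have h1 := (key n.primeFactors subset_rfl (Nat.nonempty_primeFactors.2 h)).1
  rwa [show ∏ p ∈ n.primeFactors, p ^ n.factorization p = n from
    Nat.factorization_prod_pow_eq_self (by omega)] at h1

/-- The centralizer of a Sylow subgroup of a nilpotent group supplements it. -/
theorem sylow_sup_centralizer {G : Type*} [Group G] [Finite G] [Group.IsNilpotent G] {p : ℕ} [Fact p.Prime]
    (P : Sylow p G) : (P : Subgroup G) ⊔ Subgroup.centralizer ((P : Subgroup G) : Set G) = ⊤ := by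
  set R := (P : Subgroup G) ⊔ Subgroup.centralizer ((P : Subgroup G) : Set G)
  refine Subgroup.eq_top_of_card_eq R (Nat.dvd_antisymm (Subgroup.card_subgroup_dvd_card R) ?_)
  refine Nat.dvd_iff_prime_pow_dvd_dvd _ _ |>.mpr fun q k hq hqk => ?_
  haveI := Fact.mk hq
  obtain ⟨Q⟩ : Nonempty (Sylow q G) := inferInstance
  refine dvd_trans (Q.pow_dvd_card_of_pow_dvd_card hqk) (Subgroup.card_dvd_of_le ?_)
  rcases eq_or_ne q p with rfl | hqp
  · haveI := Sylow.unique_of_normal P inferInstance
    rw [Subsingleton.elim Q P]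
    exact le_sup_left
  · refine le_trans (fun y hy => ?_) le_sup_right
    rw [Subgroup.mem_centralizer_iff]
    intro x hx
    exact Subgroup.commute_of_normal_of_disjoint _ _ inferInstance inferInstance
      (IsPGroup.disjoint_of_ne p q (Ne.symm hqp) _ _ P.2 Q.2) x y hx hy

/-- A Sylow subgroup of a transitive nilpotent group is faithful on each of its orbits. -/
theorem sylow_dvd {α : Type*} [Finite α] {N : Subgroup (Perm α)} [Group.IsNilpotent N]
    (ht : ∀ x y : α, ∃ g ∈ N, g x = y) (x : α) {p : ℕ} [hp : Fact p.Prime] (P : Sylow p N) :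
    ∃ a, p ^ a ∣ Nat.card α ∧ Nat.card P ∣ p ^ padicValNat p (p ^ a).factorial := by
  set O : Set α := MulAction.orbit (P : Subgroup N) x
  have hinj : Function.Injective (MulAction.toPermHom (P : Subgroup N) O) := by
    rw [← MonoidHom.ker_eq_bot_iff, eq_bot_iff]
    intro g hg
    rw [Subgroup.mem_bot]
    have hfix : ∀ z ∈ O, ((g : N) : Perm α) z = z := fun z hz =>
      congrArg Subtype.val (Equiv.Perm.ext_iff.1 (MonoidHom.mem_ker.1 hg) ⟨z, hz⟩)
    refine Subtype.ext (Subtype.ext (Equiv.ext fun y => ?_))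
    obtain ⟨h, hh, rfl⟩ := ht x y
    obtain ⟨q, hq, r, hr, hqr⟩ := Subgroup.mem_sup_of_normal_left.1
      (show (⟨h, hh⟩ : N) ∈ (P : Subgroup N) ⊔ Subgroup.centralizer ((P : Subgroup N) : Set N) by
        rw [sylow_sup_centralizer]; trivial)
    have e1 : h = (q : Perm α) * r := (congrArg Subtype.val hqr).symm
    have c1 : ((q : N) : Perm α) * r = r * q := congrArg Subtype.val (Subgroup.mem_centralizer_iff.1 hr q hq)
    have c2 : ((g : N) : Perm α) * r = r * g := congrArg Subtype.val (Subgroup.mem_centralizer_iff.1 hr g g.2)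
    have hz : (q : Perm α) x ∈ O := ⟨⟨q, hq⟩, rfl⟩
    change ((g : N) : Perm α) (h x) = h x
    rw [e1, c1, Perm.mul_apply, ← Perm.mul_apply (g : Perm α), c2, Perm.mul_apply, hfix _ hz]
  obtain ⟨a, ha⟩ := P.2.card_orbit x
  refine ⟨a, ?_, ?_⟩
  · -- the orbits of a normal subgroup form blocks
    have hblock : ∀ y : α, Nat.card (MulAction.orbit (P : Subgroup N) y) = Nat.card O := by
      intro y
      obtain ⟨h, hh, rfl⟩ := ht x y
      refine Nat.card_congr ((Equiv.subtypeEquiv (h : α ≃ α) fun z => ?_).symm)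
      constructor
      · rintro ⟨g, rfl⟩
        refine ⟨⟨⟨h, hh⟩ * g * ⟨h, hh⟩⁻¹, (inferInstance : (P : Subgroup N).Normal).conj_mem _ g.2 _⟩, ?_⟩
        change (h * ((g : N) : Perm α) * h⁻¹) (h x) = h (((g : N) : Perm α) x)
        simp
      · rintro ⟨g, hg⟩
        refine ⟨⟨⟨h, hh⟩⁻¹ * g * ⟨h, hh⟩, by
          simpa using (inferInstance : (P : Subgroup N).Normal).conj_mem _ g.2 ⟨h, hh⟩⁻¹⟩, ?_⟩
        change (h⁻¹ * ((g : N) : Perm α) * h) x = z
        change ((g : N) : Perm α) (h x) = h z at hg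
        simp [hg]
    haveI : Fintype (MulAction.orbitRel.Quotient (P : Subgroup N) α) := Fintype.ofFinite _
    rw [Nat.card_congr (MulAction.selfEquivSigmaOrbits (P : Subgroup N) α), Nat.card_sigma,
      Finset.sum_congr rfl fun o _ => hblock o.out, Finset.sum_const, smul_eq_mul, ha]
    exact dvd_mul_left _ _
  · obtain ⟨e, he⟩ := IsPGroup.iff_card.1 P.2
    have h := Subgroup.card_dvd_of_injective _ hinj
    rw [Nat.card_perm, ha] at h
    change Nat.card (P : Subgroup N) ∣ _ at h
    rw [he] at h ⊢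
    exact Nat.pow_dvd_pow p ((padicValNat_dvd_iff_le (Nat.factorial_ne_zero _)).1 h)

/-- Restriction to an invariant set. -/
def restrictHom {α : Type*} (N : Subgroup (Perm α)) (q : α → Prop) (h : ∀ g ∈ N, ∀ a, q (g a) ↔ q a) :
    N →* Perm (Subtype q) where
  toFun g := (g : Perm α).subtypePerm (h g g.2)
  map_one' := Equiv.ext fun _ => rfl
  map_mul' _ _ := Equiv.ext fun _ => rfl

theorem isNilpotent_range {G H : Type*} [Group G] [Group H] [Group.IsNilpotent G] (f : G →* H) :
    Group.IsNilpotent f.range := Group.nilpotent_of_surjective f.rangeRestrict f.rangeRestrict_surjective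

/-- The bound for nilpotent permutation groups. -/
theorem two_mul_card_le {α : Type*} [Finite α] (N : Subgroup (Perm α)) [Group.IsNilpotent N] :
    2 * Nat.card N ≤ bound (Nat.card α) := by
  suffices ∀ (m : ℕ) (α : Type _) [Finite α] (N : Subgroup (Perm α)), Nat.card α = m → Group.IsNilpotent N →
      2 * Nat.card N ≤ bound m from this _ α N rfl inferInstance
  intro m
  induction m using Nat.strong_induction_on with
  | _ m ih =>
    intro α _ N hm hN
    rcases Nat.eq_zero_or_pos m with rfl | hpos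
    · haveI : IsEmpty α := Finite.card_eq_zero_iff.1 hm
      rw [Nat.card_eq_one_iff_unique.2 ⟨inferInstance, inferInstance⟩]
      exact bound_pos 0
    haveI : Nonempty α := (Nat.card_pos_iff.1 (hm ▸ hpos)).1
    obtain ⟨x⟩ := ‹Nonempty α›
    by_cases ht : ∀ y : α, ∃ g ∈ N, g x = y
    · have ht' : ∀ y z : α, ∃ g ∈ N, g y = z := fun y z => by
        obtain ⟨g, hg, rfl⟩ := ht y
        obtain ⟨h, hh, rfl⟩ := ht z
        exact ⟨h * g⁻¹, N.mul_mem hh (N.inv_mem hg), by simp⟩
      refine le_trans (Nat.mul_le_mul_left 2 ?_) (prod_prime_pow_bound m hpos)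
      have hdvd : Nat.card N ∣ ∏ p ∈ m.primeFactors, p ^ padicValNat p (p ^ m.factorization p).factorial := by
        refine Nat.dvd_iff_prime_pow_dvd_dvd _ _ |>.mpr fun p k hp hpk => ?_
        haveI := Fact.mk hp
        obtain ⟨P⟩ : Nonempty (Sylow p N) := inferInstance
        obtain ⟨a, ha, hP⟩ := sylow_dvd ht' x P
        rw [hm] at ha
        refine dvd_trans (P.pow_dvd_card_of_pow_dvd_card hpk) (dvd_trans hP ?_)
        by_cases hmem : p ∈ m.primeFactors
        · refine dvd_trans (Nat.pow_dvd_pow p ?_) (Finset.dvd_prod_of_mem _ hmem)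
          exact (padicValNat_dvd_iff_le (Nat.factorial_ne_zero _)).1 (pow_padicValNat_dvd.trans
            (Nat.factorial_dvd_factorial (Nat.pow_le_pow_right hp.pos
              ((hp.pow_dvd_iff_le_factorization hpos.ne').1 ha))))
        · have : a = 0 := by
            by_contra h0
            exact hmem (Nat.mem_primeFactors.2 ⟨hp, (dvd_pow_self p h0).trans ha, hpos.ne'⟩)
          subst this
          simp
      exact Nat.le_of_dvd (Finset.prod_pos fun p hp => pow_pos (Nat.pos_of_mem_primeFactors hp) _) hdvd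
    · push Not at ht
      obtain ⟨y, hy⟩ := ht
      let q : α → Prop := fun z => ∃ g ∈ N, g x = z
      have hq : ∀ g ∈ N, ∀ z, q (g z) ↔ q z := by
        intro g hg z
        constructor
        · rintro ⟨h, hh, hz⟩
          exact ⟨g⁻¹ * h, N.mul_mem (N.inv_mem hg) hh, by simp [hz]⟩
        · rintro ⟨h, hh, rfl⟩
          exact ⟨g * h, N.mul_mem hg hh, rfl⟩
      have hq' : ∀ g ∈ N, ∀ z, ¬ q (g z) ↔ ¬ q z := fun g hg z => not_congr (hq g hg z)
      set r1 := restrictHom N q hq
      set r2 := restrictHom N (fun z => ¬ q z) hq'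
      have hinj : Function.Injective (fun g => (r1.rangeRestrict g, r2.rangeRestrict g)) := by
        intro g g' h
        refine Subtype.ext (Equiv.ext fun z => ?_)
        by_cases hz : q z
        · exact congrArg Subtype.val (Equiv.Perm.ext_iff.1 (congrArg Subtype.val (congrArg Prod.fst h)) ⟨z, hz⟩)
        · exact congrArg Subtype.val (Equiv.Perm.ext_iff.1 (congrArg Subtype.val (congrArg Prod.snd h)) ⟨z, hz⟩)
      have hcard := Nat.card_le_card_of_injective _ hinj
      rw [Nat.card_prod] at hcard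
      have hsum : Nat.card (Subtype q) + Nat.card {z // ¬ q z} = m := by
        classical
        rw [← Nat.card_sum, Nat.card_congr (Equiv.sumCompl q), hm]
      have hp1 : 0 < Nat.card (Subtype q) := Nat.card_pos_iff.2 ⟨⟨⟨x, 1, N.one_mem, rfl⟩⟩, inferInstance⟩
      have hp2 : 0 < Nat.card {z // ¬ q z} :=
        Nat.card_pos_iff.2 ⟨⟨⟨y, fun ⟨g, hg, e⟩ => hy g hg e⟩⟩, inferInstance⟩
      have h1 := ih (Nat.card (Subtype q)) (by omega) _ r1.range rfl (isNilpotent_range r1)
      have h2 := ih (Nat.card {z // ¬ q z}) (by omega) _ r2.range rfl (isNilpotent_range r2)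
      have h3 := Nat.mul_le_mul h1 h2
      have h4 := bound_add (Nat.card (Subtype q)) (Nat.card {z // ¬ q z})
      rw [hsum] at h4
      nlinarith

/-- The order of a Sylow 2-subgroup of a symmetric group. -/
theorem card_sylow_two {α : Type*} [Finite α] (P : Sylow 2 (Perm α)) :
    Nat.card P = 2 ^ v (Nat.card α) := by
  haveI := Fact.mk Nat.prime_two
  rw [P.card_eq_multiplicity, Nat.card_perm, v, Nat.factorization_def _ Nat.prime_two]

/-- The rotation of three points. -/
def rot : Perm (Fin 3) := finRotate 3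

theorem rot_pow_three : rot ^ 3 = 1 := by decide

theorem orderOf_rot : orderOf rot = 3 := by
  haveI := Fact.mk Nat.prime_three
  exact orderOf_eq_prime rot_pow_three (by decide)

/-- The embedding of `Perm (Fin m) × C₃` into `S_{m+3}`. -/
def joinHom (m : ℕ) : Perm (Fin m) × Subgroup.zpowers rot →* Perm (Fin (m + 3)) :=
  (finSumFinEquiv.permCongrHom.toMonoidHom.comp (Perm.sumCongrHom (Fin m) (Fin 3))).comp
    ((MonoidHom.id _).prodMap (Subgroup.zpowers rot).subtype)

theorem joinHom_injective (m : ℕ) : Function.Injective (joinHom m) := by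
  intro a b h
  have h1 := Perm.sumCongrHom_injective (finSumFinEquiv.permCongrHom.injective h)
  have h2 : (a.1, (a.2 : Perm (Fin 3))) = (b.1, (b.2 : Perm (Fin 3))) := h1
  exact Prod.ext (Prod.ext_iff.1 h2).1 (Subtype.ext (Prod.ext_iff.1 h2).2)

/-- The standard 3-cycle. -/
def cycle3 (m : ℕ) : Perm (Fin (m + 3)) := joinHom m (1, ⟨rot, Subgroup.mem_zpowers rot⟩)

theorem cycle3_cycleType (m : ℕ) : (cycle3 m).cycleType = {3} := by
  have h : cycle3 m = Equiv.permCongr finSumFinEquiv (Perm.sumCongr 1 rot) := rfl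
  have h2 : (cycle3 m).support.card = 3 := by
    rw [h, ← Nat.card_eq_finsetCard]
    refine (Nat.card_congr (Equiv.subtypeEquiv (finSumFinEquiv.symm) (q := fun z => z ∈ (Perm.sumCongr (1 : Perm (Fin m)) rot).support) fun z => ?_)).trans ?_
    · simp [Perm.mem_support, Equiv.permCongr_apply, Equiv.apply_eq_iff_eq_symm_apply]
    · refine (Nat.card_congr (Equiv.ofBijective (fun j : Fin 3 => (⟨Sum.inr j, ?_⟩ : {z // z ∈ (Perm.sumCongr (1 : Perm (Fin m)) rot).support})) ⟨?_, ?_⟩)).symm.trans (Nat.card_fin 3)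
      · simp [Perm.mem_support]; revert j; decide
      · intro a b hab; simpa using hab
      · rintro ⟨z | z, hz⟩
        · simp [Perm.mem_support] at hz
        · exact ⟨z, rfl⟩
  exact (card_support_eq_three_iff.1 h2).cycleType

theorem centralizer_cycle3 (m : ℕ) :
    Subgroup.centralizer {cycle3 m} = (joinHom m).range := by
  refine (Subgroup.eq_of_le_of_card_ge ?_ (le_of_eq ?_)).symm
  · rintro _ ⟨a, rfl⟩
    rw [Subgroup.mem_centralizer_singleton_iff, cycle3, ← map_mul, ← map_mul]
    congr 1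
    refine Prod.ext (by simp) (Subtype.ext ?_)
    obtain ⟨k, hk⟩ := a.2.2
    change (a.2 : Perm (Fin 3)) * rot = rot * a.2
    rw [← hk]
    exact ((Commute.refl rot).zpow_left k).eq
  · rw [Equiv.Perm.nat_card_centralizer, cycle3_cycleType, Nat.card_congr (MonoidHom.ofInjective (joinHom_injective m)).symm.toEquiv,
      Nat.card_prod, Nat.card_perm, Nat.card_zpowers, orderOf_rot]
    simp

/-- The model extremal subgroup. -/
def model {m : ℕ} (P : Subgroup (Perm (Fin m))) : Subgroup (Perm (Fin (m + 3))) :=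
  (P.prod ⊤).map (joinHom m)

/-- The model is a direct product. -/
noncomputable def modelEquivProd {m : ℕ} (P : Subgroup (Perm (Fin m))) :
    model P ≃* P × Multiplicative (ZMod 3) :=
  ((P.prod ⊤).equivMapOfInjective _ (joinHom_injective m)).symm.trans
    ((P.prodEquiv ⊤).trans ((MulEquiv.refl P).prodCongr (Subgroup.topEquiv.trans
      ((zmodCyclicMulEquiv (inferInstance : IsCyclic (Subgroup.zpowers rot))).symm.trans
        (MulEquiv.ofBijective (AddMonoidHom.toMultiplicative (ZMod.ringEquivCongr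
          (show Nat.card (Subgroup.zpowers rot) = 3 by rw [Nat.card_zpowers, orderOf_rot])).toAddMonoidHom)
          (ZMod.ringEquivCongr (show Nat.card (Subgroup.zpowers rot) = 3 by
            rw [Nat.card_zpowers, orderOf_rot])).bijective)))))

/-- Equality in the bound in degree `m + 3`, `4 ∣ m`, forces the model. -/
theorem eq_model {m : ℕ} (hm : m % 4 = 0) (P : Sylow 2 (Perm (Fin m))) (N : Subgroup (Perm (Fin (m + 3))))
    [Group.IsNilpotent N] (hN : Nat.card N = 3 * 2 ^ v m) :
    ∃ g : Perm (Fin (m + 3)), N = (model (P : Subgroup (Perm (Fin m)))).map (MulAut.conj g).toMonoidHom := by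
  haveI := Fact.mk Nat.prime_three
  haveI := Fact.mk Nat.prime_two
  obtain ⟨P3⟩ : Nonempty (Sylow 3 N) := inferInstance
  have hP3 : Nat.card P3 = 3 := by
    rw [P3.card_eq_multiplicity, hN, Nat.factorization_mul (by norm_num) (by positivity)]
    simp [Nat.Prime.factorization_pow Nat.prime_two, Nat.Prime.factorization_self Nat.prime_three]
  obtain ⟨⟨z, hzP⟩, hz⟩ := exists_prime_orderOf_dvd_card' (G := (P3 : Subgroup N)) 3 (by rw [hP3])
  rw [← Subgroup.orderOf_coe, ← Subgroup.orderOf_coe] at hz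
  have hcent : ∀ y ∈ N, y * (z : Perm (Fin (m + 3))) = z * y := by
    intro y hy
    have hle : (⊤ : Subgroup N) ≤ Subgroup.centralizer {z} := by
      rw [← sylow_sup_centralizer P3, sup_le_iff]
      constructor
      · intro u hu
        haveI := isCyclic_of_prime_card hP3
        letI := IsCyclic.commGroup (α := (P3 : Subgroup N))
        exact Subgroup.mem_centralizer_singleton_iff.2
          (congrArg Subtype.val (mul_comm (⟨u, hu⟩ : (P3 : Subgroup N)) ⟨z, hzP⟩))
      · exact Subgroup.centralizer_le (Set.singleton_subset_iff.2 hzP)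
    exact congrArg Subtype.val (Subgroup.mem_centralizer_singleton_iff.1 (hle (Subgroup.mem_top (⟨y, hy⟩ : N))))
  have hNC : N ≤ Subgroup.centralizer {(z : Perm (Fin (m + 3)))} := fun y hy =>
    Subgroup.mem_centralizer_singleton_iff.2 (hcent y hy)
  obtain ⟨k, hk⟩ := Equiv.Perm.cycleType_prime_order (σ := (z : Perm (Fin (m + 3)))) (by rw [hz]; exact Nat.prime_three)
  rw [hz] at hk
  have hk0 : k = 0 := by
    by_contra hk0
    have hsum : 3 * (k + 1) ≤ m + 3 := by
      have := Equiv.Perm.sum_cycleType_le (z : Perm (Fin (m + 3)))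
      rw [hk, Multiset.sum_replicate, Fintype.card_fin, smul_eq_mul] at this
      omega
    have hd : 2 ^ v m ∣ Nat.card (Subgroup.centralizer {(z : Perm (Fin (m + 3)))}) :=
      dvd_trans (dvd_mul_left _ 3) (hN ▸ Subgroup.card_dvd_of_le hNC)
    rw [Equiv.Perm.nat_card_centralizer, hk] at hd
    simp only [Multiset.sum_replicate, Multiset.prod_replicate, Fintype.card_fin, smul_eq_mul,
      Multiset.toFinset_replicate, Nat.succ_ne_zero, if_false, Finset.prod_singleton, Multiset.count_replicate_self] at hd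
    rw [mul_comm ((m + 3 - (k + 1) * 3).factorial) (3 ^ (k + 1)), mul_assoc] at hd
    have hd' := (Nat.Coprime.pow (v m) (k + 1) (show Nat.Coprime 2 3 by norm_num)).dvd_of_dvd_mul_left hd
    have h1 : v m ≤ v (m + 3 - (k + 1) * 3) + v (k + 1) := by
      simp only [v]
      rw [← padicValNat.mul (Nat.factorial_ne_zero _) (Nat.factorial_ne_zero _)]
      exact (padicValNat_dvd_iff_le (mul_ne_zero (Nat.factorial_ne_zero _) (Nat.factorial_ne_zero _))).1 hd'
    have h2 : v (m + 3 - (k + 1) * 3) + v (k + 1) ≤ v (m - 1) :=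
      (v_add_le _ _).trans (v_mono (by omega))
    obtain ⟨i, rfl⟩ : ∃ i, m = 4 * i + 4 := ⟨m / 4 - 1, by omega⟩
    have e1 := v_four_mul_add (i + 1) 0 (by norm_num)
    have e2 := v_four_mul_add i 3 (by norm_num)
    rw [show 4 * (i + 1) + 0 = 4 * i + 4 by ring] at e1
    rw [show 4 * i + 4 - 1 = 4 * i + 3 by omega] at h2
    have := v_add_le i 1
    rw [v_one] at this
    omega
  subst hk0
  obtain ⟨g, hg⟩ := isConj_iff.1 (Equiv.Perm.isConj_iff_cycleType_eq.2
    (show (z : Perm (Fin (m + 3))).cycleType = (cycle3 m).cycleType by rw [hk, cycle3_cycleType]; rfl))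
  set N' := N.map (MulAut.conj g).toMonoidHom with hN'
  have hle : N' ≤ (joinHom m).range := by
    rw [← centralizer_cycle3]
    rintro _ ⟨y, hy, rfl⟩
    rw [Subgroup.mem_centralizer_singleton_iff, ← hg]
    change MulAut.conj g y * MulAut.conj g _ = MulAut.conj g _ * MulAut.conj g y
    rw [← map_mul, ← map_mul, hcent y hy]
  set A := N'.comap (joinHom m) with hA
  have hmap : A.map (joinHom m) = N' := Subgroup.map_comap_eq_self hle
  have hAcard : Nat.card A = 3 * 2 ^ v m := by
    rw [← hN, ← Subgroup.card_map_of_injective (f := (MulAut.conj g).toMonoidHom) (MulAut.conj g).injective,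
      ← hN', ← hmap, Subgroup.card_map_of_injective (joinHom_injective m)]
  have hcA : ((1 : Perm (Fin m)), (⟨rot, Subgroup.mem_zpowers rot⟩ : Subgroup.zpowers rot)) ∈ A :=
    ⟨(z : Perm (Fin (m + 3))), z.2, hg⟩
  have htop : ∀ c : Subgroup.zpowers rot, ((1 : Perm (Fin m)), c) ∈ A := by
    intro c
    obtain ⟨i, hi⟩ := c.2
    rw [show ((1 : Perm (Fin m)), c) = ((1 : Perm (Fin m)), (⟨rot, Subgroup.mem_zpowers rot⟩ : Subgroup.zpowers rot)) ^ i from
      Prod.ext (by simp) (Subtype.ext (by simpa using hi.symm))]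
    exact A.zpow_mem hcA i
  set Q := A.map (MonoidHom.fst (Perm (Fin m)) (Subgroup.zpowers rot)) with hQ
  have hAQ : A = Q.prod ⊤ := by
    ext a
    refine ⟨fun ha => ⟨⟨a, ha, rfl⟩, Subgroup.mem_top _⟩, ?_⟩
    rintro ⟨⟨b, hb, hba⟩, -⟩
    have : a = b * ((1 : Perm (Fin m)), b.2⁻¹ * a.2) := Prod.ext (by simpa using hba.symm) (by simp)
    rw [this]
    exact A.mul_mem hb (htop _)
  have hQcard : Nat.card Q = Nat.card P := by
    rw [card_sylow_two P, Nat.card_fin]
    rw [hAQ, Nat.card_congr (Q.prodEquiv ⊤).toEquiv, Nat.card_prod, Subgroup.card_top, Nat.card_zpowers,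
      orderOf_rot] at hAcard
    omega
  obtain ⟨h, hh⟩ := MulAction.exists_smul_eq (Perm (Fin m)) P
    (Sylow.ofCard Q (by rw [hQcard]; exact P.card_eq_multiplicity))
  have hQP : Q = (P : Subgroup (Perm (Fin m))).map (MulAut.conj h).toMonoidHom := by
    have := congrArg (fun S : Sylow 2 (Perm (Fin m)) => (S : Subgroup (Perm (Fin m)))) hh
    rw [Sylow.coe_subgroup_smul] at this
    exact this.symm
  refine ⟨g⁻¹ * joinHom m (h, 1), ?_⟩
  have hN'eq : N' = (model (P : Subgroup (Perm (Fin m)))).map (MulAut.conj (joinHom m (h, 1))).toMonoidHom := by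
    rw [← hmap, hAQ, hQP, model, Subgroup.map_map,
      show (MulAut.conj (joinHom m (h, 1))).toMonoidHom.comp (joinHom m) =
        (joinHom m).comp (MulAut.conj ((h, 1) : Perm (Fin m) × Subgroup.zpowers rot)).toMonoidHom from
        MonoidHom.ext fun x => (show MulAut.conj (joinHom m (h, 1)) (joinHom m x) = joinHom m (MulAut.conj _ x) by rw [MulAut.conj_apply, MulAut.conj_apply, map_mul, map_mul, map_inv]),
      ← Subgroup.map_map]
    congr 1
    ext a
    constructor
    · rintro ⟨⟨b, hb, hba⟩, -⟩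
      exact ⟨(b, a.2), ⟨hb, Subgroup.mem_top _⟩, Prod.ext (by simpa using hba) (by simp)⟩
    · rintro ⟨b, ⟨hb, -⟩, rfl⟩
      exact ⟨⟨b.1, hb, by simp⟩, Subgroup.mem_top _⟩
  calc N = N'.map (MulAut.conj g⁻¹).toMonoidHom := by
        rw [hN', Subgroup.map_map]
        conv_lhs => rw [← N.map_id]
        congr 1
        ext x
        simp [MulAut.conj_apply, mul_assoc]
    _ = _ := by
        rw [hN'eq, Subgroup.map_map]
        congr 1

end Cfsg.Agent.H52.NilpotentPerm
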