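import Cfsg.Agent.H52.OrthoRank

/-!
The spinor norm of `-1` for the standard forms.
-/

set_option autoImplicit false
set_option linter.unusedSectionVars false

namespace Cfsg.Agent.H52.OrthoRank

open QuadraticMap Module Cfsg.Agent.Orthogonal

variable {F : Type*} [Field F] [Fintype F] {ι : Type} [Fintype ι] [DecidableEq ι]
variable {Q : QuadraticForm F (ι → F)}

theorem negSign_of_family (hQ : Nondeg Q) (h2 : (2 : F) ≠ 0) {κ : Type*} [Fintype κ] [DecidableEq κ]
    (v : κ → ι → F) (hcard : Fintype.card κ = Fintype.card ι)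
    (ho : ∀ i j, i ≠ j → polar Q (v i) (v j) = 0) (hne : ∀ i, Q (v i) ≠ 0) :
    negSign Q hQ h2 = sqSign (∏ i, Q (v i)) := by
  rcases isEmpty_or_nonempty κ with he | he
  · haveI : IsEmpty ι := Fintype.card_eq_zero_iff.1 (by rw [← hcard, Fintype.card_eq_zero])
    let b : Basis κ F (ι → F) := Basis.empty _
    have h := negSign_eq hQ h2 (b := b) (fun i => isEmptyElim i)
    rw [h, Finset.univ_eq_empty, Finset.prod_empty, Finset.prod_empty]
  have hli : LinearIndependent F v := by
    refine LinearMap.BilinForm.linearIndependent_of_iIsOrtho (B := Q.polarBilin) ?_ fun i => ?_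
    · exact LinearMap.BilinForm.iIsOrtho_def.2 fun i j hij => ho i j hij
    · rw [polarBilin_apply', polar_self']
      exact mul_ne_zero h2 (hne i)
  let b := basisOfLinearIndependentOfCardEqFinrank hli (by simp [hcard])
  have hb : ⇑b = v := coe_basisOfLinearIndependentOfCardEqFinrank _ _
  rw [negSign_eq hQ h2 (b := b) (fun i j hij => by rw [hb]; exact ho i j hij), hb]

theorem isSquare_neg_one_pow {q : ℕ} (hq : Fintype.card F = q) (hodd : Odd q) (n : ℕ) :
    IsSquare ((-1 : F) ^ n) ↔ q ^ n % 4 = 1 := by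
  have hq4 : q % 4 = 1 ∨ q % 4 = 3 := by obtain ⟨a, rfl⟩ := hodd; omega
  have hq2 : q ^ 2 % 4 = 1 := by rcases hq4 with h | h <;> simp [Nat.pow_mod, h]
  rcases Nat.even_or_odd' n with ⟨j, rfl | rfl⟩
  · rw [pow_mul, neg_one_sq, one_pow, pow_mul, Nat.pow_mod, hq2, one_pow]
    exact iff_of_true IsSquare.one rfl
  · rw [pow_succ, pow_mul, neg_one_sq, one_pow, one_mul, FiniteField.isSquare_neg_one_iff, hq,
      pow_succ, pow_mul, Nat.mul_mod, Nat.pow_mod, hq2, one_pow]
    rcases hq4 with h | h <;> simp [h]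

theorem q_pow_mod_four {q : ℕ} (hodd : Odd q) (n : ℕ) : q ^ n % 4 = 1 ∨ q ^ n % 4 = 3 := by
  obtain ⟨a, ha⟩ := hodd.pow (n := n); omega

section Std

variable (F) (m : ℕ)

/-- An orthogonal family of the hyperbolic space. -/
def plusVec : Fin m ⊕ Fin m → Fin m ⊕ Fin m → F :=
  Sum.elim (fun i => stdE F m i + stdF F m i) (fun i => stdE F m i - stdF F m i)

theorem plusVec_orth {s t : Fin m ⊕ Fin m} (hst : s ≠ t) :
    polar (formPlus F m) (plusVec F m s) (plusVec F m t) = 0 := by
  rcases s with i | i <;> rcases t with j | j <;> rcases eq_or_ne i j with h | h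
  all_goals first
    | (subst h; exact absurd rfl hst)
    | (subst h; rw [polar_formPlus]; simp [plusVec, stdE, stdF, Pi.single_apply]; done)
    | (simp [polar_formPlus, plusVec, stdE, stdF, Pi.single_apply, h, Ne.symm h]; done)

theorem negSign_plus (h2 : (2 : F) ≠ 0) :
    negSign (formPlus F m) (formPlus_nondeg F m) h2 = sqSign ((-1 : F) ^ m) := by
  have hv : ∀ s, formPlus F m (plusVec F m s) = Sum.elim (fun _ => (1 : F)) (fun _ => -1) s := by
    rintro (i | i) <;>
      simp [formPlus_coe, Cfsg.quadFormPlus, plusVec, stdE, stdF, Pi.single_apply]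
  rw [negSign_of_family (formPlus_nondeg F m) h2 (plusVec F m) rfl ?_ fun s => by rw [hv]; rcases s with i | i <;> simp]
  · simp only [hv]
    rw [Fintype.prod_sum_type]
    simp
  · exact fun s t hst => plusVec_orth F m hst

/-- An orthogonal family of the elliptic space. -/
def minusVec (a : F) : (Fin m ⊕ Fin m) ⊕ Fin 2 → (Fin m ⊕ Fin m) ⊕ Fin 2 → F :=
  Sum.elim (fun s => Sum.elim (plusVec F m s) 0)
    (fun j => Sum.elim 0 (if j = 0 then ![1, 0] else ![-a, 2]))

theorem negSign_minus (h2 : (2 : F) ≠ 0) {a b : F}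
    (hab : ∀ z₁ z₂ : F, z₁ ^ 2 + a * z₁ * z₂ + b * z₂ ^ 2 = 0 → z₁ = 0 ∧ z₂ = 0) :
    negSign (formMinus F m a b) (formMinus_nondeg m hab) h2 = - sqSign ((-1 : F) ^ (m + 1)) := by
  have hd : 4 * b - a ^ 2 ≠ 0 := fun h => aniso_binary hab (by linear_combination -h)
  have hns : ¬ IsSquare (a ^ 2 - 4 * b) := by
    rintro ⟨r, hr⟩
    have := (hab ((-a + r) / 2) 1 (by field_simp; linear_combination -hr)).2
    exact one_ne_zero this
  have hQ : ∀ s, formMinus F m a b (minusVec F m a s) =
      Sum.elim (fun s => formPlus F m (plusVec F m s)) (fun j => if j = 0 then 1 else 4 * b - a ^ 2) s := by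
    rintro (s | j)
    · simp [formMinus_coe, formPlus_coe, Cfsg.quadFormMinus, Cfsg.quadFormPlus, minusVec]
    · fin_cases j
      · simp [formMinus_coe, Cfsg.quadFormMinus, minusVec]
      · simp [formMinus_coe, Cfsg.quadFormMinus, minusVec]; ring
  have hv : ∀ s, formPlus F m (plusVec F m s) = Sum.elim (fun _ => (1 : F)) (fun _ => -1) s := by
    rintro (i | i) <;>
      simp [formPlus_coe, Cfsg.quadFormPlus, plusVec, stdE, stdF, Pi.single_apply]
  rw [negSign_of_family (formMinus_nondeg m hab) h2 (minusVec F m a) rfl ?_ ?_]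
  · simp only [hQ, hv]
    rw [Fintype.prod_sum_type]
    simp only [Sum.elim_inl, Sum.elim_inr]
    rw [Fintype.prod_sum_type, Fin.prod_univ_two]
    simp only [Sum.elim_inl, Sum.elim_inr, Finset.prod_const_one, Finset.prod_const, Finset.card_univ,
      Fintype.card_fin, one_mul, if_true, Fin.isValue, one_ne_zero, if_false]
    rw [show (-1 : F) ^ m * (4 * b - a ^ 2) = (-1) ^ (m + 1) * (a ^ 2 - 4 * b) by rw [pow_succ]; ring,
      sqSign_mul h2 (by simp) (aniso_binary hab), sqSign_of_not_isSquare hns, mul_neg, mul_one]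
  · rintro (s | j) (t | k) hij
    · rw [polar_formMinus]
      have hst := plusVec_orth F m (s := s) (t := t) fun h => hij (by rw [h])
      rw [polar_formPlus] at hst
      simpa [minusVec] using hst
    · simp [polar_formMinus, minusVec]
    · simp [polar_formMinus, minusVec]
    · fin_cases j <;> fin_cases k <;> simp [polar_formMinus, minusVec] at hij ⊢ <;> ring
  · intro s
    rw [hQ]
    rcases s with (i | i) | j
    · simp [hv]
    · simp [hv]
    · fin_cases j <;> simp [hd]

end Std

end Cfsg.Agent.H52.OrthoRank
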