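import Mathlib
import Cfsg.Agent.Symplectic.Alt

/-!
Orthogonal frames of hyperbolic planes: their number is odd over a field of odd order, and the
resulting bounds for normal elementary abelian 2-subgroups of symplectic Sylow 2-subgroups.
-/

set_option autoImplicit false

namespace Cfsg.Agent.H52.Planes

open Cfsg.Agent.Symplectic
open LinearMap (BilinForm)
open Module (finrank)

variable {F V : Type*} [Field F] [AddCommGroup V] [Module F V] {B : BilinForm F V}

/-- The vectors orthogonal to a subspace. -/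
def perp (B : BilinForm F V) (P : Submodule F V) : Submodule F V where
  carrier := {v | ∀ p ∈ P, B v p = 0}
  add_mem' := fun ha hb p hp => by rw [map_add, LinearMap.add_apply, ha p hp, hb p hp, add_zero]
  zero_mem' := fun p _ => by simp
  smul_mem' := fun c v hv p hp => by rw [map_smul, LinearMap.smul_apply, hv p hp, smul_zero]

theorem mem_perp {P : Submodule F V} {v : V} : v ∈ perp B P ↔ ∀ p ∈ P, B v p = 0 := Iff.rfl

theorem le_perp_symm (hA : B.IsAlt) {P Q : Submodule F V} (h : P ≤ perp B Q) : Q ≤ perp B P :=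
  fun q hq p hp => by rw [alt_swap hA, h hp q hq, neg_zero]

/-- The form is nondegenerate on a subspace. -/
def Nd (B : BilinForm F V) (U : Submodule F V) : Prop := ∀ x ∈ U, (∀ y ∈ U, B x y = 0) → x = 0

/-- A hyperbolic plane. -/
def IsPlane (B : BilinForm F V) (P : Submodule F V) : Prop :=
  ∃ u w, B u w = 1 ∧ P = Submodule.span F {u, w}

/-- The projection onto the plane of a hyperbolic pair. -/
def proj (B : BilinForm F V) (u w : V) : V →ₗ[F] V :=
  (B.flip w).smulRight u - (B.flip u).smulRight w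

theorem proj_apply (u w v : V) : proj B u w v = B v w • u - B v u • w := by simp [proj]

theorem proj_mem (u w v : V) : proj B u w v ∈ Submodule.span F {u, w} := by
  rw [proj_apply]
  exact sub_mem (Submodule.smul_mem _ _ (Submodule.subset_span (Set.mem_insert u _)))
    (Submodule.smul_mem _ _ (Submodule.subset_span (Set.mem_insert_of_mem u rfl)))

theorem proj_fst (hA : B.IsAlt) {u w : V} (h : B u w = 1) : proj B u w u = u := by
  rw [proj_apply, h, alt_self hA, one_smul, zero_smul, sub_zero]

theorem proj_snd (hA : B.IsAlt) {u w : V} (h : B u w = 1) : proj B u w w = w := by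
  rw [proj_apply, alt_self hA, alt_swap hA w u, h, zero_smul, zero_sub, neg_smul, one_smul, neg_neg]

theorem proj_id (hA : B.IsAlt) {u w : V} (h : B u w = 1) {p : V} (hp : p ∈ Submodule.span F {u, w}) :
    proj B u w p = p := by
  obtain ⟨a, b, rfl⟩ := Submodule.mem_span_pair.1 hp
  rw [map_add, map_smul, map_smul, proj_fst hA h, proj_snd hA h]

theorem proj_zero (u w : V) {v : V} (hv : v ∈ perp B (Submodule.span F {u, w})) :
    proj B u w v = 0 := by
  rw [proj_apply, hv w (Submodule.subset_span (Set.mem_insert_of_mem u rfl)),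
    hv u (Submodule.subset_span (Set.mem_insert u _)), zero_smul, zero_smul, sub_zero]

theorem sub_proj_mem (hA : B.IsAlt) {u w : V} (h : B u w = 1) (v : V) :
    v - proj B u w v ∈ perp B (Submodule.span F {u, w}) := by
  intro p hp
  obtain ⟨a, b, rfl⟩ := Submodule.mem_span_pair.1 hp
  simp only [proj_apply, map_sub, map_smul, LinearMap.sub_apply, LinearMap.smul_apply, map_add,
    smul_eq_mul, alt_self hA, alt_swap hA w u, h]
  ring

theorem plane_inf_perp (hA : B.IsAlt) {P : Submodule F V} (hP : IsPlane B P) : P ⊓ perp B P = ⊥ := by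
  obtain ⟨u, w, h, rfl⟩ := hP
  rw [Submodule.eq_bot_iff]
  rintro v ⟨hv1, hv2⟩
  rw [← proj_id hA h hv1, proj_zero u w hv2]

theorem plane_sup_perp (hA : B.IsAlt) {P U : Submodule F V} (hP : IsPlane B P) (hle : P ≤ U) :
    P ⊔ (U ⊓ perp B P) = U := by
  refine le_antisymm (sup_le hle inf_le_left) fun v hv => ?_
  obtain ⟨u, w, h, rfl⟩ := hP
  rw [← add_sub_cancel (proj B u w v) v]
  exact Submodule.add_mem_sup (proj_mem u w v)
    ⟨U.sub_mem hv (hle (proj_mem u w v)), sub_proj_mem hA h v⟩

theorem plane_nd (hA : B.IsAlt) {P : Submodule F V} (hP : IsPlane B P) : Nd B P := fun x hx h =>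
  (Submodule.eq_bot_iff _).1 (plane_inf_perp hA hP) x ⟨hx, h⟩

theorem finrank_plane (hA : B.IsAlt) {P : Submodule F V} (hP : IsPlane B P) : finrank F P = 2 := by
  obtain ⟨u, w, h, rfl⟩ := hP
  have hli : LinearIndependent F ![u, w] := by
    rw [LinearIndependent.pair_iff]
    intro s t hst
    refine ⟨?_, ?_⟩
    · have := congrArg (fun v => B v w) hst
      simpa [h, alt_self hA] using this
    · have := congrArg (fun v => B u v) hst
      simpa [h, alt_self hA] using this
  have := finrank_span_eq_card hli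
  rwa [Matrix.range_cons, Matrix.range_cons, Matrix.range_empty, Set.union_empty, Set.singleton_union] at this

theorem nd_inf_perp (hA : B.IsAlt) {P U : Submodule F V} (hP : IsPlane B P) (hle : P ≤ U) (hU : Nd B U) :
    Nd B (U ⊓ perp B P) := by
  intro x hx h
  refine hU x hx.1 fun y hy => ?_
  rw [← plane_sup_perp hA hP hle, Submodule.mem_sup] at hy
  obtain ⟨p, hp, r, hr, rfl⟩ := hy
  rw [map_add, hx.2 p hp, h r hr, add_zero]

variable [FiniteDimensional F V]

theorem finrank_inf_perp (hA : B.IsAlt) {P U : Submodule F V} (hP : IsPlane B P) (hle : P ≤ U) :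
    finrank F (U ⊓ perp B P : Submodule F V) + 2 = finrank F U := by
  have h := Submodule.finrank_sup_add_finrank_inf_eq P (U ⊓ perp B P)
  rw [plane_sup_perp hA hP hle,
    show P ⊓ (U ⊓ perp B P) = ⊥ from eq_bot_iff.2 (le_trans (le_inf inf_le_left (inf_le_right.trans inf_le_right))
      (plane_inf_perp hA hP).le), finrank_bot, finrank_plane hA hP] at h
  omega

theorem exists_plane {U : Submodule F V} (hU : Nd B U) (h0 : U ≠ ⊥) : ∃ P, IsPlane B P ∧ P ≤ U := by
  obtain ⟨x, hx, hx0⟩ := (Submodule.ne_bot_iff U).1 h0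
  obtain ⟨y, hy, hxy⟩ : ∃ y ∈ U, B x y ≠ 0 := by
    by_contra hcon
    push Not at hcon
    exact hx0 (hU x hx hcon)
  refine ⟨_, ⟨x, (B x y)⁻¹ • y, by simp [hxy], rfl⟩, Submodule.span_le.2 ?_⟩
  rintro z (rfl | rfl)
  · exact hx
  · exact U.smul_mem _ hy

theorem even_finrank (hA : B.IsAlt) : ∀ (d : ℕ) (U : Submodule F V), Nd B U → finrank F U = d → Even d := by
  intro d
  induction d using Nat.strong_induction_on with
  | _ d ih =>
    intro U hU hd
    rcases Nat.eq_zero_or_pos d with rfl | hpos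
    · exact Even.zero
    obtain ⟨P, hP, hle⟩ := exists_plane hU (fun h => by rw [h, finrank_bot] at hd; omega)
    have hr := finrank_inf_perp hA hP hle
    obtain ⟨k, hk⟩ := ih _ (by omega) _ (nd_inf_perp hA hP hle hU) rfl
    exact ⟨k + 1, by omega⟩

/-! ### Counting planes -/

section Count

variable [Finite F]

omit [FiniteDimensional F V] in
/-- The ordered hyperbolic pairs inside `U`. -/
abbrev Pairs (B : BilinForm F V) (U : Submodule F V) := {p : U × U // B (p.1 : V) (p.2 : V) = 1}

theorem card_pairs (hA : B.IsAlt) {U : Submodule F V} (hU : Nd B U) :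
    Nat.card (Pairs B U) * Nat.card F = (Nat.card U - 1) * Nat.card U := by
  classical
  haveI : Finite V := Module.finite_of_finite F
  haveI := Fintype.ofFinite U
  have e : Pairs B U ≃ Σ u : U, {w : U // B (u : V) (w : V) = 1} :=
    { toFun := fun p => ⟨p.1.1, p.1.2, p.2⟩
      invFun := fun p => ⟨(p.1, p.2.1), p.2.2⟩
      left_inv := fun _ => rfl
      right_inv := fun _ => rfl }
  rw [Nat.card_congr e, Nat.card_sigma, Finset.sum_mul]
  have hfib : ∀ u : U, Nat.card {w : U // B (u : V) (w : V) = 1} * Nat.card F = if u = 0 then 0 else Nat.card U := by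
    intro u
    split_ifs with hu
    · subst hu
      haveI : IsEmpty {w : U // B ((0 : U) : V) (w : V) = 1} := ⟨fun w => by simpa using w.2⟩
      simp
    · obtain ⟨w0, hw0⟩ : ∃ w0 : U, B (u : V) (w0 : V) = 1 := by
        by_contra hcon
        push Not at hcon
        refine hu (Subtype.ext (hU u u.2 fun y hy => ?_))
        by_contra hy0
        exact hcon ((B (u : V) y)⁻¹ • ⟨y, hy⟩) (by simp [hy0])
      rw [← Nat.card_prod]
      refine Nat.card_congr
        { toFun := fun p => (p.1 : U) + (p.2 - 1) • w0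
          invFun := fun v => (⟨v - (B (u : V) (v : V) - 1) • w0, by simp [hw0]⟩, B (u : V) (v : V))
          left_inv := ?_
          right_inv := fun v => by simp }
      rintro ⟨⟨w, hw⟩, a⟩
      have ha : B (u : V) ((w + (a - 1) • w0 : U) : V) = a := by simp [hw, hw0]
      simp only [Prod.mk.injEq, Subtype.mk.injEq, ha, add_sub_cancel_right, true_and, and_true]
  simp only [hfib, Finset.sum_ite, Finset.sum_const_zero, zero_add, Finset.sum_const, smul_eq_mul]
  rw [Finset.filter_ne' Finset.univ (0 : U), Finset.card_erase_of_mem (Finset.mem_univ _), Finset.card_univ,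
    Nat.card_eq_fintype_card (α := U)]

/-- The planes inside `U`. -/
abbrev PlaneIn (B : BilinForm F V) (U : Submodule F V) := {P : Submodule F V // IsPlane B P ∧ P ≤ U}

instance finite_submodule : Finite (Submodule F V) :=
  haveI : Finite V := Module.finite_of_finite F
  Finite.of_injective (fun P : Submodule F V => (P : Set V)) SetLike.coe_injective

theorem card_planes (hA : B.IsAlt) {U : Submodule F V} (hU : Nd B U) {m : ℕ} (hm : finrank F U = 2 * m) :
    Nat.card (PlaneIn B U) * ((Nat.card F ^ 2 - 1) * Nat.card F ^ 2) =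
      (Nat.card F ^ (2 * m) - 1) * Nat.card F ^ (2 * m) := by
  classical
  haveI : Finite V := Module.finite_of_finite F
  haveI := Fintype.ofFinite (PlaneIn B U)
  have hgen : ∀ (u w : V), B u w = 1 → ∀ Q : Submodule F V, IsPlane B Q → u ∈ Q → w ∈ Q →
      Submodule.span F {u, w} = Q := by
    intro u w h Q hQ hu hw
    refine Submodule.eq_of_le_of_finrank_eq (Submodule.span_le.2 ?_) ?_
    · rintro z (rfl | rfl) <;> assumption
    · rw [finrank_plane hA ⟨u, w, h, rfl⟩, finrank_plane hA hQ]
  have e : Pairs B U ≃ Σ P : PlaneIn B U, Pairs B P.1 :=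
    { toFun := fun p => ⟨⟨Submodule.span F {(p.1.1 : V), (p.1.2 : V)}, ⟨_, _, p.2, rfl⟩,
          Submodule.span_le.2 (by rintro z (rfl | rfl) <;> simp)⟩,
        ⟨(⟨p.1.1, Submodule.subset_span (Set.mem_insert _ _)⟩,
          ⟨p.1.2, Submodule.subset_span (Set.mem_insert_of_mem _ rfl)⟩), p.2⟩⟩
      invFun := fun x => ⟨(⟨x.2.1.1, x.1.2.2 x.2.1.1.2⟩, ⟨x.2.1.2, x.1.2.2 x.2.1.2.2⟩), x.2.2⟩
      left_inv := fun _ => rfl
      right_inv := by
        rintro ⟨⟨P, hP, hPU⟩, ⟨⟨⟨u, hu⟩, ⟨w, hw⟩⟩, h⟩⟩
        obtain rfl := hgen u w h P hP hu hw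
        rfl }
  have h1 := card_pairs hA hU
  rw [Nat.card_congr e, Nat.card_sigma, Finset.sum_mul] at h1
  have hplane : ∀ P : PlaneIn B U, Nat.card (Pairs B P.1) * Nat.card F =
      (Nat.card F ^ 2 - 1) * Nat.card F ^ 2 := fun P => by
    rw [card_pairs hA (plane_nd hA P.2.1), Module.natCard_eq_pow_finrank (K := F) (V := P.1),
      finrank_plane hA P.2.1]
  simp only [hplane, Finset.sum_const, smul_eq_mul, Finset.card_univ] at h1
  rwa [Module.natCard_eq_pow_finrank (K := F) (V := U), hm, ← Nat.card_eq_fintype_card] at h1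

theorem odd_geom (x : ℕ) (hx : x % 4 = 1) : ∀ m, 1 ≤ m →
    ∃ a b, Odd a ∧ Odd b ∧ a * ∑ i ∈ Finset.range m, x ^ i = b * m := by
  intro m
  induction m using Nat.strong_induction_on with
  | _ m ih =>
    intro hm
    rcases Nat.even_or_odd m with ⟨k, rfl⟩ | hodd
    · obtain ⟨a, b, ha, hb, hab⟩ := ih k (by omega) (by omega)
      have hsum : ∑ i ∈ Finset.range (k + k), x ^ i = (∑ i ∈ Finset.range k, x ^ i) * (1 + x ^ k) := by
        rw [Finset.sum_range_add, mul_add, mul_one, Finset.sum_mul]
        congr 1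
        exact Finset.sum_congr rfl fun i _ => by rw [← pow_add, add_comm]
      obtain ⟨r, hr, hr'⟩ : ∃ r, Odd r ∧ 1 + x ^ k = 2 * r := by
        have h4 : x ^ k % 4 = 1 := by simp [Nat.pow_mod, hx]
        exact ⟨(1 + x ^ k) / 2, Nat.odd_iff.2 (by omega), by omega⟩
      refine ⟨a, b * r, ha, hb.mul hr, ?_⟩
      rw [hsum, ← mul_assoc, hab, hr']
      ring
    · refine ⟨m, ∑ i ∈ Finset.range m, x ^ i, hodd, ?_, mul_comm _ _⟩
      rw [Nat.odd_iff, Finset.sum_nat_mod,
        Finset.sum_congr rfl (fun i _ => show x ^ i % 2 = 1 by simp [Nat.pow_mod, show x % 2 = 1 by omega]),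
        Finset.sum_const, Finset.card_range, smul_eq_mul, mul_one]
      exact Nat.odd_iff.1 hodd

theorem card_planes_eq (hA : B.IsAlt) (hq : Odd (Nat.card F)) {U : Submodule F V} (hU : Nd B U) {m : ℕ}
    (hm : finrank F U = 2 * (m + 1)) : Nat.card (PlaneIn B U) =
      Nat.card F ^ (2 * m) * ∑ i ∈ Finset.range (m + 1), (Nat.card F ^ 2) ^ i := by
  have h1 := card_planes hA hU hm
  set q := Nat.card F
  have hq2 : 2 ≤ q := Finite.one_lt_card
  have hx : 4 ≤ q ^ 2 := by nlinarith
  have hgeom := geom_sum_mul_add (q ^ 2 - 1) (m + 1)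
  rw [Nat.sub_add_cancel (by omega : 1 ≤ q ^ 2)] at hgeom
  have h2 : q ^ (2 * (m + 1)) - 1 = (∑ i ∈ Finset.range (m + 1), (q ^ 2) ^ i) * (q ^ 2 - 1) := by
    rw [pow_mul, ← hgeom, Nat.add_sub_cancel]
  rw [h2] at h1
  have hpos : 0 < (q ^ 2 - 1) * q ^ 2 := Nat.mul_pos (by omega) (by omega)
  apply Nat.eq_of_mul_eq_mul_right hpos
  rw [h1, show q ^ (2 * (m + 1)) = q ^ (2 * m) * q ^ 2 by ring]
  ring

/-! ### Counting frames -/

omit [FiniteDimensional F V] [Finite F] in
/-- An orthogonal family of `m` planes inside `U`. -/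
def IsFrame (B : BilinForm F V) (m : ℕ) (U : Submodule F V) (s : Finset (Submodule F V)) : Prop :=
  s.card = m ∧ (∀ P ∈ s, IsPlane B P ∧ P ≤ U) ∧ ∀ P ∈ s, ∀ Q ∈ s, P ≠ Q → P ≤ perp B Q

theorem frame_step (hA : B.IsAlt) (m : ℕ) (U : Submodule F V) :
    Nat.card (Σ P : PlaneIn B U, {t // IsFrame B m (U ⊓ perp B P.1) t}) =
      Nat.card (Σ s : {s // IsFrame B (m + 1) U s}, {P // P ∈ s.1}) := by
  classical
  have hnotmem : ∀ (P : PlaneIn B U) (t : {t // IsFrame B m (U ⊓ perp B P.1) t}), P.1 ∉ t.1 := by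
    intro P t h
    have h1 : P.1 ≤ P.1 ⊓ perp B P.1 := le_inf le_rfl ((t.2.2.1 _ h).2.trans inf_le_right)
    rw [plane_inf_perp hA P.2.1, le_bot_iff] at h1
    have := finrank_plane hA P.2.1
    rw [h1, finrank_bot] at this
    omega
  refine Nat.card_congr
    { toFun := fun x => ⟨⟨insert x.1.1 x.2.1, ?_, ?_, ?_⟩, x.1.1, Finset.mem_insert_self _ _⟩
      invFun := fun y => ⟨⟨y.2.1, y.1.2.2.1 _ y.2.2⟩, y.1.1.erase y.2.1, ?_, ?_, ?_⟩
      left_inv := ?_
      right_inv := ?_ }
  · rw [Finset.card_insert_of_notMem (hnotmem _ _), x.2.2.1]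
  · intro P hP
    rcases Finset.mem_insert.1 hP with rfl | hP
    · exact x.1.2
    · exact ⟨(x.2.2.2.1 P hP).1, (x.2.2.2.1 P hP).2.trans inf_le_left⟩
  · intro P hP Q hQ hne
    rcases Finset.mem_insert.1 hP with rfl | hP <;> rcases Finset.mem_insert.1 hQ with rfl | hQ
    · exact absurd rfl hne
    · exact le_perp_symm hA ((x.2.2.2.1 Q hQ).2.trans inf_le_right)
    · exact (x.2.2.2.1 P hP).2.trans inf_le_right
    · exact x.2.2.2.2 P hP Q hQ hne
  · rw [Finset.card_erase_of_mem y.2.2, y.1.2.1]; omega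
  · intro P hP
    obtain ⟨hne, hP⟩ := Finset.mem_erase.1 hP
    exact ⟨(y.1.2.2.1 P hP).1, le_inf (y.1.2.2.1 P hP).2 (y.1.2.2.2 P hP _ y.2.2 hne)⟩
  · intro P hP Q hQ hne
    exact y.1.2.2.2 P (Finset.mem_of_mem_erase hP) Q (Finset.mem_of_mem_erase hQ) hne
  · rintro ⟨P, t⟩
    refine Sigma.ext rfl (heq_of_eq (Subtype.ext ?_))
    exact Finset.erase_insert (hnotmem P t)
  · rintro ⟨⟨s, hs⟩, ⟨P, hP⟩⟩
    have he : insert P (s.erase P) = s := Finset.insert_erase hP
    simp only [Sigma.mk.injEq, Subtype.mk.injEq, he, true_and]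
    congr 1 <;> simp [he]

theorem card_frames (hA : B.IsAlt) (hq : Odd (Nat.card F)) : ∀ m : ℕ, ∃ c, Odd c ∧
    ∀ U : Submodule F V, Nd B U → finrank F U = 2 * m → Nat.card {s // IsFrame B m U s} = c := by
  classical
  intro m
  induction m with
  | zero =>
    refine ⟨1, odd_one, fun U _ _ => ?_⟩
    rw [Nat.card_eq_one_iff_unique]
    refine ⟨⟨fun s t => Subtype.ext ?_⟩, ⟨⟨∅, rfl, by simp, by simp⟩⟩⟩
    rw [Finset.card_eq_zero.1 s.2.1, Finset.card_eq_zero.1 t.2.1]
  | succ m ih =>
    obtain ⟨c', hc', hcard⟩ := ih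
    haveI := Fintype.ofFinite (Submodule F V)
    have key : ∀ U : Submodule F V, Nd B U → finrank F U = 2 * (m + 1) →
        Nat.card {s // IsFrame B (m + 1) U s} * (m + 1) =
          Nat.card F ^ (2 * m) * (∑ i ∈ Finset.range (m + 1), (Nat.card F ^ 2) ^ i) * c' := by
      intro U hU hm
      have h := frame_step hA m U
      rw [Nat.card_sigma, Nat.card_sigma,
        Finset.sum_congr rfl (fun (P : PlaneIn B U) _ => hcard _ (nd_inf_perp hA P.2.1 P.2.2 hU)
          (by have := finrank_inf_perp hA P.2.1 P.2.2; omega)),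
        Finset.sum_const, smul_eq_mul, Finset.card_univ, ← Nat.card_eq_fintype_card,
        card_planes_eq hA hq hU hm] at h
      rw [h, Finset.sum_congr rfl (fun (s : {s // IsFrame B (m + 1) U s}) _ => by
        rw [Nat.card_eq_fintype_card, Fintype.card_coe, s.2.1]), Finset.sum_const, smul_eq_mul,
        Finset.card_univ, Nat.card_eq_fintype_card]
    by_cases hex : ∃ U : Submodule F V, Nd B U ∧ finrank F U = 2 * (m + 1)
    · obtain ⟨U0, h0, h0'⟩ := hex
      refine ⟨Nat.card {s // IsFrame B (m + 1) U0 s}, ?_, fun U hU hm =>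
        Nat.eq_of_mul_eq_mul_right (Nat.succ_pos m) ((key U hU hm).trans (key U0 h0 h0').symm)⟩
      obtain ⟨a, b, ha, hb, hab⟩ := odd_geom (Nat.card F ^ 2) (by
        obtain ⟨k, hk⟩ := hq
        rw [hk, show (2 * k + 1) ^ 2 = 4 * (k * k + k) + 1 by ring]
        omega) (m + 1) (Nat.succ_pos m)
      set S := ∑ i ∈ Finset.range (m + 1), (Nat.card F ^ 2) ^ i
      have h1 := key U0 h0 h0'
      have h2 : a * Nat.card {s // IsFrame B (m + 1) U0 s} * (m + 1) =
          Nat.card F ^ (2 * m) * b * c' * (m + 1) := by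
        rw [mul_assoc, h1, show a * (Nat.card F ^ (2 * m) * S * c') = Nat.card F ^ (2 * m) * (a * S) * c' by ring, hab]
        ring
      have h3 := Nat.eq_of_mul_eq_mul_right (Nat.succ_pos m) h2
      have h4 : Odd (Nat.card F ^ (2 * m) * b * c') := ((hq.pow).mul hb).mul hc'
      rw [← h3] at h4
      exact (Nat.odd_mul.1 h4).2
    · exact ⟨1, odd_one, fun U hU hm => absurd ⟨U, hU, hm⟩ hex⟩

end Count

/-! ### Sign changes along a frame -/

theorem frame_sup_eq (hA : B.IsAlt) : ∀ (m : ℕ) (U : Submodule F V) (s : Finset (Submodule F V)),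
    finrank F U = 2 * m → IsFrame B m U s → s.sup id = U := by
  classical
  intro m
  induction m with
  | zero =>
    intro U s hU hs
    rw [Finset.card_eq_zero.1 hs.1, Finset.sup_empty]
    exact (Submodule.finrank_eq_zero.1 hU).symm
  | succ m ih =>
    intro U s hU hs
    obtain ⟨P, hP⟩ : s.Nonempty := Finset.card_pos.1 (by rw [hs.1]; omega)
    obtain ⟨hPp, hPU⟩ := hs.2.1 P hP
    have := ih (U ⊓ perp B P) (s.erase P) (by have := finrank_inf_perp hA hPp hPU; omega)
      ⟨by rw [Finset.card_erase_of_mem hP, hs.1]; omega,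
        fun Q hQ => ⟨(hs.2.1 Q (Finset.mem_of_mem_erase hQ)).1,
          le_inf (hs.2.1 Q (Finset.mem_of_mem_erase hQ)).2
            (hs.2.2 Q (Finset.mem_of_mem_erase hQ) P hP (Finset.ne_of_mem_erase hQ))⟩,
        fun Q hQ R hR => hs.2.2 Q (Finset.mem_of_mem_erase hQ) R (Finset.mem_of_mem_erase hR)⟩
    rw [← Finset.insert_erase hP, Finset.sup_insert, this, id]
    exact plane_sup_perp hA hPp hPU

/-- The reflection negating a plane. -/
theorem exists_negate (hA : B.IsAlt) {P : Submodule F V} (hP : IsPlane B P) :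
    ∃ g ∈ Isom B, (∀ v ∈ P, g v = -v) ∧ ∀ v ∈ perp B P, g v = v := by
  obtain ⟨u, w, h, rfl⟩ := hP
  set π := proj B u w
  have hpp : ∀ v, π (π v) = π v := fun v => proj_id hA h (proj_mem u w v)
  set f : V →ₗ[F] V := LinearMap.id - π - π
  have hf : ∀ v, f v = v - π v - π v := fun v => rfl
  have hff : ∀ v, f (f v) = v := fun v => by
    simp only [hf, map_sub, hpp]
    abel
  let g : V ≃ₗ[F] V := LinearEquiv.ofLinearMap f f (LinearMap.ext hff) (LinearMap.ext hff)
  have hg : ∀ v, g v = f v := fun v => rfl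
  refine ⟨g, fun x y => ?_, fun v hv => ?_, fun v hv => ?_⟩
  · rw [hg, hg, hf, hf]
    have e1 : B (x - π x) (π y) = 0 := sub_proj_mem hA h x _ (proj_mem u w y)
    have e2 : B (π x) (y - π y) = 0 := by
      rw [alt_swap hA, sub_proj_mem hA h y _ (proj_mem u w x), neg_zero]
    simp only [map_sub, LinearMap.sub_apply] at e1 e2 ⊢
    linear_combination (-2 : F) * e1 - 2 * e2
  · rw [hg, hf, show π v = v from proj_id hA h hv]; abel
  · rw [hg, hf, show π v = 0 from proj_zero u w hv]; abel

/-- The isometries acting as a sign on each plane of a frame. -/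
def signs (B : BilinForm F V) (s : Finset (Submodule F V)) : Subgroup (Isom B) where
  carrier := {g | ∀ P ∈ s, (∀ v ∈ P, g.1 v = v) ∨ (∀ v ∈ P, g.1 v = -v)}
  mul_mem' {a b} ha hb P hP := by
    rcases hb P hP with h | h <;> rcases ha P hP with h' | h'
    · exact Or.inl fun v hv => by show a.1 (b.1 v) = v; rw [h v hv, h' v hv]
    · exact Or.inr fun v hv => by show a.1 (b.1 v) = -v; rw [h v hv, h' v hv]
    · exact Or.inr fun v hv => by show a.1 (b.1 v) = -v; rw [h v hv, map_neg, h' v hv]
    · exact Or.inl fun v hv => by show a.1 (b.1 v) = v; rw [h v hv, map_neg, h' v hv, neg_neg]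
  one_mem' := fun P _ => Or.inl fun v _ => rfl
  inv_mem' {a} ha P hP := by
    rcases ha P hP with h | h
    · exact Or.inl fun v hv => a.1.symm_apply_eq.2 (h v hv).symm
    · exact Or.inr fun v hv => a.1.symm_apply_eq.2 (by rw [map_neg, h v hv, neg_neg])

theorem isom_ext_frame {m : ℕ} {s : Finset (Submodule F V)} (hs : s.sup id = (⊤ : Submodule F V))
    (g h : Isom B) (hgh : ∀ P ∈ s, ∀ v ∈ P, g.1 v = h.1 v) : g = h := by
  refine Subtype.ext (LinearEquiv.ext fun v => ?_)
  have hle : s.sup id ≤ LinearMap.eqLocus g.1.toLinearMap h.1.toLinearMap := Finset.sup_le fun P hP w hw => hgh P hP w hw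
  rw [hs] at hle
  exact hle Submodule.mem_top

theorem two_pow_le_signs [Finite F] (hA : B.IsAlt) (h2 : (2 : F) ≠ 0) {m : ℕ} {s : Finset (Submodule F V)}
    (hs : IsFrame B m ⊤ s) : 2 ^ m ≤ Nat.card (signs B s) := by
  classical
  haveI : Finite V := Module.finite_of_finite F
  haveI : Finite (V ≃ₗ[F] V) := Finite.of_injective (fun g : V ≃ₗ[F] V => (g : V → V)) DFunLike.coe_injective
  have key : ∀ T, T ⊆ s → ∃ g : Isom B, ∀ P ∈ s, ∀ v ∈ P, g.1 v = if P ∈ T then -v else v := by
    intro T
    induction T using Finset.induction_on with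
    | empty => exact fun _ => ⟨1, fun P _ v _ => by simp⟩
    | @insert Q T hQ ih =>
      intro hsub
      rw [Finset.insert_subset_iff] at hsub
      obtain ⟨g, hg⟩ := ih hsub.2
      obtain ⟨r, hr, hr1, hr2⟩ := exists_negate hA (hs.2.1 Q hsub.1).1
      refine ⟨g * ⟨r, hr⟩, fun P hP v hv => ?_⟩
      change g.1 (r v) = _
      rcases eq_or_ne P Q with rfl | hne
      · rw [hr1 v hv, map_neg, hg P hP v hv, if_neg hQ, if_pos (Finset.mem_insert_self _ _)]
      · rw [hr2 v (hs.2.2 P hP Q hsub.1 hne hv), hg P hP v hv]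
        simp [hne]
  choose g hg using key
  have hf : Function.Injective (fun T : s.powerset =>
      (⟨g T.1 (Finset.mem_powerset.1 T.2), fun P hP => (by
        by_cases h : P ∈ T.1
        · exact Or.inr fun v hv => by rw [hg _ _ P hP v hv, if_pos h]
        · exact Or.inl fun v hv => by rw [hg _ _ P hP v hv, if_neg h])⟩ : signs B s)) := by
    rintro ⟨T1, h1⟩ ⟨T2, h2'⟩ he
    have he' : g T1 (Finset.mem_powerset.1 h1) = g T2 (Finset.mem_powerset.1 h2') := congrArg Subtype.val he
    refine Subtype.ext (Finset.ext fun P => ?_)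
    by_cases hP : P ∈ s
    · obtain ⟨u, w, huw, hspan⟩ := (hs.2.1 P hP).1
      have hu : u ∈ P := hspan ▸ Submodule.subset_span (Set.mem_insert _ _)
      have hne : -u ≠ u := by
        intro e
        have : (2 : F) • u = 0 := by rw [two_smul]; nth_rewrite 1 [← e]; exact neg_add_cancel u
        rcases smul_eq_zero.1 this with h | h
        · exact h2 h
        · rw [h] at huw; simp at huw
      have := hg T1 (Finset.mem_powerset.1 h1) P hP u hu
      rw [he', hg T2 (Finset.mem_powerset.1 h2') P hP u hu] at this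
      split_ifs at this with a b b
      · simp [a, b]
      · exact absurd this hne
      · exact absurd this.symm hne
      · simp [a, b]
    · exact ⟨fun h => absurd (Finset.mem_powerset.1 h1 h) hP, fun h => absurd (Finset.mem_powerset.1 h2' h) hP⟩
  have := Nat.card_le_card_of_injective _ hf
  rwa [Nat.card_eq_fintype_card, Fintype.card_coe, Finset.card_powerset, hs.1] at this

theorem signs_sq (hA : B.IsAlt) {m : ℕ} {s : Finset (Submodule F V)} (hm : finrank F V = 2 * m)
    (hs : IsFrame B m ⊤ s) (g : Isom B) (hg : g ∈ signs B s) : g ^ 2 = 1 := by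
  refine isom_ext_frame (m := m) (frame_sup_eq hA m ⊤ s (by rw [finrank_top, hm]) hs) _ _ fun P hP v hv => ?_
  rw [pow_two]
  change g.1 (g.1 v) = v
  rcases hg P hP with h | h
  · rw [h v hv, h v hv]
  · rw [h v hv, map_neg, h v hv, neg_neg]

/-! ### The bound for elementary abelian 2-groups -/

/-- The restrictions of a family of isometries to a subspace. -/
def restr (E : Subgroup (Isom B)) (U : Submodule F V) : Set (U → V) :=
  Set.range fun e : E => fun v : U => e.1.1 v

theorem restr_le [Finite F] (hA : B.IsAlt) (h2 : (2 : F) ≠ 0) (E : Subgroup (Isom B))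
    (hE : ∀ e ∈ E, e ^ 2 = 1) : ∀ (m : ℕ) (U : Submodule F V), Nd B U → finrank F U = 2 * m →
      (∀ e ∈ E, ∀ v ∈ U, e.1 v ∈ U) → Nat.card (restr E U) ≤ 2 ^ m := by
  classical
  haveI : Finite V := Module.finite_of_finite F
  haveI : Finite (V ≃ₗ[F] V) := Finite.of_injective (fun g : V ≃ₗ[F] V => (g : V → V)) DFunLike.coe_injective
  intro m
  induction m using Nat.strong_induction_on with
  | _ m ih =>
    intro U hU hm hinv
    rcases Nat.eq_zero_or_pos m with rfl | hpos
    · have hU0 : U = ⊥ := Submodule.finrank_eq_zero.1 (by simpa using hm)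
      have : Subsingleton (restr E U) := ⟨by
        rintro ⟨_, e, rfl⟩ ⟨_, e', rfl⟩
        refine Subtype.ext (funext fun v => ?_)
        have hv0 : (v : V) = 0 := (Submodule.eq_bot_iff U).1 hU0 v v.2
        simp [hv0]⟩
      simpa using Finite.card_le_one_iff_subsingleton.2 this
    have hhalf : ∀ v : V, v = -v → v = 0 := fun v hv => by
      have : (2 : F) • v = 0 := by rw [two_smul]; nth_rewrite 2 [hv]; exact add_neg_cancel v
      exact (smul_eq_zero.1 this).resolve_left h2
    by_cases hsc : ∀ e ∈ E, (∀ v ∈ U, e.1 v = v) ∨ (∀ v ∈ U, e.1 v = -v)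
    · have hsub : restr E U ⊆ {(fun v : U => (v : V)), (fun v : U => -(v : V))} := by
        rintro _ ⟨⟨e, he⟩, rfl⟩
        rcases hsc e he with h | h
        · exact Or.inl (funext fun v => h v v.2)
        · exact Or.inr (funext fun v => h v v.2)
      rw [Nat.card_coe_set_eq]
      calc (restr E U).ncard ≤ ({(fun v : U => (v : V)), (fun v : U => -(v : V))} : Set (U → V)).ncard :=
            Set.ncard_le_ncard hsub (Set.toFinite _)
        _ ≤ 2 := by
            refine (Set.ncard_insert_le _ _).trans ?_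
            rw [Set.ncard_singleton]
        _ ≤ 2 ^ m := Nat.le_self_pow (by omega) 2
    · push Not at hsc
      obtain ⟨e, he, ⟨v1, hv1, hv1'⟩, ⟨v2, hv2, hv2'⟩⟩ := hsc
      have hinvol : ∀ v, e.1 (e.1 v) = v := fun v => by
        have := hE e he
        rw [pow_two] at this
        exact DFunLike.congr_fun (congrArg Subtype.val this) v
      let eig : F → Submodule F V := fun c =>
        U ⊓ LinearMap.eqLocus e.1.toLinearMap (c • LinearMap.id)
      have meig : ∀ c v, v ∈ eig c ↔ v ∈ U ∧ e.1 v = c • v := fun c v => Iff.rfl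
      set Up := eig 1
      set Um := eig (-1)
      have hcomm : ∀ c, ∀ f ∈ E, ∀ v ∈ eig c, f.1 v ∈ eig c := by
        intro c f hf v hv
        rw [meig] at hv ⊢
        refine ⟨hinv f hf v hv.1, ?_⟩
        have hc : e * f = f * e := by
          have hinv' : ∀ g ∈ E, g⁻¹ = g := fun g hg => inv_eq_of_mul_eq_one_left (by rw [← pow_two, hE g hg])
          rw [← hinv' _ (E.mul_mem he hf), mul_inv_rev, hinv' e he, hinv' f hf]
        have := DFunLike.congr_fun (congrArg Subtype.val hc) v
        change e.1 (f.1 v) = f.1 (e.1 v) at this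
        rw [this, hv.2, map_smul]
      have hsplit : ∀ v ∈ U, ∃ a ∈ Up, ∃ b ∈ Um, v = a + b := by
        intro v hv
        refine ⟨(2 : F)⁻¹ • (v + e.1 v), (meig _ _).2 ⟨U.smul_mem _ (U.add_mem hv (hinv e he v hv)), ?_⟩,
          (2 : F)⁻¹ • (v - e.1 v), (meig _ _).2 ⟨U.smul_mem _ (U.sub_mem hv (hinv e he v hv)), ?_⟩, ?_⟩
        · rw [map_smul, map_add, hinvol, one_smul, add_comm]
        · rw [map_smul, map_sub, hinvol, neg_smul, one_smul, ← smul_neg, neg_sub]
        · rw [← smul_add, add_add_sub_cancel, ← two_smul F, smul_smul, inv_mul_cancel₀ h2, one_smul]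
      have horth : ∀ a ∈ Up, ∀ b ∈ Um, B a b = 0 := by
        intro a ha b hb
        have h1 := e.2 a b
        rw [((meig _ _).1 ha).2, ((meig _ _).1 hb).2, one_smul, neg_smul, one_smul, map_neg] at h1
        have : (2 : F) * B a b = 0 := by linear_combination (-1 : F) * h1
        exact (mul_eq_zero.1 this).resolve_left h2
      have hndp : Nd B Up := by
        intro x hx h
        refine hU x hx.1 fun y hy => ?_
        obtain ⟨a, ha, b, hb, rfl⟩ := hsplit y hy
        rw [map_add, h a ha, horth x hx b hb, add_zero]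
      have hndm : Nd B Um := by
        intro x hx h
        refine hU x hx.1 fun y hy => ?_
        obtain ⟨a, ha, b, hb, rfl⟩ := hsplit y hy
        rw [map_add, h b hb, alt_swap hA, horth a ha x hx, neg_zero, zero_add]
      have hinf : Up ⊓ Um = ⊥ := by
        rw [Submodule.eq_bot_iff]
        rintro v ⟨hp, hm'⟩
        refine hhalf v ?_
        have a1 := ((meig _ _).1 hp).2
        have a2 := ((meig _ _).1 hm').2
        rw [one_smul] at a1
        rw [neg_smul, one_smul] at a2
        rwa [a1] at a2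
      have hsup : Up ⊔ Um = U := le_antisymm (sup_le inf_le_left inf_le_left) fun v hv => by
        obtain ⟨a, ha, b, hb, rfl⟩ := hsplit v hv
        exact Submodule.add_mem_sup ha hb
      have hdim := Submodule.finrank_sup_add_finrank_inf_eq Up Um
      rw [hsup, hinf, finrank_bot, add_zero] at hdim
      obtain ⟨k1, hk1⟩ := even_finrank hA _ Up hndp rfl
      obtain ⟨k2, hk2⟩ := even_finrank hA _ Um hndm rfl
      have hUp : Up ≠ ⊥ := by
        intro h
        apply hv2'
        obtain ⟨a, ha, b, hb, rfl⟩ := hsplit v2 hv2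
        rw [h, Submodule.mem_bot] at ha
        rw [ha, zero_add, ((meig _ _).1 hb).2, neg_smul, one_smul]
      have hUm : Um ≠ ⊥ := by
        intro h
        apply hv1'
        obtain ⟨a, ha, b, hb, rfl⟩ := hsplit v1 hv1
        rw [h, Submodule.mem_bot] at hb
        rw [hb, add_zero, ((meig _ _).1 ha).2, one_smul]
      rw [Ne, ← Submodule.finrank_eq_zero] at hUp hUm
      have hp := ih k1 (by omega) Up hndp (by omega) (hcomm 1)
      have hq := ih k2 (by omega) Um hndm (by omega) (hcomm (-1))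
      have hle : Nat.card (restr E U) ≤ Nat.card (restr E Up × restr E Um) := by
        have hpre : ∀ r : restr E U, ∃ f : E, (fun v : U => f.1.1 v) = r.1 := fun r => r.2
        choose f hf using hpre
        refine Nat.card_le_card_of_injective (fun r => (⟨_, f r, rfl⟩, ⟨_, f r, rfl⟩)) ?_
        intro r r' h
        have e1 : (fun v : Up => (f r).1.1 v) = (fun v : Up => (f r').1.1 v) := congrArg Subtype.val (Prod.ext_iff.1 h).1
        have e2 : (fun v : Um => (f r).1.1 v) = (fun v : Um => (f r').1.1 v) := congrArg Subtype.val (Prod.ext_iff.1 h).2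
        refine Subtype.ext ?_
        rw [← hf r, ← hf r']
        funext v
        obtain ⟨a, ha, b, hb, hv⟩ := hsplit v v.2
        rw [hv, map_add, map_add]
        exact congrArg₂ (· + ·) (congrFun e1 ⟨a, ha⟩) (congrFun e2 ⟨b, hb⟩)
      rw [Nat.card_prod] at hle
      refine hle.trans ((Nat.mul_le_mul hp hq).trans ?_)
      rw [← pow_add]
      exact Nat.pow_le_pow_right (by norm_num) (by omega)

/-! ### Normal elementary abelian subgroups of Sylow 2-subgroups -/

theorem card_elemAbelian_le [Finite F] (hA : B.IsAlt) (hB : B.Nondegenerate) (h2 : (2 : F) ≠ 0) {m : ℕ}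
    (hm : finrank F V = 2 * m) (E : Subgroup (Isom B)) (hE : ∀ e ∈ E, e ^ 2 = 1) : Nat.card E ≤ 2 ^ m := by
  haveI : Finite V := Module.finite_of_finite F
  have h := restr_le hA h2 E hE m ⊤ (fun x _ hx => hB.1 x fun y => hx y Submodule.mem_top)
    (by rw [finrank_top, hm]) (fun _ _ _ _ => Submodule.mem_top)
  refine le_trans (Nat.card_le_card_of_injective (fun e : E => (⟨_, e, rfl⟩ : restr E ⊤)) ?_) h
  intro e e' he
  have he' := congrArg Subtype.val he
  exact Subtype.ext (Subtype.ext (LinearEquiv.ext fun v => congrFun he' ⟨v, Submodule.mem_top⟩))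

theorem map_plane {g : V ≃ₗ[F] V} (hg : g ∈ Isom B) {P : Submodule F V} (hP : IsPlane B P) :
    IsPlane B (P.map g.toLinearMap) := by
  obtain ⟨u, w, h, rfl⟩ := hP
  refine ⟨g u, g w, by rw [hg, h], ?_⟩
  rw [Submodule.map_span, Set.image_pair]
  rfl

theorem exists_normal_elemAbelian [Finite F] (hA : B.IsAlt) (hB : B.Nondegenerate)
    (hq : Odd (Nat.card F)) (h2 : (2 : F) ≠ 0) {m : ℕ} (hm : finrank F V = 2 * m) (S : Sylow 2 (Isom B)) :
    ∃ E : Subgroup (Isom B), E ≤ (S : Subgroup (Isom B)) ∧ (∀ g ∈ (S : Subgroup (Isom B)), g ∈ Subgroup.normalizer (E : Set (Isom B))) ∧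
      (∀ e ∈ E, e ^ 2 = 1) ∧ 2 ^ m ≤ Nat.card E := by
  classical
  haveI : Finite V := Module.finite_of_finite F
  haveI : Finite (V ≃ₗ[F] V) := Finite.of_injective (fun g : V ≃ₗ[F] V => (g : V → V)) DFunLike.coe_injective
  obtain ⟨c, hc, hcard⟩ := card_frames (B := B) hA hq m
  have hnum := hcard ⊤ (fun x _ hx => hB.1 x fun y => hx y Submodule.mem_top) (by rw [finrank_top, hm])
  have hmapinj : ∀ g : Isom B, Function.Injective (fun P : Submodule F V => P.map g.1.toLinearMap) :=
    fun g => Submodule.map_injective_of_injective g.1.injective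
  let act : Isom B → {s // IsFrame B m ⊤ s} → {s // IsFrame B m ⊤ s} := fun g s =>
    ⟨s.1.image (fun P => P.map g.1.toLinearMap), by rw [Finset.card_image_of_injective _ (hmapinj g)]; exact s.2.1,
      fun P hP => by
        obtain ⟨Q, hQ, rfl⟩ := Finset.mem_image.1 hP
        exact ⟨map_plane g.2 (s.2.2.1 Q hQ).1, le_top⟩,
      fun P hP Q hQ hne => by
        obtain ⟨P', hP', rfl⟩ := Finset.mem_image.1 hP
        obtain ⟨Q', hQ', rfl⟩ := Finset.mem_image.1 hQ
        rintro _ ⟨x, hx, rfl⟩ _ ⟨y, hy, rfl⟩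
        change B (g.1 x) (g.1 y) = 0
        rw [g.2]
        exact s.2.2.2 P' hP' Q' hQ' (fun e => hne (by rw [e])) hx y hy⟩
  letI : MulAction (S : Subgroup (Isom B)) {s // IsFrame B m ⊤ s} :=
    { smul := fun g s => act g.1 s
      one_smul := fun s => Subtype.ext (by
        change s.1.image _ = s.1
        conv_rhs => rw [← Finset.image_id (s := s.1)]
        exact Finset.image_congr fun P _ => Submodule.map_id P)
      mul_smul := fun g h s => Subtype.ext (by
        change s.1.image _ = (s.1.image _).image _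
        rw [Finset.image_image]
        exact Finset.image_congr fun P _ => (Submodule.map_comp _ _ P)) }
  obtain ⟨s, hfix⟩ := S.2.nonempty_fixed_point_of_prime_not_dvd_card {s // IsFrame B m ⊤ s} (by
    rw [hnum]; exact fun h => by have := Nat.odd_iff.1 hc; omega)
  have hnorm : ∀ g ∈ (S : Subgroup (Isom B)), g ∈ Subgroup.normalizer (signs B s.1 : Set (Isom B)) := by
    have key : ∀ g ∈ (S : Subgroup (Isom B)), ∀ t ∈ signs B s.1, g * t * g⁻¹ ∈ signs B s.1 := by
      intro g hg t ht P hP
      have hP' : P.map (g⁻¹ : Isom B).1.toLinearMap ∈ s.1 := by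
        have h1 := congrArg Subtype.val (hfix ⟨g⁻¹, inv_mem hg⟩)
        change s.1.image _ = s.1 at h1
        exact h1.subset (Finset.mem_image_of_mem _ hP)
      rcases ht _ hP' with h | h
      · refine Or.inl fun v hv => ?_
        change g.1 (t.1 ((g⁻¹ : Isom B).1 v)) = v
        exact (congrArg g.1 (h _ (Submodule.mem_map_of_mem (f := (g⁻¹ : Isom B).1.toLinearMap) hv))).trans
          (g.1.apply_symm_apply v)
      · refine Or.inr fun v hv => ?_
        change g.1 (t.1 ((g⁻¹ : Isom B).1 v)) = -v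
        exact ((congrArg g.1 (h _ (Submodule.mem_map_of_mem (f := (g⁻¹ : Isom B).1.toLinearMap) hv))).trans
          (map_neg g.1 _)).trans (congrArg Neg.neg (g.1.apply_symm_apply v))
    intro g hg
    rw [Subgroup.mem_normalizer_iff]
    intro t
    refine ⟨key g hg t, fun h => ?_⟩
    have h' := key g⁻¹ (inv_mem hg) _ h
    simpa [mul_assoc] using h'
  refine ⟨signs B s.1, ?_, hnorm, fun e he => signs_sq hA hm s.2 e he, two_pow_le_signs hA h2 s.2⟩
  have hp : IsPGroup 2 (signs B s.1) := fun e => ⟨1, Subtype.ext (by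
    rw [Subgroup.coe_pow, pow_one]; exact signs_sq hA hm s.2 e.1 e.2)⟩
  have hsup := S.2.to_sup_of_normal_right' hp hnorm
  exact le_sup_right.trans (S.is_maximal' hsup le_sup_left).le

end Cfsg.Agent.H52.Planes
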