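import Mathlib
import Cfsg.Prelude.Def_HallClasses

/-!
Elementary criteria for pronormality.
-/

set_option autoImplicit false

namespace Cfsg.Agent.H52

open Subgroup

/-- If the normalizer of a Sylow subgroup contained in `H` normalizes `H`, then `H` is pronormal. -/
theorem pronormal_of_sylow_normalizer {G : Type*} [Group G] [Finite G] {p : ℕ} [Fact p.Prime] (H : Subgroup G)
    (S : Sylow p G) (hSH : (S : Subgroup G) ≤ H)
    (hN : ∀ n ∈ normalizer ((S : Subgroup G) : Set G), H.map (MulAut.conj n).toMonoidHom = H) :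
    Cfsg.IsPronormal H := by
  intro g
  set K := H ⊔ H.map (MulAut.conj g).toMonoidHom
  have h1 : (S : Subgroup G) ≤ K := hSH.trans le_sup_left
  have h2 : ((g • S : Sylow p G) : Subgroup G) ≤ K := by
    refine le_trans ?_ le_sup_right
    rintro - ⟨z, hz, rfl⟩
    exact ⟨z, hSH hz, rfl⟩
  obtain ⟨k, hk⟩ := MulAction.exists_smul_eq K (S.subtype h1) ((g • S).subtype h2)
  simp_rw [Sylow.smul_subtype, Subgroup.smul_def] at hk
  have hk' : (k : G) • S = g • S := Sylow.subtype_injective hk
  have hn : (k : G)⁻¹ * g ∈ normalizer ((S : Subgroup G) : Set G) :=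
    Sylow.smul_eq_iff_mem_normalizer.1 (by rw [mul_smul, ← hk', inv_smul_smul])
  refine ⟨k, k.2, ?_⟩
  conv_rhs => rw [← hN _ hn, Subgroup.map_map]
  congr 1
  ext x
  simp [MulAut.conj_apply, mul_assoc]

/-- A Sylow subgroup is pronormal. -/
theorem pronormal_sylow {G : Type*} [Group G] [Finite G] {p : ℕ} [Fact p.Prime] (S : Sylow p G) :
    Cfsg.IsPronormal (S : Subgroup G) := by
  refine pronormal_of_sylow_normalizer _ S le_rfl fun n hn => ?_
  ext x
  rw [Subgroup.mem_map_equiv]
  exact ((mem_normalizer_iff'').1 hn x).trans (by simp [mul_assoc]) |>.symm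

/-- A subgroup whose Sylow subgroup is self-normalizing in the whole group is pronormal. -/
theorem pronormal_of_selfNormalizing {G : Type*} [Group G] [Finite G] {p : ℕ} [Fact p.Prime] (H : Subgroup G)
    (hN : ∀ S : Sylow p G, normalizer ((S : Subgroup G) : Set G) ≤ (S : Subgroup G))
    (hH : ¬ p ∣ H.index) : Cfsg.IsPronormal H := by
  obtain ⟨P⟩ : Nonempty (Sylow p H) := inferInstance
  have hp : IsPGroup p ((P : Subgroup H).map H.subtype) := P.2.map _
  have hi : ¬ p ∣ ((P : Subgroup H).map H.subtype).index := by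
    rw [Subgroup.index_map_subtype]
    exact Nat.Prime.not_dvd_mul Fact.out P.not_dvd_index hH
  refine pronormal_of_sylow_normalizer H (hp.toSylow hi) (Subgroup.map_subtype_le _) fun n hn => ?_
  have hnH : n ∈ H := Subgroup.map_subtype_le _ (hN _ hn)
  ext x
  rw [Subgroup.mem_map_equiv]
  constructor
  · intro hx
    have := H.mul_mem (H.mul_mem hnH hx) (H.inv_mem hnH)
    simpa [mul_assoc] using this
  · intro hx
    have := H.mul_mem (H.mul_mem (H.inv_mem hnH) hx) hnH
    simpa [mul_assoc] using this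

/-- A coatom is pronormal. -/
theorem pronormal_of_isCoatom {G : Type*} [Group G] (H : Subgroup G) (hH : IsCoatom H) :
    Cfsg.IsPronormal H := by
  intro g
  by_cases h : H.map (MulAut.conj g).toMonoidHom ≤ H
  · by_cases hgH : g ∈ H
    · exact ⟨g, Subgroup.mem_sup_left hgH, rfl⟩
    · refine ⟨1, one_mem _, ?_⟩
      have h2 : IsCoatom (H.map (MulAut.conj g).toMonoidHom) :=
        (MulEquiv.mapSubgroup (MulAut.conj g)).isCoatom_iff H |>.2 hH
      have h3 : H.map (MulAut.conj g).toMonoidHom = H := by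
        rcases h.lt_or_eq with h4 | h4
        · exact absurd (h2.2 H h4) hH.1
        · exact h4
      rw [h3]
      ext x
      simp
  · have h4 : H ⊔ H.map (MulAut.conj g).toMonoidHom = ⊤ := hH.2 _ (left_lt_sup.2 h)
    exact ⟨g, h4 ▸ Subgroup.mem_top g, rfl⟩

end Cfsg.Agent.H52
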