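import Cfsg.Agent.H52.Pronormal

/-!
Pronormality of the subgroups of odd index when the Sylow 2-subgroups are four-groups and
an element of odd order commutes with at most one involution.
-/

set_option autoImplicit false
set_option linter.style.haveILetI false

namespace Cfsg.Agent.H52.Klein

open Subgroup

variable {G : Type*} [Group G] [Finite G]

theorem conj_involution {G : Type*} [Group G] {v x : G} (hv : orderOf v = 2) : orderOf (x * v * x⁻¹) = 2 := by
  rw [← MulAut.conj_apply, MulEquiv.orderOf_eq, hv]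

/-- An element of the normalizer fixing an involution of the four-group lies in it. -/
theorem mem_of_fix (V : Sylow 2 G) [IsKleinFour (V : Subgroup G)]
    (uniq : ∀ c v v' : G, Odd (orderOf c) → c ≠ 1 → orderOf v = 2 → orderOf v' = 2 → Commute c v →
      Commute c v' → v = v')
    {n : G} (hn : n ∈ normalizer ((V : Subgroup G) : Set G)) {v : G} (hv : v ∈ (V : Subgroup G)) (hv1 : v ≠ 1)
    (hfix : n * v * n⁻¹ = v) : n ∈ (V : Subgroup G) := by
  haveI := Fact.mk Nat.prime_two
  have hord : ∀ u ∈ (V : Subgroup G), u ≠ 1 → orderOf u = 2 := by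
    intro u hu hu1
    exact orderOf_eq_prime (by simpa [sq] using congrArg Subtype.val (IsKleinFour.mul_self (⟨u, hu⟩ : (V : Subgroup G)))) hu1
  -- the odd part of `n` centralizes the four-group
  obtain ⟨e, m, hm, he⟩ := Nat.exists_eq_two_pow_mul_odd (orderOf_pos n).ne'
  set c := n ^ 2 ^ e with hc
  have hoc : orderOf c = m := by
    rw [hc, orderOf_pow_of_dvd (pow_ne_zero e two_ne_zero) (Dvd.intro m he.symm), he,
      Nat.mul_div_cancel_left _ (Nat.two_pow_pos e)]
  have hcv : c * v * c⁻¹ = v := by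
    have h1 : Commute n v := mul_inv_eq_iff_eq_mul.1 hfix
    rw [hc, (h1.pow_left _).eq, mul_inv_cancel_right]
  have hcN : c ∈ normalizer ((V : Subgroup G) : Set G) := pow_mem hn _
  obtain ⟨u, hu, hu1, huv⟩ : ∃ u ∈ (V : Subgroup G), u ≠ 1 ∧ u ≠ v := by
    by_contra! h
    have hsub : (Set.univ : Set (V : Subgroup G)) ⊆ {1, ⟨v, hv⟩} := by
      rintro ⟨u, hu⟩ -
      by_cases h1 : u = 1
      · left; exact Subtype.ext h1
      · right; exact Subtype.ext (h u hu h1)
    have hcard := Set.ncard_le_ncard hsub (Set.toFinite _)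
    rw [Set.ncard_univ, IsKleinFour.card_four] at hcard
    have := Set.ncard_insert_le (1 : (V : Subgroup G)) {⟨v, hv⟩}
    rw [Set.ncard_singleton] at this
    omega
  have hc2 : c ^ 2 * u * (c ^ 2)⁻¹ = u := by
    have hw : ∀ z ∈ (V : Subgroup G), z ≠ 1 → z ≠ v → z ≠ u → z = u * v := by
      intro z hz hz1 hzv hzu
      exact congrArg Subtype.val (IsKleinFour.eq_mul_of_ne_all (x := (⟨u, hu⟩ : (V : Subgroup G)))
        (y := ⟨v, hv⟩) (z := ⟨z, hz⟩) (fun h => hu1 (congrArg Subtype.val h)) (fun h => hv1 (congrArg Subtype.val h))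
        (fun h => huv (congrArg Subtype.val h)) (fun h => hz1 (congrArg Subtype.val h))
        (fun h => hzu (congrArg Subtype.val h)) (fun h => hzv (congrArg Subtype.val h)))
    have h1 : c * u * c⁻¹ ∈ (V : Subgroup G) := (mem_normalizer_iff.1 hcN u).1 hu
    by_cases h2 : c * u * c⁻¹ = u
    · calc c ^ 2 * u * (c ^ 2)⁻¹ = c * (c * u * c⁻¹) * c⁻¹ := by simp [sq, mul_assoc]
        _ = u := by rw [h2, h2]
    · have h3 : c * u * c⁻¹ = u * v := by
        refine hw _ h1 (fun h => hu1 (by simpa using h)) (fun h => huv ?_) h2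
        have := mul_right_cancel (h.trans hcv.symm)
        exact mul_left_cancel this
      calc c ^ 2 * u * (c ^ 2)⁻¹ = c * (c * u * c⁻¹) * c⁻¹ := by simp [sq, mul_assoc]
        _ = c * (u * v) * c⁻¹ := by rw [h3]
        _ = (c * u * c⁻¹) * (c * v * c⁻¹) := by simp [mul_assoc]
        _ = u := by
          rw [h3, hcv, mul_assoc]
          have : v * v = 1 := congrArg Subtype.val (IsKleinFour.mul_self (⟨v, hv⟩ : (V : Subgroup G)))
          rw [this, mul_one]
  have hc2v : Commute (c ^ 2) v := (show Commute c v from mul_inv_eq_iff_eq_mul.1 hcv).pow_left 2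
  have hc2u : Commute (c ^ 2) u := mul_inv_eq_iff_eq_mul.1 hc2
  have hoc2 : Odd (orderOf (c ^ 2)) := (hoc ▸ hm).of_dvd_nat (orderOf_pow_dvd 2)
  have hc21 : c ^ 2 = 1 := by
    by_contra h
    exact huv (uniq _ u v hoc2 h (hord u hu hu1) (hord v hv hv1) hc2u hc2v)
  have hc1 : c = 1 := by
    have h2 : orderOf c ∣ 2 := orderOf_dvd_of_pow_eq_one hc21
    rw [hoc] at h2
    rcases (Nat.dvd_prime Nat.prime_two).1 h2 with h | h
    · exact orderOf_eq_one_iff.1 (hoc.trans h)
    · rw [h] at hm; exact absurd hm (by decide)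
  -- so `n` is a 2-element normalizing a maximal 2-group
  have hp : IsPGroup 2 (zpowers n) := by
    refine IsPGroup.of_card (n := e) ?_
    rw [Nat.card_zpowers, he]
    rw [hc1, orderOf_one] at hoc
    rw [← hoc, mul_one]
  have hsup : IsPGroup 2 (zpowers n ⊔ (V : Subgroup G) : Subgroup G) :=
    hp.to_sup_of_normal_right' V.2 (by rwa [zpowers_le])
  rw [← V.3 hsup le_sup_right]
  exact le_sup_left (a := zpowers n) (mem_zpowers n)

/-- A four-group of automorphisms of a non-trivial group of odd order has non-trivial fixed points. -/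
theorem exists_fixed (O : Subgroup G) (hO : Odd (Nat.card O)) (hO1 : O ≠ ⊥) {u v : G} (huv : Commute u v)
    (hu : orderOf u = 2) (hv : orderOf v = 2) (hun : ∀ x ∈ O, u * x * u⁻¹ ∈ O) (hvn : ∀ x ∈ O, v * x * v⁻¹ ∈ O) :
    ∃ w ∈ ({u, v, u * v} : Set G), ∃ c ∈ O, c ≠ 1 ∧ Commute c w := by
  by_contra! hno
  have hinv : ∀ w ∈ ({u, v} : Set G), orderOf w = 2 → (∀ x ∈ O, w * x * w⁻¹ ∈ O) →
      ∀ y ∈ O, w * y * w⁻¹ = y⁻¹ := by
    intro w hw ho hn y hy
    let φ : O → O := fun x => ⟨(x : G)⁻¹ * (w * x * w⁻¹), O.mul_mem (O.inv_mem x.2) (hn _ x.2)⟩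
    have hφ : Function.Injective φ := by
      intro a b h
      have h' : (a : G)⁻¹ * (w * a * w⁻¹) = (b : G)⁻¹ * (w * b * w⁻¹) := congrArg Subtype.val h
      have h1 : Commute ((b : G) * (a : G)⁻¹) w := by
        show (b : G) * (a : G)⁻¹ * w = w * ((b : G) * (a : G)⁻¹)
        have := congrArg (fun z => (b : G) * z * (w * (a : G)⁻¹ * w⁻¹) * w) h'
        simpa [mul_assoc] using this
      by_contra hab
      refine hno w (by rcases hw with rfl | rfl <;> simp) _ (O.mul_mem b.2 (O.inv_mem a.2)) ?_ h1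
      intro e
      exact hab (Subtype.ext (mul_inv_eq_one.1 e).symm)
    obtain ⟨x, hx⟩ := (Finite.injective_iff_surjective.1 hφ) ⟨y, hy⟩
    have hxy : (x : G)⁻¹ * (w * x * w⁻¹) = y := congrArg Subtype.val hx
    have hww : w * w = 1 := by rw [← sq, ← ho, pow_orderOf_eq_one]
    have hwi : w⁻¹ = w := inv_eq_of_mul_eq_one_right hww
    have e2 : ∀ z : G, w * (w * z) = z := fun z => by rw [← mul_assoc, hww, one_mul]
    rw [← hxy]
    simp [hwi, mul_assoc, e2, hww]
  have h1 := hinv u (by simp) hu hun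
  have h2 := hinv v (by simp) hv hvn
  obtain ⟨c, hc, hc1⟩ := (Subgroup.bot_or_exists_ne_one O).resolve_left hO1
  refine hno (u * v) (by simp) c hc hc1 ?_
  have e : u * v * c * (u * v)⁻¹ = c := by
    rw [show u * v * c * (u * v)⁻¹ = u * (v * c * v⁻¹) * u⁻¹ by simp [mul_assoc], h2 c hc,
      show u * c⁻¹ * u⁻¹ = (u * c * u⁻¹)⁻¹ by simp [mul_assoc], h1 c hc, inv_inv]
  exact (mul_inv_eq_iff_eq_mul.1 e).symm

theorem card_ne_one (A : Type*) [Group A] [Finite A] : Nat.card {c : A // c ≠ 1} = Nat.card A - 1 := by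
  classical
  haveI := Fintype.ofFinite A
  rw [Nat.card_eq_fintype_card, Fintype.card_subtype_compl, Fintype.card_subtype_eq, Nat.card_eq_fintype_card]

/-- Two different involutions cannot both have non-trivial fixed points. -/
theorem no_two_fixed (O : Subgroup G) (hO : Odd (Nat.card O))
    (uniq : ∀ c v v' : G, Odd (orderOf c) → c ≠ 1 → orderOf v = 2 → orderOf v' = 2 → Commute c v →
      Commute c v' → v = v')
    {u v : G} (hu : orderOf u = 2) (hv : orderOf v = 2)
    (hsep : ∀ z ∈ O, z * u * z⁻¹ ≠ v)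
    {a b : G} (ha : a ∈ O) (ha1 : a ≠ 1) (hau : Commute a u) (hb : b ∈ O) (hb1 : b ≠ 1) (hbv : Commute b v) :
    False := by
  classical
  set C₁ : Subgroup O := (centralizer {u}).subgroupOf O
  set C₂ : Subgroup O := (centralizer {v}).subgroupOf O
  have hodd : ∀ c : O, Odd (orderOf (c : G)) := fun c => by
    rw [orderOf_coe]; exact hO.of_dvd_nat (orderOf_dvd_natCard c)
  have mem1 : ∀ (w : G) (c : O), c ∈ (centralizer {w}).subgroupOf O → Commute (c : G) w := fun w c hc =>
    mem_centralizer_singleton_iff.1 hc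
  let f : ((O ⧸ C₁) × {c : C₁ // c ≠ 1}) ⊕ ((O ⧸ C₂) × {c : C₂ // c ≠ 1}) → {o : O // o ≠ 1} :=
    fun z => match z with
      | Sum.inl (q, c) => ⟨q.out * (c.1 : O) * q.out⁻¹, fun h => c.2 (Subtype.ext (by simpa using h))⟩
      | Sum.inr (q, c) => ⟨q.out * (c.1 : O) * q.out⁻¹, fun h => c.2 (Subtype.ext (by simpa using h))⟩
  -- the involution centralizing a conjugate
  have key : ∀ (w w' : G), orderOf w = 2 → orderOf w' = 2 → ∀ (x y : O) (c d : O), c ≠ 1 → Commute (c : G) w →
      Commute (d : G) w' → x * c * x⁻¹ = y * d * y⁻¹ →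
        ((y⁻¹ * x : O) : G) * w * ((y⁻¹ * x : O) : G)⁻¹ = w' := by
    intro w w' hw hw' x y c d hc1 hcw hdw e
    have e' : d = (y⁻¹ * x) * c * (y⁻¹ * x)⁻¹ := by
      have := congrArg (fun z => y⁻¹ * z * y) e
      simpa [mul_assoc] using this.symm
    have hd1 : (d : G) ≠ 1 := by
      intro h
      have hd : d = 1 := Subtype.ext h
      rw [hd] at e'
      exact hc1 (conj_eq_one_iff.1 e'.symm)
    refine uniq (d : G) _ w' (hodd d) hd1 (conj_involution hw) hw' ?_ hdw
    rw [e', Subgroup.coe_mul, Subgroup.coe_mul, Subgroup.coe_inv]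
    exact hcw.conj _
  have hf : Function.Injective f := by
    rintro (⟨q, c⟩ | ⟨q, c⟩) (⟨r, d⟩ | ⟨r, d⟩) h
    · have e : q.out * (c.1 : O) * q.out⁻¹ = r.out * (d.1 : O) * r.out⁻¹ := congrArg Subtype.val h
      have h1 := key u u hu hu q.out r.out c.1 d.1 (fun h => c.2 (Subtype.ext h)) (mem1 u _ c.1.2) (mem1 u _ d.1.2) e
      have hqr : q = r := by
        rw [← QuotientGroup.out_eq' q, ← QuotientGroup.out_eq' r]
        refine (QuotientGroup.eq.2 ?_).symm
        exact mem_centralizer_singleton_iff.2 (mul_inv_eq_iff_eq_mul.1 h1)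
      subst hqr
      simp only [mul_left_inj, mul_right_inj] at e
      rw [show c = d from Subtype.ext (Subtype.ext e)]
    · exfalso
      have e : q.out * (c.1 : O) * q.out⁻¹ = r.out * (d.1 : O) * r.out⁻¹ := congrArg Subtype.val h
      exact hsep _ (r.out⁻¹ * q.out).2
        (key u v hu hv q.out r.out c.1 d.1 (fun h => c.2 (Subtype.ext h)) (mem1 u _ c.1.2) (mem1 v _ d.1.2) e)
    · exfalso
      have e : r.out * (d.1 : O) * r.out⁻¹ = q.out * (c.1 : O) * q.out⁻¹ := (congrArg Subtype.val h).symm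
      exact hsep _ (q.out⁻¹ * r.out).2
        (key u v hu hv r.out q.out d.1 c.1 (fun h => d.2 (Subtype.ext h)) (mem1 u _ d.1.2) (mem1 v _ c.1.2) e)
    · have e : q.out * (c.1 : O) * q.out⁻¹ = r.out * (d.1 : O) * r.out⁻¹ := congrArg Subtype.val h
      have h1 := key v v hv hv q.out r.out c.1 d.1 (fun h => c.2 (Subtype.ext h)) (mem1 v _ c.1.2) (mem1 v _ d.1.2) e
      have hqr : q = r := by
        rw [← QuotientGroup.out_eq' q, ← QuotientGroup.out_eq' r]
        refine (QuotientGroup.eq.2 ?_).symm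
        exact mem_centralizer_singleton_iff.2 (mul_inv_eq_iff_eq_mul.1 h1)
      subst hqr
      simp only [mul_left_inj, mul_right_inj] at e
      rw [show c = d from Subtype.ext (Subtype.ext e)]
  have hc := Nat.card_le_card_of_injective f hf
  rw [Nat.card_sum, Nat.card_prod, Nat.card_prod, ← index, ← index, card_ne_one, card_ne_one, card_ne_one, Nat.mul_sub, Nat.mul_sub,
    mul_one, mul_one, index_mul_card, index_mul_card] at hc
  have hbig : ∀ (C : Subgroup O), C ≠ ⊥ → 3 * C.index ≤ Nat.card O := by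
    intro C hC
    have h1 : Odd (Nat.card C) := hO.of_dvd_nat C.card_subgroup_dvd_card
    have h2 : 1 < Nat.card C := one_lt_card_iff_ne_bot C |>.2 hC
    have h3 : 3 ≤ Nat.card C := by
      obtain ⟨k, hk⟩ := h1
      omega
    calc 3 * C.index ≤ Nat.card C * C.index := Nat.mul_le_mul_right _ h3
      _ = _ := C.card_mul_index
  have h1 : C₁ ≠ ⊥ := by
    intro h
    have hm : (⟨a, ha⟩ : O) ∈ C₁ := mem_centralizer_singleton_iff.2 hau.eq
    rw [h, mem_bot] at hm
    exact ha1 (congrArg (fun z : O => (z : G)) hm)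
  have h2 : C₂ ≠ ⊥ := by
    intro h
    have hm : (⟨b, hb⟩ : O) ∈ C₂ := mem_centralizer_singleton_iff.2 hbv.eq
    rw [h, mem_bot] at hm
    exact hb1 (congrArg (fun z : O => (z : G)) hm)
  have := hbig C₁ h1
  have := hbig C₂ h2
  have : 0 < Nat.card O := Nat.card_pos
  omega

set_option maxHeartbeats 1000000 in
/-- The pronormality statement. -/
theorem pronormal (klein : ∀ P : Sylow 2 G, IsKleinFour (P : Subgroup G))
    (uniq : ∀ c v v' : G, Odd (orderOf c) → c ≠ 1 → orderOf v = 2 → orderOf v' = 2 → Commute c v →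
      Commute c v' → v = v')
    (H : Subgroup G) (hH : ¬ 2 ∣ H.index) : Cfsg.IsPronormal H := by
  haveI := Fact.mk Nat.prime_two
  obtain ⟨P⟩ : Nonempty (Sylow 2 H) := inferInstance
  have hp : IsPGroup 2 ((P : Subgroup H).map H.subtype) := P.2.map _
  have hi : ¬ 2 ∣ ((P : Subgroup H).map H.subtype).index := by
    rw [index_map_subtype]
    exact Nat.Prime.not_dvd_mul Nat.prime_two P.not_dvd_index hH
  set V : Sylow 2 G := hp.toSylow hi
  haveI : IsKleinFour (V : Subgroup G) := klein V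
  have hVH : (V : Subgroup G) ≤ H := map_subtype_le _
  intro g
  set K := H ⊔ H.map (MulAut.conj g).toMonoidHom
  have h1 : (V : Subgroup G) ≤ K := hVH.trans le_sup_left
  have h2 : ((g • V : Sylow 2 G) : Subgroup G) ≤ K := by
    refine le_trans ?_ le_sup_right
    rintro - ⟨z, hz, rfl⟩
    exact ⟨z, hVH hz, rfl⟩
  obtain ⟨k, hk⟩ := MulAction.exists_smul_eq K (V.subtype h1) ((g • V).subtype h2)
  simp_rw [Sylow.smul_subtype, Subgroup.smul_def] at hk
  have hk' : (k : G) • V = g • V := Sylow.subtype_injective hk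
  have hn : (k : G)⁻¹ * g ∈ normalizer ((V : Subgroup G) : Set G) :=
    Sylow.smul_eq_iff_mem_normalizer.1 (by rw [mul_smul, ← hk', inv_smul_smul])
  set n := (k : G)⁻¹ * g with hnd
  have hconj : ∀ y : G, (H.map (MulAut.conj n).toMonoidHom = H.map (MulAut.conj y).toMonoidHom) →
      H.map (MulAut.conj g).toMonoidHom = H.map (MulAut.conj ((k : G) * y)).toMonoidHom := by
    intro y hy
    have : ∀ z : G, H.map (MulAut.conj ((k : G) * z)).toMonoidHom =
        (H.map (MulAut.conj z).toMonoidHom).map (MulAut.conj (k : G)).toMonoidHom := by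
      intro z
      rw [Subgroup.map_map]
      congr 1
      ext x
      simp [MulAut.conj_apply, mul_assoc]
    rw [this, ← hy, ← this, hnd, mul_inv_cancel_left]
  by_cases hnK : n ∈ K
  · exact ⟨(k : G) * n, K.mul_mem k.2 hnK, hconj n rfl⟩
  -- now `n` lies outside `K`
  refine ⟨k, k.2, ?_⟩
  rw [show (k : G) = (k : G) * 1 from (mul_one _).symm]
  refine hconj 1 ?_
  have hVK : ∀ m ∈ K, m ∈ normalizer ((V : Subgroup G) : Set G) → m ∈ (V : Subgroup G) := by
    intro m hmK hm
    by_contra hmV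
    obtain ⟨v, hv, hv1⟩ := (bot_or_exists_ne_one (V : Subgroup G)).resolve_left (fun h => by
      have h4 := IsKleinFour.card_four (G := (V : Subgroup G))
      rw [h, Subgroup.card_bot] at h4
      norm_num at h4)
    have hm1 : m * v * m⁻¹ ∈ (V : Subgroup G) := (mem_normalizer_iff.1 hm v).1 hv
    have hm2 : m * (m * v * m⁻¹) * m⁻¹ ∈ (V : Subgroup G) := (mem_normalizer_iff.1 hm _).1 hm1
    have hn1 : n * v * n⁻¹ ∈ (V : Subgroup G) := (mem_normalizer_iff.1 hn v).1 hv
    have d1 : m * v * m⁻¹ ≠ v := fun h => hmV (mem_of_fix V uniq hm hv hv1 h)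
    have d2 : m * (m * v * m⁻¹) * m⁻¹ ≠ v := by
      intro h
      have h2 := mem_of_fix V uniq (Subgroup.mul_mem _ hm hm) hv hv1 (by simpa [mul_assoc] using h)
      apply hmV
      have hp : IsPGroup 2 (zpowers m) := by
        obtain ⟨e, he⟩ := V.2 ⟨_, h2⟩
        have he' : (m * m) ^ 2 ^ e = 1 := congrArg Subtype.val he
        obtain ⟨j, -, hj⟩ := (Nat.dvd_prime_pow Nat.prime_two).1
          (orderOf_dvd_of_pow_eq_one (show m ^ 2 ^ (e + 1) = 1 by rw [pow_succ', pow_mul, sq, he']))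
        exact IsPGroup.of_card (n := j) (by rw [Nat.card_zpowers, hj])
      have hsup : IsPGroup 2 (zpowers m ⊔ (V : Subgroup G) : Subgroup G) :=
        hp.to_sup_of_normal_right' V.2 (by rwa [zpowers_le])
      rw [← V.3 hsup le_sup_right]
      exact le_sup_left (a := zpowers m) (mem_zpowers m)
    have d3 : m * (m * v * m⁻¹) * m⁻¹ ≠ m * v * m⁻¹ := fun h =>
      d1 (mul_left_cancel (mul_right_cancel h))
    have hne1 : ∀ x : G, x * v * x⁻¹ ≠ 1 := fun x h => hv1 (by simpa using h)
    have hcases : n * v * n⁻¹ = v ∨ n * v * n⁻¹ = m * v * m⁻¹ ∨ n * v * n⁻¹ = m * (m * v * m⁻¹) * m⁻¹ := by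
      by_contra! h
      obtain ⟨a, b, c⟩ := h
      have e1 := IsKleinFour.eq_mul_of_ne_all (x := (⟨v, hv⟩ : (V : Subgroup G))) (y := ⟨_, hm1⟩)
        (z := ⟨_, hn1⟩) (fun h => hv1 (congrArg Subtype.val h)) (fun h => hne1 m (congrArg Subtype.val h))
        (fun h => d1 (congrArg Subtype.val h).symm) (fun h => hne1 n (congrArg Subtype.val h))
        (fun h => a (congrArg Subtype.val h)) (fun h => b (congrArg Subtype.val h))
      have e2 := IsKleinFour.eq_mul_of_ne_all (x := (⟨v, hv⟩ : (V : Subgroup G))) (y := ⟨_, hm1⟩)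
        (z := ⟨_, hm2⟩) (fun h => hv1 (congrArg Subtype.val h)) (fun h => hne1 m (congrArg Subtype.val h))
        (fun h => d1 (congrArg Subtype.val h).symm)
        (fun h => hne1 (m * m) (by simpa [mul_assoc] using congrArg Subtype.val h))
        (fun h => d2 (congrArg Subtype.val h)) (fun h => d3 (congrArg Subtype.val h))
      exact c (congrArg Subtype.val (e1.trans e2.symm))
    apply hnK
    rcases hcases with h | h | h
    · exact h1 (mem_of_fix V uniq hn hv hv1 h)
    · have := mem_of_fix V uniq (Subgroup.mul_mem _ (Subgroup.inv_mem _ hm) hn) hv hv1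
        (by rw [_root_.mul_inv_rev, inv_inv]; calc _ = m⁻¹ * (n * v * n⁻¹) * m := by simp [mul_assoc]
              _ = v := by rw [h]; simp [mul_assoc])
      simpa using K.mul_mem hmK (h1 this)
    · have := mem_of_fix V uniq
        (Subgroup.mul_mem _ (Subgroup.inv_mem _ (Subgroup.mul_mem _ hm hm)) hn) hv hv1
        (by calc _ = (m * m)⁻¹ * (n * v * n⁻¹) * (m * m) := by simp [mul_assoc]
              _ = v := by rw [h]; simp [mul_assoc])
      simpa [mul_assoc] using K.mul_mem (K.mul_mem hmK hmK) (h1 this)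
  have hnV : n ∉ (V : Subgroup G) := fun h => hnK (h1 h)
  -- `K` has a normal 2-complement
  set W := V.subtype h1
  have hW : normalizer ((W : Subgroup K) : Set K) ≤ centralizer ((W : Subgroup K) : Set K) := by
    intro x hx
    have hxV : (x : G) ∈ (V : Subgroup G) := by
      refine hVK x x.2 (mem_normalizer_iff.2 fun y => ?_)
      constructor
      · intro hy
        exact (mem_normalizer_iff.1 hx ⟨y, h1 hy⟩).1 hy
      · intro hy
        have hyK : y ∈ K := by
          have := K.mul_mem (K.mul_mem (K.inv_mem x.2) (h1 hy)) x.2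
          simpa [mul_assoc] using this
        exact (mem_normalizer_iff.1 hx ⟨y, hyK⟩).2 hy
    intro y hy
    exact Subtype.ext (congrArg (fun z : (V : Subgroup G) => (z : G))
      ((IsKleinFour.isMulCommutative (G := (V : Subgroup G))).is_comm.comm ⟨(y : G), hy⟩ ⟨(x : G), hxV⟩))
  obtain ⟨O₀, hO₀⟩ : ∃ O₀ : Subgroup K, O₀ = (MonoidHom.transferSylow W hW).ker := ⟨_, rfl⟩
  have hOn : O₀.Normal := hO₀ ▸ MonoidHom.normal_ker _
  have hcompl := MonoidHom.ker_transferSylow_isComplement' W hW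
  rw [← hO₀] at hcompl
  have hOodd : Odd (Nat.card O₀) := by
    rw [Nat.odd_iff]
    have h3 := W.not_dvd_index
    have h4 : (W : Subgroup K).index = Nat.card O₀ := hcompl.index_eq_card
    omega
  set O := O₀.map K.subtype with hOd
  have hO : Odd (Nat.card O) := by rwa [hOd, card_map_of_injective K.subtype_injective]
  -- elements of odd order of `K` lie in the complement
  have hmemO : ∀ c ∈ K, Odd (orderOf c) → c ∈ O := by
    intro c hc hoc
    refine ⟨⟨c, hc⟩, ?_, rfl⟩
    rw [hO₀]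
    show MonoidHom.transferSylow W hW ⟨c, hc⟩ = 1
    rw [← orderOf_eq_one_iff]
    have hd1 := orderOf_map_dvd (MonoidHom.transferSylow W hW) ⟨c, hc⟩
    rw [← Subgroup.orderOf_coe (⟨c, hc⟩ : K)] at hd1
    obtain ⟨e, he⟩ := IsPGroup.iff_orderOf.1 W.2 (MonoidHom.transferSylow W hW ⟨c, hc⟩)
    rw [he]
    rcases Nat.eq_zero_or_pos e with rfl | he0
    · rfl
    · exfalso
      have h2d : 2 ∣ orderOf c := ((dvd_pow_self 2 he0.ne').trans (by rw [← he])).trans hd1
      exact Nat.not_even_iff_odd.2 hoc (even_iff_two_dvd.2 h2d)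
  have hOV : ∀ z ∈ O, z ∈ (V : Subgroup G) → z = 1 := by
    intro z hz hzV
    by_contra h
    have hd : orderOf z ∣ Nat.card O := by
      rw [← Subgroup.orderOf_mk z hz]; exact orderOf_dvd_natCard _
    have h2 : orderOf z = 2 :=
      orderOf_eq_prime (by simpa [sq] using congrArg Subtype.val (IsKleinFour.mul_self (⟨z, hzV⟩ : (V : Subgroup G)))) h
    rw [h2] at hd
    exact Nat.not_even_iff_odd.2 hO (even_iff_two_dvd.2 hd)
  have hOnorm : ∀ x ∈ K, ∀ y ∈ O, x * y * x⁻¹ ∈ O := by
    rintro x hx _ ⟨y, hy, rfl⟩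
    exact ⟨⟨x, hx⟩ * y * ⟨x, hx⟩⁻¹, hOn.conj_mem y hy _, rfl⟩
  by_cases hOH : O ⊓ H = ⊥
  · have hHV : H ≤ (V : Subgroup G) := by
      intro x hx
      obtain ⟨⟨o, w⟩, how, -⟩ := hcompl.existsUnique (⟨x, le_sup_left (a := H) hx⟩ : K)
      have how' : ((o : K) : G) * ((w : K) : G) = x := congrArg Subtype.val how
      have hwV : ((w : K) : G) ∈ (V : Subgroup G) := w.2
      have hoH : ((o : K) : G) ∈ H := by
        have := H.mul_mem hx (H.inv_mem (hVH hwV))
        rwa [← how', mul_inv_cancel_right] at this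
      have ho1 : ((o : K) : G) = 1 := by
        have : ((o : K) : G) ∈ O ⊓ H := ⟨⟨o, o.2, rfl⟩, hoH⟩
        rwa [hOH, mem_bot] at this
      rw [← how', ho1, one_mul]
      exact hwV
    have hHeq : H = (V : Subgroup G) := le_antisymm hHV hVH
    rw [hHeq]
    ext x
    rw [Subgroup.mem_map_equiv, Subgroup.mem_map_equiv, MulAut.conj_symm_apply, MulAut.conj_symm_apply,
      inv_one, one_mul, mul_one]
    exact ((mem_normalizer_iff'').1 hn x).symm
  · exfalso
    have hord : ∀ w ∈ (V : Subgroup G), w ≠ 1 → orderOf w = 2 := fun w hw hw1 =>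
      orderOf_eq_prime (by simpa [sq] using congrArg Subtype.val (IsKleinFour.mul_self (⟨w, hw⟩ : (V : Subgroup G)))) hw1
    obtain ⟨u, hu, hu1⟩ := (bot_or_exists_ne_one (V : Subgroup G)).resolve_left (fun h => by
      have h4 := IsKleinFour.card_four (G := (V : Subgroup G))
      rw [h, Subgroup.card_bot] at h4
      norm_num at h4)
    obtain ⟨v, hv, hv1, hvu⟩ : ∃ v ∈ (V : Subgroup G), v ≠ 1 ∧ v ≠ u := by
      have hnu : n * u * n⁻¹ ≠ u := fun h => hnV (mem_of_fix V uniq hn hu hu1 h)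
      exact ⟨_, (mem_normalizer_iff.1 hn u).1 hu, fun h => hu1 (by simpa using h), hnu⟩
    have huv : Commute u v := congrArg Subtype.val
      ((IsKleinFour.isMulCommutative (G := (V : Subgroup G))).is_comm.comm ⟨u, hu⟩ ⟨v, hv⟩)
    have hOHodd : Odd (Nat.card (O ⊓ H : Subgroup G)) := hO.of_dvd_nat (card_dvd_of_le inf_le_left)
    obtain ⟨w, hw, c, hc, hc1, hcw⟩ := exists_fixed (O ⊓ H) hOHodd hOH huv (hord u hu hu1) (hord v hv hv1)
      (fun x hx => ⟨hOnorm u (h1 hu) x hx.1, H.mul_mem (H.mul_mem (hVH hu) hx.2) (H.inv_mem (hVH hu))⟩)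
      (fun x hx => ⟨hOnorm v (h1 hv) x hx.1, H.mul_mem (H.mul_mem (hVH hv) hx.2) (H.inv_mem (hVH hv))⟩)
    have hwV : w ∈ (V : Subgroup G) := by
      rcases hw with rfl | rfl | rfl
      exacts [hu, hv, Subgroup.mul_mem _ hu hv]
    have hw1 : w ≠ 1 := by
      rcases hw with rfl | rfl | rfl
      · exact hu1
      · exact hv1
      · intro h
        have huu : u * u = 1 := congrArg Subtype.val (IsKleinFour.mul_self (⟨u, hu⟩ : (V : Subgroup G)))
        exact hvu (mul_left_cancel (h.trans huu.symm))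
    have hw' : n * w * n⁻¹ ∈ (V : Subgroup G) := (mem_normalizer_iff.1 hn w).1 hwV
    have hnw : n * w * n⁻¹ ≠ w := fun h => hnV (mem_of_fix V uniq hn hwV hw1 h)
    have hnc : n * c * n⁻¹ ∈ O := by
      have hK : n * c * n⁻¹ ∈ K := by
        have hx : g * c * g⁻¹ ∈ K := le_sup_right (a := H) ⟨c, hc.2, rfl⟩
        have := K.mul_mem (K.mul_mem (K.inv_mem k.2) hx) k.2
        simpa [hnd, mul_assoc] using this
      refine hmemO _ hK ?_
      rw [← MulAut.conj_apply, MulEquiv.orderOf_eq]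
      exact hO.of_dvd_nat (by rw [← Subgroup.orderOf_mk c hc.1]; exact orderOf_dvd_natCard _)
    refine no_two_fixed O hO uniq (hord w hwV hw1) (conj_involution (hord w hwV hw1)) ?_ hc.1 hc1 hcw
      hnc (fun h => hc1 (by simpa using h)) (hcw.conj n)
    intro z hz e
    have hK' : z * (w * z⁻¹ * w⁻¹) ∈ O := O.mul_mem hz (hOnorm w (h1 hwV) _ (O.inv_mem hz))
    rw [show z * (w * z⁻¹ * w⁻¹) = z * w * z⁻¹ * w⁻¹ by simp [mul_assoc], e] at hK'
    exact hnw (mul_inv_eq_one.1 (hOV _ hK' (Subgroup.mul_mem _ hw' (Subgroup.inv_mem _ hwV))))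

end Cfsg.Agent.H52.Klein
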