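import Cfsg.Agent.H52.TwoBlock
import Cfsg.Agent.Linear.Order
import Cfsg.Agent.Arith.LTE

/-!
Sylow 2-subgroups of `GL₂(q)` for odd `q`, and by recursion of `GL_{2^k}(q)`.
-/

set_option autoImplicit false
set_option linter.style.haveILetI false
set_option linter.unusedFintypeInType false

namespace Cfsg.Agent.H52.TwoBase

open Matrix Cfsg.Agent.H52.TwoBlock
open scoped MatrixGroups

variable {F : Type*} [Field F]

/-- The quarter turn. -/
def J : GL (Fin 2) F where
  val := !![0, -1; 1, 0]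
  inv := !![0, 1; -1, 0]
  val_inv := by ext i j; fin_cases i <;> fin_cases j <;> simp [Matrix.mul_apply]
  inv_val := by ext i j; fin_cases i <;> fin_cases j <;> simp [Matrix.mul_apply]

/-- The reflection. -/
def R : GL (Fin 2) F where
  val := !![1, 0; 0, -1]
  inv := !![1, 0; 0, -1]
  val_inv := by ext i j; fin_cases i <;> fin_cases j <;> simp [Matrix.mul_apply]
  inv_val := by ext i j; fin_cases i <;> fin_cases j <;> simp [Matrix.mul_apply]

/-- Rotation-dilations. -/
def M (x y : F) : Matrix (Fin 2) (Fin 2) F := !![x, -y; y, x]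

theorem M_mul (x y z w : F) : M x y * M z w = M (x * z - y * w) (x * w + y * z) := by
  ext i j; fin_cases i <;> fin_cases j <;> simp [M, Matrix.mul_apply] <;> ring

theorem M_inj {x y z w : F} : M x y = M z w ↔ x = z ∧ y = w := by
  constructor
  · intro h
    exact ⟨by simpa [M] using congrFun (congrFun h 0) 0, by simpa [M] using congrFun (congrFun h 1) 0⟩
  · rintro ⟨rfl, rfl⟩; rfl

theorem det_M (x y : F) : (M x y).det = x ^ 2 + y ^ 2 := by
  simp [M, Matrix.det_fin_two]; ring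

theorem M_scalar (x : F) : M x 0 = x • (1 : Matrix (Fin 2) (Fin 2) F) := by
  ext i j; fin_cases i <;> fin_cases j <;> simp [M]

theorem coe_J : ((J : GL (Fin 2) F) : Matrix (Fin 2) (Fin 2) F) = M 0 1 := by
  simp [J, M]

theorem det_J : GeneralLinearGroup.det (J : GL (Fin 2) F) = 1 :=
  Units.ext (by rw [GeneralLinearGroup.val_det_apply, coe_J, det_M]; simp)

theorem det_R : GeneralLinearGroup.det (R : GL (Fin 2) F) = -1 :=
  Units.ext (by simp [R, Matrix.det_fin_two])

theorem R_sq : (R : GL (Fin 2) F) * R = 1 :=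
  Units.ext (by ext i j; fin_cases i <;> fin_cases j <;> simp [R, Matrix.mul_apply])

theorem R_inv : (R : GL (Fin 2) F)⁻¹ = R := inv_eq_of_mul_eq_one_right R_sq

theorem R_M (x y : F) :
    ((R : GL (Fin 2) F) : Matrix (Fin 2) (Fin 2) F) * M x y = M x (-y) * (R : GL (Fin 2) F) := by
  ext i j; fin_cases i <;> fin_cases j <;> simp [R, M, Matrix.mul_apply]

/-- The centralizer of the quarter turn. -/
def Ct (F : Type*) [Field F] : Subgroup (GL (Fin 2) F) := Subgroup.centralizer {J}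

theorem mem_Ct {g : GL (Fin 2) F} : g ∈ Ct F ↔ ∃ x y : F, (g : Matrix (Fin 2) (Fin 2) F) = M x y := by
  rw [Ct, Subgroup.mem_centralizer_singleton_iff]
  constructor
  · intro h
    have h' := congrArg (fun u : GL (Fin 2) F => (u : Matrix (Fin 2) (Fin 2) F)) h
    simp only [Units.val_mul] at h'
    refine ⟨(g : Matrix (Fin 2) (Fin 2) F) 0 0, (g : Matrix (Fin 2) (Fin 2) F) 1 0, ?_⟩
    have h00 := congrFun (congrFun h' 0) 0
    have h01 := congrFun (congrFun h' 0) 1
    simp [J, Matrix.mul_apply] at h00 h01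
    ext i j
    fin_cases i <;> fin_cases j
    · simp [M]
    · show (g : Matrix (Fin 2) (Fin 2) F) 0 1 = -(g : Matrix (Fin 2) (Fin 2) F) 1 0
      linear_combination h00
    · simp [M]
    · show (g : Matrix (Fin 2) (Fin 2) F) 1 1 = (g : Matrix (Fin 2) (Fin 2) F) 0 0
      exact h01.symm
  · rintro ⟨x, y, h⟩
    apply Units.ext
    rw [Units.val_mul, Units.val_mul, h, coe_J, M_mul, M_mul, M_inj]
    constructor <;> ring

theorem Ct_comm {a b : GL (Fin 2) F} (ha : a ∈ Ct F) (hb : b ∈ Ct F) : a * b = b * a := by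
  obtain ⟨x, y, hx⟩ := mem_Ct.1 ha
  obtain ⟨z, w, hz⟩ := mem_Ct.1 hb
  apply Units.ext
  rw [Units.val_mul, Units.val_mul, hx, hz, M_mul, M_mul, M_inj]
  constructor <;> ring

/-- The elements of 2-power order centralizing the quarter turn. -/
def C2 (F : Type*) [Field F] : Subgroup (GL (Fin 2) F) where
  carrier := {g | g ∈ Ct F ∧ ∃ e, g ^ 2 ^ e = 1}
  one_mem' := ⟨one_mem _, 0, one_pow _⟩
  mul_mem' := by
    rintro a b ⟨ha, e, he⟩ ⟨hb, f, hf⟩
    refine ⟨mul_mem ha hb, e + f, ?_⟩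
    rw [(show Commute a b from Ct_comm ha hb).mul_pow, pow_add, pow_mul, he, one_pow, one_mul, mul_comm (2 ^ e),
      pow_mul, hf, one_pow]
  inv_mem' := by
    rintro a ⟨ha, e, he⟩
    exact ⟨inv_mem ha, e, by rw [inv_pow, he, inv_one]⟩

theorem mem_C2 {g : GL (Fin 2) F} : g ∈ C2 F ↔ g ∈ Ct F ∧ ∃ e, g ^ 2 ^ e = 1 := Iff.rfl

theorem R_conj_coe {g : GL (Fin 2) F} {x y : F} (h : (g : Matrix (Fin 2) (Fin 2) F) = M x y) :
    ((R * g * R : GL (Fin 2) F) : Matrix (Fin 2) (Fin 2) F) = M x (-y) := by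
  rw [Units.val_mul, Units.val_mul, h, R_M, Matrix.mul_assoc, ← Units.val_mul, R_sq, Units.val_one,
    Matrix.mul_one]

theorem R_conj_mem {g : GL (Fin 2) F} (hg : g ∈ C2 F) : R * g * R ∈ C2 F := by
  obtain ⟨x, y, h⟩ := mem_Ct.1 hg.1
  refine ⟨mem_Ct.2 ⟨x, -y, R_conj_coe h⟩, ?_⟩
  obtain ⟨e, he⟩ := hg.2
  refine ⟨e, ?_⟩
  conv_lhs => rw [show R * g * R = R * g * R⁻¹ by rw [R_inv]]
  rw [conj_pow, he, mul_one, mul_inv_cancel]

theorem J_mem : (J : GL (Fin 2) F) ∈ C2 F := by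
  refine ⟨Subgroup.mem_centralizer_singleton_iff.2 rfl, 2, Units.ext ?_⟩
  rw [Units.val_pow_eq_pow_val, coe_J]
  norm_num [pow_succ, M_mul]
  rw [M_scalar, one_smul]

theorem negOne_mem : (-1 : GL (Fin 2) F) ∈ C2 F :=
  ⟨mem_Ct.2 ⟨-1, 0, by rw [Units.val_neg, Units.val_one, M_scalar, neg_smul, one_smul]⟩, 1, by simp⟩

/-- The base 2-group. -/
def base (F : Type*) [Field F] : Subgroup (GL (Fin 2) F) where
  carrier := {g | g ∈ C2 F ∨ g * R ∈ C2 F}
  one_mem' := Or.inl (one_mem _)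
  mul_mem' := by
    intro a b ha hb
    rcases ha with ha | ha <;> rcases hb with hb | hb
    · exact Or.inl (mul_mem ha hb)
    · exact Or.inr (by rw [mul_assoc]; exact mul_mem ha hb)
    · refine Or.inr ?_
      have := mul_mem ha (R_conj_mem hb)
      rw [show a * R * (R * b * R) = a * (R * R) * b * R by simp [mul_assoc], R_sq, mul_one] at this
      exact this
    · refine Or.inl ?_
      have := mul_mem ha (R_conj_mem hb)
      rw [show a * R * (R * (b * R) * R) = a * (R * R) * b * (R * R) by simp [mul_assoc], R_sq, mul_one,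
        mul_one] at this
      exact this
  inv_mem' := by
    intro a ha
    rcases ha with ha | ha
    · exact Or.inl (inv_mem ha)
    · refine Or.inr ?_
      have := R_conj_mem (inv_mem ha)
      rw [show R * (a * R)⁻¹ * R = R * R⁻¹ * a⁻¹ * R by simp [mul_assoc], mul_inv_cancel, one_mul] at this
      exact this

theorem C2_le : C2 F ≤ base F := fun _ h => Or.inl h

theorem R_mem : (R : GL (Fin 2) F) ∈ base F := Or.inr (by rw [R_sq]; exact one_mem _)

theorem R_notMem_Ct (h2 : (2 : F) ≠ 0) {g : GL (Fin 2) F} (hg : g ∈ Ct F) : g * R ∉ Ct F := by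
  intro h
  have hR : (R : GL (Fin 2) F) ∈ Ct F := by
    have := mul_mem (inv_mem hg) h
    simpa using this
  obtain ⟨x, y, hxy⟩ := mem_Ct.1 hR
  have h1 := congrFun (congrFun hxy 0) 0
  have h3 := congrFun (congrFun hxy 1) 1
  simp [R, M] at h1 h3
  apply h2
  linear_combination h1 - h3

theorem mem_C2_of_mem_base (h2 : (2 : F) ≠ 0) {g : GL (Fin 2) F} (hg : g ∈ base F) (hc : g ∈ Ct F) :
    g ∈ C2 F := by
  rcases hg with h | h
  · exact h
  · exact absurd h.1 (R_notMem_Ct h2 hc)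

theorem index_base (h2 : (2 : F) ≠ 0) : ((C2 F).subgroupOf (base F)).index = 2 := by
  rw [Subgroup.index_eq_two_iff]
  refine ⟨⟨R, R_mem⟩, fun b => ?_⟩
  simp only [Subgroup.mem_subgroupOf, Subgroup.coe_mul]
  have hnot : (b : GL (Fin 2) F) ∈ C2 F → (b : GL (Fin 2) F) * R ∈ C2 F → False := fun h h' =>
    R_notMem_Ct h2 h.1 h'.1
  rcases b.2 with h | h
  · exact Or.inr ⟨h, fun h' => hnot h h'⟩
  · exact Or.inl ⟨h, fun h' => hnot h' h⟩

theorem commutator_mem_C2 (h2 : (2 : F) ≠ 0) {a b : GL (Fin 2) F} (ha : a ∈ base F) (hb : b ∈ base F) :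
    a * b * a⁻¹ * b⁻¹ ∈ C2 F := by
  have hM := index_base (F := F) h2
  have key : (⟨a, ha⟩ * ⟨b, hb⟩ * ⟨a, ha⟩⁻¹ * ⟨b, hb⟩⁻¹ : base F) ∈ (C2 F).subgroupOf (base F) := by
    simp only [Subgroup.mul_mem_iff_of_index_two hM, inv_mem_iff]
    tauto
  exact key

theorem card_base [Finite F] (h2 : (2 : F) ≠ 0) : Nat.card (base F) = 2 * Nat.card (C2 F) := by
  rw [← Subgroup.card_mul_index ((C2 F).subgroupOf (base F)), index_base h2,
    Nat.card_congr (Subgroup.subgroupOfEquivOfLe C2_le).toEquiv, mul_comm]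

theorem card_C2 [Finite F] : Nat.card (C2 F) = 2 ^ (Nat.card (Ct F)).factorization 2 := by
  haveI := Fact.mk Nat.prime_two
  obtain ⟨P⟩ : Nonempty (Sylow 2 (Ct F)) := inferInstance
  haveI : (P : Subgroup (Ct F)).Normal :=
    ⟨fun n hn g => by rwa [show g * n = n * g from Subtype.ext (Ct_comm g.2 n.2), mul_inv_cancel_right]⟩
  haveI : Subsingleton (Sylow 2 (Ct F)) := (Sylow.unique_of_normal P inferInstance).instSubsingleton
  rw [← P.card_eq_multiplicity, ← Subgroup.card_map_of_injective (Ct F).subtype_injective]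
  congr 2
  ext g
  rw [mem_C2]
  constructor
  · rintro ⟨hg, e, he⟩
    have hp : IsPGroup 2 (Subgroup.zpowers (⟨g, hg⟩ : Ct F)) := by
      refine IsPGroup.of_card (n := (orderOf (⟨g, hg⟩ : Ct F)).factorization 2) ?_
      rw [Nat.card_zpowers]
      obtain ⟨k, -, hk⟩ := (Nat.dvd_prime_pow Nat.prime_two).1
        (orderOf_dvd_of_pow_eq_one (show (⟨g, hg⟩ : Ct F) ^ 2 ^ e = 1 from Subtype.ext he))
      rw [hk, Nat.Prime.factorization_pow Nat.prime_two, Finsupp.single_eq_same]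
    obtain ⟨Q, hQ⟩ := hp.exists_le_sylow
    rw [Subsingleton.elim Q P] at hQ
    exact ⟨⟨g, hg⟩, hQ (Subgroup.mem_zpowers _), rfl⟩
  · rintro ⟨u, hu, rfl⟩
    refine ⟨u.2, ?_⟩
    obtain ⟨e, he⟩ := P.2 ⟨u, hu⟩
    exact ⟨e, by simpa using congrArg (fun z : (P : Subgroup (Ct F)) => ((z : Ct F) : GL (Fin 2) F)) he⟩

/-- The rotation-dilation with given eigenvalues. -/
def D (i a b : F) : Matrix (Fin 2) (Fin 2) F := M ((a + b) / 2) ((a - b) / (2 * i))

theorem D_mul {i : F} (h2 : (2 : F) ≠ 0) (hi : i ^ 2 = -1) (a b c d : F) :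
    D i a b * D i c d = D i (a * c) (b * d) := by
  have hi0 : i ≠ 0 := fun h => by rw [h] at hi; norm_num at hi
  rw [D, D, D, M_mul, M_inj]
  constructor
  · field_simp
    rw [hi]
    ring
  · field_simp
    ring

theorem D_one {i : F} (h2 : (2 : F) ≠ 0) : D i 1 1 = 1 := by
  rw [D, sub_self, zero_div, show ((1 : F) + 1) / 2 = 1 by field_simp; ring, M_scalar, one_smul]

theorem exists_D {i : F} (h2 : (2 : F) ≠ 0) (hi : i ^ 2 = -1) (a b : Fˣ) :
    ∃ g ∈ Ct F, (g : Matrix (Fin 2) (Fin 2) F) = D i a b := by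
  refine ⟨⟨D i a b, D i (a⁻¹ : Fˣ) (b⁻¹ : Fˣ), ?_, ?_⟩, mem_Ct.2 ⟨_, _, rfl⟩, rfl⟩
  · rw [D_mul h2 hi]; simp [D_one h2]
  · rw [D_mul h2 hi]; simp [D_one h2]

theorem D_pow {i : F} (h2 : (2 : F) ≠ 0) (hi : i ^ 2 = -1) (a b : F) (n : ℕ) :
    D i a b ^ n = D i (a ^ n) (b ^ n) := by
  induction n with
  | zero => simp [D_one h2]
  | succ n ih => rw [pow_succ, ih, D_mul h2 hi, pow_succ, pow_succ]

/-- The centralizer is the set of nonzero norms. -/
noncomputable def ctEquiv : Ct F ≃ {p : F × F // p.1 ^ 2 + p.2 ^ 2 ≠ 0} where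
  toFun g := ⟨((g.1 : Matrix (Fin 2) (Fin 2) F) 0 0, (g.1 : Matrix (Fin 2) (Fin 2) F) 1 0), by
    obtain ⟨x, y, h⟩ := mem_Ct.1 g.2
    have := (GeneralLinearGroup.det g.1).ne_zero
    rw [GeneralLinearGroup.val_det_apply, h, det_M] at this
    simpa [h, M] using this⟩
  invFun p := ⟨GeneralLinearGroup.mkOfDetNeZero (M p.1.1 p.1.2) (by rw [det_M]; exact p.2),
    mem_Ct.2 ⟨_, _, rfl⟩⟩
  left_inv g := by
    obtain ⟨x, y, h⟩ := mem_Ct.1 g.2
    refine Subtype.ext (Units.ext ?_)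
    show M ((g.1 : Matrix (Fin 2) (Fin 2) F) 0 0) ((g.1 : Matrix (Fin 2) (Fin 2) F) 1 0) = _
    rw [h]
    simp [M]
  right_inv p := Subtype.ext (Prod.ext (by simp [M]) (by simp [M]))

theorem card_Ct_nonsquare [Fintype F] (hns : ¬ IsSquare (-1 : F)) :
    Nat.card (Ct F) = Fintype.card F * Fintype.card F - 1 := by
  classical
  rw [Nat.card_congr ctEquiv, Nat.card_eq_fintype_card, ← Fintype.card_prod,
    ← Fintype.card_congr (Equiv.subtypeEquivRight (p := fun p : F × F => p ≠ 0) fun p => ?_),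
    Fintype.card_subtype_compl, Fintype.card_subtype_eq]
  constructor
  · intro hp he
    apply hp
    by_cases h1 : p.1 = 0
    · rw [h1] at he
      exact Prod.ext h1 (by simpa using he)
    · exfalso
      exact hns ⟨p.2 / p.1, by field_simp; linear_combination -he⟩
  · rintro h rfl
    simp at h

theorem card_Ct_square [Fintype F] (h2 : (2 : F) ≠ 0) {i : F} (hi : i ^ 2 = -1) :
    Nat.card (Ct F) = (Fintype.card F - 1) * (Fintype.card F - 1) := by
  have hi0 : i ≠ 0 := fun h => by rw [h] at hi; norm_num at hi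
  have e : Ct F ≃ Fˣ × Fˣ :=
    ctEquiv.trans
      { toFun := fun p => (Units.mk0 (p.1.1 + i * p.1.2) (fun h => p.2 (by
            linear_combination (p.1.1 - i * p.1.2) * h + p.1.2 ^ 2 * hi)),
          Units.mk0 (p.1.1 - i * p.1.2) (fun h => p.2 (by
            linear_combination (p.1.1 + i * p.1.2) * h + p.1.2 ^ 2 * hi)))
        invFun := fun u => ⟨((u.1 + u.2 : F) / 2, ((u.1 : F) - u.2) / (2 * i)), by
          have : ((u.1 + u.2 : F) / 2) ^ 2 + (((u.1 : F) - u.2) / (2 * i)) ^ 2 = (u.1 : F) * u.2 := by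
            field_simp
            rw [hi]
            ring
          rw [this]
          exact mul_ne_zero u.1.ne_zero u.2.ne_zero⟩
        left_inv := fun p => by
          refine Subtype.ext (Prod.ext ?_ ?_)
          · simp only [Units.val_mk0]; field_simp; ring
          · simp only [Units.val_mk0]; field_simp; ring
        right_inv := fun u => by
          refine Prod.ext (Units.ext ?_) (Units.ext ?_)
          · simp only [Units.val_mk0]; field_simp; ring
          · simp only [Units.val_mk0]; field_simp; ring }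
  rw [Nat.card_congr e, Nat.card_prod, Cfsg.Agent.Linear.card_units']

theorem two_ne_zero_of_odd [Fintype F] (hq : Odd (Fintype.card F)) : (2 : F) ≠ 0 := by
  refine Ring.two_ne_zero fun h => ?_
  have := FiniteField.even_card_iff_char_two.1 h
  rw [Nat.odd_iff] at hq
  omega

theorem factorization_GL_two [Fintype F] (hq : Odd (Fintype.card F)) :
    (Nat.card (GL (Fin 2) F)).factorization 2 = (Nat.card (Ct F)).factorization 2 + 1 := by
  haveI := Fact.mk Nat.prime_two
  have h2 := two_ne_zero_of_odd hq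
  set q := Fintype.card F with hqd
  have hq1 : 2 ≤ q := Fintype.one_lt_card
  have hqodd : q % 2 = 1 := Nat.odd_iff.1 hq
  rw [Nat.factorization_def _ Nat.prime_two, Nat.factorization_def _ Nat.prime_two,
    Matrix.card_GL_field, Fin.prod_univ_two, ← hqd]
  simp only [Fin.val_zero, Fin.val_one, pow_zero, pow_one]
  have e1 : q ^ 2 - 1 = (q + 1) * (q - 1) := by
    obtain ⟨k, hk⟩ : ∃ k, q = k + 1 := ⟨q - 1, by omega⟩
    rw [hk, Nat.add_sub_cancel]
    have : (k + 1) ^ 2 = (k + 1 + 1) * k + 1 := by ring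
    omega
  have e2 : q ^ 2 - q = q * (q - 1) := by rw [Nat.mul_sub, mul_one, sq]
  rw [e1, e2, padicValNat.mul (mul_ne_zero (by omega) (by omega)) (mul_ne_zero (by omega) (by omega)),
    padicValNat.mul (by omega) (by omega), padicValNat.mul (by omega) (by omega),
    padicValNat.eq_zero_of_not_dvd (n := q) (by omega)]
  by_cases hns : IsSquare (-1 : F)
  · have h4 : q % 4 = 1 := by have := FiniteField.isSquare_neg_one_iff.1 hns; rw [← hqd] at this; omega
    obtain ⟨i, hi⟩ := hns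
    rw [card_Ct_square h2 (i := i) (by rw [sq, ← hi]), ← hqd, padicValNat.mul (by omega) (by omega),
      Cfsg.Agent.Arith.padicValNat_eq_one_of_mod_four (x := q + 1) (by omega)]
    omega
  · have h4 : q % 4 = 3 := by
      by_contra h
      exact hns (FiniteField.isSquare_neg_one_iff.2 (by rw [← hqd]; exact h))
    rw [card_Ct_nonsquare hns, ← hqd, ← sq, e1, padicValNat.mul (by omega) (by omega),
      Cfsg.Agent.Arith.padicValNat_eq_one_of_mod_four (x := q - 1) (by omega)]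
    all_goals omega

theorem exists_norm_neg_one [Fintype F] :
    ∃ c ∈ C2 F, GeneralLinearGroup.det c = -1 := by
  obtain ⟨a, b, hab⟩ : ∃ a b : F, a ^ 2 + b ^ 2 = -1 := by
    obtain ⟨p, hp⟩ := CharP.exists F
    haveI : NeZero p := ⟨(CharP.char_is_prime F p).ne_zero⟩
    obtain ⟨a, b, h⟩ := CharP.sq_add_sq F p (-1)
    exact ⟨(a : F), (b : F), by simpa using h⟩
  let c₀ : GL (Fin 2) F := GeneralLinearGroup.mkOfDetNeZero (M a b) (by rw [det_M, hab]; simp)
  have hd : GeneralLinearGroup.det c₀ = -1 :=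
    Units.ext (by rw [GeneralLinearGroup.val_det_apply]; show (M a b).det = _; rw [det_M, hab]; simp)
  obtain ⟨k, m, hm, he⟩ := Nat.exists_eq_two_pow_mul_odd (orderOf_pos c₀).ne'
  refine ⟨c₀ ^ m, ⟨pow_mem (mem_Ct.2 ⟨a, b, rfl⟩) m, k, ?_⟩, ?_⟩
  · rw [← pow_mul, mul_comm, ← he, pow_orderOf_eq_one]
  · rw [map_pow, hd, hm.neg_one_pow]

theorem span_base (h2 : (2 : F) ≠ 0) [Fintype F] : spanGL (one1 (base F)) = ⊤ := by
  obtain ⟨c, hc, hd⟩ := exists_norm_neg_one (F := F)
  have hJ : (J : GL (Fin 2) F) ∈ one1 (base F) := ⟨C2_le J_mem, MonoidHom.mem_ker.2 det_J⟩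
  have hK : c * R ∈ one1 (base F) := ⟨Subgroup.mul_mem _ (C2_le hc) R_mem, by
    show GeneralLinearGroup.det (c * R) = 1
    rw [map_mul, hd, det_R, neg_one_mul, neg_neg]⟩
  have hM : ∀ x y : F, M x y ∈ spanGL (one1 (base F)) := by
    intro x y
    have e : M x y = x • ((1 : GL (Fin 2) F) : Matrix (Fin 2) (Fin 2) F) + y • ((J : GL (Fin 2) F) : Matrix (Fin 2) (Fin 2) F) := by
      rw [Units.val_one, coe_J]
      ext i j; fin_cases i <;> fin_cases j <;> simp [M]
    rw [e]
    exact add_mem (Submodule.smul_mem _ _ (mem_spanGL (one_mem _))) (Submodule.smul_mem _ _ (mem_spanGL hJ))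
  refine eq_top_iff.2 fun X _ => ?_
  obtain ⟨x', y', hinv⟩ := mem_Ct.1 (Subgroup.inv_mem _ hc.1)
  have e : X = M ((X 0 0 + X 1 1) / 2) ((X 1 0 - X 0 1) / 2) +
      M ((X 0 0 - X 1 1) / 2) ((X 1 0 + X 0 1) / 2) * M x' y' * ((c * R : GL (Fin 2) F) : Matrix (Fin 2) (Fin 2) F) := by
    rw [← hinv, Matrix.mul_assoc (M _ _), ← Units.val_mul, inv_mul_cancel_left]
    ext i j; fin_cases i <;> fin_cases j <;> simp [M, R, Matrix.mul_apply] <;> field_simp <;> ring
  rw [e]
  exact add_mem (hM _ _) (mul_mem_spanGL (mul_mem_spanGL (hM _ _) (hM _ _)) (mem_spanGL hK))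

theorem J_conj (h2 : (2 : F) ≠ 0) {g : GL (Fin 2) F} (ho : Odd (orderOf g)) {v : GL (Fin 2) F}
    (hv : v ∈ Ct F) (hns : ∀ x : F, (v : Matrix (Fin 2) (Fin 2) F) ≠ x • 1) (hg : g * v * g⁻¹ ∈ Ct F) :
    g ∈ Ct F := by
  obtain ⟨x, y, hxy⟩ := mem_Ct.1 hv
  obtain ⟨z, w, hzw⟩ := mem_Ct.1 hg
  have hy : y ≠ 0 := fun h => hns x (by rw [hxy, h, M_scalar])
  set P := (g : Matrix (Fin 2) (Fin 2) F) * ((J : GL (Fin 2) F) : Matrix (Fin 2) (Fin 2) F) * (g⁻¹ : GL (Fin 2) F) with hP
  have hgg : (g : Matrix (Fin 2) (Fin 2) F) * (g⁻¹ : GL (Fin 2) F) = 1 := g.mul_inv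
  have eP : P = M ((z - x) / y) (w / y) := by
    have hJ : ((J : GL (Fin 2) F) : Matrix (Fin 2) (Fin 2) F) = y⁻¹ • ((v : Matrix (Fin 2) (Fin 2) F) - x • 1) := by
      rw [hxy, coe_J]
      ext i j; fin_cases i <;> fin_cases j <;> simp [M] <;> field_simp
    rw [hP, hJ, mul_smul_comm, smul_mul_assoc, Matrix.mul_sub, Matrix.sub_mul, mul_smul_comm, Matrix.mul_one,
      smul_mul_assoc, hgg, ← Units.val_mul, ← Units.val_mul, hzw]
    ext i j; fin_cases i <;> fin_cases j <;> simp [M] <;> field_simp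
  set a := (z - x) / y
  set b := w / y
  have hsq : P * P = M (-1) 0 := by
    rw [hP]
    simp only [Matrix.mul_assoc, Units.inv_mul_cancel_left]
    rw [← Matrix.mul_assoc (((J : GL (Fin 2) F)) : Matrix (Fin 2) (Fin 2) F), coe_J, M_mul,
      show M ((0 : F) * 0 - 1 * 1) (0 * 1 + 1 * 0) = (-1 : F) • (1 : Matrix (Fin 2) (Fin 2) F) by
        rw [show (0 : F) * 1 + 1 * 0 = 0 by ring, show (0 : F) * 0 - 1 * 1 = -1 by ring, M_scalar],
      smul_mul_assoc, Matrix.one_mul, mul_smul_comm, hgg, M_scalar]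
  rw [eP, M_mul, M_inj] at hsq
  have hb : b ≠ 0 := by
    intro hb0
    rw [hb0, M_scalar] at eP
    have h3 : ((J : GL (Fin 2) F) : Matrix (Fin 2) (Fin 2) F) = (g⁻¹ : GL (Fin 2) F) * P * (g : Matrix (Fin 2) (Fin 2) F) := by
      rw [hP]; simp [Matrix.mul_assoc]
    rw [eP, mul_smul_comm, smul_mul_assoc, Matrix.mul_one, g.inv_mul, coe_J, ← M_scalar, M_inj] at h3
    exact one_ne_zero h3.2
  have ha : a = 0 := by
    have : 2 * (a * b) = 0 := by linear_combination hsq.2
    exact (mul_eq_zero.1 ((mul_eq_zero.1 this).resolve_left h2)).resolve_right hb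
  have hb1 : b = 1 ∨ b = -1 := by
    rw [← sq_eq_one_iff]
    linear_combination -hsq.1 + a * ha
  have hcomm : Commute (g ^ 2) J := by
    have hgJ : (g : Matrix (Fin 2) (Fin 2) F) * ((J : GL (Fin 2) F) : Matrix (Fin 2) (Fin 2) F) =
        b • ((J : GL (Fin 2) F) : Matrix (Fin 2) (Fin 2) F) * (g : Matrix (Fin 2) (Fin 2) F) := by
      have : b • ((J : GL (Fin 2) F) : Matrix (Fin 2) (Fin 2) F) = P := by
        rw [eP, ha, coe_J]; ext i j; fin_cases i <;> fin_cases j <;> simp [M]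
      rw [this, hP]; simp [Matrix.mul_assoc]
    refine Units.ext ?_
    simp only [Units.val_mul, Units.val_pow_eq_pow_val, pow_two]
    rw [Matrix.mul_assoc, hgJ, smul_mul_assoc, mul_smul_comm, ← Matrix.mul_assoc, hgJ, smul_mul_assoc, smul_mul_assoc,
      smul_smul, Matrix.mul_assoc]
    rcases hb1 with h | h <;> simp [h]
  obtain ⟨k, hk⟩ := ho
  have e : g = (g ^ 2) ^ (k + 1) := by
    rw [← pow_mul, show 2 * (k + 1) = orderOf g + 1 by omega, pow_succ, pow_orderOf_eq_one, one_mul]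
  rw [Ct, Subgroup.mem_centralizer_singleton_iff, e]
  exact (hcomm.pow_left _).eq

theorem scalar_of_Ct (h2 : (2 : F) ≠ 0) {g : GL (Fin 2) F} (ho : Odd (orderOf g)) (hg : g ∈ Ct F)
    (h : g * (R * g * R)⁻¹ ∈ base F) : ∃ c : F, (g : Matrix (Fin 2) (Fin 2) F) = c • 1 := by
  obtain ⟨x, y, hxy⟩ := mem_Ct.1 hg
  have hR : R * g * R ∈ Ct F := mem_Ct.2 ⟨x, -y, R_conj_coe hxy⟩
  obtain ⟨-, e, he⟩ := mem_C2_of_mem_base h2 h (mul_mem hg (inv_mem hR))
  have hcomm : Commute g (R * g * R)⁻¹ := (Ct_comm hg (inv_mem hR))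
  have hoR : orderOf (R * g * R) = orderOf g := by
    conv_lhs => rw [show R * g * R = MulAut.conj R g by rw [MulAut.conj_apply, R_inv]]
    exact MulEquiv.orderOf_eq _ _
  have h5 : orderOf (g * (R * g * R)⁻¹) ∣ orderOf g := by
    have := hcomm.orderOf_mul_dvd_lcm
    rwa [orderOf_inv, hoR, Nat.lcm_self] at this
  have h7 : orderOf (g * (R * g * R)⁻¹) = 1 := Nat.eq_one_of_dvd_coprimes
    (ho.coprime_two_left.pow_left e) (orderOf_dvd_of_pow_eq_one he) h5
  have := congrArg (fun u : GL (Fin 2) F => (u : Matrix (Fin 2) (Fin 2) F))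
    (mul_inv_eq_one.1 (orderOf_eq_one_iff.1 h7))
  simp only [R_conj_coe hxy, hxy, M_inj, true_and] at this
  have hy : y = 0 := by
    have : 2 * y = 0 := by linear_combination this
    exact (mul_eq_zero.1 this).resolve_left h2
  exact ⟨x, by rw [hxy, hy, M_scalar]⟩

theorem exists_split_elt (h2 : (2 : F) ≠ 0) {i : F} (hi : i ^ 2 = -1) {a b : F} {k : ℕ} (ha : a ^ 2 ^ k = 1)
    (hb : b ^ 2 ^ k = 1) : ∃ g ∈ C2 F, (g : Matrix (Fin 2) (Fin 2) F) = D i a b := by
  have hne : ∀ {a : F}, a ^ 2 ^ k = 1 → a ≠ 0 := fun {a} h h0 => by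
    rw [h0, zero_pow (pow_ne_zero k two_ne_zero)] at h; exact zero_ne_one h
  obtain ⟨g, hg, hgd⟩ := exists_D h2 hi (Units.mk0 a (hne ha)) (Units.mk0 b (hne hb))
  refine ⟨g, ⟨hg, k, Units.ext ?_⟩, hgd⟩
  rw [Units.val_pow_eq_pow_val, hgd, Units.val_mk0, Units.val_mk0, D_pow h2 hi, ha, hb, D_one h2,
    Units.val_one]

theorem scalar_base (h2 : (2 : F) ≠ 0) [Fintype F] (g : GL (Fin 2) F) (ho : Odd (orderOf g))
    (hg : ∀ t ∈ base F, g * t * g⁻¹ ∈ base F) : ∃ c : F, (g : Matrix (Fin 2) (Fin 2) F) = c • 1 := by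
  obtain ⟨u, hu, hns⟩ : ∃ u ∈ C2 F, ∀ x : F,
      ((u * R * u⁻¹ * R⁻¹ : GL (Fin 2) F) : Matrix (Fin 2) (Fin 2) F) ≠ x • 1 := by
    suffices ∃ u ∈ C2 F, ∃ x y : F, (u : Matrix (Fin 2) (Fin 2) F) = M x y ∧ x ≠ 0 ∧ y ≠ 0 by
      obtain ⟨u, hu, x, y, hxy, hx, hy⟩ := this
      refine ⟨u, hu, fun c hc => ?_⟩
      have he : (u : Matrix (Fin 2) (Fin 2) F) = c • ((R * u * R : GL (Fin 2) F) : Matrix (Fin 2) (Fin 2) F) := by
        have h3 := congrArg (fun Z => Z * ((R * u * R : GL (Fin 2) F) : Matrix (Fin 2) (Fin 2) F)) hc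
        simp only [← Units.val_mul, smul_mul_assoc, Matrix.one_mul] at h3
        rw [show u * R * u⁻¹ * R⁻¹ * (R * u * R) = u * (R * (u⁻¹ * (R⁻¹ * R) * u) * R) by simp [mul_assoc]] at h3
        simp only [inv_mul_cancel, mul_one, R_sq] at h3
        exact h3
      rw [R_conj_coe hxy, hxy] at he
      have h1 := congrFun (congrFun he 0) 0
      have h3 := congrFun (congrFun he 1) 0
      simp [M] at h1 h3
      have hc1 : c = 1 := mul_right_cancel₀ hx (by rw [one_mul]; exact h1.symm)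
      rw [hc1] at h3
      exact hy ((mul_eq_zero.1 (show 2 * y = 0 by linear_combination h3)).resolve_left h2)
    by_cases hns : IsSquare (-1 : F)
    · obtain ⟨i, hi⟩ := hns
      have hi' : i ^ 2 = -1 := by rw [sq, ← hi]
      have hi0 : i ≠ 0 := fun h => by rw [h] at hi'; norm_num at hi'
      obtain ⟨u, hu, hud⟩ := exists_split_elt h2 hi' (a := i) (b := 1) (k := 2)
        (by rw [show 2 ^ 2 = 2 * 2 from rfl, pow_mul, hi']; norm_num) (one_pow _)
      refine ⟨u, hu, _, _, hud, div_ne_zero ?_ h2, div_ne_zero ?_ (mul_ne_zero h2 hi0)⟩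
      · intro h; apply h2; linear_combination -(i - 1) * h + hi'
      · intro h; apply h2; linear_combination -(i + 1) * h + hi'
    · obtain ⟨c, hc, hd⟩ := exists_norm_neg_one (F := F)
      obtain ⟨x, y, hxy⟩ := mem_Ct.1 hc.1
      have hn : x ^ 2 + y ^ 2 = -1 := by
        have := congrArg Units.val hd
        rw [GeneralLinearGroup.val_det_apply, hxy, det_M] at this
        simpa using this
      refine ⟨c, hc, x, y, hxy, ?_, ?_⟩ <;> rintro rfl
      · exact hns ⟨y, by linear_combination -hn⟩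
      · exact hns ⟨x, by linear_combination -hn⟩
  have hv := commutator_mem_C2 h2 (C2_le hu) R_mem
  have hgv : g * (u * R * u⁻¹ * R⁻¹) * g⁻¹ ∈ C2 F := by
    have := commutator_mem_C2 h2 (hg _ (C2_le hu)) (hg _ R_mem)
    simpa [mul_assoc] using this
  have hgC := J_conj h2 ho hv.1 hns hgv.1
  refine scalar_of_Ct h2 ho hgC ?_
  have := mul_mem (hg _ R_mem) (inv_mem (R_mem (F := F)))
  rw [show g * R * g⁻¹ * R⁻¹ = g * (R * g * R⁻¹⁻¹⁻¹)⁻¹ by simp [mul_assoc]] at this
  simpa [R_inv] using this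

theorem good_base [Fintype F] (hq : Odd (Fintype.card F)) : Good (base F) := by
  have h2 := two_ne_zero_of_odd hq
  have hc : Nat.card (base F) = 2 ^ (Nat.card (GL (Fin 2) F)).factorization 2 := by
    rw [card_base h2, card_C2, factorization_GL_two hq, pow_succ']
  refine ⟨⟨IsPGroup.of_card hc, span_base h2, ?_, C2_le negOne_mem, scalar_base h2⟩, hc⟩
  obtain ⟨c, hc, hd⟩ := exists_norm_neg_one (F := F)
  refine ⟨J, ⟨C2_le J_mem, MonoidHom.mem_ker.2 det_J⟩, c * R, ⟨mul_mem (C2_le hc) R_mem, ?_⟩, ?_⟩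
  · show GeneralLinearGroup.det (c * R) = 1
    rw [map_mul, hd, det_R, neg_one_mul, neg_neg]
  · intro h
    have hJc := Ct_comm (J_mem (F := F)).1 hc.1
    rw [← mul_assoc, hJc, mul_assoc, mul_assoc] at h
    have h' := congrArg (fun u : GL (Fin 2) F => (u : Matrix (Fin 2) (Fin 2) F)) (mul_left_cancel h)
    simp only [Units.val_mul] at h'
    have h01 := congrFun (congrFun h' 0) 1
    simp [J, R, Matrix.mul_apply] at h01
    apply h2
    linear_combination h01

theorem strong_base [Fintype F] (hq : Fintype.card F % 8 = 1 ∨ Fintype.card F % 8 = 7) : Strong (base F) := by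
  have hodd : Odd (Fintype.card F) := by rw [Nat.odd_iff]; omega
  have h2 := two_ne_zero_of_odd hodd
  intro g ho hg
  obtain ⟨c, hc, hd⟩ := exists_norm_neg_one (F := F)
  obtain ⟨w, hw, hdw, x, y, hxy, hx, hy⟩ : ∃ w ∈ C2 F, GeneralLinearGroup.det w = 1 ∧
      ∃ x y : F, (w : Matrix (Fin 2) (Fin 2) F) = M x y ∧ x ≠ 0 ∧ y ≠ 0 := by
    rcases hq with hq | hq
    · obtain ⟨z, hz⟩ := IsCyclic.exists_ofOrder_eq_natCard (α := Fˣ)
      have hz8 : 8 ∣ orderOf z := by rw [hz, Cfsg.Agent.Linear.card_units']; omega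
      set ζ := z ^ (orderOf z / 8) with hζ
      have hζ8 : orderOf ζ = 8 := by
        rw [hζ, orderOf_pow_of_dvd (Nat.div_pos (Nat.le_of_dvd (orderOf_pos z) hz8) (by norm_num)).ne'
          (Nat.div_dvd_of_dvd hz8), Nat.div_div_self hz8 (orderOf_pos z).ne']
      have hp8 : (ζ : F) ^ 8 = 1 := by rw [← Units.val_pow_eq_pow_val, ← hζ8, pow_orderOf_eq_one, Units.val_one]
      have hp4 : (ζ : F) ^ 4 = -1 := by
        have h : ((ζ : F) ^ 4) ^ 2 = 1 := by rw [← pow_mul]; exact hp8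
        refine (sq_eq_one_iff.1 h).resolve_left fun h1 => ?_
        have := orderOf_dvd_of_pow_eq_one (show ζ ^ 4 = 1 from Units.ext (by simpa using h1))
        rw [hζ8] at this
        norm_num at this
      have hi : ((ζ : F) ^ 2) ^ 2 = -1 := by rw [← pow_mul]; exact hp4
      have hζ0 : (ζ : F) ≠ 0 := ζ.ne_zero
      have hneg : (ζ : F) ^ 2 ≠ -1 := fun h => h2 (by linear_combination hp4 - ((ζ : F) ^ 2 - 1) * h)
      have hpos : (ζ : F) ^ 2 ≠ 1 := fun h => h2 (by linear_combination hp4 - ((ζ : F) ^ 2 + 1) * h)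
      obtain ⟨w, hw, hwd⟩ := exists_split_elt h2 hi (a := (ζ : F)) (b := (ζ : F)⁻¹) (k := 3) hp8
        (by rw [inv_pow, show 2 ^ 3 = 8 from rfl, hp8, inv_one])
      refine ⟨w, hw, Units.ext ?_, _, _, hwd, div_ne_zero ?_ h2, div_ne_zero ?_ (mul_ne_zero h2 (pow_ne_zero 2 hζ0))⟩
      · rw [GeneralLinearGroup.val_det_apply, hwd, D, det_M, Units.val_one]
        field_simp
        linear_combination ((ζ : F) ^ 2 - 1) ^ 2 * hp4
      · intro h; apply hneg; field_simp at h; linear_combination h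
      · intro h; apply hpos; field_simp at h; linear_combination h
    · have hns : ¬ IsSquare (-1 : F) := fun h => by
        have := FiniteField.isSquare_neg_one_iff.1 h; omega
      have hns2 : ¬ IsSquare (-2 : F) := fun h => by
        have := FiniteField.isSquare_neg_two_iff.1 h; omega
      obtain ⟨a, b, hab⟩ := mem_Ct.1 hc.1
      have hn : a ^ 2 + b ^ 2 = -1 := by
        have := congrArg Units.val hd
        rw [GeneralLinearGroup.val_det_apply, hab, det_M] at this
        simpa using this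
      refine ⟨c ^ 2, pow_mem hc 2, by rw [map_pow, hd, neg_one_sq], a * a - b * b, a * b + b * a, ?_, ?_, ?_⟩
      · rw [Units.val_pow_eq_pow_val, pow_two, hab, M_mul]
      · intro h
        exact hns2 ⟨2 * a, by linear_combination -2 * hn - 2 * h⟩
      · intro h
        have : 2 * (a * b) = 0 := by linear_combination h
        rcases mul_eq_zero.1 ((mul_eq_zero.1 this).resolve_left h2) with h0 | h0
        · exact hns ⟨b, by rw [h0] at hn; linear_combination -hn⟩
        · exact hns ⟨a, by rw [h0] at hn; linear_combination -hn⟩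
  have hK : c * R ∈ one1 (base F) := ⟨Subgroup.mul_mem _ (C2_le hc) R_mem, by
    show GeneralLinearGroup.det (c * R) = 1
    rw [map_mul, hd, det_R, neg_one_mul, neg_neg]⟩
  have hW : w ∈ one1 (base F) := ⟨C2_le hw, MonoidHom.mem_ker.2 hdw⟩
  set K := c * R with hKd
  have hvC := commutator_mem_C2 h2 hK.1 hW.1
  have hgv : g * (K * w * K⁻¹ * w⁻¹) * g⁻¹ ∈ C2 F := by
    have := commutator_mem_C2 h2 (hg _ hK).1 (hg _ hW).1
    simpa [mul_assoc] using this
  have hns : ∀ z : F, ((K * w * K⁻¹ * w⁻¹ : GL (Fin 2) F) : Matrix (Fin 2) (Fin 2) F) ≠ z • 1 := by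
    intro z hz
    have e : K * w * K⁻¹ = R * w * R := by
      obtain ⟨-, hcw⟩ := R_conj_mem hw
      calc K * w * K⁻¹ = c * (R * w * R) * c⁻¹ := by rw [hKd, _root_.mul_inv_rev, R_inv]; simp [mul_assoc]
        _ = R * w * R := by rw [Ct_comm hc.1 (R_conj_mem hw).1, mul_inv_cancel_right]
    rw [e] at hz
    have he : ((R * w * R : GL (Fin 2) F) : Matrix (Fin 2) (Fin 2) F) = z • (w : Matrix (Fin 2) (Fin 2) F) := by
      have h3 := congrArg (fun Z => Z * (w : Matrix (Fin 2) (Fin 2) F)) hz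
      simp only [← Units.val_mul, smul_mul_assoc, Matrix.one_mul, inv_mul_cancel_right] at h3
      exact h3
    rw [R_conj_coe hxy, hxy] at he
    have h1 := congrFun (congrFun he 0) 0
    have h3 := congrFun (congrFun he 1) 0
    simp [M] at h1 h3
    have hz1 : z = 1 := mul_right_cancel₀ hx (by rw [one_mul]; exact h1.symm)
    rw [hz1] at h3
    exact hy ((mul_eq_zero.1 (show 2 * y = 0 by linear_combination -h3)).resolve_left h2)
  have hgC := J_conj h2 ho hvC.1 hns hgv.1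
  refine scalar_of_Ct h2 ho hgC ?_
  have hgK : g * K * g⁻¹ ∈ base F := (hg _ hK).1
  have hKb : K ∈ base F := hK.1
  have h := mul_mem hgK (inv_mem hKb)
  rw [show g * K * g⁻¹ * K⁻¹ = c * (c⁻¹ * g * c * (R * g⁻¹ * R⁻¹)) * c⁻¹ by simp [hKd, mul_assoc]] at h
  have hcc : c⁻¹ * g * c = g := by rw [mul_assoc, Ct_comm hgC hc.1, inv_mul_cancel_left]
  rw [hcc] at h
  have hq' := mul_mem (mul_mem (inv_mem (C2_le hc)) h) (C2_le hc)
  simpa [mul_assoc, R_inv] using hq'

theorem factorization_GL_double [Fintype F] (hq : Odd (Fintype.card F)) (k : ℕ) (hk : 1 ≤ k) :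
    (Nat.card (GL (Fin (2 ^ (k + 1))) F)).factorization 2 =
      2 * (Nat.card (GL (Fin (2 ^ k)) F)).factorization 2 + 1 := by
  haveI := Fact.mk Nat.prime_two
  set q := Fintype.card F with hqd
  have hq1 : 2 ≤ q := Fintype.one_lt_card
  have hqodd : ¬ 2 ∣ q := by rw [Nat.odd_iff] at hq; omega
  have hv : ∀ n : ℕ, (Nat.card (GL (Fin n) F)).factorization 2 =
      ∑ j ∈ Finset.range n, padicValNat 2 (q ^ (j + 1) - 1) := by
    intro n
    rw [Nat.factorization_def _ Nat.prime_two, Matrix.card_GL_field, ← hqd,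
      Fin.prod_univ_eq_prod_range (fun i => q ^ n - q ^ i) n]
    rw [← Finset.sum_range_reflect]
    have : ∀ (s : Finset ℕ), (∀ i ∈ s, i < n) →
        padicValNat 2 (∏ i ∈ s, (q ^ n - q ^ i)) = ∑ i ∈ s, padicValNat 2 (q ^ (n - i) - 1) ∧
          ∏ i ∈ s, (q ^ n - q ^ i) ≠ 0 := by
      intro s hs
      induction s using Finset.induction_on with
      | empty => simp
      | @insert a s ha ih =>
        have han := hs a (Finset.mem_insert_self a s)
        obtain ⟨h1, h0⟩ := ih fun i hi => hs i (Finset.mem_insert_of_mem hi)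
        have e : q ^ n - q ^ a = q ^ a * (q ^ (n - a) - 1) := by
          rw [Nat.mul_sub, mul_one, ← pow_add, Nat.add_sub_cancel' han.le]
        have hne : q ^ (n - a) - 1 ≠ 0 := Cfsg.Agent.Arith.pow_sub_one_ne_zero hq1 (by omega)
        rw [Finset.prod_insert ha, Finset.sum_insert ha, e]
        refine ⟨?_, mul_ne_zero (mul_ne_zero (pow_ne_zero _ (by omega)) hne) h0⟩
        rw [padicValNat.mul (mul_ne_zero (pow_ne_zero _ (by omega)) hne) h0,
          padicValNat.mul (pow_ne_zero _ (by omega)) hne,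
          padicValNat.eq_zero_of_not_dvd (n := q ^ a) (fun h => hqodd (Nat.prime_two.dvd_of_dvd_pow h)), h1,
          zero_add]
    rw [(this _ fun i hi => Finset.mem_range.1 hi).1]
    refine Finset.sum_congr rfl fun i hi => ?_
    rw [Finset.mem_range] at hi
    rw [show n - i = n - 1 - i + 1 by omega]
  obtain ⟨m', hm'⟩ : ∃ m', 2 ^ k = m' + 1 := ⟨2 ^ k - 1, by have := Nat.two_pow_pos k; omega⟩
  rw [hv, hv, show (2 : ℕ) ^ (k + 1) = 2 ^ k + 2 ^ k by ring, Finset.sum_range_add, hm',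
    Finset.sum_range_succ, Finset.sum_range_succ (fun i => padicValNat 2 (q ^ (m' + 1 + i + 1) - 1)),
    ← hm']
  have htop : padicValNat 2 (q ^ (2 ^ k + m' + 1) - 1) = padicValNat 2 (q ^ 2 ^ k - 1) + 1 := by
    rw [show 2 ^ k + m' + 1 = 2 ^ (k + 1) by rw [pow_succ]; omega]
    have h1 := Cfsg.Agent.Arith.padicValNat_two_pow_sub_one hq1 (pow_ne_zero k two_ne_zero)
      (dvd_pow_self 2 (by omega)) hqodd
    have h2 := Cfsg.Agent.Arith.padicValNat_two_pow_sub_one hq1 (pow_ne_zero (k + 1) two_ne_zero)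
      (dvd_pow_self 2 (by omega)) hqodd
    rw [padicValNat.prime_pow] at h1 h2
    omega
  have hlow : ∀ i ∈ Finset.range m', padicValNat 2 (q ^ (2 ^ k + i + 1) - 1) = padicValNat 2 (q ^ (i + 1) - 1) := by
    intro i hi
    rw [Finset.mem_range] at hi
    by_cases hev : 2 ∣ i + 1
    · have hev2 : 2 ∣ 2 ^ k + i + 1 := by
        rw [add_assoc]; exact dvd_add (dvd_pow_self 2 (by omega)) hev
      have h1 := Cfsg.Agent.Arith.padicValNat_two_pow_sub_one hq1 (n := 2 ^ k + i + 1) (by omega) hev2 hqodd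
      have h2 := Cfsg.Agent.Arith.padicValNat_two_pow_sub_one hq1 (n := i + 1) (by omega) hev hqodd
      have hval : padicValNat 2 (2 ^ k + i + 1) = padicValNat 2 (i + 1) := by
        have hlt : padicValNat 2 (i + 1) < k := by
          by_contra hc
          have := Nat.le_of_dvd (by omega) ((padicValNat_dvd_iff_le (p := 2) (by omega : i + 1 ≠ 0)).2 (not_lt.1 hc))
          omega
        have hd : ∀ j ≤ k, (2 ^ j ∣ 2 ^ k + i + 1 ↔ 2 ^ j ∣ i + 1) := fun j hj => by
          rw [add_assoc]; exact (Nat.dvd_add_right (pow_dvd_pow 2 hj))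
        refine le_antisymm ?_ ?_
        · by_contra hc
          have h3 := (hd (padicValNat 2 (i + 1) + 1) hlt).1
            ((padicValNat_dvd_iff_le (by omega)).2 (by omega))
          have := (padicValNat_dvd_iff_le (p := 2) (by omega : i + 1 ≠ 0)).1 h3
          omega
        · exact (padicValNat_dvd_iff_le (by omega)).1 ((hd _ hlt.le).2 pow_padicValNat_dvd)
      omega
    · have hodd2 : ¬ 2 ∣ 2 ^ k + i + 1 := by
        rw [add_assoc]; exact fun h => hev ((Nat.dvd_add_right (dvd_pow_self 2 (by omega))).1 h)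
      rw [Cfsg.Agent.Arith.padicValNat_pow_sub_one Nat.prime_two hq1 (by omega) (by omega) (fun _ => Or.inr hodd2),
        Cfsg.Agent.Arith.padicValNat_pow_sub_one Nat.prime_two hq1 (by omega) (by omega) (fun _ => Or.inr hev),
        padicValNat.eq_zero_of_not_dvd hodd2, padicValNat.eq_zero_of_not_dvd hev]
  rw [Finset.sum_congr rfl hlow, htop, hm']
  omega

/-- Sylow 2-subgroups of `GL_{2^k}`. -/
theorem exists_good [Fintype F] (hq : Odd (Fintype.card F)) : ∀ k : ℕ, 1 ≤ k →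
    ∃ T : Subgroup (GL (Fin (2 ^ k)) F), Good T ∧
      ((2 ≤ k ∨ Fintype.card F % 8 = 1 ∨ Fintype.card F % 8 = 7) → Strong T) := by
  intro k
  induction k with
  | zero => intro h; omega
  | succ k ih =>
    intro _
    rcases Nat.eq_zero_or_pos k with rfl | hk
    · let e : Fin 2 ≃ Fin (2 ^ (0 + 1)) := finCongr (by norm_num)
      exact ⟨(base F).map (reidx e).toMonoidHom, good_reidx e (good_base hq), fun h =>
        strong_reidx e (strong_base (by omega))⟩
    · obtain ⟨T, hT, -⟩ := ih hk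
      haveI : Nonempty (Fin (2 ^ k)) := ⟨⟨0, Nat.two_pow_pos k⟩⟩
      let e : Fin (2 ^ k) ⊕ Fin (2 ^ k) ≃ Fin (2 ^ (k + 1)) :=
        finSumFinEquiv.trans (finCongr (by rw [pow_succ]; ring))
      have hv : (Nat.card (GL (Fin (2 ^ k) ⊕ Fin (2 ^ k)) F)).factorization 2 =
          2 * (Nat.card (GL (Fin (2 ^ k)) F)).factorization 2 + 1 := by
        rw [Nat.card_congr (reidx (F := F) e).toEquiv, factorization_GL_double hq k hk]
      exact ⟨(wreath T hT.negOne).map (reidx e).toMonoidHom, good_reidx e (good_wreath hT hv), fun _ =>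
        strong_reidx e (strong_wreath hT.toCore)⟩

end Cfsg.Agent.H52.TwoBase
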