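import Cfsg.Agent.H54.Bruhat
import Cfsg.Agent.Linear.Unitriangular
import Cfsg.Agent.Linear.Generation

/-!
Subgroups containing the unitriangular group are normalized by the upper triangular group.
-/

set_option autoImplicit false
set_option linter.unusedFintypeInType false

namespace Cfsg.Agent.H52.UnitriOver

open Matrix Cfsg.Agent.Linear Cfsg.Agent.H54
open scoped MatrixGroups commutatorElement

variable {n : ℕ} {F : Type*} [Field F]

/-- An elementary transvection in `GL`. -/
noncomputable def X {i j : Fin n} (h : i ≠ j) (a : F) : GL (Fin n) F :=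
  SpecialLinearGroup.toGL (SpecialLinearGroup.transvection h a)

theorem X_coe {i j : Fin n} (h : i ≠ j) (a : F) :
    (X h a : Matrix (Fin n) (Fin n) F) = 1 + Matrix.single i j a := rfl

theorem X_apply {i j : Fin n} (h : i ≠ j) (a : F) (r s : Fin n) :
    (X h a : Matrix (Fin n) (Fin n) F) r s = (if r = s then 1 else 0) + (if r = i ∧ s = j then a else 0) := by
  rw [X_coe, Matrix.add_apply, Matrix.one_apply, Matrix.single]
  simp only [Matrix.of_apply, eq_comm]

theorem X_mem_unitri {i j : Fin n} (h : i < j) (a : F) : X h.ne a ∈ unitriGL n F := by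
  refine ⟨fun r s hrs => ?_, fun r => ?_⟩
  · simp only [id_eq] at hrs
    rw [X_apply, if_neg hrs.ne', if_neg, add_zero]
    rintro ⟨rfl, rfl⟩
    exact lt_asymm h hrs
  · rw [X_apply, if_pos rfl, if_neg, add_zero]
    rintro ⟨rfl, rfl⟩
    exact lt_irrefl _ h

theorem comm_X {i j k : Fin n} (hik : i ≠ k) (hkj : k ≠ j) (hij : i ≠ j) (a b : F) :
    ⁅X hik a, X hkj b⁆ = X hij (a * b) := by
  simp only [X]
  rw [← map_commutatorElement, commutator_transvections]

theorem diag_permGL (d : Fin n → Fˣ) (σ : Equiv.Perm (Fin n)) :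
    permGL F σ * diagGL d = diagGL (fun i => d (σ⁻¹ i)) * permGL F σ := by
  apply Units.ext
  ext r s
  simp only [Units.val_mul, diagGL_coe, mul_diagonal, diagonal_mul, permGL_apply]
  by_cases h : r = σ s
  · subst h; simp
  · simp [h]

theorem conj_X (d : Fin n → Fˣ) (σ : Equiv.Perm (Fin n)) {a b : Fin n} (h : a ≠ b) (c : F) :
    diagGL d * permGL F σ * X h c * (diagGL d * permGL F σ)⁻¹ =
      X (σ.injective.ne h) ((d (σ a) : F) * c / d (σ b)) := by
  rw [mul_inv_eq_iff_eq_mul]
  apply Units.ext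
  ext r s
  simp only [Units.val_mul, X_coe, diagGL_coe, mul_add, add_mul, mul_one, one_mul, Matrix.add_apply]
  congr 1
  rw [Matrix.mul_assoc, diagonal_mul]
  simp only [Matrix.mul_apply, Matrix.single, Matrix.of_apply, permGL_apply, diagonal_apply, ite_mul,
    one_mul, zero_mul, mul_ite, mul_one, mul_zero]
  rw [Finset.sum_eq_single a, Finset.sum_eq_single (σ b)]
  · by_cases hs : b = s
    · subst hs
      by_cases hr : r = σ a
      · subst hr
        simp only [and_self, if_true]
        rw [Finset.sum_eq_single (σ b)] <;> simp +contextual [eq_comm]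
      · simp [hr, Ne.symm hr]
    · simp only [hs, and_false, if_false, mul_zero]
      simp [hs, σ.injective.eq_iff, eq_comm]
  all_goals simp +contextual [eq_comm]

theorem transvection_pair (H : Subgroup (GL (Fin n) F)) (hU : unitriGL n F ≤ H) (d : Fin n → Fˣ)
    (σ : Equiv.Perm (Fin n)) (hn : diagGL d * permGL F σ ∈ H) {a b : Fin n} (hab : a < b) (c : F) :
    X (σ.injective.ne hab.ne) c ∈ H := by
  have h := H.mul_mem (H.mul_mem hn (hU (X_mem_unitri hab (c * d (σ b) / d (σ a))))) (H.inv_mem hn)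
  rw [conj_X d σ hab.ne] at h
  have : (d (σ a) : F) * (c * d (σ b) / d (σ a)) / d (σ b) = c := by field_simp
  rwa [this] at h

/-- All transvections at `(i, j)` lie in `H`. -/
def Full (H : Subgroup (GL (Fin n) F)) (i j : Fin n) : Prop := ∀ (h : i ≠ j) (a : F), X h a ∈ H

theorem full_trans {H : Subgroup (GL (Fin n) F)} {i k j : Fin n} (hik : i ≠ k) (hkj : k ≠ j)
    (h1 : Full H i k) (h2 : Full H k j) : Full H i j := by
  intro hij a
  have h := comm_X hik hkj hij a 1
  rw [mul_one] at h
  rw [← h, commutatorElement_def]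
  exact H.mul_mem (H.mul_mem (H.mul_mem (h1 _ a) (h2 _ 1)) (H.inv_mem (h1 _ a))) (H.inv_mem (h2 _ 1))

theorem full_up {H : Subgroup (GL (Fin n) F)} (hU : unitriGL n F ≤ H) {i j : Fin n} (h : i < j) :
    Full H i j := fun _ a => hU (X_mem_unitri h a)

theorem full_shrink {H : Subgroup (GL (Fin n) F)} (hU : unitriGL n F ≤ H) {i j i' j' : Fin n}
    (h : Full H i j) (h1 : i' ≤ i) (h2 : j ≤ j') (hne : i' ≠ j') (hij : i ≠ j) : Full H i' j' := by
  rcases eq_or_lt_of_le h1 with rfl | h1
  · rcases eq_or_lt_of_le h2 with rfl | h2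
    · exact h
    · exact full_trans hij h2.ne h (full_up hU h2)
  · rcases eq_or_lt_of_le h2 with rfl | h2
    · exact full_trans h1.ne hij (full_up hU h1) h
    · by_cases he : i' = j
      · rw [he]; exact full_up hU h2
      · exact full_trans he h2.ne (full_trans h1.ne hij (full_up hU h1) h) (full_up hU h2)

theorem full_cycle {H : Subgroup (GL (Fin n) F)} (hU : unitriGL n F ≤ H) (d : Fin n → Fˣ)
    (σ : Equiv.Perm (Fin n)) (hn : diagGL d * permGL F σ ∈ H) (k : Fin n) (hk : σ k ≠ k) :
    Full H k (σ k) ∧ Full H (σ k) k := by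
  have hpair : ∀ a b : Fin n, a < b → Full H (σ a) (σ b) := fun a b hab _ c => transvection_pair H hU d σ hn hab c
  -- every gap between `k` and `σ k` is crossed
  have hgap : ∀ g g' : Fin n, (g : ℕ) + 1 = g' → min k (σ k) ≤ g → g' ≤ max k (σ k) → Full H g' g := by
    intro g g' hg h1 h2
    have hne : g' ≠ g := fun e => by rw [e] at hg; omega
    rcases lt_or_gt_of_ne hk with hlt | hgt
    · -- `σ k < k`
      rw [min_eq_right hlt.le] at h1
      rw [max_eq_left hlt.le] at h2
      obtain ⟨b, hb1, hb2⟩ : ∃ b, b ≤ g ∧ g < σ b := by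
        by_contra! hc
        have hsub : (Finset.Iic g).image σ ⊆ Finset.Iic g := by
          intro x hx
          obtain ⟨b, hb, rfl⟩ := Finset.mem_image.1 hx
          exact Finset.mem_Iic.2 (hc b (Finset.mem_Iic.1 hb))
        have heq := Finset.eq_of_subset_of_card_le hsub (by rw [Finset.card_image_of_injective _ σ.injective])
        obtain ⟨b, hb, hbk⟩ := Finset.mem_image.1 (heq.symm ▸ Finset.mem_Iic.2 h1 : σ k ∈ (Finset.Iic g).image σ)
        rw [σ.injective hbk] at hb
        have := Finset.mem_Iic.1 hb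
        rw [Fin.le_def] at this h2
        omega
      have hbk : b < k := by rw [Fin.lt_def]; rw [Fin.le_def] at hb1 h2; omega
      refine full_shrink hU (hpair b k hbk) ?_ h1 hne (σ.injective.ne hbk.ne)
      rw [Fin.le_def]; rw [Fin.lt_def] at hb2; omega
    · rw [min_eq_left hgt.le] at h1
      rw [max_eq_right hgt.le] at h2
      obtain ⟨b, hb1, hb2⟩ : ∃ b, g < b ∧ σ b ≤ g := by
        by_contra! hc
        have hsub : (Finset.Ioi g).image σ ⊆ Finset.Ioi g := by
          intro x hx
          obtain ⟨b, hb, rfl⟩ := Finset.mem_image.1 hx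
          exact Finset.mem_Ioi.2 (hc b (Finset.mem_Ioi.1 hb))
        have heq := Finset.eq_of_subset_of_card_le hsub (by rw [Finset.card_image_of_injective _ σ.injective])
        have hgk : g < σ k := by rw [Fin.lt_def]; rw [Fin.le_def] at h2; omega
        obtain ⟨b, hb, hbk⟩ := Finset.mem_image.1 (heq.symm ▸ Finset.mem_Ioi.2 hgk : σ k ∈ (Finset.Ioi g).image σ)
        rw [σ.injective hbk] at hb
        exact absurd (Finset.mem_Ioi.1 hb) (not_lt.2 h1)
      have hkb : k < b := lt_of_le_of_lt h1 hb1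
      exact full_shrink hU (hpair k b hkb) h2 hb2 hne (σ.injective.ne hkb.ne)
  have hdown : ∀ t : ℕ, ∀ i j : Fin n, (j : ℕ) + t + 1 = i → min k (σ k) ≤ j → i ≤ max k (σ k) → Full H i j := by
    intro t
    induction t with
    | zero => exact fun i j h h1 h2 => hgap j i h h1 h2
    | succ t ih =>
      intro i j h h1 h2
      have := i.isLt
      let m : Fin n := ⟨(j : ℕ) + t + 1, by omega⟩
      refine full_trans (k := m) (fun e => ?_) (fun e => ?_) (hgap m i (by simp [m]; omega) ?_ h2)
        (ih m j rfl h1 ?_)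
      · rw [e] at h; simp [m] at h
      · have := congrArg Fin.val e; simp [m] at this; omega
      · exact le_trans h1 (by rw [Fin.le_def]; simp [m]; omega)
      · exact le_trans (by rw [Fin.le_def]; simp [m]; omega) h2
  rcases lt_or_gt_of_ne hk with hlt | hgt
  · refine ⟨hdown ((k : ℕ) - σ k - 1) k (σ k) ?_ (min_le_right _ _) (le_max_left _ _), full_up hU hlt⟩
    rw [Fin.lt_def] at hlt; omega
  · refine ⟨full_up hU hgt, hdown ((σ k : ℕ) - k - 1) (σ k) k ?_ (min_le_left _ _) (le_max_right _ _)⟩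
    have : (k : ℕ) < σ k := hgt
    omega

theorem diag_pair_mem {H : Subgroup (GL (Fin n) F)} {i j : Fin n} (hij : i ≠ j) (h1 : Full H i j)
    (h2 : Full H j i) (a : Fˣ) : diagGL (Pi.mulSingle i a * (Pi.mulSingle j a)⁻¹) ∈ H := by
  have e : (diagGL (Pi.mulSingle i a * (Pi.mulSingle j a)⁻¹) : GL (Fin n) F) =
      SpecialLinearGroup.toGL (SpecialLinearGroup.diag2n hij (a : F) a.ne_zero) := by
    apply Units.ext
    rw [diagGL_coe, SpecialLinearGroup.coe_GL_coe_matrix, SpecialLinearGroup.diag2n_coe]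
    congr 1
    funext k
    rcases eq_or_ne k i with rfl | hki
    · simp [hij]
    · rcases eq_or_ne k j with rfl | hkj
      · simp [hij.symm]
      · simp [hki, hkj]
  rw [e, diag2n_eq_transvections]
  simp only [map_mul]
  exact H.mul_mem (H.mul_mem (H.mul_mem (H.mul_mem (H.mul_mem (h1 _ _) (h2 _ _)) (h1 _ _)) (h1 _ _))
    (h2 _ _)) (h1 _ _)

theorem exists_diag_mul {b : GL (Fin n) F} (hb : b ∈ upperTriangularGL n F) :
    ∃ d : Fin n → Fˣ, b * (diagGL d)⁻¹ ∈ unitriGL n F ∧ (diagGL d)⁻¹ * b ∈ unitriGL n F := by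
  have hb' : (b : Matrix (Fin n) (Fin n) F).BlockTriangular id := hb
  have hd : ∀ i, (b : Matrix (Fin n) (Fin n) F) i i ≠ 0 := fun i => by
    have hdet : (b : Matrix (Fin n) (Fin n) F).det ≠ 0 := (GeneralLinearGroup.det b).ne_zero
    rw [blockTriangular_det hb'] at hdet
    exact Finset.prod_ne_zero_iff.1 hdet i (Finset.mem_univ i)
  refine ⟨fun i => Units.mk0 _ (hd i), ⟨?_, fun i => ?_⟩, ⟨?_, fun i => ?_⟩⟩
  · rw [diagGL_inv, Units.val_mul, diagGL_coe]
    exact hb'.mul (blockTriangular_diagonal _)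
  · rw [diagGL_inv, Units.val_mul, diagGL_coe, mul_diagonal]
    simp [hd i]
  · rw [diagGL_inv, Units.val_mul, diagGL_coe]
    exact (blockTriangular_diagonal _).mul hb'
  · rw [diagGL_inv, Units.val_mul, diagGL_coe, diagonal_mul]
    simp [hd i]

theorem diag_conj_unitri (d : Fin n → Fˣ) {u : GL (Fin n) F} (hu : u ∈ unitriGL n F) :
    diagGL d * u * (diagGL d)⁻¹ ∈ unitriGL n F := by
  refine ⟨?_, fun i => ?_⟩
  · rw [diagGL_inv, Units.val_mul, Units.val_mul, diagGL_coe, diagGL_coe]
    exact ((blockTriangular_diagonal _).mul hu.1).mul (blockTriangular_diagonal _)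
  · rw [diagGL_inv, Units.val_mul, Units.val_mul, diagGL_coe, diagGL_coe, mul_diagonal, diagonal_mul, hu.2]
    simp

/-- The diagonal group normalizes every subgroup containing the unitriangular group. -/
theorem diag_conj_mem (H : Subgroup (GL (Fin n) F)) (hU : unitriGL n F ≤ H) (t : Fin n → Fˣ)
    {h : GL (Fin n) F} (hh : h ∈ H) : diagGL t * h * (diagGL t)⁻¹ ∈ H := by
  obtain ⟨b, hb, b', hb', σ, rfl⟩ := bruhat h
  obtain ⟨d₁, hu₁, -⟩ := exists_diag_mul hb
  obtain ⟨d₂, -, hu₂⟩ := exists_diag_mul hb'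
  set u₁ := b * (diagGL d₁)⁻¹
  set u₂ := (diagGL d₂)⁻¹ * b'
  set d := d₁ * fun i => d₂ (σ⁻¹ i) with hd
  have hn : b * permGL F σ * b' = u₁ * (diagGL d * permGL F σ) * u₂ := by
    have : diagGL d * permGL F σ = diagGL d₁ * (permGL F σ * diagGL d₂) := by
      rw [diag_permGL, hd, diagGL_mul, mul_assoc]
    rw [this]
    simp only [u₁, u₂]
    group
  rw [hn] at hh ⊢
  have hnH : diagGL d * permGL F σ ∈ H := by
    have := H.mul_mem (H.mul_mem (H.inv_mem (hU hu₁)) hh) (H.inv_mem (hU hu₂))
    simpa [mul_assoc] using this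
  have hconj : diagGL t * (diagGL d * permGL F σ) * (diagGL t)⁻¹ =
      diagGL (t * (fun i => t (σ⁻¹ i))⁻¹) * (diagGL d * permGL F σ) := by
    rw [diagGL_inv, mul_assoc (diagGL t), mul_assoc (diagGL d), diag_permGL, ← mul_assoc (diagGL d),
      ← mul_assoc, ← diagGL_mul, ← mul_assoc, ← diagGL_mul, ← mul_assoc, ← diagGL_mul]
    congr 2
    funext i
    simp [mul_assoc, mul_comm, mul_left_comm]
  have hδ : diagGL (t * (fun i => t (σ⁻¹ i))⁻¹) ∈ H := by
    let D : Subgroup (Fin n → Fˣ) :=
      { carrier := {e | diagGL e ∈ H}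
        mul_mem' := fun {x y} hx hy => show diagGL (x * y) ∈ H by rw [diagGL_mul]; exact H.mul_mem hx hy
        one_mem' := show diagGL (1 : Fin n → Fˣ) ∈ H by rw [diagGL_one]; exact H.one_mem
        inv_mem' := fun {x} hx => show diagGL x⁻¹ ∈ H by rw [← diagGL_inv]; exact H.inv_mem hx }
    change t * (fun i => t (σ⁻¹ i))⁻¹ ∈ D
    have e : t * (fun i => t (σ⁻¹ i))⁻¹ = ∏ i, (Pi.mulSingle i (t i) * (Pi.mulSingle (σ i) (t i))⁻¹) := by
      rw [Finset.prod_mul_distrib, Finset.prod_inv_distrib, Finset.univ_prod_mulSingle]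
      congr 2
      rw [← Finset.univ_prod_mulSingle (fun i => t (σ⁻¹ i)),
        ← Equiv.prod_comp σ (fun i => Pi.mulSingle i (t (σ⁻¹ i)))]
      simp
    rw [e]
    refine D.prod_mem fun i _ => ?_
    by_cases hi : σ i = i
    · rw [hi, mul_inv_cancel]; exact D.one_mem
    · exact diag_pair_mem (Ne.symm hi) (full_cycle hU d σ hnH i hi).1 (full_cycle hU d σ hnH i hi).2 (t i)
  have := H.mul_mem (H.mul_mem (hU (diag_conj_unitri t hu₁)) (H.mul_mem hδ hnH)) (hU (diag_conj_unitri t hu₂))
  rw [← hconj] at this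
  simpa [mul_assoc] using this

/-- Subgroups containing the unitriangular group are normalized by upper triangular matrices. -/
theorem upper_conj_mem (H : Subgroup (GL (Fin n) F)) (hU : unitriGL n F ≤ H) {b h : GL (Fin n) F}
    (hb : b ∈ upperTriangularGL n F) (hh : h ∈ H) : b * h * b⁻¹ ∈ H := by
  obtain ⟨d, hu, -⟩ := exists_diag_mul hb
  have := H.mul_mem (H.mul_mem (hU hu) (diag_conj_mem H hU d hh)) (H.inv_mem (hU hu))
  simpa [mul_assoc] using this

/-- An element normalizing the unitriangular group is upper triangular. -/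
theorem mem_upper_of_normalizes {g : GL (Fin n) F}
    (hg : ∀ u ∈ unitriGL n F, g * u * g⁻¹ ∈ unitriGL n F) : g ∈ upperTriangularGL n F := by
  obtain ⟨b, hb, b', hb', σ, rfl⟩ := bruhat g
  have hconj : ∀ c ∈ upperTriangularGL n F, ∀ u ∈ unitriGL n F, c * u * c⁻¹ ∈ unitriGL n F := by
    intro c hc u hu
    obtain ⟨d, hd, -⟩ := exists_diag_mul hc
    have := (unitriGL n F).mul_mem ((unitriGL n F).mul_mem hd (diag_conj_unitri d hu)) ((unitriGL n F).inv_mem hd)
    simpa [mul_assoc] using this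
  have hσ : ∀ a c : Fin n, a < c → σ a < σ c := by
    intro a c hac
    by_contra hc
    have hlt : σ c < σ a := lt_of_le_of_ne (not_lt.1 hc) (σ.injective.ne hac.ne')
    have h1 := hg _ (hconj _ ((upperTriangularGL n F).inv_mem hb') _ (X_mem_unitri hac (1 : F)))
    have h2 := hconj _ ((upperTriangularGL n F).inv_mem hb) _ h1
    have h3 : permGL F σ * X hac.ne (1 : F) * (permGL F σ)⁻¹ ∈ unitriGL n F := by
      simpa [mul_assoc] using h2
    have h4 := conj_X (1 : Fin n → Fˣ) σ hac.ne (1 : F)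
    rw [diagGL_one, one_mul] at h4
    rw [h4] at h3
    have h5 := h3.1 (show id (σ c) < id (σ a) from hlt)
    rw [X_apply, if_neg hlt.ne'] at h5
    simp at h5
  have h1 : σ = 1 := Equiv.ext fun i =>
    congrFun (StrictMono.eq_id (f := σ) hσ) i
  subst h1
  have : permGL F (1 : Equiv.Perm (Fin n)) = 1 := by
    apply Units.ext
    ext r s
    rw [permGL_apply, Units.val_one, Matrix.one_apply]
    rfl
  rw [this, mul_one]
  exact (upperTriangularGL n F).mul_mem hb hb'

end Cfsg.Agent.H52.UnitriOver
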