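import Cfsg.Agent.H52.PronormalKlein
import Cfsg.Agent.H52.UnitriOvergroups
import Cfsg.Agent.H52.TwoBase
import Cfsg.Agent.H27.QuaternionSylow

/-!
Subgroups of odd index of `PSL_{2^w}(q)` are pronormal.
-/

set_option autoImplicit false
set_option linter.style.haveILetI false
set_option linter.unusedFintypeInType false

namespace Cfsg.Agent.H52.PronormalLinear

open Matrix Subgroup Cfsg.Agent.H52.TwoBlock
open scoped MatrixGroups

theorem pronormal_map {G Q : Type*} [Group G] [Group Q] (f : G →* Q) (hf : Function.Surjective f)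
    {H : Subgroup G} (hH : Cfsg.IsPronormal H) : Cfsg.IsPronormal (H.map f) := by
  intro q
  obtain ⟨g, rfl⟩ := hf q
  have key : ∀ x : G, (H.map f).map (MulAut.conj (f x)).toMonoidHom = (H.map (MulAut.conj x).toMonoidHom).map f := by
    intro x
    rw [Subgroup.map_map, Subgroup.map_map]
    congr 1
    ext y
    simp
  obtain ⟨x, hx, e⟩ := hH g
  refine ⟨f x, ?_, ?_⟩
  · rw [key, ← Subgroup.map_sup]
    exact ⟨x, hx, rfl⟩
  · rw [key, key, e]

variable {F : Type*} [Field F] [Fintype F]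

theorem pronormal_SL_two_power [CharP F 2] (n : ℕ) (H : Subgroup (SpecialLinearGroup (Fin n) F))
    (hH : ¬ 2 ∣ H.index) : Cfsg.IsPronormal H := by
  haveI := Fact.mk Nat.prime_two
  obtain ⟨P⟩ : Nonempty (Sylow 2 H) := inferInstance
  have hp : IsPGroup 2 ((P : Subgroup H).map H.subtype) := P.2.map _
  have hi : ¬ 2 ∣ ((P : Subgroup H).map H.subtype).index := by
    rw [index_map_subtype]
    exact Nat.Prime.not_dvd_mul Nat.prime_two P.not_dvd_index hH
  obtain ⟨c, hc⟩ := MulAction.exists_smul_eq (SpecialLinearGroup (Fin n) F) (hp.toSylow hi)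
    (Cfsg.Agent.Linear.unitriSylowSL n F 2)
  set H' := H.map (MulAut.conj c).toMonoidHom with hH'
  have hU : Cfsg.Agent.Linear.unitriSL n F ≤ H' := by
    rw [← Cfsg.Agent.Linear.unitriSylowSL_coe (n := n) (F := F) 2, ← hc]
    rintro _ ⟨z, hz, rfl⟩
    exact ⟨z, map_subtype_le _ hz, rfl⟩
  have hpro : Cfsg.IsPronormal H' := by
    refine pronormal_of_sylow_normalizer H' (Cfsg.Agent.Linear.unitriSylowSL n F 2) hU fun m hm => ?_
    let f : SpecialLinearGroup (Fin n) F →* GL (Fin n) F := SpecialLinearGroup.toGL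
    have hinj : Function.Injective f := Cfsg.Agent.Linear.toGL_injective
    have hUf : Cfsg.Agent.Linear.unitriGL n F ≤ H'.map f := fun u hu => by
      obtain ⟨s, rfl⟩ := Cfsg.Agent.Linear.unitriGL_le_range_toGL hu
      exact ⟨s, hU hu, rfl⟩
    have hmU : f m ∈ upperTriangularGL n F := by
      refine UnitriOver.mem_upper_of_normalizes fun u hu => ?_
      obtain ⟨s, rfl⟩ := Cfsg.Agent.Linear.unitriGL_le_range_toGL hu
      rw [← map_inv, ← map_mul, ← map_mul]
      exact (mem_normalizer_iff.1 hm s).1 hu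
    apply le_antisymm
    · rintro _ ⟨x, hx, rfl⟩
      obtain ⟨y, hy, e⟩ := UnitriOver.upper_conj_mem (H'.map f) hUf hmU ⟨x, hx, rfl⟩
      have : y = m * x * m⁻¹ := hinj (by rw [e]; simp [f])
      show m * x * m⁻¹ ∈ H'
      rwa [← this]
    · intro x hx
      obtain ⟨y, hy, e⟩ := UnitriOver.upper_conj_mem (H'.map f) hUf (inv_mem hmU) ⟨x, hx, rfl⟩
      have : y = m⁻¹ * x * m⁻¹⁻¹ := hinj (by rw [e]; simp [f])
      exact ⟨y, hy, by rw [this]; simp [mul_assoc]⟩
  have := pronormal_map (MulAut.conj c⁻¹).toMonoidHom (MulAut.conj c⁻¹).surjective hpro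
  rwa [hH', Subgroup.map_map, show (MulAut.conj c⁻¹).toMonoidHom.comp (MulAut.conj c).toMonoidHom =
    MonoidHom.id _ by ext; simp [mul_assoc], Subgroup.map_id] at this

theorem selfNormalizing_SL (hq : Odd (Fintype.card F)) (w : ℕ) (hw : 1 ≤ w)
    (hsmall : 2 ≤ w ∨ Fintype.card F % 8 = 1 ∨ Fintype.card F % 8 = 7)
    (S : Sylow 2 (SpecialLinearGroup (Fin (2 ^ w)) F)) :
    normalizer ((S : Subgroup (SpecialLinearGroup (Fin (2 ^ w)) F)) : Set (SpecialLinearGroup (Fin (2 ^ w)) F)) ≤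
      (S : Subgroup (SpecialLinearGroup (Fin (2 ^ w)) F)) := by
  haveI := Fact.mk Nat.prime_two
  haveI : Nonempty (Fin (2 ^ w)) := ⟨⟨0, Nat.two_pow_pos w⟩⟩
  obtain ⟨T, hT, hS⟩ := TwoBase.exists_good hq w hw
  let f : SpecialLinearGroup (Fin (2 ^ w)) F →* GL (Fin (2 ^ w)) F := SpecialLinearGroup.toGL
  have hinj : Function.Injective f := Cfsg.Agent.Linear.toGL_injective
  set S₀ : Subgroup (SpecialLinearGroup (Fin (2 ^ w)) F) := (one1 T).comap f
  have hp₀ : IsPGroup 2 S₀ := (hT.two.to_le inf_le_left).comap_of_injective f hinj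
  have hc₁ : Nat.card S₀ = Nat.card (one1 T) := by
    rw [← card_map_of_injective hinj, map_comap_eq, inf_eq_right.2]
    intro x hx
    rw [Cfsg.Agent.Linear.range_toGL]
    exact hx.2
  have hc₂ : Nat.card T = Nat.card (one1 T) *
      Nat.card ((GeneralLinearGroup.det : GL (Fin (2 ^ w)) F →* Fˣ).domRestrict T).range := by
    rw [← Subgroup.index_ker, MonoidHom.ker_domRestrict,
      ← ((GeneralLinearGroup.det : GL (Fin (2 ^ w)) F →* Fˣ).ker.subgroupOf T).card_mul_index]
    congr 1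
    rw [one1, ← Subgroup.card_map_of_injective T.subtype_injective, Subgroup.subgroupOf_map_subtype, inf_comm]
  have hcard : Nat.card S₀ = 2 ^ (Nat.card (SpecialLinearGroup (Fin (2 ^ w)) F)).factorization 2 := by
    obtain ⟨e, he⟩ := IsPGroup.iff_card.1 hp₀
    have hr : IsPGroup 2 ((GeneralLinearGroup.det : GL (Fin (2 ^ w)) F →* Fˣ).domRestrict T).range :=
      IsPGroup.of_surjective hT.two _ (MonoidHom.rangeRestrict_surjective _)
    obtain ⟨d, hd⟩ := IsPGroup.iff_card.1 hr
    have hd' : d ≤ (Nat.card Fˣ).factorization 2 :=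
      (Nat.prime_two.pow_dvd_iff_le_factorization Nat.card_pos.ne').1 (hd ▸ card_subgroup_dvd_card _)
    have he' : e ≤ (Nat.card (SpecialLinearGroup (Fin (2 ^ w)) F)).factorization 2 :=
      (Nat.prime_two.pow_dvd_iff_le_factorization Nat.card_pos.ne').1 (he ▸ card_subgroup_dvd_card _)
    rw [← hc₁, he, hd, hT.card, ← pow_add, Cfsg.Agent.Linear.card_GL_eq,
      Nat.factorization_mul Nat.card_pos.ne' Nat.card_pos.ne', Finsupp.add_apply] at hc₂
    have := Nat.pow_right_injective (le_refl 2) hc₂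
    rw [he]
    congr 1
    omega
  set Q : Sylow 2 (SpecialLinearGroup (Fin (2 ^ w)) F) := Sylow.ofCard S₀ hcard
  have hQ : (Q : Subgroup (SpecialLinearGroup (Fin (2 ^ w)) F)) = S₀ := rfl
  have hN : normalizer ((S₀ : Subgroup (SpecialLinearGroup (Fin (2 ^ w)) F)) : Set (SpecialLinearGroup (Fin (2 ^ w)) F)) ≤ S₀ := by
    have hodd : ∀ g ∈ normalizer ((S₀ : Subgroup (SpecialLinearGroup (Fin (2 ^ w)) F)) : Set (SpecialLinearGroup (Fin (2 ^ w)) F)),
        Odd (orderOf g) → g = 1 := by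
      intro g hg ho
      obtain ⟨c, hc⟩ := hS hsmall (f g) (by rwa [orderOf_injective f hinj]) fun t ht => by
        obtain ⟨s, rfl⟩ : t ∈ f.range := by rw [Cfsg.Agent.Linear.range_toGL]; exact ht.2
        rw [← map_inv, ← map_mul, ← map_mul]
        exact (mem_normalizer_iff.1 hg s).1 ht
      have hc' : (g : Matrix (Fin (2 ^ w)) (Fin (2 ^ w)) F) = c • 1 := hc
      have hdet := g.2
      rw [hc', det_smul, det_one, mul_one, Fintype.card_fin] at hdet
      have e : ((g ^ 2 ^ w : SpecialLinearGroup (Fin (2 ^ w)) F) : Matrix (Fin (2 ^ w)) (Fin (2 ^ w)) F) =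
          ((1 : SpecialLinearGroup (Fin (2 ^ w)) F) : Matrix (Fin (2 ^ w)) (Fin (2 ^ w)) F) := by
        rw [Matrix.SpecialLinearGroup.coe_pow, hc', smul_pow, one_pow, hdet, one_smul,
          Matrix.SpecialLinearGroup.coe_one]
      have h1 : g ^ 2 ^ w = 1 := Subtype.ext e
      exact orderOf_eq_one_iff.1
        (Nat.eq_one_of_dvd_coprimes (ho.coprime_two_left.pow_left w) (orderOf_dvd_of_pow_eq_one h1) dvd_rfl)
    have hp : IsPGroup 2 (normalizer ((S₀ : Subgroup (SpecialLinearGroup (Fin (2 ^ w)) F)) : Set (SpecialLinearGroup (Fin (2 ^ w)) F))) := by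
      rintro ⟨g, hg⟩
      obtain ⟨e, m, hm, he⟩ := Nat.exists_eq_two_pow_mul_odd (orderOf_pos g).ne'
      refine ⟨e, Subtype.ext ?_⟩
      have ho : orderOf (g ^ 2 ^ e) = m := by
        rw [orderOf_pow_of_dvd (pow_ne_zero e two_ne_zero) (Dvd.intro m he.symm), he,
          Nat.mul_div_cancel_left _ (Nat.two_pow_pos e)]
      simpa using hodd _ (pow_mem hg _) (by rw [ho]; exact hm)
    exact le_of_eq (Q.3 hp (hQ ▸ le_normalizer))
  obtain ⟨x, rfl⟩ := MulAction.exists_smul_eq (SpecialLinearGroup (Fin (2 ^ w)) F) Q S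
  intro m hm
  have h2 : x⁻¹ * m * x ∈ (Q : Subgroup (SpecialLinearGroup (Fin (2 ^ w)) F)) := by
    refine hN ?_
    show x⁻¹ * m * x ∈ normalizer ((Q : Sylow 2 (SpecialLinearGroup (Fin (2 ^ w)) F)) : Set (SpecialLinearGroup (Fin (2 ^ w)) F))
    rw [← Sylow.smul_eq_iff_mem_normalizer, mul_smul, mul_smul, Sylow.smul_eq_iff_mem_normalizer.2 hm,
      inv_smul_smul]
  exact ⟨x⁻¹ * m * x, h2, by simp [mul_assoc]⟩

omit [Fintype F] in
theorem eq_one_or_neg_one_of_sq {A : SpecialLinearGroup (Fin 2) F} (h2 : (2 : F) ≠ 0) (h : A * A = 1) :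
    A = 1 ∨ A = -1 := by
  have hA : A = A⁻¹ := eq_inv_of_mul_eq_one_left h
  have hm := congrArg (fun X : SpecialLinearGroup (Fin 2) F => (X : Matrix (Fin 2) (Fin 2) F)) hA
  simp only [Matrix.SpecialLinearGroup.coe_inv, adjugate_fin_two] at hm
  have hd := A.2
  rw [det_fin_two] at hd
  set M := (A : Matrix (Fin 2) (Fin 2) F)
  have h00 : M 0 0 = M 1 1 := by simpa using congrFun (congrFun hm 0) 0
  have h01 : M 0 1 = -M 0 1 := by simpa using congrFun (congrFun hm 0) 1
  have h10 : M 1 0 = -M 1 0 := by simpa using congrFun (congrFun hm 1) 0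
  have hb : M 0 1 = 0 := (mul_eq_zero.1 (show 2 * M 0 1 = 0 by linear_combination h01)).resolve_left h2
  have hc : M 1 0 = 0 := (mul_eq_zero.1 (show 2 * M 1 0 = 0 by linear_combination h10)).resolve_left h2
  have ha : M 0 0 = 1 ∨ M 0 0 = -1 := by
    rw [← sq_eq_one_iff]; rw [hb, ← h00] at hd; linear_combination hd
  rcases ha with ha | ha
  · left
    ext i j
    fin_cases i <;> fin_cases j
    · simpa using ha
    · simpa using hb
    · simpa using hc
    · simpa using h00.symm.trans ha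
  · right
    ext i j
    fin_cases i <;> fin_cases j
    · simpa using ha
    · simpa using hb
    · simpa using hc
    · simpa using h00.symm.trans ha

/-- In `PSL₂(q)` an element of odd order commutes with at most one involution. -/
theorem uniq_PSL (h2 : (2 : F) ≠ 0) (c v v' : ProjectiveSpecialLinearGroup (Fin 2) F) (ho : Odd (orderOf c))
    (hc1 : c ≠ 1) (hv : orderOf v = 2) (hv' : orderOf v' = 2) (hcv : Commute c v) (hcv' : Commute c v') :
    v = v' := by
  set π := QuotientGroup.mk' (center (SpecialLinearGroup (Fin 2) F))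
  have hmem : ∀ z : SpecialLinearGroup (Fin 2) F, π z = 1 ↔ z ∈ center _ := fun z => QuotientGroup.eq_one_iff z
  have hcen : ∀ z ∈ center (SpecialLinearGroup (Fin 2) F), z * z = 1 := by
    intro z hz
    obtain ⟨r, hr, he⟩ := Matrix.SpecialLinearGroup.mem_center_iff.1 hz
    refine Subtype.ext ?_
    rw [Matrix.SpecialLinearGroup.coe_mul, ← he, ← map_mul, show r * r = 1 by simpa [sq] using hr, map_one,
      Matrix.SpecialLinearGroup.coe_one]
  have hneg : (-1 : SpecialLinearGroup (Fin 2) F) ∈ center _ := by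
    rw [mem_center_iff]
    intro x
    ext1
    simp
  obtain ⟨c₁, rfl⟩ := QuotientGroup.mk'_surjective _ c
  obtain ⟨k, hk⟩ := ho
  set C := c₁ ^ (orderOf (π c₁) + 1)
  have hπC : π C = π c₁ := by rw [map_pow, pow_succ, pow_orderOf_eq_one, one_mul]
  have hCm : C ^ orderOf (π c₁) = 1 := by
    have hz : c₁ ^ orderOf (π c₁) ∈ center _ := (hmem _).1 (by rw [map_pow, pow_orderOf_eq_one])
    rw [show C ^ orderOf (π c₁) = ((c₁ ^ orderOf (π c₁)) * (c₁ ^ orderOf (π c₁))) ^ (k + 1) by
      rw [← pow_add, ← pow_mul, ← pow_mul]; congr 1; rw [hk]; ring, hcen _ hz, one_pow]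
  -- lifts of involutions
  have lift : ∀ u : ProjectiveSpecialLinearGroup (Fin 2) F, orderOf u = 2 → Commute (π c₁) u →
      ∃ j : SpecialLinearGroup (Fin 2) F, π j = u ∧ j * j = -1 ∧ C * j = j * C := by
    intro u hu hcu
    obtain ⟨j, rfl⟩ := QuotientGroup.mk'_surjective _ u
    have hjj : j * j ∈ center _ := (hmem _).1 (by rw [map_mul, ← sq]; have := pow_orderOf_eq_one (π j); rwa [hu] at this)
    have hj4 : j * j * (j * j) = 1 := hcen _ hjj
    have hjne : j ∉ center _ := fun h => by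
      have := (hmem j).2 h
      rw [this, orderOf_one] at hu
      norm_num at hu
    refine ⟨j, rfl, (eq_one_or_neg_one_of_sq h2 hj4).resolve_left fun h => hjne ?_, ?_⟩
    · rcases eq_one_or_neg_one_of_sq h2 h with rfl | rfl
      · exact one_mem _
      · exact hneg
    · set z := j * C * j⁻¹ * C⁻¹ with hz
      have hzc : z ∈ center _ := (hmem z).1 (by
        have hcu' : π c₁ * π j = π j * π c₁ := hcu
        rw [hz, map_mul, map_mul, map_mul, map_inv, map_inv, hπC, ← hcu']; group)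
      have h1 : z ^ orderOf (π c₁) = 1 := by
        have hcomm : Commute z C := ((mem_center_iff.1 hzc C).symm : z * C = C * z)
        have e : (j * C * j⁻¹) ^ orderOf (π c₁) = 1 := by rw [conj_pow, hCm, mul_one, mul_inv_cancel]
        rw [show j * C * j⁻¹ = z * C by simp [hz], hcomm.mul_pow, hCm, mul_one] at e
        exact e
      have h2' : z = 1 := by
        rw [hk, pow_succ, pow_mul, sq, hcen z hzc, one_pow, one_mul] at h1
        exact h1
      have := mul_inv_eq_one.1 h2'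
      rw [mul_inv_eq_iff_eq_mul] at this
      exact this.symm
  obtain ⟨j, hjv, hj2, hjC⟩ := lift v hv hcv
  obtain ⟨j', hjv', hj2', hjC'⟩ := lift v' hv' hcv'
  -- trace zero
  have tr : ∀ i : SpecialLinearGroup (Fin 2) F, i * i = -1 → (i : Matrix (Fin 2) (Fin 2) F) 1 1 = -(i : Matrix (Fin 2) (Fin 2) F) 0 0 := by
    intro i hi
    have hi' : i⁻¹ = -i := inv_eq_of_mul_eq_one_right (by
      ext a b
      rw [Matrix.SpecialLinearGroup.coe_mul, Matrix.SpecialLinearGroup.coe_neg, mul_neg, ← Matrix.SpecialLinearGroup.coe_mul, hi,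
        Matrix.SpecialLinearGroup.coe_neg, neg_neg])
    have := congrArg (fun X : SpecialLinearGroup (Fin 2) F => (X : Matrix (Fin 2) (Fin 2) F) 0 0) hi'
    simpa [adjugate_fin_two] using this
  have hCne : ¬ ((C : Matrix (Fin 2) (Fin 2) F) 0 1 = 0 ∧ (C : Matrix (Fin 2) (Fin 2) F) 1 0 = 0 ∧
      (C : Matrix (Fin 2) (Fin 2) F) 0 0 = (C : Matrix (Fin 2) (Fin 2) F) 1 1) := by
    rintro ⟨hb, hc, ha⟩
    apply hc1
    show π c₁ = 1
    rw [← hπC, hmem, mem_center_iff]
    intro x
    have hC : (C : Matrix (Fin 2) (Fin 2) F) = (C : Matrix (Fin 2) (Fin 2) F) 0 0 • 1 := by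
      ext i l
      fin_cases i <;> fin_cases l <;> simp [hb, hc, ← ha]
    ext1
    rw [Matrix.SpecialLinearGroup.coe_mul, Matrix.SpecialLinearGroup.coe_mul, hC]
    simp
  have e1 := congrArg (fun X : SpecialLinearGroup (Fin 2) F => (X : Matrix (Fin 2) (Fin 2) F)) hjC
  have e2 := congrArg (fun X : SpecialLinearGroup (Fin 2) F => (X : Matrix (Fin 2) (Fin 2) F)) hjC'
  simp only [Matrix.SpecialLinearGroup.coe_mul] at e1 e2
  have t1 := tr j hj2
  have t2 := tr j' hj2'
  obtain ⟨p, hp⟩ : ∃ M, M = (C : Matrix (Fin 2) (Fin 2) F) := ⟨_, rfl⟩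
  obtain ⟨A, hA⟩ : ∃ M, M = (j : Matrix (Fin 2) (Fin 2) F) := ⟨_, rfl⟩
  obtain ⟨B, hB⟩ : ∃ M, M = (j' : Matrix (Fin 2) (Fin 2) F) := ⟨_, rfl⟩
  rw [← hp] at hCne e1 e2
  rw [← hA] at e1 t1
  rw [← hB] at e2 t2
  have mA : A 0 1 * p 1 0 = p 0 1 * A 1 0 ∧ 2 * A 0 0 * p 0 1 = A 0 1 * (p 0 0 - p 1 1) ∧
      2 * A 0 0 * p 1 0 = A 1 0 * (p 0 0 - p 1 1) := by
    have a := congrFun (congrFun e1 0) 0
    have b := congrFun (congrFun e1 0) 1
    have c := congrFun (congrFun e1 1) 0
    simp [Matrix.mul_apply, t1] at a b c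
    exact ⟨by linear_combination -a, by linear_combination -b, by linear_combination c⟩
  have mB : B 0 1 * p 1 0 = p 0 1 * B 1 0 ∧ 2 * B 0 0 * p 0 1 = B 0 1 * (p 0 0 - p 1 1) ∧
      2 * B 0 0 * p 1 0 = B 1 0 * (p 0 0 - p 1 1) := by
    have a := congrFun (congrFun e2 0) 0
    have b := congrFun (congrFun e2 0) 1
    have c := congrFun (congrFun e2 1) 0
    simp [Matrix.mul_apply, t2] at a b c
    exact ⟨by linear_combination -a, by linear_combination -b, by linear_combination c⟩
  have sA : A 0 0 ^ 2 + A 0 1 * A 1 0 = -1 := by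
    have := congrArg (fun X : SpecialLinearGroup (Fin 2) F => (X : Matrix (Fin 2) (Fin 2) F) 0 0) hj2
    simp [Matrix.SpecialLinearGroup.coe_mul, Matrix.mul_apply, ← hA] at this
    linear_combination this
  have sB : B 0 0 ^ 2 + B 0 1 * B 1 0 = -1 := by
    have := congrArg (fun X : SpecialLinearGroup (Fin 2) F => (X : Matrix (Fin 2) (Fin 2) F) 0 0) hj2'
    simp [Matrix.SpecialLinearGroup.coe_mul, Matrix.mul_apply, ← hB] at this
    linear_combination this
  -- both are multiples of the traceless part of `C`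
  obtain ⟨r, s, hA', hB'⟩ : ∃ r s : F, (A 0 0 = r * (p 0 0 - p 1 1) ∧ A 0 1 = r * (2 * p 0 1) ∧ A 1 0 = r * (2 * p 1 0)) ∧
      (B 0 0 = s * (p 0 0 - p 1 1) ∧ B 0 1 = s * (2 * p 0 1) ∧ B 1 0 = s * (2 * p 1 0)) := by
    obtain ⟨a1, a2, a3⟩ := mA
    obtain ⟨b1, b2, b3⟩ := mB
    by_cases h : p 0 1 = 0
    · by_cases h' : p 1 0 = 0
      · have hd : p 0 0 - p 1 1 ≠ 0 := sub_ne_zero.2 fun e => hCne ⟨h, h', e⟩
        refine ⟨A 0 0 / (p 0 0 - p 1 1), B 0 0 / (p 0 0 - p 1 1), ⟨?_, ?_, ?_⟩, ⟨?_, ?_, ?_⟩⟩ <;>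
          field_simp <;> simp only [h, h', mul_zero, zero_mul] at * <;>
            first
              | linear_combination -a2
              | linear_combination -a3
              | linear_combination -b2
              | linear_combination -b3
      · have hd : 2 * p 1 0 ≠ 0 := mul_ne_zero h2 h'
        refine ⟨A 1 0 / (2 * p 1 0), B 1 0 / (2 * p 1 0), ⟨?_, ?_, ?_⟩, ⟨?_, ?_, ?_⟩⟩ <;> field_simp <;>
          first
            | linear_combination a3
            | linear_combination 2 * a1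
            | linear_combination b3
            | linear_combination 2 * b1
            | linear_combination a1
            | linear_combination b1
    · have hd : 2 * p 0 1 ≠ 0 := mul_ne_zero h2 h
      refine ⟨A 0 1 / (2 * p 0 1), B 0 1 / (2 * p 0 1), ⟨?_, ?_, ?_⟩, ⟨?_, ?_, ?_⟩⟩ <;> field_simp <;>
        first
          | linear_combination a2
          | linear_combination -2 * a1
          | linear_combination b2
          | linear_combination -2 * b1
          | linear_combination -a1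
          | linear_combination -b1
  have hrs : r = s ∨ r = -s := by
    set N := (p 0 0 - p 1 1) ^ 2 + 4 * (p 0 1 * p 1 0)
    have ea : r ^ 2 * N = -1 := by rw [← sA, hA'.1, hA'.2.1, hA'.2.2]; ring
    have eb : s ^ 2 * N = -1 := by rw [← sB, hB'.1, hB'.2.1, hB'.2.2]; ring
    have hN : N ≠ 0 := fun h => by rw [h, mul_zero] at ea; norm_num at ea
    exact sq_eq_sq_iff_eq_or_eq_neg.1 (mul_right_cancel₀ hN (ea.trans eb.symm))
  have hjj : j = j' ∨ j = -j' := by
    rcases hrs with h | h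
    · left
      ext a b
      rw [← hA, ← hB]
      fin_cases a <;> fin_cases b <;> simp [hA'.1, hA'.2.1, hA'.2.2, hB'.1, hB'.2.1, hB'.2.2, t1, t2, h]
    · right
      ext a b
      rw [Matrix.SpecialLinearGroup.coe_neg, Matrix.neg_apply, ← hA, ← hB]
      fin_cases a <;> fin_cases b <;> simp [hA'.1, hA'.2.1, hA'.2.2, hB'.1, hB'.2.1, hB'.2.2, t1, t2, h]
  rcases hjj with h | h
  · rw [← hjv, ← hjv', h]
  · rw [← hjv, ← hjv', h, show -j' = -1 * j' by simp, map_mul, (hmem _).2 hneg, one_mul]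

theorem pronormal_PSL (w : ℕ) (hw : 1 ≤ w) (H : Subgroup (ProjectiveSpecialLinearGroup (Fin (2 ^ w)) F))
    (hH : Odd H.index) : Cfsg.IsPronormal H := by
  haveI := Fact.mk Nat.prime_two
  have hH2 : ¬ 2 ∣ H.index := fun h => Nat.not_even_iff_odd.2 hH (even_iff_two_dvd.2 h)
  set π := QuotientGroup.mk' (center (SpecialLinearGroup (Fin (2 ^ w)) F))
  have hπ : Function.Surjective π := QuotientGroup.mk'_surjective _
  have hback : (H.comap π).map π = H := map_comap_eq_self_of_surjective hπ H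
  have hidx : ¬ 2 ∣ (H.comap π).index := by rwa [index_comap_of_surjective _ hπ]
  by_cases hc : ringChar F = 2
  · haveI : CharP F 2 := by rw [← hc]; exact ringChar.charP F
    exact hback ▸ pronormal_map π hπ (pronormal_SL_two_power _ _ hidx)
  have hq : Odd (Fintype.card F) := by rw [Nat.odd_iff]; exact FiniteField.odd_card_of_char_ne_two hc
  by_cases hsmall : 2 ≤ w ∨ Fintype.card F % 8 = 1 ∨ Fintype.card F % 8 = 7
  · exact hback ▸ pronormal_map π hπ
      (pronormal_of_selfNormalizing (p := 2) _ (selfNormalizing_SL hq w hw hsmall) hidx)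
  · push Not at hsmall
    obtain rfl : w = 1 := by omega
    have h2 : (2 : F) ≠ 0 := Cfsg.Agent.H52.TwoBase.two_ne_zero_of_odd hq
    have hq8 : Fintype.card F % 8 = 3 ∨ Fintype.card F % 8 = 5 := by rw [Nat.odd_iff] at hq; omega
    exact Klein.pronormal
      (fun P => Cfsg.Agent.H27.QuaternionSylow.sylow_psl_klein (F := F) rfl hq8 P) (uniq_PSL h2) H hH2

end Cfsg.Agent.H52.PronormalLinear
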