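import Cfsg.Agent.H52.UnitaryTower

/-!
Subgroups of odd index of `PSU_{2^w}(q)` are pronormal.
-/

set_option autoImplicit false
set_option linter.style.haveILetI false
set_option linter.unusedFintypeInType false

namespace Cfsg.Agent.H52.PronormalUnitary

open Cfsg Matrix Cfsg.Agent.H52.TwoBlock Cfsg.Agent.Unitary
open scoped MatrixGroups

variable {F : Type*} [Field F] [Fintype F] {q : ℕ}

theorem selfNormalizing_SU (hF : Fintype.card F = q ^ 2) (hq : Odd q) (w : ℕ) (hw : 2 ≤ w)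
    (S : Sylow 2 (SU (2 ^ w) F q)) :
    Subgroup.normalizer ((S : Subgroup (SU (2 ^ w) F q)) : Set (SU (2 ^ w) F q)) ≤
      (S : Subgroup (SU (2 ^ w) F q)) := by
  haveI := Fact.mk Nat.prime_two
  haveI : Nonempty (Fin (2 ^ w)) := ⟨⟨0, Nat.two_pow_pos w⟩⟩
  set σ := (frob hF).toRingHom
  obtain ⟨T, hT, hle, hTc, hS⟩ := UnitaryTower.exists_core hF hq w (by omega)
  let f : SU (2 ^ w) F q →* GL (Fin (2 ^ w)) F := (SpecialLinearGroup.toGL).comp (SU (2 ^ w) F q).subtype
  have hinj : Function.Injective f := Cfsg.Agent.Linear.toGL_injective.comp Subtype.val_injective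
  have hrange : ∀ x, x ∈ Twist.UT σ → GeneralLinearGroup.det x = 1 → x ∈ f.range := by
    intro x hx hd
    refine ⟨⟨⟨(x : Matrix (Fin (2 ^ w)) (Fin (2 ^ w)) F), by
      rw [← GeneralLinearGroup.val_det_apply, hd, Units.val_one]⟩,
      (UnitaryTwoPSU.mem_UT_iff_preserves (g := x) hF).1 hx⟩, Units.ext rfl⟩
  set S₀ : Subgroup (SU (2 ^ w) F q) := (one1 T).comap f
  have hp₀ : IsPGroup 2 S₀ := (hT.two.to_le inf_le_left).comap_of_injective f hinj
  have hc₁ : Nat.card S₀ = Nat.card (one1 T) := by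
    rw [← Subgroup.card_map_of_injective hinj, Subgroup.map_comap_eq, inf_eq_right.2]
    intro x hx
    exact hrange x (hle hx.1) (MonoidHom.mem_ker.1 hx.2)
  have hc₂ : Nat.card T = Nat.card (one1 T) *
      Nat.card ((GeneralLinearGroup.det : GL (Fin (2 ^ w)) F →* Fˣ).domRestrict T).range := by
    rw [← Subgroup.index_ker, MonoidHom.ker_domRestrict,
      ← ((GeneralLinearGroup.det : GL (Fin (2 ^ w)) F →* Fˣ).ker.subgroupOf T).card_mul_index]
    congr 1
    rw [one1, ← Subgroup.card_map_of_injective T.subtype_injective, Subgroup.subgroupOf_map_subtype, inf_comm]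
  have hcard : Nat.card S₀ = 2 ^ (Nat.card (SU (2 ^ w) F q)).factorization 2 := by
    obtain ⟨e, he⟩ := IsPGroup.iff_card.1 hp₀
    set D := ((GeneralLinearGroup.det : GL (Fin (2 ^ w)) F →* Fˣ).domRestrict T).range
    have hr : IsPGroup 2 D := IsPGroup.of_surjective hT.two _ (MonoidHom.rangeRestrict_surjective _)
    obtain ⟨d, hd⟩ := IsPGroup.iff_card.1 hr
    have hDle : D ≤ (powMonoidHom (q + 1) : Fˣ →* Fˣ).ker := by
      rintro _ ⟨⟨t, ht⟩, rfl⟩
      rw [← detGU_range hF (Nat.two_pow_pos w)]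
      exact ⟨⟨t, (UnitaryTwoPSU.mem_UT_iff_preserves hF).1 (hle ht)⟩, rfl⟩
    have hd' : d ≤ (q + 1).factorization 2 := by
      refine (Nat.prime_two.pow_dvd_iff_le_factorization (show q + 1 ≠ 0 from Nat.succ_ne_zero q)).1 ?_
      rw [← hd, ← card_ker_pow hF]
      exact Subgroup.card_dvd_of_le hDle
    have he' : e ≤ (Nat.card (SU (2 ^ w) F q)).factorization 2 :=
      (Nat.prime_two.pow_dvd_iff_le_factorization Nat.card_pos.ne').1 (he ▸ Subgroup.card_subgroup_dvd_card _)
    rw [← hc₁, he, hd, hTc, ← pow_add, UnitaryBase.card_UT hF, card_GU_eq_mul_card_SU hF (Nat.two_pow_pos w),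
      Nat.factorization_mul (show q + 1 ≠ 0 from Nat.succ_ne_zero q) Nat.card_pos.ne', Finsupp.add_apply] at hc₂
    have := Nat.pow_right_injective (le_refl 2) hc₂
    rw [he]
    congr 1
    omega
  set Q : Sylow 2 (SU (2 ^ w) F q) := Sylow.ofCard S₀ hcard
  have hQ : (Q : Subgroup (SU (2 ^ w) F q)) = S₀ := rfl
  have hN : Subgroup.normalizer ((S₀ : Subgroup (SU (2 ^ w) F q)) : Set (SU (2 ^ w) F q)) ≤ S₀ := by
    have hodd : ∀ g ∈ Subgroup.normalizer ((S₀ : Subgroup (SU (2 ^ w) F q)) : Set (SU (2 ^ w) F q)),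
        Odd (orderOf g) → g = 1 := by
      intro g hg ho
      obtain ⟨c, hc⟩ := hS hw (f g) (by rwa [orderOf_injective f hinj]) fun t ht => by
        obtain ⟨s, rfl⟩ := hrange t (hle ht.1) (MonoidHom.mem_ker.1 ht.2)
        rw [← map_inv, ← map_mul, ← map_mul]
        exact (Subgroup.mem_normalizer_iff.1 hg s).1 ht
      have hc' : ((g : SpecialLinearGroup (Fin (2 ^ w)) F) : Matrix (Fin (2 ^ w)) (Fin (2 ^ w)) F) = c • 1 := hc
      have hdet := g.1.2
      rw [hc', det_smul, det_one, mul_one, Fintype.card_fin] at hdet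
      have h1 : g ^ 2 ^ w = 1 := hinj (by
        rw [map_pow, map_one]
        apply Units.ext
        rw [Units.val_pow_eq_pow_val, hc, smul_pow, one_pow, hdet, one_smul, Units.val_one])
      exact orderOf_eq_one_iff.1
        (Nat.eq_one_of_dvd_coprimes (ho.coprime_two_left.pow_left w) (orderOf_dvd_of_pow_eq_one h1) dvd_rfl)
    have hp : IsPGroup 2 (Subgroup.normalizer ((S₀ : Subgroup (SU (2 ^ w) F q)) : Set (SU (2 ^ w) F q))) := by
      rintro ⟨g, hg⟩
      obtain ⟨e, m, hm, he⟩ := Nat.exists_eq_two_pow_mul_odd (orderOf_pos g).ne'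
      refine ⟨e, Subtype.ext ?_⟩
      have ho : orderOf (g ^ 2 ^ e) = m := by
        rw [orderOf_pow_of_dvd (pow_ne_zero e two_ne_zero) (Dvd.intro m he.symm), he,
          Nat.mul_div_cancel_left _ (Nat.two_pow_pos e)]
      simpa using hodd _ (pow_mem hg _) (by rw [ho]; exact hm)
    exact le_of_eq (Q.3 hp (hQ ▸ Subgroup.le_normalizer))
  obtain ⟨x, rfl⟩ := MulAction.exists_smul_eq (SU (2 ^ w) F q) Q S
  intro m hm
  have h2 : x⁻¹ * m * x ∈ (Q : Subgroup (SU (2 ^ w) F q)) := by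
    refine hN ?_
    show x⁻¹ * m * x ∈ Subgroup.normalizer ((Q : Sylow 2 (SU (2 ^ w) F q)) : Set (SU (2 ^ w) F q))
    rw [← Sylow.smul_eq_iff_mem_normalizer, mul_smul, mul_smul, Sylow.smul_eq_iff_mem_normalizer.2 hm,
      inv_smul_smul]
  exact ⟨x⁻¹ * m * x, h2, by simp [mul_assoc]⟩

theorem pronormal_PSU (hF : Fintype.card F = q ^ 2) (w : ℕ) (hw : 2 ≤ w) (H : Subgroup (PSU (2 ^ w) F q))
    (hH : Odd H.index) : Cfsg.IsPronormal H := by
  haveI := Fact.mk Nat.prime_two
  have hH2 : ¬ 2 ∣ H.index := fun h => Nat.not_even_iff_odd.2 hH (even_iff_two_dvd.2 h)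
  set π := QuotientGroup.mk' (Subgroup.center (SU (2 ^ w) F q))
  have hπ : Function.Surjective π := QuotientGroup.mk'_surjective _
  have hback : (H.comap π).map π = H := Subgroup.map_comap_eq_self_of_surjective hπ H
  have hidx : ¬ 2 ∣ (H.comap π).index := by rwa [Subgroup.index_comap_of_surjective _ hπ]
  refine hback ▸ PronormalLinear.pronormal_map π hπ ?_
  rcases Nat.even_or_odd q with hq | hq
  · haveI : CharP F 2 := by
      obtain ⟨p, f, hp, hf, hc, rfl⟩ := exists_char_pow hF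
      have h2 : 2 ∣ p := Nat.prime_two.dvd_of_dvd_pow (even_iff_two_dvd.1 hq)
      rw [(Nat.prime_dvd_prime_iff_eq Nat.prime_two hp).1 h2]
      exact hc
    have key : ∀ (n m : ℕ), n = m + m → ∀ K : Subgroup (SU n F q), ¬ 2 ∣ K.index → Cfsg.IsPronormal K := by
      rintro n m rfl K hK
      exact UnitaryTwoPSU.pronormal_SU_two hF m K hK
    exact key (2 ^ w) (2 ^ (w - 1)) (by rw [← two_mul, ← pow_succ']; congr 1; omega) _ hidx
  · exact pronormal_of_selfNormalizing (p := 2) _ (selfNormalizing_SU hF hq w hw) hidx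

end Cfsg.Agent.H52.PronormalUnitary
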