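import Cfsg.Prelude.Def_PLocal
import Cfsg.Prelude.Def_LocalEven
import Cfsg.Agent.H58.Qd
import Cfsg.Agent.H58.Involve

/-!
A criterion for Qd-freeness: normalizers of nontrivial p-subgroups are p-closed.
-/

set_option autoImplicit false

namespace Cfsg.Agent.H52

universe u v w

theorem involves_of_surjective {H : Type u} [Group H] {G : Type v} [Group G] {G' : Type w} [Group G']
    (f : G →* G') (hf : Function.Surjective f) (h : Cfsg.Involves H G') : Cfsg.Involves H G := by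
  obtain ⟨K, φ, hφ⟩ := Cfsg.Agent.H58.Inv.exists_hom_of_involves h
  refine Cfsg.Agent.H58.Inv.involves_of_hom (K := K.comap f) (φ.comp (f.subgroupComap K)) (hφ.comp ?_)
  rintro ⟨y, hy⟩
  obtain ⟨x, rfl⟩ := hf y
  exact ⟨⟨x, hy⟩, rfl⟩

theorem not_involves_qd {G : Type*} [Group G] [Finite G] {p : ℕ} [Fact p.Prime]
    (h : ∀ Q : Subgroup G, IsPGroup p Q → Q ≠ ⊥ → ∀ x y : G,
      x ∈ Subgroup.normalizer (Q : Set G) → y ∈ Subgroup.normalizer (Q : Set G) →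
      (∃ k, x ^ p ^ k = 1) → (∃ k, y ^ p ^ k = 1) → ∃ k, (x * y) ^ p ^ k = 1) :
    ¬ Cfsg.Involves ↥(Cfsg.qd p) G := by
  intro hinv
  obtain ⟨K, φ0, hφ0⟩ := Cfsg.Agent.H58.Inv.exists_hom_of_involves hinv
  have heq : Cfsg.qd p = Cfsg.qdOver (ZMod p) := rfl
  let φ : ↥K →* ↥(Cfsg.qdOver (ZMod p)) := (MulEquiv.subgroupCongr heq).toMonoidHom.comp φ0
  have hφ : Function.Surjective φ := (MulEquiv.subgroupCongr heq).surjective.comp hφ0
  let f : ↥K →* Matrix.SpecialLinearGroup (Fin 2) (ZMod p) := Cfsg.Agent.H58.Qd.toSL2.comp φ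
  have hf : Function.Surjective f := fun A => by
    obtain ⟨k, hk⟩ := hφ (Cfsg.Agent.H58.Qd.mk A 0)
    exact ⟨k, by simp [f, hk, Cfsg.Agent.H58.Qd.toSL2_mk]⟩
  have hdvd : p ∣ Nat.card f.ker := by
    obtain ⟨k, hk⟩ := hφ (Cfsg.Agent.H58.Qd.mk 1 ![1, 0])
    have hne : φ k ≠ 1 := by
      rw [hk]
      intro e
      have e1 := congrArg (fun M => Cfsg.Agent.H58.Qd.ent M 0 2) e
      simp only [Cfsg.Agent.H58.Qd.ent_mk_02] at e1
      rw [← Cfsg.Agent.H58.Qd.mk_one, Cfsg.Agent.H58.Qd.ent_mk_02] at e1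
      simp at e1
    have hker : k ∈ f.ker := by simp [f, MonoidHom.mem_ker, hk, Cfsg.Agent.H58.Qd.toSL2_mk]
    obtain ⟨j, hj⟩ := Cfsg.Agent.H58.Qd.trans_isPGroup (F := ZMod p) (p := p)
      ⟨φ k, by simp [Cfsg.Agent.H58.Qd.trans, MonoidHom.mem_ker, hk, Cfsg.Agent.H58.Qd.toSL2_mk]⟩
    have hj' : (φ k) ^ p ^ j = 1 := congrArg Subtype.val hj
    obtain ⟨i, hi, hord⟩ := (Nat.dvd_prime_pow Fact.out).1 (orderOf_dvd_of_pow_eq_one hj')
    have hi0 : i ≠ 0 := fun e => hne (by rw [← orderOf_eq_one_iff, hord, e, pow_zero])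
    have h1 : p ∣ orderOf (φ k) := by rw [hord]; exact dvd_pow_self p hi0
    have h2 : orderOf (φ k) ∣ orderOf (⟨k, hker⟩ : f.ker) := by
      have h0 := orderOf_map_dvd φ k
      rwa [Subgroup.orderOf_mk k hker]
    exact (h1.trans h2).trans (orderOf_dvd_natCard _)
  obtain ⟨Q0⟩ : Nonempty (Sylow p f.ker) := inferInstance
  have hQ0 : (Q0 : Subgroup f.ker) ≠ ⊥ := Q0.ne_bot_of_dvd_card hdvd
  set QK : Subgroup ↥K := (Q0 : Subgroup f.ker).map f.ker.subtype with hQK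
  set Q : Subgroup G := QK.map K.subtype with hQ
  have hQp : IsPGroup p Q := (Q0.2.map _).map _
  have hQne : Q ≠ ⊥ := by
    rw [hQ, ne_eq, Subgroup.map_eq_bot_iff_of_injective _ K.subtype_injective, hQK,
      Subgroup.map_eq_bot_iff_of_injective _ f.ker.subtype_injective]
    exact hQ0
  have hfrat : Subgroup.normalizer (QK : Set ↥K) ⊔ f.ker = ⊤ := Q0.normalizer_sup_eq_top
  have hsurj : ∀ A, ∃ k ∈ Subgroup.normalizer (QK : Set ↥K), f k = A := by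
    intro A
    obtain ⟨k, rfl⟩ := hf A
    obtain ⟨n, hn, z, hz, rfl⟩ := Subgroup.mem_sup_of_normal_right.1 (hfrat ▸ Subgroup.mem_top k)
    exact ⟨n, hn, by rw [map_mul, show f z = 1 from hz, mul_one]⟩
  have hlift : ∀ A, (∃ k, A ^ p ^ k = 1) →
      ∃ x : ↥K, (x : G) ∈ Subgroup.normalizer (Q : Set G) ∧ (∃ k, x ^ p ^ k = 1) ∧ f x = A := by
    rintro A ⟨k, hA⟩
    obtain ⟨x, hx, rfl⟩ := hsurj A
    obtain ⟨a, m, hm, hox⟩ := Nat.exists_eq_pow_mul_and_not_dvd (n := orderOf x) (orderOf_pos x).ne' p (Fact.out : p.Prime).ne_one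
    obtain ⟨u, v, huv⟩ : ∃ u v : ℤ, (m : ℤ) * u + ((p : ℤ) ^ k) * v = 1 := by
      have hc : Int.gcd (m : ℤ) ((p : ℤ) ^ k) = 1 := by
        rw [show ((p : ℤ) ^ k) = ((p ^ k : ℕ) : ℤ) by push_cast; rfl, Int.gcd_natCast_natCast]
        exact Nat.Coprime.pow_right _ ((Fact.out : p.Prime).coprime_iff_not_dvd.2 hm).symm
      exact ⟨_, _, by rw [← Int.gcd_eq_gcd_ab, hc]; rfl⟩
    refine ⟨x ^ ((m : ℤ) * u), ?_, ⟨a, ?_⟩, ?_⟩
    · have h1 := zpow_mem hx ((m : ℤ) * u)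
      have h2 : K.subtype (x ^ ((m : ℤ) * u)) ∈ (Subgroup.normalizer (QK : Set ↥K)).map K.subtype :=
        Subgroup.mem_map_of_mem _ h1
      exact Subgroup.le_normalizer_map _ h2
    · rw [← zpow_natCast, ← zpow_mul, mul_comm (m : ℤ) u, mul_assoc, mul_comm u, zpow_mul, ← Nat.cast_mul,
        mul_comm m, ← hox, zpow_natCast, pow_orderOf_eq_one, one_zpow]
    · rw [map_zpow, show ((m : ℤ) * u) = 1 - ((p ^ k : ℕ) : ℤ) * v by push_cast; linarith, zpow_sub,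
        zpow_one, zpow_mul, zpow_natCast, hA, one_zpow, inv_one, mul_one]
  have hu : ∀ (A : Matrix.SpecialLinearGroup (Fin 2) (ZMod p)),
      ((A : Matrix (Fin 2) (Fin 2) (ZMod p)) - 1) ^ 2 = 0 → ∃ k, A ^ p ^ k = 1 := by
    intro A hA
    refine ⟨1, Subtype.ext ?_⟩
    rw [pow_one, Matrix.SpecialLinearGroup.coe_pow, Matrix.SpecialLinearGroup.coe_one]
    have h1 : ((A : Matrix (Fin 2) (Fin 2) (ZMod p)) - 1) ^ p = 0 :=
      pow_eq_zero_of_le (Fact.out : p.Prime).two_le hA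
    rwa [sub_pow_char_of_commute (R := Matrix (Fin 2) (Fin 2) (ZMod p)) p (Commute.one_right _), one_pow,
      sub_eq_zero] at h1
  obtain ⟨x, hxN, ⟨a, hx⟩, hxA⟩ := hlift (Cfsg.Agent.H58.Qd.upper (1 : ZMod p)) (hu _ (by
    rw [Cfsg.Agent.H58.Qd.upper_coe, pow_two]; ext i j; fin_cases i <;> fin_cases j <;> simp [Matrix.mul_apply, Fin.sum_univ_two]))
  obtain ⟨y, hyN, ⟨b, hy⟩, hyA⟩ := hlift (Cfsg.Agent.H58.Qd.lower (1 : ZMod p)) (hu _ (by
    rw [Cfsg.Agent.H58.Qd.lower_coe, pow_two]; ext i j; fin_cases i <;> fin_cases j <;> simp [Matrix.mul_apply, Fin.sum_univ_two]))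
  obtain ⟨c, hc⟩ := h Q hQp hQne x y hxN hyN ⟨a, congrArg Subtype.val hx⟩ ⟨b, congrArg Subtype.val hy⟩
  have hc' : (x * y) ^ p ^ c = 1 := Subtype.ext hc
  have h3 := congrArg f hc'
  rw [map_pow, map_mul, hxA, hyA, map_one] at h3
  have h4 := congrArg (fun M : Matrix.SpecialLinearGroup (Fin 2) (ZMod p) => (M : Matrix (Fin 2) (Fin 2) (ZMod p))) h3
  simp only [Matrix.SpecialLinearGroup.coe_pow, Matrix.SpecialLinearGroup.coe_one, Matrix.SpecialLinearGroup.coe_mul] at h4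
  have h5 : ((Cfsg.Agent.H58.Qd.upper (1 : ZMod p) : Matrix.SpecialLinearGroup (Fin 2) (ZMod p)).1 *
      (Cfsg.Agent.H58.Qd.lower (1 : ZMod p) : Matrix.SpecialLinearGroup (Fin 2) (ZMod p)).1 - 1) ^ p ^ c = 0 := by
    rw [sub_pow_char_pow_of_commute (R := Matrix (Fin 2) (Fin 2) (ZMod p)) p c (Commute.one_right _), one_pow, h4, sub_self]
  have h6 := congrArg Matrix.det h5
  rw [Matrix.det_pow, Matrix.det_zero, Cfsg.Agent.H58.Qd.upper_coe, Cfsg.Agent.H58.Qd.lower_coe] at h6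
  have h7 := eq_zero_of_pow_eq_zero h6
  simp [Matrix.det_fin_two, Matrix.mul_apply, Fin.sum_univ_two] at h7

end Cfsg.Agent.H52
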