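import Cfsg.Agent.H52.QdFree
import Cfsg.Prelude.Def_Classical

/-!
Qd-freeness of two-dimensional linear and three-dimensional unitary groups.
-/

set_option autoImplicit false

namespace Cfsg.Agent.H52

open Matrix

theorem not_involves_qd_linear {G : Type*} [Group G] [Finite G] {p : ℕ} [Fact p.Prime]
    {ι : Type} [Fintype ι] [DecidableEq ι] {K : Type*} [Field K] [CharP K p]
    (ρ : G →* Matrix ι ι K) (hρ : Function.Injective ρ) (Iso : (ι → K) → Prop)
    (hIso : ∀ g v, Iso v → Iso (ρ g *ᵥ v))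
    (h1 : ∀ x, x ≠ 1 → (∃ k, x ^ p ^ k = 1) → ∃ v, v ≠ 0 ∧ Iso v ∧ ρ x *ᵥ v = v)
    (h2 : ∀ x v w, x ≠ 1 → v ≠ 0 → w ≠ 0 → Iso v → Iso w → ρ x *ᵥ v = v → ρ x *ᵥ w = w →
      ∃ c : K, w = c • v)
    (h3 : ∀ g v, v ≠ 0 → Iso v → ρ g *ᵥ v = v → ∃ D : ℕ, (ρ g - 1) ^ D = 0) :
    ¬ Cfsg.Involves ↥(Cfsg.qd p) G := by
  refine not_involves_qd fun Q hQ hQne x y hx hy hxp hyp => ?_
  haveI : Nontrivial Q := (Subgroup.nontrivial_iff_ne_bot Q).2 hQne
  haveI := hQ.center_nontrivial
  obtain ⟨z, hz1⟩ := exists_ne (1 : Subgroup.center Q)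
  have hzG : ((z : Q) : G) ≠ 1 := fun e => hz1 (Subtype.ext (Subtype.ext e))
  obtain ⟨j, hj⟩ := hQ (z : Q)
  obtain ⟨v, hv, hvI, hvz⟩ := h1 _ hzG ⟨j, congrArg Subtype.val hj⟩
  have haux : ∀ (g : G) (u : G), (∃ k, g ^ p ^ k = 1) → u ≠ 1 → ρ u *ᵥ v = v →
      ρ u *ᵥ (ρ g *ᵥ v) = ρ g *ᵥ v → ρ g *ᵥ v = v := by
    rintro g u ⟨k, hk⟩ hu huv hugv
    have hgv : ρ g *ᵥ v ≠ 0 := fun e => hv (by
      calc v = ρ (g⁻¹ * g) *ᵥ v := by simp
        _ = 0 := by rw [map_mul, ← Matrix.mulVec_mulVec, e, Matrix.mulVec_zero])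
    obtain ⟨c, hc⟩ := h2 u v _ hu hv hgv hvI (hIso g v hvI) huv hugv
    have hn : ∀ i : ℕ, ρ (g ^ i) *ᵥ v = c ^ i • v := by
      intro i
      induction i with
      | zero => simp
      | succ i ih =>
        rw [pow_succ', map_mul, ← Matrix.mulVec_mulVec, ih, Matrix.mulVec_smul, hc, smul_smul, ← pow_succ]
    have h5 := hn (p ^ k)
    rw [hk, map_one, Matrix.one_mulVec] at h5
    have h6 : (c ^ p ^ k - 1) • v = 0 := by rw [sub_smul, one_smul, ← h5, sub_self]
    rw [smul_eq_zero, or_iff_left hv, ← one_pow (p ^ k), ← sub_pow_char_pow] at h6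
    rw [hc, show c = 1 from sub_eq_zero.1 (eq_zero_of_pow_eq_zero h6), one_smul]
  have hQv : ∀ w : Q, ρ (w : G) *ᵥ v = v := by
    intro w
    obtain ⟨i, hi⟩ := hQ w
    refine haux _ _ ⟨i, congrArg Subtype.val hi⟩ hzG hvz ?_
    have hc := congrArg Subtype.val ((Subgroup.mem_center_iff.1 z.2) w)
    simp only [Subgroup.coe_mul] at hc
    rw [Matrix.mulVec_mulVec, ← map_mul, ← hc, map_mul, ← Matrix.mulVec_mulVec, hvz]
  have hfix : ∀ g ∈ Subgroup.normalizer (Q : Set G), (∃ k, g ^ p ^ k = 1) → ρ g *ᵥ v = v := by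
    intro g hg hgp
    refine haux g ((z : Q) : G) hgp hzG hvz ?_
    have hm : g⁻¹ * ((z : Q) : G) * g ∈ Q := (Subgroup.mem_normalizer_iff''.1 hg _).1 (z : Q).2
    calc ρ ((z : Q) : G) *ᵥ (ρ g *ᵥ v) = ρ g *ᵥ (ρ (g⁻¹ * ((z : Q) : G) * g) *ᵥ v) := by
          rw [Matrix.mulVec_mulVec, Matrix.mulVec_mulVec, ← map_mul, ← map_mul]; congr 2; group
      _ = ρ g *ᵥ v := by rw [hQv ⟨_, hm⟩]
  have hxy : ρ (x * y) *ᵥ v = v := by
    rw [map_mul, ← Matrix.mulVec_mulVec, hfix y hy hyp, hfix x hx hxp]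
  obtain ⟨D, hD⟩ := h3 (x * y) v hv hvI hxy
  obtain ⟨k, hk⟩ : ∃ k, D ≤ p ^ k := ⟨D, (Nat.lt_pow_self (Fact.out : p.Prime).one_lt).le⟩
  refine ⟨k, hρ ?_⟩
  rw [map_one, map_pow]
  rcases isEmpty_or_nonempty ι with hι | hι
  · exact Subsingleton.elim _ _
  have h4 := pow_eq_zero_of_le hk hD
  rwa [sub_pow_char_pow_of_commute (R := Matrix ι ι K) p k (Commute.one_right _), one_pow, sub_eq_zero] at h4

/-- A matrix of `p`-power order fixes a nonzero vector in every invariant kernel. -/
theorem exists_fixed_of_unipotent {ι : Type} [Fintype ι] [DecidableEq ι] {K : Type*} [Field K]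
    {p : ℕ} [Fact p.Prime] [CharP K p] (A : Matrix ι ι K) (k : ℕ) (hA : A ^ p ^ k = 1)
    (W : Submodule K (ι → K)) (hW : ∀ w ∈ W, A *ᵥ w ∈ W) (hne : W ≠ ⊥) :
    ∃ v ∈ W, v ≠ 0 ∧ A *ᵥ v = v := by
  obtain ⟨w, hw, hw0⟩ := Submodule.exists_mem_ne_zero_of_ne_bot hne
  haveI : Nonempty ι := by
    by_contra h
    rw [not_nonempty_iff] at h
    exact hw0 (Subsingleton.elim _ _)
  have hnil : (A - 1) ^ p ^ k = 0 := by
    rw [sub_pow_char_pow_of_commute (R := Matrix ι ι K) p k (Commute.one_right _), one_pow, hA, sub_self]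
  classical
  have hex : ∃ i, (A - 1) ^ i *ᵥ w = 0 := ⟨p ^ k, by rw [hnil, Matrix.zero_mulVec]⟩
  have hspec := Nat.find_spec hex
  have hmem : ∀ i, (A - 1) ^ i *ᵥ w ∈ W := by
    intro i
    induction i with
    | zero => simpa using hw
    | succ i ih =>
      rw [pow_succ', ← Matrix.mulVec_mulVec, Matrix.sub_mulVec, Matrix.one_mulVec]
      exact W.sub_mem (hW _ ih) ih
  obtain ⟨i, hi⟩ : ∃ i, Nat.find hex = i + 1 := by
    refine Nat.exists_eq_succ_of_ne_zero fun e => hw0 ?_
    rw [e, pow_zero, Matrix.one_mulVec] at hspec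
    exact hspec
  refine ⟨(A - 1) ^ i *ᵥ w, hmem i, Nat.find_min hex (by omega), ?_⟩
  rw [hi, pow_succ', ← Matrix.mulVec_mulVec, Matrix.sub_mulVec, Matrix.one_mulVec, sub_eq_zero] at hspec
  exact hspec

theorem not_involves_qd_sl2 {p : ℕ} [Fact p.Prime] {K : Type*} [Field K] [Fintype K] [CharP K p] :
    ¬ Cfsg.Involves ↥(Cfsg.qd p) (Matrix.SpecialLinearGroup (Fin 2) K) := by
  classical
  refine not_involves_qd_linear (Cfsg.slToMat 2 K) (fun a b h => Subtype.ext h) (fun _ => True)
    (fun _ _ _ => trivial) ?_ ?_ ?_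
  · rintro x - ⟨k, hk⟩
    obtain ⟨v, -, hv, hxv⟩ := exists_fixed_of_unipotent (Cfsg.slToMat 2 K x) k (by rw [← map_pow, hk, map_one])
      ⊤ (fun _ _ => trivial) top_ne_bot
    exact ⟨v, hv, trivial, hxv⟩
  · intro x v w hx hv hw _ _ hxv hxw
    by_contra hc
    simp only [not_exists] at hc
    have hli : LinearIndependent K ![v, w] := by
      rw [LinearIndependent.pair_iff' hv]
      exact fun a h => hc a h.symm
    let b := basisOfLinearIndependentOfCardEqFinrank hli (by simp)
    refine hx (Subtype.ext (Matrix.toLin'.injective (b.ext fun i => ?_)))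
    rw [Matrix.toLin'_apply, Matrix.SpecialLinearGroup.coe_one, Matrix.toLin'_apply, Matrix.one_mulVec]
    have hb : ∀ i, b i = ![v, w] i := fun i => congrFun (coe_basisOfLinearIndependentOfCardEqFinrank hli (by simp)) i
    rw [hb]
    fin_cases i
    · exact hxv
    · exact hxw
  · intro g v hv _ hgv
    refine ⟨2, ?_⟩
    set N : Matrix (Fin 2) (Fin 2) K := Cfsg.slToMat 2 K g - 1 with hN
    have hNv : N *ᵥ v = 0 := by rw [hN, Matrix.sub_mulVec, hgv, Matrix.one_mulVec, sub_self]
    have hdet : N.det = 0 := Matrix.exists_mulVec_eq_zero_iff.1 ⟨v, hv, hNv⟩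
    have h1 : (Cfsg.slToMat 2 K g).det = 1 := g.2
    have hg' : Cfsg.slToMat 2 K g = N + 1 := by rw [hN, sub_add_cancel]
    rw [hg'] at h1
    rw [Matrix.det_fin_two] at hdet h1
    simp only [Matrix.add_apply, Matrix.one_apply_eq, Matrix.one_apply_ne (show (0 : Fin 2) ≠ 1 by decide),
      Matrix.one_apply_ne (show (1 : Fin 2) ≠ 0 by decide), add_zero] at h1
    have htr : N 0 0 + N 1 1 = 0 := by linear_combination h1 - hdet
    rw [pow_two]
    ext i j
    fin_cases i <;> fin_cases j <;> simp [Matrix.mul_apply, Fin.sum_univ_two]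
    · linear_combination (N 0 0) * htr - hdet
    · linear_combination (N 0 1) * htr
    · linear_combination (N 1 0) * htr
    · linear_combination (N 1 1) * htr - hdet

/-! ### The unitary group of dimension three -/

variable {K : Type*} [Field K]

theorem det_eq_of_eigen {c : K} {v w u : Fin 3 → K} (A : Matrix (Fin 3) (Fin 3) K)
    (hli : LinearIndependent K ![v, w, u]) (t s r : K) (h0 : A *ᵥ v = v) (h1 : A *ᵥ w = t • v + c • w)
    (h2 : A *ᵥ u = s • v + r • w + u) : A.det = c ∧ (c = 1 → (A - 1) ^ 3 = 0) ∧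
      (c = 1 → t = 0 → s = 0 → r = 0 → A = 1) := by
  set B : Matrix (Fin 3) (Fin 3) K := Matrix.of fun i j => ![v, w, u] j i with hB
  have hBu : IsUnit B := by
    rw [← Matrix.linearIndependent_cols_iff_isUnit]
    exact hli
  set T : Matrix (Fin 3) (Fin 3) K := !![1, t, s; 0, c, r; 0, 0, 1] with hT
  have hAB : A * B = B * T := by
    ext i j
    have e : (A * B) i j = (A *ᵥ (![v, w, u] j)) i := rfl
    rw [e, Matrix.mul_apply, Fin.sum_univ_three]
    fin_cases j <;> simp [hB, hT, h0, h1, h2] <;> ring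
  obtain ⟨U, hU⟩ := hBu
  have hA : A = (U : Matrix (Fin 3) (Fin 3) K) * T * (↑U⁻¹ : Matrix (Fin 3) (Fin 3) K) := by
    rw [hU, ← hAB, ← hU, mul_assoc, Units.mul_inv, mul_one]
  refine ⟨?_, ?_, ?_⟩
  · rw [hA, Matrix.det_units_conj, hT, Matrix.det_fin_three]
    simp
  · rintro rfl
    have hT3 : (T - 1) ^ 3 = 0 := by
      rw [pow_succ, pow_two]
      ext i j
      fin_cases i <;> fin_cases j <;> simp [hT, Matrix.mul_apply, Fin.sum_univ_three]
    have hA1 : A - 1 = (U : Matrix (Fin 3) (Fin 3) K) * (T - 1) * (↑U⁻¹ : Matrix (Fin 3) (Fin 3) K) := by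
      rw [mul_sub, sub_mul, ← hA, mul_one, Units.mul_inv]
    rw [hA1, Units.conj_pow, hT3, mul_zero, zero_mul]
  · rintro rfl rfl rfl rfl
    have hT1 : T = 1 := by
      ext i j
      fin_cases i <;> fin_cases j <;> simp [hT]
    rw [hA, hT1, mul_one, Units.mul_inv]

theorem not_involves_qd_su3 {p : ℕ} [Fact p.Prime] [Fintype K] [CharP K p] (n : ℕ)
    (hK : Fintype.card K = (p ^ n) ^ 2) :
    ¬ Cfsg.Involves ↥(Cfsg.qd p) (Cfsg.SU 3 K (p ^ n)) := by
  classical
  set q : ℕ := p ^ n with hq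
  have hqpos : q ≠ 0 := pow_ne_zero _ (Fact.out : p.Prime).ne_zero
  set h := Cfsg.hermForm 3 K q with hh
  have hadd1 : ∀ u u' v, h (u + u') v = h u v + h u' v := fun u u' v => by
    simp [hh, Cfsg.hermForm, add_mul, Finset.sum_add_distrib]
  have hsm1 : ∀ (a : K) u v, h (a • u) v = a * h u v := fun a u v => by
    simp [hh, Cfsg.hermForm, Finset.mul_sum, mul_assoc]
  have hsw : ∀ u v, h v u = (h u v) ^ q := by
    intro u v
    simp only [hh, Cfsg.hermForm]
    rw [hq, sum_pow_char_pow]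
    refine Finset.sum_congr rfl fun i _ => ?_
    rw [← hq, mul_pow, ← pow_mul, ← pow_two, ← hK, FiniteField.pow_card, mul_comm]
  have h0 : ∀ u v, h u v = 0 ↔ h v u = 0 := fun u v => by
    rw [hsw u v, pow_eq_zero_iff hqpos]
  have hnd : ∀ v : Fin 3 → K, v ≠ 0 → ∃ u, h u v ≠ 0 := by
    intro v hv
    obtain ⟨i, hi⟩ := Function.ne_iff.1 hv
    refine ⟨Pi.single i 1, ?_⟩
    simp only [hh, Cfsg.hermForm]
    rw [Finset.sum_eq_single i (fun j _ hj => by simp [hj]) (by simp)]
    simpa [hqpos] using hi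
  let φ : (Fin 3 → K) → ((Fin 3 → K) →ₗ[K] K) := fun v =>
    { toFun := fun u => h u v, map_add' := fun u u' => hadd1 u u' v, map_smul' := fun a u => hsm1 a u v }
  set ρ : (Cfsg.SU 3 K q) →* Matrix (Fin 3) (Fin 3) K := (Cfsg.slToMat 3 K).comp (Cfsg.SU 3 K q).subtype with hρ
  have hpres : ∀ g u v, h (ρ g *ᵥ u) (ρ g *ᵥ v) = h u v := fun g u v => g.2 u v
  have hdet : ∀ g, (ρ g).det = 1 := fun g => (g : Matrix.SpecialLinearGroup (Fin 3) K).2
  have hperp : ∀ g a, ρ g *ᵥ a = a → ∀ u, h u a = 0 → h (ρ g *ᵥ u) a = 0 := by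
    intro g a ha u hu
    have h5 := hpres g u a
    rw [ha] at h5
    rwa [h5]
  have third : ∀ v w : Fin 3 → K, ∃ u, u ≠ 0 ∧ h u v = 0 ∧ h u w = 0 := by
    intro v w
    have hker : LinearMap.ker ((φ v).prod (φ w)) ≠ ⊥ := LinearMap.ker_ne_bot_of_finrank_lt (by simp)
    obtain ⟨u, hu, hu0⟩ := Submodule.exists_mem_ne_zero_of_ne_bot hker
    simp [φ] at hu
    exact ⟨u, hu0, hu.1, hu.2⟩
  -- two fixed vectors spanning a nondegenerate plane
  have plane : ∀ g v w, ρ g *ᵥ v = v → ρ g *ᵥ w = w → h v v * h w w - h v w * h w v ≠ 0 → g = 1 := by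
    intro g v w hgv hgw hgram
    have key : ∀ s t : K, s * h v v + t * h w v = 0 → s * h v w + t * h w w = 0 → s = 0 ∧ t = 0 := by
      intro s t e1 e2
      constructor
      · exact (mul_eq_zero.1 (show s * (h v v * h w w - h v w * h w v) = 0 by
          linear_combination (h w w) * e1 - (h w v) * e2)).resolve_right hgram
      · exact (mul_eq_zero.1 (show t * (h v v * h w w - h v w * h w v) = 0 by
          linear_combination (h v v) * e2 - (h v w) * e1)).resolve_right hgram
    obtain ⟨u, hu0, huv, huw⟩ := third v w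
    have hli : LinearIndependent K ![v, w, u] := by
      rw [Fintype.linearIndependent_iff]
      intro f hf
      simp only [Fin.sum_univ_three, Matrix.cons_val_zero, Matrix.cons_val_one, Matrix.cons_val_two] at hf
      have e1 := congrArg (φ v) hf
      have e2 := congrArg (φ w) hf
      simp [φ, hadd1, hsm1, huv, huw] at e1 e2
      have hz : h 0 v = 0 ∧ h 0 w = 0 := ⟨(φ v).map_zero, (φ w).map_zero⟩
      rw [hz.1] at e1
      rw [hz.2] at e2
      obtain ⟨ha, hb⟩ := key _ _ e1 e2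
      simp [ha, hb] at hf
      intro i
      fin_cases i
      · exact ha
      · exact hb
      · exact hf.resolve_right hu0
    let b := basisOfLinearIndependentOfCardEqFinrank hli (by simp)
    have hb : ∀ i, b i = ![v, w, u] i := fun i => congrFun (coe_basisOfLinearIndependentOfCardEqFinrank hli (by simp)) i
    have hexp := b.sum_repr (ρ g *ᵥ u)
    simp only [Fin.sum_univ_three, hb] at hexp
    set s0 := b.repr (ρ g *ᵥ u) 0
    set t0 := b.repr (ρ g *ᵥ u) 1
    set c0 := b.repr (ρ g *ᵥ u) 2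
    simp only [Matrix.cons_val_zero, Matrix.cons_val_one, Matrix.cons_val_two, Matrix.tail_cons, Matrix.head_cons] at hexp
    have e1 := hperp g v hgv u huv
    have e2 := hperp g w hgw u huw
    rw [← hexp, hadd1, hadd1, hsm1, hsm1, hsm1, huv, mul_zero, add_zero] at e1
    rw [← hexp, hadd1, hadd1, hsm1, hsm1, hsm1, huw, mul_zero, add_zero] at e2
    obtain ⟨hs, ht⟩ := key _ _ e1 e2
    rw [hs, ht, zero_smul, zero_smul, zero_add, zero_add] at hexp
    have hli2 : LinearIndependent K ![v, u, w] := by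
      have h6 := hli.comp ![0, 2, 1] (by decide)
      have h7 : ![v, w, u] ∘ ![0, 2, 1] = ![v, u, w] := by funext i; fin_cases i <;> rfl
      rwa [h7] at h6
    obtain ⟨hd, -, hone⟩ := det_eq_of_eigen (c := c0) (ρ g) hli2 0 0 0 hgv
      (by rw [← hexp, zero_smul, zero_add]) (by rw [hgw, zero_smul, zero_smul, zero_add, zero_add])
    exact Subtype.ext (Subtype.ext (hone ((hd.symm.trans (hdet g))) rfl rfl rfl))
  refine not_involves_qd_linear ρ (fun a b e => Subtype.ext (Subtype.ext e)) (fun v => h v v = 0)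
    (fun g v hv => (hpres g v v).trans hv) ?_ ?_ ?_
  · rintro x hx ⟨k, hk⟩
    have hA : ρ x ^ p ^ k = 1 := by rw [← map_pow, hk, map_one]
    obtain ⟨a, -, ha0, hxa⟩ := exists_fixed_of_unipotent (ρ x) k hA ⊤ (fun _ _ => trivial) top_ne_bot
    by_cases haa : h a a = 0
    · exact ⟨a, ha0, haa, hxa⟩
    · have hker : LinearMap.ker (φ a) ≠ ⊥ := LinearMap.ker_ne_bot_of_finrank_lt (by simp)
      obtain ⟨b, hb, hb0, hxb⟩ := exists_fixed_of_unipotent (ρ x) k hA (LinearMap.ker (φ a))
        (fun u hu => hperp x a hxa u hu) hker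
      have hba : h b a = 0 := hb
      by_cases hbb : h b b = 0
      · exact ⟨b, hb0, hbb, hxb⟩
      · refine absurd (plane x a b hxa hxb ?_) hx
        rw [(h0 a b).2 hba, zero_mul, sub_zero]
        exact mul_ne_zero haa hbb
  · intro x v w hx hv hw hvv hww hxv hxw
    by_contra hc
    simp only [not_exists] at hc
    by_cases hvw : h v w = 0
    · -- a totally isotropic plane would be its own orthogonal
      obtain ⟨a, ha⟩ := hnd v hv
      obtain ⟨u, hu0, huv, hua⟩ := third v a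
      -- coordinates of w in the basis v, u, a
      have hli : LinearIndependent K ![v, u, a] := by
        rw [Fintype.linearIndependent_iff]
        intro f hf
        simp only [Fin.sum_univ_three, Matrix.cons_val_zero, Matrix.cons_val_one, Matrix.cons_val_two, Matrix.tail_cons, Matrix.head_cons] at hf
        have e1 := congrArg (φ v) hf
        simp [φ, hadd1, hsm1, hvv, huv, (φ v).map_zero] at e1
        have hz1 : h 0 v = 0 := (φ v).map_zero
        have hf2 : f 2 = 0 := by simpa [hz1, ha] using e1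
        rw [hf2, zero_smul, add_zero] at hf
        have e2 := congrArg (φ a) hf
        have hz2 : h 0 a = 0 := (φ a).map_zero
        have hva : h v a ≠ 0 := fun e => ha ((h0 a v).2 e)
        have hf0 : f 0 = 0 := by simpa [φ, hadd1, hsm1, hua, hz2, hva] using e2
        rw [hf0, zero_smul, zero_add] at hf
        intro i
        fin_cases i
        · exact hf0
        · exact (smul_eq_zero.1 hf).resolve_right hu0
        · exact hf2
      let b := basisOfLinearIndependentOfCardEqFinrank hli (by simp)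
      have hb : ∀ i, b i = ![v, u, a] i := fun i => congrFun (coe_basisOfLinearIndependentOfCardEqFinrank hli (by simp)) i
      have hexp := b.sum_repr w
      simp only [Fin.sum_univ_three, hb, Matrix.cons_val_zero, Matrix.cons_val_one, Matrix.cons_val_two, Matrix.tail_cons, Matrix.head_cons] at hexp
      set r0 := b.repr w 0
      set r1 := b.repr w 1
      set r2 := b.repr w 2
      have e1 : h w v = 0 := (h0 w v).2 hvw
      rw [← hexp, hadd1, hadd1, hsm1, hsm1, hsm1, hvv, huv, mul_zero, mul_zero, zero_add, zero_add] at e1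
      have hr2 : r2 = 0 := (mul_eq_zero.1 e1).resolve_right ha
      rw [hr2, zero_smul, add_zero] at hexp
      by_cases hr1 : r1 = 0
      · rw [hr1, zero_smul, add_zero] at hexp
        exact hc r0 hexp.symm
      · -- then u is isotropic and orthogonal to everything
        have e3 : h u w = 0 := by
          have e4 : h w w = r1 * h u w := by
            conv_lhs => rw [← hexp]
            rw [hexp, ← hexp, hadd1, hsm1, hsm1, hexp, hvw, mul_zero, zero_add]
          rw [hww] at e4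
          exact (mul_eq_zero.1 e4.symm).resolve_left hr1
        have e5 : h u u = 0 := by
          have e6 : h w u = r0 * h v u + r1 * h u u := by rw [← hexp, hadd1, hsm1, hsm1]
          rw [(h0 w u).2 e3, (h0 v u).2 huv, mul_zero, zero_add] at e6
          exact (mul_eq_zero.1 e6.symm).resolve_left hr1
        obtain ⟨z, hz⟩ := hnd u hu0
        apply hz
        rw [← b.sum_repr z]
        simp [Fin.sum_univ_three, hb, hadd1, hsm1, (h0 v u).2 huv, e5, (h0 a u).2 hua]
    · refine hx (plane x v w hxv hxw ?_)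
      rw [hvv, zero_mul, zero_sub, neg_ne_zero]
      exact mul_ne_zero hvw (fun e => hvw ((h0 v w).2 e))
  · intro g v hv hvv hgv
    refine ⟨3, ?_⟩
    obtain ⟨a, ha⟩ := hnd v hv
    obtain ⟨u, hu0, huv, hua⟩ := third v a
    have hva : h v a ≠ 0 := fun e => ha ((h0 a v).2 e)
    have hli : LinearIndependent K ![v, u, a] := by
      rw [Fintype.linearIndependent_iff]
      intro f hf
      simp only [Fin.sum_univ_three, Matrix.cons_val_zero, Matrix.cons_val_one, Matrix.cons_val_two, Matrix.tail_cons, Matrix.head_cons] at hf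
      have hz1 : h 0 v = 0 := (φ v).map_zero
      have hz2 : h 0 a = 0 := (φ a).map_zero
      have e1 := congrArg (φ v) hf
      have hf2 : f 2 = 0 := by simpa [φ, hadd1, hsm1, hvv, huv, hz1, ha] using e1
      rw [hf2, zero_smul, add_zero] at hf
      have e2 := congrArg (φ a) hf
      have hf0 : f 0 = 0 := by simpa [φ, hadd1, hsm1, hua, hz2, hva] using e2
      rw [hf0, zero_smul, zero_add] at hf
      intro i
      fin_cases i
      · exact hf0
      · exact (smul_eq_zero.1 hf).resolve_right hu0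
      · exact hf2
    let b := basisOfLinearIndependentOfCardEqFinrank hli (by simp)
    have hb : ∀ i, b i = ![v, u, a] i := fun i => congrFun (coe_basisOfLinearIndependentOfCardEqFinrank hli (by simp)) i
    have hexp : ∀ x, b.repr x 0 • v + b.repr x 1 • u + b.repr x 2 • a = x := by
      intro x
      have := b.sum_repr x
      simpa only [Fin.sum_univ_three, hb, Matrix.cons_val_zero, Matrix.cons_val_one, Matrix.cons_val_two, Matrix.tail_cons, Matrix.head_cons] using this
    have hcoef : ∀ x, h x v = b.repr x 2 * h a v := by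
      intro x
      conv_lhs => rw [← hexp x]
      rw [hadd1, hadd1, hsm1, hsm1, hsm1, hvv, huv, mul_zero, mul_zero, zero_add, zero_add]
    have hu2 : b.repr (ρ g *ᵥ u) 2 = 0 := by
      have := hcoef (ρ g *ᵥ u)
      rw [hperp g v hgv u huv] at this
      exact (mul_eq_zero.1 this.symm).resolve_right ha
    have ha2 : b.repr (ρ g *ᵥ a) 2 = 1 := by
      have h8 := hcoef (ρ g *ᵥ a)
      have h9 := hpres g a v
      rw [hgv] at h9
      rw [h9] at h8
      exact mul_right_cancel₀ ha (by rw [← h8, one_mul])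
    obtain ⟨hd, hnil, -⟩ := det_eq_of_eigen (c := b.repr (ρ g *ᵥ u) 1) (ρ g) hli
      (b.repr (ρ g *ᵥ u) 0) (b.repr (ρ g *ᵥ a) 0) (b.repr (ρ g *ᵥ a) 1) hgv
      (by conv_lhs => rw [← hexp (ρ g *ᵥ u)]
          rw [hu2, zero_smul, add_zero])
      (by conv_lhs => rw [← hexp (ρ g *ᵥ a)]
          rw [ha2, one_smul])
    exact hnil (hd.symm.trans (hdet g))

end Cfsg.Agent.H52
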