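import Cfsg.Agent.H95.Trans
import Cfsg.Agent.Linear.Generation

/-!
Generation of the special linear group by regular unipotent elements.
-/

set_option autoImplicit false
set_option linter.unusedSectionVars false

namespace Cfsg.Agent.H52.RegUnipotent

open Matrix Cfsg.Agent.H95
open scoped MatrixGroups Matrix

variable {F : Type*} [Field F] {n : ℕ}

/-- Basis vectors indexed by natural numbers. -/
def e (F : Type*) [Field F] (n l : ℕ) : Fin n → F := fun i => if i.val = l then 1 else 0

theorem e_of_le {l : ℕ} (h : n ≤ l) : e F n l = 0 := by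
  funext i; simp [e, (lt_of_lt_of_le i.2 h).ne]

theorem e_apply (l : ℕ) (i : Fin n) : e F n l i = if i.val = l then 1 else 0 := rfl

theorem dot_e {l : ℕ} (hl : l < n) (φ : Fin n → F) : φ ⬝ᵥ e F n l = φ ⟨l, hl⟩ := by
  rw [dotProduct, Finset.sum_eq_single ⟨l, hl⟩]
  · simp [e]
  · intro j _ hj; simp only [e]; rw [if_neg fun h => hj (Fin.ext h), mul_zero]
  · simp

theorem e_dot {l : ℕ} (hl : l < n) (φ : Fin n → F) : e F n l ⬝ᵥ φ = φ ⟨l, hl⟩ := by
  rw [dotProduct_comm, dot_e hl]

theorem e_eq_single (i : Fin n) : e F n i.val = Pi.single i 1 := by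
  funext j; simp [e, Pi.single_apply, Fin.ext_iff]

theorem mat_ext_e {A B : Matrix (Fin n) (Fin n) F} (h : ∀ l < n, A *ᵥ e F n l = B *ᵥ e F n l) : A = B := by
  ext i j
  have := congrFun (h j.val j.2) i
  rw [e_eq_single] at this
  simpa using this

/-- Upper regular unipotent matrix. -/
def jmat (F : Type*) [Field F] (n : ℕ) : Matrix (Fin n) (Fin n) F :=
  fun i j => if i = j then 1 else if i.val + 1 = j.val then 1 else 0

/-- Lower regular unipotent matrix. -/
def lmat (n : ℕ) (a : ℕ → F) : Matrix (Fin n) (Fin n) F :=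
  fun i j => if i = j then 1 else if i.val = j.val + 1 then a j.val else 0

theorem jmat_e {l : ℕ} (hl : l < n) :
    jmat F n *ᵥ e F n l = e F n l + (if l = 0 then 0 else e F n (l - 1)) := by
  funext i
  rw [show (jmat F n *ᵥ e F n l) i = jmat F n i ⟨l, hl⟩ by
    rw [show (⟨l, hl⟩ : Fin n) = ⟨l, hl⟩ from rfl, mulVec, dot_e hl]]
  simp only [jmat, e, Fin.ext_iff, Pi.add_apply, apply_ite (fun f : Fin n → F => f i), Pi.zero_apply]
  split_ifs <;> first | ring1 | omega

theorem lmat_e (a : ℕ → F) {l : ℕ} (hl : l < n) :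
    lmat n a *ᵥ e F n l = e F n l + a l • e F n (l + 1) := by
  funext i
  rw [show (lmat n a *ᵥ e F n l) i = lmat n a i ⟨l, hl⟩ by rw [mulVec, dot_e hl]]
  rcases eq_or_ne i.val l with h | h
  · have : i = ⟨l, hl⟩ := Fin.ext h
    subst this
    simp [lmat, e]
  · have : i ≠ ⟨l, hl⟩ := fun h' => h (congrArg Fin.val h')
    by_cases h1 : i.val = l + 1 <;> simp [lmat, e, this, h, h1]

theorem vecMul_tvMat (φ a χ : Fin n → F) : φ ᵥ* tvMat a χ = φ + (φ ⬝ᵥ a) • χ := by
  rw [tvMat, Matrix.vecMul_add, Matrix.vecMul_one]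
  congr 1
  funext j
  simp [Matrix.vecMul, dotProduct, vecMulVec_apply, Finset.sum_mul, mul_assoc]

variable {H : Subgroup (GL (Fin n) F)}

theorem inTv_neg {a φ : Fin n → F} (h : InTv H a φ) : InTv H (-a) φ := by
  refine ⟨by simp [h.1], ?_⟩
  convert H.inv_mem h.2 using 1
  refine Units.ext ?_
  change tvMat (-a) φ = tvMat a (-φ)
  rw [show -a = (-1 : F) • a by simp, tvMat_smul_left]
  simp

theorem inTv_sub {a b φ : Fin n → F} (h : InTv H a φ) (h' : InTv H b φ) : InTv H (a - b) φ := by
  rw [sub_eq_add_neg]; exact h.add_left (inTv_neg h')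

/-- The commutator of two transvections with one incidence. -/
theorem inTv_comm {a φ w χ : Fin n → F} (h : InTv H a φ) (h' : InTv H w χ) (h0 : χ ⬝ᵥ a = 0) :
    InTv H ((φ ⬝ᵥ w) • a) χ := by
  have hc := h'.conj h.2
  have hinv : ((((tv a φ h.1) : GL (Fin n) F)⁻¹ : GL (Fin n) F) : Matrix (Fin n) (Fin n) F) = tvMat a (-φ) := rfl
  rw [tv_mulVec, hinv, vecMul_tvMat, h0, zero_smul, add_zero] at hc
  have := inTv_sub hc h'
  rwa [add_sub_cancel_left] at this

theorem inTv_smul_right {s : F} {a φ : Fin n → F} (h : InTv H (s • a) φ) (h0 : φ ⬝ᵥ a = 0) :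
    InTv H a (s • φ) := by
  refine ⟨by simp [h0], ?_⟩
  convert h.2 using 1
  exact Units.ext (tvMat_smul_left s a φ).symm

theorem transvection_e {i j : Fin n} (hij : i ≠ j) (t : F) {l : ℕ} (hl : l < n) :
    ((Matrix.SpecialLinearGroup.transvection hij t : Matrix.SpecialLinearGroup (Fin n) F) :
      Matrix (Fin n) (Fin n) F) *ᵥ e F n l = e F n l + (if l = j.val then t else 0) • e F n i.val := by
  rw [Matrix.SpecialLinearGroup.transvection_coe, add_mulVec, one_mulVec]
  congr 1
  funext k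
  rw [single_mulVec_apply, Pi.smul_apply, e_apply, e_apply, smul_eq_mul]
  by_cases h1 : k = i <;> by_cases h2 : l = j.val
  · rw [if_pos h1, if_pos h2, if_pos h2.symm, if_pos (congrArg Fin.val h1)]
  · rw [if_pos h1, if_neg h2, if_neg (Ne.symm h2)]; simp
  · rw [if_neg h1, if_neg (fun h => h1 (Fin.ext h))]; simp
  · rw [if_neg h1, if_neg h2]; simp

section Main

variable (hn : 3 ≤ n) (a : ℕ → F) (ha : ∀ l, a l * a l = 1) {c : F}
  (hc : ∀ t : F, t ≠ 0 → ∃ m : ℕ, t = c ^ (m + 1))
  {gJ gL : GL (Fin n) F} (hJ : gJ ∈ H) (hJm : (gJ : Matrix (Fin n) (Fin n) F) = jmat F n)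
  (hL : gL ∈ H) (hLm : (gL : Matrix (Fin n) (Fin n) F) = lmat n a)
  (h0 : InTv H (c • e F n 0) (e F n (n - 1)))

/-- The last row of the inverse of the lower unipotent matrix. -/
def psi (gL : GL (Fin n) F) : Fin n → F :=
  e F n (n - 1) ᵥ* ((gL⁻¹ : GL (Fin n) F) : Matrix (Fin n) (Fin n) F)

include hLm in
theorem psi_rec {l : ℕ} (hl : l < n) :
    psi gL ⬝ᵥ e F n l + a l * (psi gL ⬝ᵥ e F n (l + 1)) = if n - 1 = l then 1 else 0 := by
  have h1 : psi gL ⬝ᵥ ((gL : Matrix (Fin n) (Fin n) F) *ᵥ e F n l) = e F n (n - 1) ⬝ᵥ e F n l := by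
    rw [psi, ← dotProduct_mulVec, mulVec_mulVec, ← Units.val_mul, inv_mul_cancel, Units.val_one, one_mulVec]
  rw [hLm, lmat_e a hl, dotProduct_add, dotProduct_smul, smul_eq_mul, dot_e hl (e F n (n - 1))] at h1
  rw [h1, e_apply]
  simp [eq_comm]

include hLm ha in
theorem psi_sq {l : ℕ} (hl : l < n) : (psi gL ⬝ᵥ e F n l) * (psi gL ⬝ᵥ e F n l) = 1 := by
  obtain ⟨d, hd⟩ : ∃ d, n - 1 = l + d := ⟨n - 1 - l, by omega⟩
  induction d generalizing l with
  | zero =>
    have h := psi_rec a hLm hl
    rw [e_of_le (by omega : n ≤ l + 1), dotProduct_zero, mul_zero, add_zero, if_pos (by omega)] at h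
    rw [h, one_mul]
  | succ d ih =>
    have h := psi_rec a hLm hl
    rw [if_neg (by omega)] at h
    have hi := ih (l := l + 1) (by omega) (by omega)
    rw [show psi gL ⬝ᵥ e F n l = -(a l * (psi gL ⬝ᵥ e F n (l + 1))) by linear_combination h]
    linear_combination (a l * a l) * hi + ha l

include hLm ha in
theorem psi_ne {l : ℕ} (hl : l < n) : psi gL ⬝ᵥ e F n l ≠ 0 := fun h => by
  have := psi_sq a ha hLm hl
  rw [h, zero_mul] at this
  exact zero_ne_one this

include hL in
theorem conjL {v : Fin n → F} (h : InTv H v (e F n (n - 1))) :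
    InTv H ((gL : Matrix (Fin n) (Fin n) F) *ᵥ v) (psi gL) := h.conj hL

include hn hJm in
theorem last_vecMul_jinv :
    e F n (n - 1) ᵥ* ((gJ⁻¹ : GL (Fin n) F) : Matrix (Fin n) (Fin n) F) = e F n (n - 1) := by
  have h : e F n (n - 1) ᵥ* (gJ : Matrix (Fin n) (Fin n) F) = e F n (n - 1) := by
    funext j
    rw [hJm, vecMul, e_dot (by omega : n - 1 < n), e_apply]
    simp only [jmat, Fin.ext_iff]
    have := j.2
    split_ifs <;> first | ring1 | omega
  calc _ = (e F n (n - 1) ᵥ* (gJ : Matrix (Fin n) (Fin n) F)) ᵥ* ((gJ⁻¹ : GL (Fin n) F) : Matrix (Fin n) (Fin n) F) := by rw [h]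
    _ = _ := by rw [vecMul_vecMul, ← Units.val_mul, mul_inv_cancel, Units.val_one, vecMul_one]

include hn hc hJ hJm hL hLm h0 ha in
theorem col_zero (t : F) : InTv H (t • e F n 0) (e F n (n - 1)) := by
  rcases eq_or_ne t 0 with rfl | ht
  · rw [zero_smul]; exact inTv_zero_left H _
  obtain ⟨m, rfl⟩ := hc t ht
  clear ht
  induction m with
  | zero => simpa using h0
  | succ m ih =>
    have h1 := conjL hL ih
    rw [mulVec_smul, hLm, lmat_e a (by omega : 0 < n)] at h1
    have hz : e F n (n - 1) ⬝ᵥ (c ^ (m + 1) • (e F n 0 + a 0 • e F n (0 + 1))) = 0 := by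
      rw [e_dot (by omega : n - 1 < n)]
      simp only [Pi.smul_apply, Pi.add_apply, e_apply, smul_eq_mul]
      rw [if_neg (by omega), if_neg (by omega)]
      ring
    have h2 := inTv_comm h1 h0 hz
    have h3 := h2.conj hJ
    rw [last_vecMul_jinv hn hJm] at h3
    have h4 := inTv_sub h3 h2
    rw [hJm, mulVec_smul, mulVec_smul, mulVec_add, mulVec_smul, jmat_e (by omega : 0 < n),
      jmat_e (by omega : 0 + 1 < n), dotProduct_smul, smul_eq_mul] at h4
    simp only [if_true, zero_add, one_ne_zero, if_false, Nat.sub_self, add_zero] at h4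
    have hs : (c * (psi gL ⬝ᵥ e F n 0) * c ^ (m + 1) * a 0) * (c * (psi gL ⬝ᵥ e F n 0) * c ^ (m + 1) * a 0) =
        c ^ (m + 1 + 1) * c ^ (m + 1 + 1) := by
      linear_combination (c * c * c ^ (m + 1) * c ^ (m + 1) * (a 0 * a 0)) * psi_sq a ha hLm (l := 0) (by omega)
        + (c * c * c ^ (m + 1) * c ^ (m + 1)) * ha 0
    have h5 : InTv H ((c * (psi gL ⬝ᵥ e F n 0) * c ^ (m + 1) * a 0) • e F n 0) (e F n (n - 1)) := by
      convert h4 using 1
      module
    rcases mul_self_eq_mul_self_iff.1 hs with h | h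
    · rwa [h] at h5
    · have := inTv_neg h5
      rwa [h, ← neg_smul, neg_neg] at this

include hn hc hJ hJm hL hLm h0 ha in
theorem col : ∀ {l : ℕ}, l + 2 ≤ n → ∀ t : F, InTv H (t • e F n l) (e F n (n - 1)) := by
  intro l
  induction l with
  | zero => exact fun _ t => col_zero hn a ha hc hJ hJm hL hLm h0 t
  | succ l ih =>
    intro hl t
    have hψ := psi_ne a ha hLm (l := 0) (by omega)
    have hal : a l ≠ 0 := fun h => by have := ha l; rw [h, zero_mul] at this; exact zero_ne_one this
    have h1 := conjL hL (ih (by omega) (t / a l / (psi gL ⬝ᵥ e F n 0)))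
    rw [mulVec_smul, hLm, lmat_e a (by omega : l < n)] at h1
    have hz : e F n (n - 1) ⬝ᵥ ((t / a l / (psi gL ⬝ᵥ e F n 0)) • (e F n l + a l • e F n (l + 1))) = 0 := by
      rw [e_dot (by omega : n - 1 < n)]
      simp only [Pi.smul_apply, Pi.add_apply, e_apply, smul_eq_mul]
      rw [if_neg (by omega), if_neg (by omega)]
      ring
    have h2 := inTv_comm h1 (col_zero hn a ha hc hJ hJm hL hLm h0 1) hz
    rw [one_smul, smul_smul, mul_div_cancel₀ _ hψ] at h2
    have h3 := inTv_sub h2 (ih (by omega) (t / a l))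
    rwa [smul_add, add_sub_cancel_left, smul_smul, div_mul_cancel₀ t hal] at h3

/-- Vectors supported in an interval decompose. -/
theorem supp_step {v : Fin n → F} {k : ℕ} (hk : k < n) (hv : ∀ i : Fin n, i.val < k → v i = 0)
    {w : Fin n → F} (hw : ∀ i : Fin n, i.val < k → w i = 0) (hwk : w ⟨k, hk⟩ = 1) :
    ∀ i : Fin n, i.val < k + 1 → (v - v ⟨k, hk⟩ • w) i = 0 := by
  intro i hi
  rcases lt_or_eq_of_le (Nat.lt_succ_iff.1 hi) with h | h
  · simp [hv i h, hw i h]
  · rw [show i = ⟨k, hk⟩ from Fin.ext h]; simp [hwk]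

/-- The functionals whose transvections inside the hyperplane lie in `H`. -/
def Phi (H : Subgroup (GL (Fin n) F)) (φ : Fin n → F) : Prop :=
  ∀ v, e F n (n - 1) ⬝ᵥ v = 0 → φ ⬝ᵥ v = 0 → InTv H v φ

include hn hc hJ hJm hL hLm h0 ha in
theorem inTv_last (v : Fin n → F) (hv : e F n (n - 1) ⬝ᵥ v = 0) : InTv H v (e F n (n - 1)) := by
  suffices ∀ d k, n = k + d → ∀ v : Fin n → F, (∀ i : Fin n, i.val < k → v i = 0) →
      e F n (n - 1) ⬝ᵥ v = 0 → InTv H v (e F n (n - 1)) from this n 0 (by omega) v (fun i hi => absurd hi (Nat.not_lt_zero _)) hv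
  intro d
  induction d with
  | zero =>
    intro k hk v hv _
    rw [show v = 0 from funext fun i => hv i (by have := i.2; omega)]
    exact inTv_zero_left H _
  | succ d ih =>
    intro k hk v hv hlast
    have hk' : k < n := by omega
    have hstep := supp_step hk' hv (w := e F n k) (fun i hi => by simp [e_apply, hi.ne]) (by simp [e_apply])
    rcases Nat.lt_or_ge (k + 1) n with h | h
    · have h1 := col hn a ha hc hJ hJm hL hLm h0 (l := k) (by omega) (v ⟨k, hk'⟩)
      have h2 := ih (k + 1) (by omega) _ hstep (by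
        rw [dotProduct_sub, hlast, dotProduct_smul, e_dot (by omega : n - 1 < n), e_apply, if_neg (by simp only; omega)]
        simp)
      have := h1.add_left h2
      rwa [add_sub_cancel] at this
    · rw [show v = 0 from funext fun i => by
        rcases Nat.lt_or_ge i.val k with hi | hi
        · exact hv i hi
        · rw [e_dot (by omega : n - 1 < n)] at hlast
          rw [show i = ⟨n - 1, by omega⟩ from Fin.ext (by have := i.2; simp only; omega)]
          exact hlast]
      exact inTv_zero_left H _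

include hn hc hJ hJm hL hLm h0 ha in
theorem phi_psi : Phi H (psi gL) := by
  intro v hv hψv
  suffices ∀ d k, n = k + d → ∀ v : Fin n → F, (∀ i : Fin n, i.val < k → v i = 0) →
      e F n (n - 1) ⬝ᵥ v = 0 → psi gL ⬝ᵥ v = 0 → InTv H v (psi gL) from
    this n 0 (by omega) v (fun i hi => absurd hi (Nat.not_lt_zero _)) hv hψv
  intro d
  induction d with
  | zero =>
    intro k hk v hv _ _
    rw [show v = 0 from funext fun i => hv i (by have := i.2; omega)]
    exact inTv_zero_left H _
  | succ d ih =>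
    intro k hk v hv hlast hψv
    have hk' : k < n := by omega
    rcases Nat.lt_or_ge (k + 2) n with h | h
    · have h1 := conjL hL (col hn a ha hc hJ hJm hL hLm h0 (l := k) (by omega) (v ⟨k, hk'⟩))
      rw [mulVec_smul, hLm, lmat_e a hk'] at h1
      have hstep := supp_step hk' hv (w := e F n k + a k • e F n (k + 1))
        (fun i hi => by simp [e_apply, hi.ne, (hi.trans (Nat.lt_succ_self k)).ne]) (by simp [e_apply])
      have hz : e F n (n - 1) ⬝ᵥ (e F n k + a k • e F n (k + 1)) = 0 := by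
        rw [e_dot (by omega : n - 1 < n)]
        simp only [Pi.smul_apply, Pi.add_apply, e_apply, smul_eq_mul]
        rw [if_neg (by omega), if_neg (by omega)]
        ring
      have hz' : psi gL ⬝ᵥ (e F n k + a k • e F n (k + 1)) = 0 := by
        rw [dotProduct_add, dotProduct_smul, smul_eq_mul, psi_rec a hLm hk', if_neg (by omega)]
      have h2 := ih (k + 1) (by omega) _ hstep
        (by rw [dotProduct_sub, hlast, dotProduct_smul, hz, smul_zero, sub_zero])
        (by rw [dotProduct_sub, hψv, dotProduct_smul, hz', smul_zero, sub_zero])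
      have := h1.add_left h2
      rwa [add_sub_cancel] at this
    · have hv0 : v = v ⟨k, hk'⟩ • e F n k := funext fun i => by
        rw [Pi.smul_apply, e_apply, smul_eq_mul]
        rcases lt_trichotomy i.val k with hi | hi | hi
        · rw [hv i hi, if_neg hi.ne, mul_zero]
        · rw [if_pos hi, mul_one, show i = ⟨k, hk'⟩ from Fin.ext hi]
        · rw [if_neg hi.ne', mul_zero]
          rw [e_dot (by omega : n - 1 < n)] at hlast
          rw [show i = ⟨n - 1, by omega⟩ from Fin.ext (by have := i.2; simp only; omega)]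
          exact hlast
      rw [hv0, dotProduct_smul, smul_eq_mul] at hψv
      rw [hv0, (mul_eq_zero.1 hψv).resolve_right (psi_ne a ha hLm hk'), zero_smul]
      exact inTv_zero_left H _

include hn hc hJ hJm hL hLm h0 ha in
theorem phi_add_last {φ : Fin n → F} (h : Phi H φ) (r : F) : Phi H (φ + r • e F n (n - 1)) := by
  intro v hv hφv
  rw [add_dotProduct, smul_dotProduct, hv, smul_zero, add_zero] at hφv
  refine (h v hv hφv).add_right (inTv_smul_right ?_ hv)
  exact inTv_last hn a ha hc hJ hJm hL hLm h0 _ (by rw [dotProduct_smul, hv, smul_zero])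

theorem phi_smul {φ : Fin n → F} (h : Phi H φ) (s : F) : Phi H (s • φ) := by
  intro v hv hφv
  rcases eq_or_ne s 0 with rfl | hs
  · rw [zero_smul]; exact inTv_zero_right H v
  rw [smul_dotProduct, smul_eq_mul] at hφv
  have hφ := (mul_eq_zero.1 hφv).resolve_left hs
  exact inTv_smul_right (h _ (by rw [dotProduct_smul, hv, smul_zero]) (by rw [dotProduct_smul, hφ, smul_zero])) hφ

include hn hc hJ hJm hL hLm h0 ha in
theorem phi_add {φ χ : Fin n → F} (hφ : Phi H φ) (hχ : Phi H χ) : Phi H (φ + χ) := by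
  by_cases h : ∃ u, e F n (n - 1) ⬝ᵥ u = 0 ∧ χ ⬝ᵥ u = 0 ∧ φ ⬝ᵥ u ≠ 0
  · obtain ⟨u, hu, hχu, hφu⟩ := h
    intro v hv hφv
    rw [add_dotProduct] at hφv
    set w : Fin n → F := (-(φ ⬝ᵥ u)⁻¹) • u with hw
    have hg := hχ w (by rw [hw, dotProduct_smul, hu, smul_zero]) (by rw [hw, dotProduct_smul, hχu, smul_zero])
    have hφw : φ ⬝ᵥ w = -1 := by
      rw [hw, dotProduct_smul, smul_eq_mul]; field_simp
    have h1 := hφ (v - (χ ⬝ᵥ v) • w) (by
      rw [dotProduct_sub, hv, dotProduct_smul, hw, dotProduct_smul, hu]; simp) (by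
      rw [dotProduct_sub, dotProduct_smul, hφw, smul_eq_mul]; linear_combination hφv)
    have h2 := h1.conj hg.2
    have hinv : ((((tv w χ hg.1) : GL (Fin n) F)⁻¹ : GL (Fin n) F) : Matrix (Fin n) (Fin n) F) = tvMat w (-χ) := rfl
    rw [tv_mulVec, hinv, vecMul_tvMat, hφw, neg_smul_neg, one_smul, dotProduct_sub, dotProduct_smul,
      hg.1, smul_zero, sub_zero, sub_add_cancel] at h2
    exact h2
  · push Not at h
    -- `φ` is a combination of `χ` and the last coordinate
    by_cases hχ0 : ∀ u, e F n (n - 1) ⬝ᵥ u = 0 → χ ⬝ᵥ u = 0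
    · intro v hv hφv
      rw [add_dotProduct, hχ0 v hv, add_zero] at hφv
      exact (hφ v hv hφv).add_right (hχ v hv (hχ0 v hv))
    push Not at hχ0
    obtain ⟨u, hu, hχu⟩ := hχ0
    set s : F := (φ ⬝ᵥ u) / (χ ⬝ᵥ u)
    have hlin : ∀ v, e F n (n - 1) ⬝ᵥ v = 0 → φ ⬝ᵥ v = s * (χ ⬝ᵥ v) := by
      intro v hv
      have h1 := h (v - ((χ ⬝ᵥ v) / (χ ⬝ᵥ u)) • u)
        (by rw [dotProduct_sub, hv, dotProduct_smul, hu, smul_zero, sub_zero])
        (by rw [dotProduct_sub, dotProduct_smul, smul_eq_mul, div_mul_cancel₀ _ hχu, sub_self])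
      rw [dotProduct_sub, dotProduct_smul, smul_eq_mul, sub_eq_zero] at h1
      rw [h1]; simp only [s]; ring
    have hdec : φ + χ = (s + 1) • χ + (φ ⟨n - 1, by omega⟩ - s * χ ⟨n - 1, by omega⟩) • e F n (n - 1) := by
      funext i
      rcases eq_or_ne i.val (n - 1) with hi | hi
      · rw [show i = ⟨n - 1, by omega⟩ from Fin.ext hi]
        simp [e_apply]; ring
      · have := hlin (e F n i.val) (by rw [e_dot (by omega : n - 1 < n), e_apply, if_neg (Ne.symm hi)])
        rw [dot_e i.2, dot_e i.2] at this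
        simp [e_apply, hi, this]; ring
    rw [hdec]
    exact phi_add_last hn a ha hc hJ hJm hL hLm h0 (phi_smul hχ _) _

include hn hJm in
theorem jinv_last (gv : Fin n → F) (hv : e F n (n - 1) ⬝ᵥ gv = 0) :
    e F n (n - 1) ⬝ᵥ (((gJ⁻¹ : GL (Fin n) F) : Matrix (Fin n) (Fin n) F) *ᵥ gv) = 0 := by
  rw [dotProduct_mulVec, last_vecMul_jinv hn hJm, hv]

include hn hJ hJm in
theorem phi_mulJ {φ : Fin n → F} (h : Phi H φ) : Phi H (φ ᵥ* (gJ : Matrix (Fin n) (Fin n) F)) := by
  intro v hv hφv
  have h1 := (h ((gJ : Matrix (Fin n) (Fin n) F) *ᵥ v) ?_ ?_).conj (H.inv_mem hJ)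
  · rwa [inv_inv, mulVec_mulVec, ← Units.val_mul, inv_mul_cancel, Units.val_one, one_mulVec] at h1
  · rw [dotProduct_mulVec]
    have := last_vecMul_jinv hn hJm
    have h' : e F n (n - 1) ᵥ* (gJ : Matrix (Fin n) (Fin n) F) = e F n (n - 1) := by
      conv_lhs => rw [← this]
      rw [vecMul_vecMul, ← Units.val_mul, inv_mul_cancel, Units.val_one, vecMul_one]
    rw [h', hv]
  · rw [dotProduct_mulVec, hφv]

include hn hc hJ hJm hL hLm h0 ha in
theorem phi_all (φ : Fin n → F) : Phi H φ := by
  -- the shifts of `psi`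
  have hshift : ∀ k : ℕ, k < n → ∃ χ : Fin n → F, Phi H χ ∧ (∀ i : Fin n, i.val < k → χ i = 0) ∧
      ∀ h : k < n, χ ⟨k, h⟩ ≠ 0 := by
    intro k
    induction k with
    | zero =>
      intro hk
      refine ⟨psi gL, phi_psi hn a ha hc hJ hJm hL hLm h0, fun i hi => absurd hi (Nat.not_lt_zero _), fun h => ?_⟩
      rw [← dot_e h (psi gL)]
      exact psi_ne a ha hLm h
    | succ k ih =>
      intro hk
      obtain ⟨χ, h1, h2, h3⟩ := ih (by omega)
      refine ⟨χ ᵥ* (gJ : Matrix (Fin n) (Fin n) F) + (-1 : F) • χ,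
        phi_add hn a ha hc hJ hJm hL hLm h0 (phi_mulJ hn hJ hJm h1) (phi_smul h1 _), ?_, ?_⟩
      · intro i hi
        have : (χ ᵥ* (gJ : Matrix (Fin n) (Fin n) F)) i = χ ⬝ᵥ ((gJ : Matrix (Fin n) (Fin n) F) *ᵥ e F n i.val) := by
          rw [dotProduct_mulVec, dot_e i.2]
        rw [Pi.add_apply, this, hJm, jmat_e i.2, dotProduct_add, dot_e i.2]
        rcases Nat.eq_zero_or_pos i.val with h0' | h0'
        · rw [if_pos h0']; simp
        · rw [if_neg h0'.ne', dot_e (by omega : i.val - 1 < n), h2 ⟨i.val - 1, by omega⟩ (by change i.val - 1 < k; omega)]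
          simp
      · intro h
        have : (χ ᵥ* (gJ : Matrix (Fin n) (Fin n) F)) ⟨k + 1, h⟩ = χ ⬝ᵥ ((gJ : Matrix (Fin n) (Fin n) F) *ᵥ e F n (k + 1)) := by
          rw [dotProduct_mulVec, dot_e h]
        rw [Pi.add_apply, this, hJm, jmat_e h, dotProduct_add, dot_e h, if_neg (by omega), Nat.add_sub_cancel,
          dot_e (by omega : k < n), Pi.smul_apply]
        simpa using h3 (by omega)
  suffices ∀ d k, n = k + d → ∀ φ : Fin n → F, (∀ i : Fin n, i.val < k → φ i = 0) → Phi H φ from
    this n 0 (by omega) φ (fun i hi => absurd hi (Nat.not_lt_zero _))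
  intro d
  induction d with
  | zero =>
    intro k hk φ hφ v _ _
    rw [show φ = 0 from funext fun i => hφ i (by have := i.2; omega)]
    exact inTv_zero_right H v
  | succ d ih =>
    intro k hk φ hφ
    have hk' : k < n := by omega
    obtain ⟨χ, h1, h2, h3⟩ := hshift k hk'
    have h3' := h3 hk'
    have hstep := supp_step hk' hφ (w := (χ ⟨k, hk'⟩)⁻¹ • χ) (fun i hi => by simp [h2 i hi]) (by simp [h3'])
    have := phi_add hn a ha hc hJ hJm hL hLm h0 (ih (k + 1) (by omega) _ hstep)
      (phi_smul h1 (φ ⟨k, hk'⟩ * (χ ⟨k, hk'⟩)⁻¹))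
    rwa [smul_smul, sub_add_cancel] at this

include hn hc hJ hJm hL hLm h0 ha in
/-- The three elements generate the special linear group. -/
theorem elementary {i j : Fin n} (hij : i ≠ j) (t : F) : InTv H (t • e F n i.val) (e F n j.val) := by
  have hup : ∀ i j : Fin n, i ≠ j → i.val ≠ n - 1 → ∀ t : F, InTv H (t • e F n i.val) (e F n j.val) := by
    intro i j hij hi t
    refine phi_all hn a ha hc hJ hJm hL hLm h0 _ _ ?_ ?_
    · rw [dotProduct_smul, e_dot (by omega : n - 1 < n), e_apply, if_neg (Ne.symm hi), smul_zero]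
    · rw [dotProduct_smul, dot_e i.2, e_apply, if_neg (fun h => hij (Fin.ext h)), smul_zero]
  rcases eq_or_ne i.val (n - 1) with hi | hi
  swap
  · exact hup i j hij hi t
  have hlow : ∀ t : F, InTv H (t • e F n (n - 1)) (e F n 0) := by
    intro t
    have hal : a (n - 2) ≠ 0 := fun h => by have := ha (n - 2); rw [h, zero_mul] at this; exact zero_ne_one this
    have h := hup ⟨n - 2, by omega⟩ ⟨0, by omega⟩ (fun h => by have := congrArg Fin.val h; simp at this; omega) (by simp; omega)
    have h1 := (h (t / a (n - 2))).conj hL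
    have hz : e F n 0 ᵥ* ((gL⁻¹ : GL (Fin n) F) : Matrix (Fin n) (Fin n) F) = e F n 0 := by
      have h' : e F n 0 ᵥ* (gL : Matrix (Fin n) (Fin n) F) = e F n 0 := by
        funext j
        rw [hLm, vecMul, e_dot (by omega : 0 < n), e_apply]
        simp only [lmat, Fin.ext_iff]
        split_ifs <;> first | ring1 | omega | contradiction
      conv_lhs => rw [← h']
      rw [vecMul_vecMul, ← Units.val_mul, mul_inv_cancel, Units.val_one, vecMul_one]
    change InTv H _ (e F n 0 ᵥ* ((gL⁻¹ : GL (Fin n) F) : Matrix (Fin n) (Fin n) F)) at h1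
    rw [hz] at h1
    have h2 := inTv_sub h1 (h (t / a (n - 2)))
    change InTv H ((gL : Matrix (Fin n) (Fin n) F) *ᵥ ((t / a (n - 2)) • e F n (n - 2)) - (t / a (n - 2)) • e F n (n - 2)) _ at h2
    rw [mulVec_smul, hLm, lmat_e a (by omega : n - 2 < n), smul_add, add_sub_cancel_left, smul_smul,
      div_mul_cancel₀ t hal, show n - 2 + 1 = n - 1 by omega] at h2
    exact h2
  rw [hi]
  rcases Nat.eq_zero_or_pos j.val with hj | hj
  · rw [hj]; exact hlow t
  · have hjn : j.val ≠ n - 1 := fun h => hij (Fin.ext (hi.trans h.symm))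
    have h1 := hup ⟨0, by omega⟩ j (fun h => by have := congrArg Fin.val h; simp at this; omega) (by simp; omega) 1
    rw [one_smul] at h1
    have h2 := inTv_comm (hlow t) h1 (by rw [dotProduct_smul, dot_e (by omega : n - 1 < n), e_apply, if_neg (by simp; omega), smul_zero])
    change InTv H ((e F n 0 ⬝ᵥ e F n 0) • t • e F n (n - 1)) _ at h2
    rwa [dot_e (by omega : 0 < n), e_apply, if_pos rfl, one_smul] at h2

end Main

/-- Three conjugates of a regular unipotent element generate `SL_n`. -/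
theorem exists_three [Fintype F] (hn : 3 ≤ n) :
    ∃ u g h : Matrix.SpecialLinearGroup (Fin n) F,
      (IsNilpotent ((u : Matrix (Fin n) (Fin n) F) - 1) ∧ ((u : Matrix (Fin n) (Fin n) F) - 1) ^ (n - 1) ≠ 0) ∧
      Subgroup.closure ({u, g * u * g⁻¹, h * u * h⁻¹} : Set (Matrix.SpecialLinearGroup (Fin n) F)) = ⊤ := by
  classical
  obtain ⟨g0, hg0⟩ := IsCyclic.exists_generator (α := Fˣ)
  have hc : ∀ t : F, t ≠ 0 → ∃ m : ℕ, t = (g0 : F) ^ (m + 1) := by
    intro t ht
    obtain ⟨k, hk⟩ := mem_powers_iff_mem_zpowers.2 (hg0 (Units.mk0 t ht))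
    refine ⟨k + orderOf g0 - 1, ?_⟩
    have hpos := orderOf_pos g0
    rw [show k + orderOf g0 - 1 + 1 = k + orderOf g0 by omega, ← Units.val_pow_eq_pow_val, pow_add,
      pow_orderOf_eq_one, mul_one]
    change g0 ^ k = Units.mk0 t ht at hk
    rw [hk]; rfl
  have hJdet : (jmat F n).det = 1 := by
    rw [Matrix.det_of_isUpperTriangular]
    · simp [jmat]
    · intro i j hij
      simp only [id_eq, Fin.lt_def] at hij
      simp only [jmat, Fin.ext_iff]
      split_ifs <;> first | rfl | omega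
  let u : Matrix.SpecialLinearGroup (Fin n) F := ⟨jmat F n, hJdet⟩
  let y : Matrix.SpecialLinearGroup (Fin n) F :=
    Matrix.SpecialLinearGroup.transvection (i := (⟨1, by omega⟩ : Fin n)) (j := ⟨n - 1, by omega⟩)
      (fun h => by have := congrArg Fin.val h; simp at this; omega) (-(g0 : F))
  let P : Matrix (Fin n) (Fin n) F := fun i j => if i.val + j.val + 1 = n then 1 else 0
  have hP : ∀ l < n, P *ᵥ e F n l = e F n (n - 1 - l) := by
    intro l hl
    funext i
    rw [mulVec, dot_e hl, e_apply]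
    simp only [P]
    have := i.2
    split_ifs <;> first | rfl | omega
  have hPP : P * P = 1 := mat_ext_e fun l hl => by
    rw [← mulVec_mulVec, hP l hl, hP _ (by omega), one_mulVec]
    congr 1; omega
  set δ : F := P.det
  have hδ : δ * δ = 1 := by rw [← Matrix.det_mul, hPP, Matrix.det_one]
  let s : Fin n → F := fun i => if i.val = 0 then δ else 1
  have hsdet : (P * Matrix.diagonal s).det = 1 := by
    rw [Matrix.det_mul, Matrix.det_diagonal, Finset.prod_eq_single ⟨0, by omega⟩]
    · simpa [s] using hδ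
    · intro i _ hi; simp only [s]; rw [if_neg fun h => hi (Fin.ext h)]
    · simp
  let h : Matrix.SpecialLinearGroup (Fin n) F := ⟨P * Matrix.diagonal s, hsdet⟩
  let a : ℕ → F := fun l => if l + 2 = n then δ else 1
  have ha : ∀ l, a l * a l = 1 := fun l => by simp only [a]; split_ifs <;> simp [hδ]
  have hh : ∀ l (hl : l < n), (P * Matrix.diagonal s) *ᵥ e F n l = s ⟨l, hl⟩ • e F n (n - 1 - l) := by
    intro l hl
    have : Matrix.diagonal s *ᵥ e F n l = s ⟨l, hl⟩ • e F n l := by
      funext i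
      rw [Matrix.mulVec_diagonal, Pi.smul_apply, e_apply, smul_eq_mul]
      split_ifs with hi
      · rw [show i = ⟨l, hl⟩ from Fin.ext hi]
      · simp
    rw [← mulVec_mulVec, this, mulVec_smul, hP l hl]
  have hhJ : (P * Matrix.diagonal s) * jmat F n = lmat n a * (P * Matrix.diagonal s) := mat_ext_e fun l hl => by
    rw [← mulVec_mulVec, jmat_e hl, mulVec_add, hh l hl, ← mulVec_mulVec (M := lmat n a), hh l hl, mulVec_smul,
      lmat_e a (by omega), smul_add, smul_smul]
    congr 1
    rcases Nat.eq_zero_or_pos l with hl0 | hl0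
    · subst hl0
      rw [if_pos rfl, mulVec_zero, e_of_le (by omega : n ≤ n - 1 - 0 + 1), smul_zero]
    · rw [if_neg hl0.ne', hh (l - 1) (by omega)]
      simp only [s, a, hl0.ne', if_false, one_mul]
      rw [show n - 1 - (l - 1) = n - 1 - l + 1 by omega]
      congr 1
      split_ifs <;> first | rfl | omega
  let S : Set (Matrix.SpecialLinearGroup (Fin n) F) := {u, y * u * y⁻¹, h * u * h⁻¹}
  let H : Subgroup (GL (Fin n) F) := (Subgroup.closure S).map Matrix.SpecialLinearGroup.toGL
  refine ⟨u, y, h, ⟨?_, ?_⟩, ?_⟩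
  · refine ⟨n, mat_ext_e fun l hl => ?_⟩
    rw [zero_mulVec]
    have : ∀ k l, l < n → l < k → ((u : Matrix (Fin n) (Fin n) F) - 1) ^ k *ᵥ e F n l = 0 := by
      intro k
      induction k with
      | zero => intro l _ h; omega
      | succ k ih =>
        intro l hl hlk
        rw [pow_succ, ← mulVec_mulVec, sub_mulVec, one_mulVec]
        change _ *ᵥ (jmat F n *ᵥ e F n l - e F n l) = 0
        rw [jmat_e hl, add_sub_cancel_left]
        split_ifs with h0
        · exact mulVec_zero _
        · exact ih (l - 1) (by omega) (by omega)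
    exact this n l hl hl
  · intro h0
    have : ∀ k l, l < n → k ≤ l → ((u : Matrix (Fin n) (Fin n) F) - 1) ^ k *ᵥ e F n l = e F n (l - k) := by
      intro k
      induction k with
      | zero => intro l _ _; simp
      | succ k ih =>
        intro l hl hlk
        rw [pow_succ, ← mulVec_mulVec, sub_mulVec, one_mulVec]
        change _ *ᵥ (jmat F n *ᵥ e F n l - e F n l) = _
        rw [jmat_e hl, add_sub_cancel_left, if_neg (by omega), ih (l - 1) (by omega) (by omega)]
        congr 1; omega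
    have h1 := this (n - 1) (n - 1) (by omega) le_rfl
    rw [h0, zero_mulVec, Nat.sub_self] at h1
    have := congrFun h1 ⟨0, by omega⟩
    simp [e_apply] at this
  · have hmem : ∀ g ∈ S, Matrix.SpecialLinearGroup.toGL g ∈ H := fun g hg =>
      Subgroup.mem_map_of_mem _ (Subgroup.subset_closure hg)
    have hJ : Matrix.SpecialLinearGroup.toGL u ∈ H := hmem _ (by simp [S])
    have hLm : ((h * u * h⁻¹ : Matrix.SpecialLinearGroup (Fin n) F) : Matrix (Fin n) (Fin n) F) = lmat n a := by
      rw [Matrix.SpecialLinearGroup.coe_mul, Matrix.SpecialLinearGroup.coe_mul]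
      change (P * Matrix.diagonal s) * jmat F n * _ = _
      rw [hhJ, mul_assoc]
      change lmat n a * ((h : Matrix (Fin n) (Fin n) F) * ((h⁻¹ : Matrix.SpecialLinearGroup (Fin n) F) : Matrix (Fin n) (Fin n) F)) = _
      rw [← Matrix.SpecialLinearGroup.coe_mul, mul_inv_cancel, Matrix.SpecialLinearGroup.coe_one, mul_one]
    have hyJ : y * u * y⁻¹ * u⁻¹ = Matrix.SpecialLinearGroup.transvection (i := (⟨0, by omega⟩ : Fin n))
        (j := ⟨n - 1, by omega⟩) (fun h => by have := congrArg Fin.val h; simp at this; omega) (g0 : F) := by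
      rw [mul_inv_eq_iff_eq_mul, mul_inv_eq_iff_eq_mul]
      refine Subtype.ext (mat_ext_e fun l hl => ?_)
      simp only [Matrix.SpecialLinearGroup.coe_mul, ← mulVec_mulVec]
      change (y : Matrix (Fin n) (Fin n) F) *ᵥ (jmat F n *ᵥ e F n l) =
        _ *ᵥ (jmat F n *ᵥ ((y : Matrix (Fin n) (Fin n) F) *ᵥ e F n l))
      simp only [y]
      rw [transvection_e _ _ hl, jmat_e hl, mulVec_add, transvection_e _ _ hl, mulVec_add, jmat_e hl, mulVec_smul,
        jmat_e (by omega : 1 < n), if_neg one_ne_zero, Nat.sub_self, mulVec_add, mulVec_add, transvection_e _ _ hl,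
        mulVec_smul, mulVec_add, transvection_e _ _ (by omega : 1 < n), transvection_e _ _ (by omega : 0 < n)]
      have h1 : ¬ (1 = n - 1) := by omega
      have h2 : ¬ (0 = n - 1) := by omega
      simp only [h1, h2, if_false, zero_smul, add_zero]
      rcases Nat.eq_zero_or_pos l with hl0 | hl0
      · subst hl0
        simp [h2]
      · have h3 : ¬ (l - 1 = n - 1) := by omega
        rw [if_neg hl0.ne', transvection_e _ _ (by omega : l - 1 < n), transvection_e _ _ (by omega : l - 1 < n)]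
        simp only [h3, if_false, zero_smul, add_zero]
        by_cases hlast : l = n - 1
        · simp only [if_pos hlast]; module
        · simp only [if_neg hlast]; module
    have h0 : InTv H ((g0 : F) • e F n 0) (e F n (n - 1)) := by
      refine ⟨by rw [dotProduct_smul, dot_e (by omega : 0 < n), e_apply, if_neg (by simp; omega), smul_zero], ?_⟩
      have hm : Matrix.SpecialLinearGroup.toGL (y * u * y⁻¹ * u⁻¹) ∈ H := by
        rw [map_mul, map_inv]
        exact H.mul_mem (hmem _ (by simp [S])) (H.inv_mem hJ)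
      convert hm using 1
      rw [hyJ]
      refine Units.ext (mat_ext_e fun l hl => ?_)
      rw [tv_mulVec, e_dot (by omega : n - 1 < n), e_apply, Matrix.SpecialLinearGroup.coe_GL_coe_matrix,
        transvection_e _ _ hl]
      congr 1
      by_cases hlast : l = n - 1
      · simp [hlast]
      · simp [hlast, Ne.symm hlast]
    refine Cfsg.Agent.Linear.eq_top_of_transvection_mem fun i j hij t => ?_
    obtain ⟨h1, h2⟩ := elementary hn a ha hc hJ rfl (gL := Matrix.SpecialLinearGroup.toGL (h * u * h⁻¹)) (hmem _ (by simp [S])) hLm h0 hij t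
    obtain ⟨B, hB, hBt⟩ := h2
    have hBeq : B = Matrix.SpecialLinearGroup.transvection hij t := by
      refine Matrix.SpecialLinearGroup.toGL_injective (hBt.trans (Units.ext (mat_ext_e fun l hl => ?_)))
      rw [tv_mulVec, e_dot j.2, e_apply, Matrix.SpecialLinearGroup.coe_GL_coe_matrix, transvection_e hij t hl]
      congr 1
      by_cases hlast : l = j.val
      · simp [hlast]
      · simp [hlast, Ne.symm hlast]
    exact hBeq ▸ hB

end Cfsg.Agent.H52.RegUnipotent
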