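import Cfsg.Agent.H52.SUThree

/-!
`SU₃(q)` is generated by two conjugate regular unipotent elements.
-/

set_option autoImplicit false
set_option linter.unusedSectionVars false

namespace Cfsg.Agent.H52.SUThree

open Cfsg Matrix Cfsg.Agent.Unitary

variable {F : Type*} [Field F] [Fintype F] {q : ℕ} {u w f : Fin 3 → F}

theorem stepE (hF : Fintype.card F = q ^ 2) (hfr : Frame q u w f) {b β b' : F} (h : Ok q b β) (hb : b ^ q = b')
    (p r s p' r' : F) (h1 : p - b' * r + β * s = p') (h2 : r + b * s = r') :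
    ap (eSU hF (h.spec hfr)) (vec u w f p r s) = vec u w f p' r' s := by
  rw [ap_E hF hfr h, hb, h1, h2]

theorem stepE' (hF : Fintype.card F = q ^ 2) (hfr : Frame q u w f) {b β b' : F} (h : Ok q b β) (hb : b ^ q = b')
    (p r s r' s' : F) (h1 : r + b * p = r') (h2 : s - b' * r + β * p = s') :
    ap (eSU hF (h.spec' hfr)) (vec u w f p r s) = vec u w f p r' s' := by
  rw [ap_E' hF hfr h, hb, h1, h2]

theorem stepU (hF : Fintype.card F = q ^ 2) (hfr : Frame q u w f) {b β b' β' : F} (h : Ok q b β) (hb : b ^ q = b')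
    (hβ : β ^ q = β') (p r s p' r' : F) (h1 : p + b' * r + β' * s = p') (h2 : r - b * s = r') :
    ap (eSU hF (h.spec hfr))⁻¹ (vec u w f p r s) = vec u w f p' r' s := by
  rw [E_inv hF hfr h, ap_E hF hfr (h.neg hF), neg_pow_q hF, hb, hβ, neg_mul, sub_neg_eq_add, h1, neg_mul,
    ← sub_eq_add_neg, h2]

/-- The conclusion. -/
def TwoGen (q : ℕ) (F : Type*) [Field F] [Fintype F] : Prop :=
  ∃ u g : SU 3 F q, (IsNilpotent (mat u - 1) ∧ (mat u - 1) ^ (3 - 1) ≠ 0) ∧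
    Subgroup.closure ({u, g * u * g⁻¹} : Set (SU 3 F q)) = ⊤

theorem finish (hF : Fintype.card F = q ^ 2) (hq : 3 ≤ q) (hfr : Frame q u w f) {a α x ξ : F} (ha : Ok q a α)
    (ha0 : a ≠ 0) (g : SU 3 F q) (hx : Ok q x ξ) (hg : g * eSU hF (ha.spec hfr) * g⁻¹ = eSU hF (hx.spec' hfr))
    (hword : ∀ {H : Subgroup (SU 3 F q)}, ∀ U, U = eSU hF (ha.spec hfr) ∧ U ∈ H →
      ∀ V, V = eSU hF (hx.spec' hfr) ∧ V ∈ H → ∃ h ∈ H, ∃ μ ν κ : F,
        ap h (vec u w f 1 0 0) = vec u w f μ 0 0 ∧ ap h (vec u w f 0 1 0) = vec u w f κ ν 0 ∧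
        ∀ r e : ℕ, 2 ≤ r → 2 ≤ e → r ^ e = Fintype.card F → (μ ^ q * ν) ^ r ≠ μ ^ q * ν)
    (hξ : ξ ≠ 0) : TwoGen q F := by
  refine ⟨eSU hF (ha.spec hfr), g, regular hF hfr ha ha0, ?_⟩
  rw [hg]
  have hu : eSU hF (ha.spec hfr) ∈ Subgroup.closure
      ({eSU hF (ha.spec hfr), eSU hF (hx.spec' hfr)} : Set (SU 3 F q)) := Subgroup.subset_closure (Or.inl rfl)
  have hv : eSU hF (hx.spec' hfr) ∈ Subgroup.closure
      ({eSU hF (ha.spec hfr), eSU hF (hx.spec' hfr)} : Set (SU 3 F q)) := Subgroup.subset_closure (Or.inr rfl)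
  obtain ⟨h, hh, μ, ν, κ, hμ, hν, hfield⟩ := hword _ ⟨rfl, hu⟩ _ ⟨rfl, hv⟩
  refine eq_top_of hF hq hfr _ ha ha0 hu hh hμ hν hfield hv ?_
  rw [ap_E' hF hfr hx, hfr.coord_u]
  simpa using hξ

theorem exists_orderOf (hF : Fintype.card F = q ^ 2) (hq : 2 ≤ q) {d : ℕ} (hd : d ∣ q ^ 2 - 1) :
    ∃ x : F, orderOf x = d := by
  obtain ⟨g, hg⟩ := IsCyclic.exists_generator (α := Fˣ)
  have ho : orderOf g = q ^ 2 - 1 := by
    rw [orderOf_eq_card_of_forall_mem_zpowers hg, Nat.card_units, Nat.card_eq_fintype_card, hF]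
  have hpos : q ^ 2 - 1 ≠ 0 := by
    have : 4 ≤ q ^ 2 := by nlinarith
    omega
  obtain ⟨c, hc⟩ := hd
  refine ⟨((g ^ c : Fˣ) : F), ?_⟩
  rw [orderOf_units, orderOf_pow_of_dvd (by rintro rfl; simp [hc] at hpos) (by rw [ho, hc]; exact dvd_mul_left c d),
    ho, hc, Nat.mul_div_cancel]
  rcases Nat.eq_zero_or_pos c with rfl | h
  · simp [hc] at hpos
  · exact h

theorem field_cases {r e q : ℕ} (hr : 2 ≤ r) (he : 2 ≤ e) (hre : r ^ e = q ^ 2) (hq : 3 ≤ q) (h5 : q ≠ 5)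
    (h8 : q ≠ 8) (hd : q + 1 ∣ 3 * (r - 1)) : False := by
  have hle := Nat.le_of_dvd (by omega) hd
  rcases he.lt_or_eq with he3 | rfl
  · have h3 : r ^ 3 ≤ q ^ 2 := hre ▸ Nat.pow_le_pow_right (by omega) he3
    have hr8 : r ≤ 8 := by
      by_contra h
      have h1 := Nat.pow_lt_pow_left (show q < 3 * r by omega) two_ne_zero
      have h2 := Nat.mul_le_mul_right (r ^ 2) (show 9 ≤ r by omega)
      have e1 : (3 * r) ^ 2 = 9 * r ^ 2 := by ring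
      have e2 : r ^ 3 = r * r ^ 2 := by ring
      omega
    have hq20 : q ≤ 20 := by omega
    have he8 : e ≤ 8 := by
      by_contra h
      have h9 : 2 ^ 9 ≤ r ^ e := le_trans (Nat.pow_le_pow_left hr 9) (Nat.pow_le_pow_right (by omega) (by omega))
      nlinarith [Nat.pow_le_pow_left hq20 2]
    interval_cases r <;> interval_cases q <;> norm_num at hd <;>
      first
        | omega
        | (interval_cases e <;> norm_num at hre)
  · obtain rfl : r = q := Nat.pow_left_injective two_ne_zero hre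
    have h2 : r + 1 ∣ 3 * (r + 1) := Dvd.intro_left 3 rfl
    have h6 := Nat.dvd_sub h2 hd
    have : 3 * (r + 1) - 3 * (r - 1) = 6 := by omega
    rw [this] at h6
    have := Nat.le_of_dvd (by norm_num) h6
    have : r ≤ 5 := by omega
    interval_cases r <;> first | omega | norm_num at h6

theorem general (hF : Fintype.card F = q ^ 2) (hq : 3 ≤ q) (h5 : q ≠ 5) (h8 : q ≠ 8) : TwoGen q F := by
  obtain ⟨u, w, f, hfr⟩ := exists_frame hF
  obtain ⟨μ, hμ⟩ := exists_orderOf hF (by omega) (d := q + 1) (Dvd.intro (q - 1) (by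
    rw [← Nat.sq_sub_sq, one_pow]))
  have hμ0 : μ ≠ 0 := by rintro rfl; rw [orderOf_zero] at hμ; omega
  have hμq : μ ^ q = μ⁻¹ := eq_inv_of_mul_eq_one_left (by rw [← pow_succ, ← hμ, pow_orderOf_eq_one])
  have h1 : 1 + μ ≠ 0 := by
    intro h
    have hμ' : μ = -1 := by linear_combination h
    have := Nat.le_of_dvd two_pos (orderOf_dvd_of_pow_eq_one (show μ ^ 2 = 1 by rw [hμ', neg_one_sq]))
    omega
  have h1' : 1 + μ⁻¹ ≠ 0 := by
    intro h; field_simp at h; exact h1 (by linear_combination h)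
  set ξ := -μ / (1 + μ) with hξ
  set a := (1 + μ) ^ 2 / μ with hadef
  set α := (μ - 1 + a) / ξ with hαdef
  have hξ0 : ξ ≠ 0 := div_ne_zero (neg_ne_zero.2 hμ0) h1
  have ha0 : a ≠ 0 := div_ne_zero (pow_ne_zero 2 h1) hμ0
  have hξq : ξ ^ q = -1 / (1 + μ) := by
    have e : 1 + μ⁻¹ = (1 + μ) / μ := by field_simp; ring
    rw [hξ, div_pow, neg_pow_q hF, add_pow_q hF, one_pow, hμq, e]
    field_simp
  have haq : a ^ q = a := by
    rw [hadef, div_pow, pow_right_comm, add_pow_q hF, one_pow, hμq]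
    field_simp
    ring
  have hαq : α ^ q = (μ⁻¹ - 1 + a) / (-1 / (1 + μ)) := by
    rw [hαdef, div_pow, hξq, add_pow_q hF, sub_pow_q hF, one_pow, hμq, haq]
  have ok1 : Ok q (1 : F) ξ := by
    rw [Ok, hξq, one_pow, hξ]
    field_simp
    ring
  have oka : Ok q a α := by
    rw [Ok, hαq, haq, hαdef, hξ, hadef]
    field_simp
    ring
  obtain ⟨g, hg⟩ := exists_conj hF hfr (neg_ne_zero.2 ha0) ok1 oka ha0 (by rw [neg_pow_q hF, haq]; ring)
  refine finish hF hq hfr oka ha0 g ok1 hg (fun U hU V hV => ?_) hξ0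
  obtain ⟨rfl, hUH⟩ := hU
  obtain ⟨rfl, hVH⟩ := hV
  refine ⟨_, mul_mem (mul_mem hVH hUH) hVH, μ, (μ ^ 2)⁻¹, -(a + α), ?_, ?_, ?_⟩
  · rw [ap_mul, ap_mul, ap_E' hF hfr ok1, ap_E hF hfr oka, ap_E' hF hfr ok1, one_pow, haq]
    congr 1 <;> · simp only [hαdef, hξ, hadef]; field_simp; ring
  · rw [ap_mul, ap_mul, ap_E' hF hfr ok1, ap_E hF hfr oka, ap_E' hF hfr ok1, one_pow, haq]
    congr 1 <;> · simp only [hαdef, hξ, hadef]; field_simp; ring
  · intro r e hr he hre h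
    rw [hμq, ← mul_inv, ← pow_succ', inv_pow, _root_.inv_inj, ← pow_mul] at h
    have h2 : μ ^ (3 * (r - 1)) = 1 := by
      have h3 : μ ^ (3 * (r - 1)) * μ ^ (2 + 1) = 1 * μ ^ (2 + 1) := by
        rw [← pow_add, show 3 * (r - 1) + (2 + 1) = (2 + 1) * r by omega, h, one_mul]
      exact mul_right_cancel₀ (pow_ne_zero _ hμ0) h3
    exact field_cases hr he (hre.trans hF) hq h5 h8 (hμ ▸ orderOf_dvd_of_pow_eq_one h2)

theorem char_of_card {p k : ℕ} (hp : p.Prime) (hk : k ≠ 0) (h : Fintype.card F = p ^ k) : (p : F) = 0 := by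
  have h1 := FiniteField.cast_card_eq_zero F
  rw [h, Nat.cast_pow] at h1
  exact (pow_eq_zero_iff hk).1 h1

theorem cases5 {r e : ℕ} (hre : r ^ e = Fintype.card F) (hF : Fintype.card F = 5 ^ 2) (hr : 2 ≤ r) (he : 2 ≤ e) :
    r = 5 := by
  rw [hF] at hre
  have h2 : r ^ 2 ≤ 25 := le_trans (Nat.pow_le_pow_right (by omega) he) hre.le
  have h3 : e ≤ 5 := by
    by_contra h
    have := le_trans (Nat.pow_le_pow_left hr 6) (Nat.pow_le_pow_right (by omega) (show 6 ≤ e by omega))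
    omega
  have h4 : r ≤ 5 := by nlinarith
  interval_cases r <;> interval_cases e <;> revert hre <;> norm_num

theorem cases8 {r e : ℕ} (hre : r ^ e = Fintype.card F) (hF : Fintype.card F = 8 ^ 2) (hr : 2 ≤ r) (he : 2 ≤ e) :
    r = 2 ∨ r = 4 ∨ r = 8 := by
  rw [hF] at hre
  have h2 : r ^ 2 ≤ 64 := le_trans (Nat.pow_le_pow_right (by omega) he) hre.le
  have h3 : e ≤ 6 := by
    by_contra h
    have := le_trans (Nat.pow_le_pow_left hr 7) (Nat.pow_le_pow_right (by omega) (show 7 ≤ e by omega))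
    omega
  have h4 : r ≤ 8 := by nlinarith
  interval_cases r <;> interval_cases e <;> revert hre <;> norm_num

set_option maxHeartbeats 800000 in
theorem five (hF : Fintype.card F = 5 ^ 2) : TwoGen 5 F := by
  obtain ⟨u, w, f, hfr⟩ := exists_frame hF
  have hp : (5 : F) = 0 := by exact_mod_cast char_of_card (F := F) Nat.prime_five two_ne_zero hF
  obtain ⟨ω, ho⟩ := exists_orderOf hF (by norm_num) (d := 6) (by norm_num)
  have h6 : ω ^ 6 = 1 := ho ▸ pow_orderOf_eq_one ω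
  have h3 : ω ^ 3 ≠ 1 := fun h => by
    have := Nat.le_of_dvd three_pos (orderOf_dvd_of_pow_eq_one h); omega
  have h3' : ω ^ 3 + 1 = 0 := by
    have : (ω ^ 3 - 1) * (ω ^ 3 + 1) = 0 := by linear_combination h6
    exact (mul_eq_zero.1 this).resolve_left (sub_ne_zero.2 h3)
  have hrel : ω ^ 2 - ω + 1 = 0 := by
    have : (ω + 1) * (ω ^ 2 - ω + 1) = 0 := by linear_combination h3'
    refine (mul_eq_zero.1 this).resolve_left fun h => ?_
    have := Nat.le_of_dvd two_pos (orderOf_dvd_of_pow_eq_one (show ω ^ 2 = 1 by linear_combination (ω - 1) * h))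
    omega
  have qxi : ((4 + ω) : F) ^ 5 = ((4 * ω) : F) := by
    simp only [add_pow_q hF, mul_pow, ← pow_mul, one_pow]; linear_combination (-(1) + ω ^ 2 + ω ^ 3 : F) * hrel + (205 - ω : F) * hp
  have qa : ((2 + ω) : F) ^ 5 = ((3 + 4 * ω) : F) := by
    simp only [add_pow_q hF, mul_pow, ← pow_mul, one_pow]; linear_combination (-(1) + ω ^ 2 + ω ^ 3 : F) * hrel + (6 - ω : F) * hp
  have qal : ((1 + ω) : F) ^ 5 = ((2 + 4 * ω) : F) := by
    simp only [add_pow_q hF, mul_pow, ← pow_mul, one_pow]; linear_combination (-(1) + ω ^ 2 + ω ^ 3 : F) * hrel + (-(ω) : F) * hp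
  have qlam : ((3 + 3 * ω) : F) ^ 5 = ((1 + 2 * ω) : F) := by
    simp only [add_pow_q hF, mul_pow, ← pow_mul, one_pow]; linear_combination (-(243) + 243 * ω ^ 2 + 243 * ω ^ 3 : F) * hrel + (97 - 49 * ω : F) * hp
  have ok1 : Ok 5 ((1) : F) ((4 + ω) : F) := by
    rw [Ok, qxi, one_pow]; linear_combination (0 : F) * hrel + (1 + ω : F) * hp
  have oka : Ok 5 ((2 + ω) : F) ((1 + ω) : F) := by
    rw [Ok, qal, qa]; linear_combination (4 : F) * hrel + (1 + 4 * ω : F) * hp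
  have hane : ((2 + ω) : F) ≠ 0 := fun h0 => one_ne_zero (α := F) (by linear_combination (4 + 2 * ω : F) * h0 + (-(2) : F) * hrel + (-(1) - 2 * ω : F) * hp)
  have hlne : ((3 + 3 * ω) : F) ≠ 0 := fun h0 => one_ne_zero (α := F) (by linear_combination (3 + ω : F) * h0 + (-(3) : F) * hrel + (-(1) - 3 * ω : F) * hp)
  have hxne : ((4 + ω) : F) ≠ 0 := fun h0 => one_ne_zero (α := F) (by linear_combination (4 * ω : F) * h0 + (-(4) : F) * hrel + (1 - 4 * ω : F) * hp)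
  obtain ⟨g, hg⟩ := exists_conj hF hfr hlne ok1 oka hane (by rw [qlam]; linear_combination (7 : F) * hrel + (4 * ω : F) * hp)
  refine finish hF (by norm_num) hfr oka hane g ok1 hg (fun U hU V hV => ?_) hxne
  have s00 := stepE' hF hfr ok1 (one_pow _) ((1) : F) ((0) : F) ((0) : F) ((1) : F) ((4 + ω) : F)
    (by linear_combination (0 : F) * hrel + (0 : F) * hp)
    (by linear_combination (0 : F) * hrel + (0 : F) * hp)
  have s01 := stepU hF hfr oka qa qal ((1) : F) ((1) : F) ((4 + ω) : F) ((3 + ω) : F) ((4 + 3 * ω) : F)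
    (by linear_combination (4 : F) * hrel + (1 + 5 * ω : F) * hp)
    (by linear_combination (-(1) : F) * hrel + (-(2) - 2 * ω : F) * hp)
  have s02 := stepE' hF hfr ok1 (one_pow _) ((3 + ω) : F) ((4 + 3 * ω) : F) ((4 + ω) : F) ((2 + 4 * ω) : F) ((1 + ω) : F)
    (by linear_combination (0 : F) * hrel + (1 : F) * hp)
    (by linear_combination (1 : F) * hrel + (2 + ω : F) * hp)
  have s03 := stepE' hF hfr ok1 (one_pow _) ((3 + ω) : F) ((2 + 4 * ω) : F) ((1 + ω) : F) ((0) : F) ((0) : F)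
    (by linear_combination (0 : F) * hrel + (1 + ω : F) * hp)
    (by linear_combination (1 : F) * hrel + (2 + ω : F) * hp)
  have s10 := stepE' hF hfr ok1 (one_pow _) ((0) : F) ((1) : F) ((0) : F) ((1) : F) ((4) : F)
    (by linear_combination (0 : F) * hrel + (0 : F) * hp)
    (by linear_combination (0 : F) * hrel + (-(1) : F) * hp)
  have s11 := stepU hF hfr oka qa qal ((0) : F) ((1) : F) ((4) : F) ((1) : F) ((3 + ω) : F)
    (by linear_combination (0 : F) * hrel + (2 + 4 * ω : F) * hp)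
    (by linear_combination (0 : F) * hrel + (-(2) - ω : F) * hp)
  have s12 := stepE' hF hfr ok1 (one_pow _) ((1) : F) ((3 + ω) : F) ((4) : F) ((4 + ω) : F) ((0) : F)
    (by linear_combination (0 : F) * hrel + (0 : F) * hp)
    (by linear_combination (0 : F) * hrel + (1 : F) * hp)
  have s13 := stepE' hF hfr ok1 (one_pow _) ((1) : F) ((4 + ω) : F) ((0) : F) ((ω) : F) ((0) : F)
    (by linear_combination (0 : F) * hrel + (1 : F) * hp)
    (by linear_combination (0 : F) * hrel + (0 : F) * hp)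
  obtain ⟨rfl, hUH⟩ := hU
  obtain ⟨rfl, hVH⟩ := hV
  refine ⟨_, (mul_mem (mul_mem (mul_mem hVH hVH) (inv_mem hUH)) hVH), ((3 + ω) : F), ((ω) : F), ((1) : F), ?_, ?_, ?_⟩
  · simp only [ap_mul, s00, s01, s02, s03]
  · simp only [ap_mul, s10, s11, s12, s13]
  · have qmu : ((3 + ω) : F) ^ 5 = ((4 + 4 * ω) : F) := by
      simp only [add_pow_q hF, mul_pow, ← pow_mul, one_pow]; linear_combination (-(1) + ω ^ 2 + ω ^ 3 : F) * hrel + (48 - ω : F) * hp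
    have hka : ((3 + ω) : F) ^ 5 * ((ω) : F) = ((1 + 3 * ω) : F) := by rw [qmu]; linear_combination (4 : F) * hrel + (-(1) + ω : F) * hp
    intro r e hr he hre h
    rw [hka] at h
    rcases cases5 hre (hF) hr he with rfl
    · exact one_ne_zero (α := F) (by
        simp only [add_pow_q hF, mul_pow, ← pow_mul, one_pow] at h
        linear_combination (1 + 3 * ω : F) * h + (981 + 729 * ω - 243 * ω ^ 2 - 972 * ω ^ 3 - 729 * ω ^ 4 : F) * hrel + (-(196) + 51 * ω : F) * hp)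

set_option maxHeartbeats 1600000 in
theorem eight (hF : Fintype.card F = 8 ^ 2) : TwoGen 8 F := by
  obtain ⟨u, w, f, hfr⟩ := exists_frame hF
  have hp : (2 : F) = 0 := by
    exact_mod_cast char_of_card (F := F) Nat.prime_two (k := 6) (by norm_num) (hF.trans (by norm_num))
  obtain ⟨ω, ho⟩ := exists_orderOf hF (by norm_num) (d := 9) (by norm_num)
  have h9 : ω ^ 9 = 1 := ho ▸ pow_orderOf_eq_one ω
  have hrel : ω ^ 6 + ω ^ 3 + 1 = 0 := by
    have : (ω ^ 3 - 1) * (ω ^ 6 + ω ^ 3 + 1) = 0 := by linear_combination h9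
    refine (mul_eq_zero.1 this).resolve_left fun h => ?_
    have := Nat.le_of_dvd three_pos (orderOf_dvd_of_pow_eq_one (sub_eq_zero.1 h))
    omega
  have qxi : ((ω + ω ^ 2 + ω ^ 3 + ω ^ 4) : F) ^ 8 = ((1 + ω + ω ^ 2 + ω ^ 3 + ω ^ 4) : F) := by
    simp only [add_pow_q hF, mul_pow, ← pow_mul, one_pow]; linear_combination (1 + ω + ω ^ 2 - ω ^ 5 - ω ^ 6 - ω ^ 7 + ω ^ 8 + ω ^ 9 + ω ^ 10 - ω ^ 14 - ω ^ 15 + ω ^ 17 + ω ^ 18 - ω ^ 23 + ω ^ 26 : F) * hrel + (-(1) - ω - ω ^ 2 - ω ^ 3 - ω ^ 4 : F) * hp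
  have qa : ((ω ^ 2 + ω ^ 4) : F) ^ 8 = ((ω + ω ^ 4 + ω ^ 5) : F) := by
    simp only [add_pow_q hF, mul_pow, ← pow_mul, one_pow]; linear_combination (ω - ω ^ 5 - ω ^ 7 + ω ^ 8 + ω ^ 10 - ω ^ 14 + ω ^ 17 - ω ^ 23 + ω ^ 26 : F) * hrel + (-(ω) - ω ^ 4 : F) * hp
  have qal : ((1 + ω + ω ^ 5) : F) ^ 8 = ((1 + ω ^ 2 + ω ^ 4 + ω ^ 5) : F) := by
    simp only [add_pow_q hF, mul_pow, ← pow_mul, one_pow]; linear_combination (ω ^ 2 - ω ^ 4 + ω ^ 7 - ω ^ 13 + ω ^ 16 - ω ^ 22 + ω ^ 25 - ω ^ 31 + ω ^ 34 : F) * hrel + (-(ω ^ 2) - ω ^ 5 : F) * hp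
  have qlam : ((ω + ω ^ 3) : F) ^ 8 = ((1 + ω ^ 2 + ω ^ 3 + ω ^ 5) : F) := by
    simp only [add_pow_q hF, mul_pow, ← pow_mul, one_pow]; linear_combination (1 + ω ^ 2 - ω ^ 6 + ω ^ 9 - ω ^ 15 + ω ^ 18 : F) * hrel + (-(1) - ω ^ 2 - ω ^ 3 - ω ^ 5 : F) * hp
  have ok1 : Ok 8 ((1) : F) ((ω + ω ^ 2 + ω ^ 3 + ω ^ 4) : F) := by
    rw [Ok, qxi, one_pow]; linear_combination (0 : F) * hrel + (1 + ω + ω ^ 2 + ω ^ 3 + ω ^ 4 : F) * hp
  have oka : Ok 8 ((ω ^ 2 + ω ^ 4) : F) ((1 + ω + ω ^ 5) : F) := by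
    rw [Ok, qal, qa]; linear_combination (ω + ω ^ 2 + ω ^ 3 : F) * hrel + (1 + ω ^ 5 : F) * hp
  have hane : ((ω ^ 2 + ω ^ 4) : F) ≠ 0 := fun h0 => one_ne_zero (α := F) (by linear_combination (1 + ω ^ 2 + ω ^ 3 + ω ^ 4 + ω ^ 5 : F) * h0 + (-(1) - 2 * ω - ω ^ 2 - ω ^ 3 : F) * hrel + (1 + ω + ω ^ 3 : F) * hp)
  have hlne : ((ω + ω ^ 3) : F) ≠ 0 := fun h0 => one_ne_zero (α := F) (by linear_combination (1 + ω + ω ^ 4 + ω ^ 5 : F) * h0 + (-(1) - ω - ω ^ 2 : F) * hrel + (1 : F) * hp)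
  have hxne : ((ω + ω ^ 2 + ω ^ 3 + ω ^ 4) : F) ≠ 0 := fun h0 => one_ne_zero (α := F) (by linear_combination (1 + ω ^ 4 : F) * h0 + (-(1) - ω - ω ^ 2 : F) * hrel + (1 : F) * hp)
  obtain ⟨g, hg⟩ := exists_conj hF hfr hlne ok1 oka hane (by rw [qlam]; linear_combination (1 + 2 * ω + 2 * ω ^ 2 + ω ^ 4 : F) * hrel + (-(ω) + ω ^ 3 - ω ^ 4 + 2 * ω ^ 5 : F) * hp)
  refine finish hF (by norm_num) hfr oka hane g ok1 hg (fun U hU V hV => ?_) hxne
  have s00 := stepE' hF hfr ok1 (one_pow _) ((1) : F) ((0) : F) ((0) : F) ((1) : F) ((ω + ω ^ 2 + ω ^ 3 + ω ^ 4) : F)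
    (by linear_combination (0 : F) * hrel + (0 : F) * hp)
    (by linear_combination (0 : F) * hrel + (0 : F) * hp)
  have s01 := stepE hF hfr oka qa ((1) : F) ((1) : F) ((ω + ω ^ 2 + ω ^ 3 + ω ^ 4) : F) ((1 + ω + ω ^ 2 + ω ^ 3 + ω ^ 5) : F) ((1 + ω + ω ^ 2 + ω ^ 3 + ω ^ 5) : F)
    (by linear_combination (ω + ω ^ 2 + ω ^ 3 : F) * hrel + (-(ω) - ω ^ 5 : F) * hp)
    (by linear_combination (2 + ω + ω ^ 2 : F) * hrel + (-(1) - ω - ω ^ 2 - ω ^ 3 : F) * hp)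
  have s02 := stepE hF hfr oka qa ((1 + ω + ω ^ 2 + ω ^ 3 + ω ^ 5) : F) ((1 + ω + ω ^ 2 + ω ^ 3 + ω ^ 5) : F) ((ω + ω ^ 2 + ω ^ 3 + ω ^ 4) : F) ((1 + ω + ω ^ 4) : F) ((1) : F)
    (by linear_combination (-(2) - ω ^ 4 : F) * hrel + (1 + ω ^ 2 + 2 * ω ^ 3 : F) * hp)
    (by linear_combination (2 + ω + ω ^ 2 : F) * hrel + (-(1) + ω ^ 5 : F) * hp)
  have s03 := stepE' hF hfr ok1 (one_pow _) ((1 + ω + ω ^ 4) : F) ((1) : F) ((ω + ω ^ 2 + ω ^ 3 + ω ^ 4) : F) ((ω + ω ^ 4) : F) ((ω + ω ^ 5) : F)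
    (by linear_combination (0 : F) * hrel + (1 : F) * hp)
    (by linear_combination (1 + ω + ω ^ 2 : F) * hrel + (-(1) + ω ^ 2 + ω ^ 3 + ω ^ 4 : F) * hp)
  have s04 := stepU hF hfr oka qa qal ((1 + ω + ω ^ 4) : F) ((ω + ω ^ 4) : F) ((ω + ω ^ 5) : F) ((1 + ω ^ 3 + ω ^ 5) : F) ((1 + ω ^ 3 + ω ^ 5) : F)
    (by linear_combination (ω ^ 2 + 2 * ω ^ 3 + ω ^ 4 : F) * hrel + (ω - ω ^ 3 + ω ^ 5 : F) * hp)
    (by linear_combination (1 - ω - ω ^ 3 : F) * hrel + (-(1) + ω - ω ^ 3 + ω ^ 4 - ω ^ 5 : F) * hp)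
  have s05 := stepE' hF hfr ok1 (one_pow _) ((1 + ω ^ 3 + ω ^ 5) : F) ((1 + ω ^ 3 + ω ^ 5) : F) ((ω + ω ^ 5) : F) ((0) : F) ((0) : F)
    (by linear_combination (0 : F) * hrel + (1 + ω ^ 3 + ω ^ 5 : F) * hp)
    (by linear_combination (1 + 2 * ω + ω ^ 2 + ω ^ 3 : F) * hrel + (-(1) - ω ^ 3 : F) * hp)
  have s10 := stepE' hF hfr ok1 (one_pow _) ((0) : F) ((1) : F) ((0) : F) ((1) : F) ((1) : F)
    (by linear_combination (0 : F) * hrel + (0 : F) * hp)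
    (by linear_combination (0 : F) * hrel + (-(1) : F) * hp)
  have s11 := stepE hF hfr oka qa ((0) : F) ((1) : F) ((1) : F) ((1 + ω ^ 4) : F) ((1 + ω ^ 2 + ω ^ 4) : F)
    (by linear_combination (0 : F) * hrel + (-(ω ^ 4) : F) * hp)
    (by linear_combination (0 : F) * hrel + (0 : F) * hp)
  have s12 := stepE hF hfr oka qa ((1 + ω ^ 4) : F) ((1 + ω ^ 2 + ω ^ 4) : F) ((1) : F) ((ω + ω ^ 2 + ω ^ 4) : F) ((1) : F)
    (by linear_combination (-(ω) - ω ^ 2 - ω ^ 3 : F) * hrel + (1 : F) * hp)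
    (by linear_combination (0 : F) * hrel + (ω ^ 2 + ω ^ 4 : F) * hp)
  have s13 := stepE' hF hfr ok1 (one_pow _) ((ω + ω ^ 2 + ω ^ 4) : F) ((1) : F) ((1) : F) ((1 + ω + ω ^ 2 + ω ^ 4) : F) ((ω + ω ^ 4) : F)
    (by linear_combination (0 : F) * hrel + (0 : F) * hp)
    (by linear_combination (2 + ω + ω ^ 2 : F) * hrel + (-(1) - ω + ω ^ 5 : F) * hp)
  have s14 := stepU hF hfr oka qa qal ((ω + ω ^ 2 + ω ^ 4) : F) ((1 + ω + ω ^ 2 + ω ^ 4) : F) ((ω + ω ^ 4) : F) ((0) : F) ((ω + ω ^ 4) : F)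
    (by linear_combination (2 + ω + 2 * ω ^ 2 + 2 * ω ^ 3 : F) * hrel + (-(1) + ω - ω ^ 3 + ω ^ 4 + ω ^ 5 : F) * hp)
    (by linear_combination (-(1) - ω ^ 2 : F) * hrel + (1 + ω ^ 2 : F) * hp)
  have s15 := stepE' hF hfr ok1 (one_pow _) ((0) : F) ((ω + ω ^ 4) : F) ((ω + ω ^ 4) : F) ((ω + ω ^ 4) : F) ((0) : F)
    (by linear_combination (0 : F) * hrel + (0 : F) * hp)
    (by linear_combination (0 : F) * hrel + (0 : F) * hp)
  obtain ⟨rfl, hUH⟩ := hU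
  obtain ⟨rfl, hVH⟩ := hV
  refine ⟨_, (mul_mem (mul_mem (mul_mem (mul_mem (mul_mem hVH (inv_mem hUH)) hVH) hUH) hUH) hVH), ((1 + ω ^ 3 + ω ^ 5) : F), ((ω + ω ^ 4) : F), ((0) : F), ?_, ?_, ?_⟩
  · simp only [ap_mul, s00, s01, s02, s03, s04, s05]
  · simp only [ap_mul, s10, s11, s12, s13, s14, s15]
  · have qmu : ((1 + ω ^ 3 + ω ^ 5) : F) ^ 8 = ((ω ^ 3 + ω ^ 4) : F) := by
      simp only [add_pow_q hF, mul_pow, ← pow_mul, one_pow]; linear_combination (1 - ω ^ 4 - ω ^ 6 + ω ^ 7 + ω ^ 9 - ω ^ 13 - ω ^ 15 + ω ^ 16 + ω ^ 18 - ω ^ 22 + ω ^ 25 - ω ^ 31 + ω ^ 34 : F) * hrel + (-(ω ^ 3) : F) * hp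
    have hka : ((1 + ω ^ 3 + ω ^ 5) : F) ^ 8 * ((ω + ω ^ 4) : F) = ((ω + ω ^ 2) : F) := by rw [qmu]; linear_combination (ω + ω ^ 2 : F) * hrel + (-(ω) - ω ^ 2 : F) * hp
    intro r e hr he hre h
    rw [hka] at h
    rcases cases8 hre (hF) hr he with rfl | rfl | rfl
    · exact one_ne_zero (α := F) (by
        linear_combination (ω ^ 2 : F) * h + (-(1) : F) * hrel + (1 + ω ^ 3 - ω ^ 5 : F) * hp)
    · exact one_ne_zero (α := F) (by
        linear_combination (ω + ω ^ 3 + ω ^ 5 : F) * h + (5 + 2 * ω - ω ^ 2 - 4 * ω ^ 3 - 7 * ω ^ 4 - 7 * ω ^ 5 - 4 * ω ^ 6 - ω ^ 7 : F) * hrel + (-(2) - ω + ω ^ 2 + 3 * ω ^ 4 + 4 * ω ^ 5 : F) * hp)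
    · exact one_ne_zero (α := F) (by
        simp only [add_pow_q hF, mul_pow, ← pow_mul, one_pow] at h
        linear_combination (1 + ω + ω ^ 2 + ω ^ 5 : F) * h + (3 + ω - 2 * ω ^ 2 - ω ^ 3 - ω ^ 6 + ω ^ 8 + ω ^ 9 - ω ^ 10 - ω ^ 11 - ω ^ 15 : F) * hrel + (-(1) + 2 * ω ^ 2 + ω ^ 5 : F) * hp)

theorem twoGen (hF : Fintype.card F = q ^ 2) (hq : 3 ≤ q) : TwoGen q F := by
  rcases eq_or_ne q 5 with rfl | h5
  · exact five hF
  rcases eq_or_ne q 8 with rfl | h8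
  · exact eight hF
  exact general hF hq h5 h8

end Cfsg.Agent.H52.SUThree
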