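import Mathlib

/-!
Small index subgroups of simple groups.
-/

set_option autoImplicit false

namespace Cfsg.Agent.H52

/-- In a simple group the order divides the factorial of the index of a proper subgroup. -/
theorem card_dvd_factorial_index {G : Type*} [Group G] [Finite G] [IsSimpleGroup G] (H : Subgroup G)
    (hH : H ≠ ⊤) : Nat.card G ∣ (H.index).factorial := by
  have h : H.normalCore = ⊥ := by
    refine (H.normalCore_normal.eq_bot_or_eq_top).resolve_right fun h => hH ?_
    exact top_le_iff.1 (h ▸ H.normalCore_le)
  rw [Subgroup.normalCore_eq_ker] at h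
  have := Subgroup.card_dvd_of_injective (MulAction.toPermHom G (G ⧸ H)) ((MonoidHom.ker_eq_bot_iff _).1 h)
  rwa [Nat.card_perm] at this

theorem nat_card_alt5 : Nat.card (alternatingGroup (Fin 5)) = 60 := by
  rw [nat_card_alternatingGroup]
  simp [Nat.factorial]

/-- The alternating group of degree five has no subgroup of index 2, 3 or 4. -/
theorem alt5_index_ge (H : Subgroup (alternatingGroup (Fin 5))) (hH : H ≠ ⊤) : 5 ≤ H.index := by
  have h := card_dvd_factorial_index H hH
  rw [nat_card_alt5] at h
  by_contra hc
  interval_cases hi : H.index <;> revert h <;> decide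

end Cfsg.Agent.H52
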