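import Mathlib
import Cfsg.Agent.H52.PlaneFrames

/-!
Splittings of a vector space into summands of equal dimension: their number is odd in the cases
needed for Sylow 2-subgroups of general linear groups over fields of odd order.
-/

set_option autoImplicit false

namespace Cfsg.Agent.H52.Split

open Module (finrank)

variable {F V : Type*} [Field F] [AddCommGroup V] [Module F V] [FiniteDimensional F V]

/-- A splitting of `U` into `m` summands of dimension `d`. -/
def IsSplit (d m : ℕ) (U : Submodule F V) (s : Finset (Submodule F V)) : Prop :=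
  s.card = m ∧ (∀ A ∈ s, finrank F A = d) ∧ s.sup id = U

/-- A summand of dimension `d` with a complement inside `U`. -/
abbrev Pair (d : ℕ) (U : Submodule F V) :=
  Σ A : {A : Submodule F V // A ≤ U ∧ finrank F A = d}, {C : Submodule F V // C ≤ U ∧ A.1 ⊔ C = U ∧ A.1 ⊓ C = ⊥}

omit [FiniteDimensional F V] in
theorem pair_ext {d m : ℕ} {U : Submodule F V} {x y : Σ p : Pair d U, {t // IsSplit d m p.2.1 t}}
    (h1 : x.1.1.1 = y.1.1.1) (h2 : x.1.2.1 = y.1.2.1) (h3 : x.2.1 = y.2.1) : x = y := by
  obtain ⟨⟨⟨A, hA⟩, ⟨C, hC⟩⟩, ⟨t, ht⟩⟩ := x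
  obtain ⟨⟨⟨A', hA'⟩, ⟨C', hC'⟩⟩, ⟨t', ht'⟩⟩ := y
  simp only at h1 h2 h3
  subst h1 h2 h3
  rfl

theorem finrank_sup_le_sum [DecidableEq (Submodule F V)] (s : Finset (Submodule F V)) :
    finrank F (s.sup id : Submodule F V) ≤ ∑ A ∈ s, finrank F A := by
  induction s using Finset.induction_on with
  | empty => simp
  | @insert A s hA ih =>
    rw [Finset.sum_insert hA, Finset.sup_insert, id]
    exact (Submodule.finrank_add_le_finrank_add_finrank _ _).trans (Nat.add_le_add_left ih _)

theorem erase_split [DecidableEq (Submodule F V)] {d m : ℕ} {U : Submodule F V} {s : Finset (Submodule F V)}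
    (hU : finrank F U = d * (m + 1)) (hs : IsSplit d (m + 1) U s) {A : Submodule F V} (hA : A ∈ s) :
    IsSplit d m ((s.erase A).sup id) (s.erase A) ∧ A ⊔ (s.erase A).sup id = U ∧
      A ⊓ (s.erase A).sup id = ⊥ ∧ finrank F ((s.erase A).sup id : Submodule F V) = d * m := by
  have hc : (s.erase A).card = m := by rw [Finset.card_erase_of_mem hA, hs.1]; omega
  have hsup : A ⊔ (s.erase A).sup id = U := by
    rw [← hs.2.2]
    conv_rhs => rw [← Finset.insert_erase hA, Finset.sup_insert]
    rfl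
  have hle : finrank F ((s.erase A).sup id : Submodule F V) ≤ d * m := by
    refine (finrank_sup_le_sum _).trans ?_
    rw [Finset.sum_congr rfl (fun B hB => hs.2.1 B (Finset.mem_of_mem_erase hB)), Finset.sum_const, hc,
      smul_eq_mul, mul_comm]
  have h := Submodule.finrank_sup_add_finrank_inf_eq A ((s.erase A).sup id)
  rw [hsup, hU, hs.2.1 A hA, Nat.mul_succ] at h
  exact ⟨⟨hc, fun B hB => hs.2.1 B (Finset.mem_of_mem_erase hB), rfl⟩, hsup,
    Submodule.finrank_eq_zero.1 (by omega), by omega⟩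

theorem split_step [DecidableEq (Submodule F V)] {d m : ℕ} (hd : 1 ≤ d) {U : Submodule F V}
    (hU : finrank F U = d * (m + 1)) :
    Nat.card (Σ p : Pair d U, {t // IsSplit d m p.2.1 t}) =
      Nat.card (Σ s : {s // IsSplit d (m + 1) U s}, {A // A ∈ s.1}) := by
  have hnotmem : ∀ (p : Pair d U) (t : {t // IsSplit d m p.2.1 t}), p.1.1 ∉ t.1 := by
    intro p t h
    have h1 : p.1.1 ≤ p.2.1 := by
      have h' : p.1.1 ≤ t.1.sup id := Finset.le_sup (f := id) h
      rwa [t.2.2.2] at h'
    have h2 := p.2.2.2.2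
    rw [inf_eq_left.2 h1] at h2
    have := p.1.2.2
    rw [h2, finrank_bot] at this
    omega
  refine Nat.card_congr
    { toFun := fun x => ⟨⟨insert x.1.1.1 x.2.1, ?_, ?_, ?_⟩, x.1.1.1, Finset.mem_insert_self _ _⟩
      invFun := fun y => ⟨⟨⟨y.2.1, ?_, y.1.2.2.1 _ y.2.2⟩, (y.1.1.erase y.2.1).sup id, ?_,
          (erase_split hU y.1.2 y.2.2).2.1, (erase_split hU y.1.2 y.2.2).2.2.1⟩,
        y.1.1.erase y.2.1, (erase_split hU y.1.2 y.2.2).1⟩
      left_inv := ?_
      right_inv := ?_ }
  · rw [Finset.card_insert_of_notMem (hnotmem _ _), x.2.2.1]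
  · intro A hA
    rcases Finset.mem_insert.1 hA with rfl | hA
    · exact x.1.1.2.2
    · exact x.2.2.2.1 A hA
  · rw [Finset.sup_insert, id, x.2.2.2.2]
    exact x.1.2.2.2.1
  · have h := (erase_split hU y.1.2 y.2.2).2.1
    exact le_sup_left.trans h.le
  · have h := (erase_split hU y.1.2 y.2.2).2.1
    exact le_sup_right.trans h.le
  · rintro ⟨⟨⟨A, hA⟩, ⟨C, hC⟩⟩, ⟨t, ht⟩⟩
    have hnm : A ∉ t := hnotmem ⟨⟨A, hA⟩, ⟨C, hC⟩⟩ ⟨t, ht⟩
    have e : (insert A t).erase A = t := Finset.erase_insert hnm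
    have e2 : ((insert A t).erase A).sup id = C := by rw [e]; exact ht.2.2
    exact pair_ext rfl e2 e
  · rintro ⟨⟨s, hs⟩, ⟨A, hA⟩⟩
    have he : insert A (s.erase A) = s := Finset.insert_erase hA
    simp only [Sigma.mk.injEq, Subtype.mk.injEq, he, true_and]
    congr 1 <;> simp [he]

section Count

variable [Finite F]

theorem card_sections {X Y : Type*} [AddCommGroup X] [Module F X] [FiniteDimensional F X] [AddCommGroup Y]
    [Module F Y] [FiniteDimensional F Y] (i : Y →ₗ[F] X) (p0 : X →ₗ[F] Y) (hp0 : ∀ y, p0 (i y) = y) :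
    Nat.card {f : X →ₗ[F] Y // ∀ y, f (i y) = y} =
      Nat.card F ^ ((finrank F X - finrank F Y) * finrank F Y) := by
  let R : (X →ₗ[F] Y) →ₗ[F] (Y →ₗ[F] Y) :=
    { toFun := fun f => f.comp i
      map_add' := fun f g => rfl
      map_smul' := fun c f => rfl }
  have e2 : {f : X →ₗ[F] Y // ∀ y, f (i y) = y} ≃ LinearMap.ker R :=
    { toFun := fun f => ⟨f.1 - p0, LinearMap.ext fun x => by
        change f.1 (i x) - p0 (i x) = 0
        rw [f.2, hp0, sub_self]⟩
      invFun := fun k => ⟨p0 + k.1, fun x => by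
        have : k.1 (i x) = 0 := LinearMap.congr_fun k.2 x
        rw [LinearMap.add_apply, hp0, this, add_zero]⟩
      left_inv := fun f => Subtype.ext (show p0 + (f.1 - p0) = f.1 by abel)
      right_inv := fun k => Subtype.ext (show p0 + k.1 - p0 = k.1 by abel) }
  rw [Nat.card_congr e2, Module.natCard_eq_pow_finrank (K := F) (V := LinearMap.ker R)]
  congr 1
  have hsurj : LinearMap.range R = ⊤ := LinearMap.range_eq_top.2 fun g => ⟨g.comp p0, LinearMap.ext fun x => by
    change g (p0 (i x)) = g x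
    rw [hp0]⟩
  have h := R.finrank_range_add_finrank_ker
  rw [hsurj, finrank_top, Module.finrank_linearMap, Module.finrank_linearMap] at h
  rw [Nat.sub_mul]
  omega

theorem card_complements {U A : Submodule F V} (hAU : A ≤ U) :
    Nat.card {C : Submodule F V // C ≤ U ∧ A ⊔ C = U ∧ A ⊓ C = ⊥} =
      Nat.card F ^ ((finrank F U - finrank F A) * finrank F A) := by
  classical
  haveI : Finite V := Module.finite_of_finite F
  set A' : Submodule F U := A.comap U.subtype with hA'
  have hA'm : A'.map U.subtype = A := Submodule.map_comap_eq_self (by rw [Submodule.range_subtype]; exact hAU)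
  have hmc : ∀ C : Submodule F V, C ≤ U → (C.comap U.subtype).map U.subtype = C := fun C hC =>
    Submodule.map_comap_eq_self (by rw [Submodule.range_subtype]; exact hC)
  have hinj : Function.Injective (Submodule.map U.subtype) :=
    Submodule.map_injective_of_injective U.injective_subtype
  have e : {C : Submodule F V // C ≤ U ∧ A ⊔ C = U ∧ A ⊓ C = ⊥} ≃ {C : Submodule F U // IsCompl A' C} :=
    { toFun := fun C => ⟨C.1.comap U.subtype, ⟨disjoint_iff.2 (hinj (by
          rw [Submodule.map_inf _ U.injective_subtype, hA'm, hmc _ C.2.1, C.2.2.2, Submodule.map_bot])),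
        codisjoint_iff.2 (hinj (by
          rw [Submodule.map_sup, hA'm, hmc _ C.2.1, C.2.2.1, Submodule.map_subtype_top]))⟩⟩
      invFun := fun C => ⟨C.1.map U.subtype, Submodule.map_subtype_le _ _, by
          rw [← hA'm, ← Submodule.map_sup, C.2.sup_eq_top, Submodule.map_subtype_top], by
          rw [← hA'm, ← Submodule.map_inf _ U.injective_subtype, C.2.inf_eq_bot, Submodule.map_bot]⟩
      left_inv := fun C => Subtype.ext (hmc _ C.2.1)
      right_inv := fun C => Subtype.ext (Submodule.comap_map_eq_of_injective U.injective_subtype _) }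
  rw [Nat.card_congr (e.trans (Submodule.isComplEquivProj A'))]
  obtain ⟨C0, hC0⟩ := exists_isCompl A'
  have hdim : finrank F A' = finrank F A := by
    rw [hA', LinearEquiv.finrank_eq (Submodule.comapSubtypeEquivOfLe hAU)]
  rw [← hdim]
  exact card_sections A'.subtype (Submodule.projectionOnto A' C0 hC0) (Submodule.projectionOnto_apply_left hC0)

theorem card_subspaces {U : Submodule F V} {d : ℕ} (hd : d ≤ finrank F U) :
    Nat.card {A : Submodule F V // A ≤ U ∧ finrank F A = d} * ∏ i : Fin d, (Nat.card F ^ d - Nat.card F ^ (i : ℕ)) =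
      ∏ i : Fin d, (Nat.card F ^ finrank F U - Nat.card F ^ (i : ℕ)) := by
  classical
  haveI : Finite V := Module.finite_of_finite F
  haveI := Fintype.ofFinite F
  haveI := Fintype.ofFinite {A : Submodule F V // A ≤ U ∧ finrank F A = d}
  simp only [Nat.card_eq_fintype_card (α := F)]
  rw [← card_linearIndependent (K := F) (V := U) hd]
  have hfib : ∀ A : {A : Submodule F V // A ≤ U ∧ finrank F A = d},
      Nat.card {s : Fin d → A.1 // LinearIndependent F s} = ∏ i : Fin d, (Fintype.card F ^ d - Fintype.card F ^ (i : ℕ)) := by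
    intro A
    rw [card_linearIndependent (K := F) (V := A.1) (le_of_eq A.2.2.symm), A.2.2]
  have hgen : ∀ (t : Fin d → V) (A : Submodule F V), LinearIndependent F t → finrank F A = d →
      (∀ i, t i ∈ A) → Submodule.span F (Set.range t) = A := by
    intro t A ht hA hmem
    refine Submodule.eq_of_le_of_finrank_eq (Submodule.span_le.2 ?_) ?_
    · rintro _ ⟨i, rfl⟩; exact hmem i
    · rw [finrank_span_eq_card ht, Fintype.card_fin, hA]
  have hli : ∀ {W : Submodule F V} (t : Fin d → W), LinearIndependent F t → LinearIndependent F (fun i => (t i : V)) :=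
    fun t ht => ht.map' _ (Submodule.ker_subtype _)
  have hli' : ∀ {W : Submodule F V} (t : Fin d → W), LinearIndependent F (fun i => (t i : V)) → LinearIndependent F t :=
    fun {W} t ht => LinearIndependent.of_comp W.subtype ht
  have e : {s : Fin d → U // LinearIndependent F s} ≃
      Σ A : {A : Submodule F V // A ≤ U ∧ finrank F A = d}, {s : Fin d → A.1 // LinearIndependent F s} :=
    { toFun := fun s => ⟨⟨Submodule.span F (Set.range fun i => (s.1 i : V)),
          Submodule.span_le.2 (by rintro _ ⟨i, rfl⟩; exact (s.1 i).2),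
          by rw [finrank_span_eq_card (hli _ s.2), Fintype.card_fin]⟩,
        ⟨fun i => ⟨s.1 i, Submodule.subset_span ⟨i, rfl⟩⟩, hli' _ (show LinearIndependent F (fun i => (s.1 i : V)) from hli s.1 s.2)⟩⟩
      invFun := fun x => ⟨fun i => ⟨x.2.1 i, x.1.2.1 (x.2.1 i).2⟩, hli' _ (show LinearIndependent F (fun i => (x.2.1 i : V)) from hli x.2.1 x.2.2)⟩
      left_inv := fun _ => rfl
      right_inv := by
        rintro ⟨⟨A, hA1, hA2⟩, ⟨t, ht⟩⟩
        have inj : ∀ x y : (Σ A : {A : Submodule F V // A ≤ U ∧ finrank F A = d}, {s : Fin d → A.1 // LinearIndependent F s}),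
            x.1.1 = y.1.1 → (∀ i, (x.2.1 i : V) = y.2.1 i) → x = y := by
          rintro ⟨⟨B, hB⟩, ⟨u, hu⟩⟩ ⟨⟨B', hB'⟩, ⟨u', hu'⟩⟩ h1 h2
          simp only at h1 h2
          subst h1
          obtain rfl : u = u' := funext fun i => Subtype.ext (h2 i)
          rfl
        exact inj _ _ (hgen _ A (hli t ht) hA2 (fun i => (t i).2)) (fun i => rfl) }
  rw [Nat.card_congr e, Nat.card_sigma, Finset.sum_congr rfl (fun A _ => hfib A), Finset.sum_const,
    smul_eq_mul, Finset.card_univ, Nat.card_eq_fintype_card]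

/-- The number of subspaces of dimension `d` is, up to odd factors, `m` in dimension `d * m`. -/
def CountHyp (q d : ℕ) : Prop :=
  ∀ m N : ℕ, 1 ≤ m → N * ∏ i : Fin d, (q ^ d - q ^ (i : ℕ)) = ∏ i : Fin d, (q ^ (d * m) - q ^ (i : ℕ)) →
    ∃ a b, Odd a ∧ Odd b ∧ a * N = b * m

theorem card_splits (hq : Odd (Nat.card F)) {d : ℕ} (hd : 1 ≤ d) (hN : CountHyp (Nat.card F) d) :
    ∀ m : ℕ, ∃ c, Odd c ∧ ∀ U : Submodule F V, finrank F U = d * m → Nat.card {s // IsSplit d m U s} = c := by
  classical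
  haveI : Finite V := Module.finite_of_finite F
  intro m
  induction m with
  | zero =>
    refine ⟨1, odd_one, fun U hU => ?_⟩
    rw [Nat.card_eq_one_iff_unique]
    have hU0 : U = ⊥ := Submodule.finrank_eq_zero.1 (by simpa using hU)
    refine ⟨⟨fun s t => Subtype.ext ?_⟩, ⟨⟨∅, rfl, by simp, by simp [hU0]⟩⟩⟩
    rw [Finset.card_eq_zero.1 s.2.1, Finset.card_eq_zero.1 t.2.1]
  | succ m ih =>
    obtain ⟨c', hc', hcard⟩ := ih
    haveI := Fintype.ofFinite (Submodule F V)
    have key : ∀ U : Submodule F V, finrank F U = d * (m + 1) →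
        Nat.card {s // IsSplit d (m + 1) U s} * (m + 1) =
          Nat.card {A : Submodule F V // A ≤ U ∧ finrank F A = d} * Nat.card F ^ (d * m * d) * c' := by
      intro U hU
      have h := split_step hd hU
      rw [Nat.card_sigma, Nat.card_sigma,
        Finset.sum_congr rfl (fun (p : Pair d U) _ => hcard p.2.1 (by
          have h' := Submodule.finrank_sup_add_finrank_inf_eq p.1.1 p.2.1
          rw [p.2.2.2.1, p.2.2.2.2, finrank_bot, p.1.2.2, hU, Nat.mul_succ] at h'
          omega)),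
        Finset.sum_const, smul_eq_mul, Finset.card_univ, ← Nat.card_eq_fintype_card, Nat.card_sigma,
        Finset.sum_congr rfl (fun (A : {A : Submodule F V // A ≤ U ∧ finrank F A = d}) _ =>
          card_complements A.2.1)] at h
      rw [Finset.sum_congr rfl (fun (A : {A : Submodule F V // A ≤ U ∧ finrank F A = d}) _ => by
          rw [A.2.2, hU, Nat.mul_succ, Nat.add_sub_cancel]), Finset.sum_const, smul_eq_mul, Finset.card_univ,
        ← Nat.card_eq_fintype_card] at h
      rw [h, Finset.sum_congr rfl (fun (s : {s // IsSplit d (m + 1) U s}) _ => by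
        rw [Nat.card_eq_fintype_card, Fintype.card_coe, s.2.1]), Finset.sum_const, smul_eq_mul,
        Finset.card_univ, Nat.card_eq_fintype_card]
    have hNU : ∀ U : Submodule F V, finrank F U = d * (m + 1) →
        Nat.card {A : Submodule F V // A ≤ U ∧ finrank F A = d} * ∏ i : Fin d, (Nat.card F ^ d - Nat.card F ^ (i : ℕ)) =
          ∏ i : Fin d, (Nat.card F ^ (d * (m + 1)) - Nat.card F ^ (i : ℕ)) := fun U hU => by
      rw [card_subspaces (U := U) (d := d) (by rw [hU]; exact Nat.le_mul_of_pos_right d (Nat.succ_pos m)), hU]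
    by_cases hex : ∃ U : Submodule F V, finrank F U = d * (m + 1)
    · obtain ⟨U0, h0⟩ := hex
      refine ⟨Nat.card {s // IsSplit d (m + 1) U0 s}, ?_, fun U hU => ?_⟩
      · obtain ⟨a, b, ha, hb, hab⟩ := hN (m + 1) _ (Nat.succ_pos m) (hNU U0 h0)
        have h2 : a * Nat.card {s // IsSplit d (m + 1) U0 s} * (m + 1) =
            Nat.card F ^ (d * m * d) * b * c' * (m + 1) := by
          rw [mul_assoc, key U0 h0, ← mul_assoc, ← mul_assoc, hab]
          ring
        have h3 := Nat.eq_of_mul_eq_mul_right (Nat.succ_pos m) h2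
        have h4 : Odd (Nat.card F ^ (d * m * d) * b * c') := ((hq.pow).mul hb).mul hc'
        rw [← h3] at h4
        exact (Nat.odd_mul.1 h4).2
      · refine Nat.eq_of_mul_eq_mul_right (Nat.succ_pos m) ?_
        rw [key U hU, key U0 h0]
        congr 2
        have hpos : 0 < ∏ i : Fin d, (Nat.card F ^ d - Nat.card F ^ (i : ℕ)) :=
          Finset.prod_pos fun i _ => Nat.sub_pos_of_lt (Nat.pow_lt_pow_right Finite.one_lt_card i.2)
        exact Nat.eq_of_mul_eq_mul_right hpos ((hNU U hU).trans (hNU U0 h0).symm)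
    · exact ⟨1, odd_one, fun U hU => absurd ⟨U, hU⟩ hex⟩

theorem countHyp_one {q : ℕ} (hq : q % 4 = 1) (hq1 : 2 ≤ q) : CountHyp q 1 := by
  intro m N hm h
  rw [Fin.prod_univ_one, Fin.prod_univ_one] at h
  simp only [Fin.val_zero, pow_zero, one_mul, pow_one] at h
  obtain ⟨a, b, ha, hb, hab⟩ := Cfsg.Agent.H52.Planes.odd_geom q hq m hm
  refine ⟨a, b, ha, hb, ?_⟩
  rw [← hab]
  congr 1
  have hg := geom_sum_mul_add (q - 1) m
  rw [Nat.sub_add_cancel (by omega : 1 ≤ q)] at hg
  refine Nat.eq_of_mul_eq_mul_right (show 0 < q - 1 by omega) ?_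
  rw [h, ← hg, Nat.add_sub_cancel]

theorem countHyp_two {q : ℕ} (hq : Odd q) (hq1 : 2 ≤ q) : CountHyp q 2 := by
  intro m N hm h
  rw [Fin.prod_univ_two, Fin.prod_univ_two] at h
  simp only [Fin.val_zero, pow_zero, Fin.val_one, pow_one] at h
  obtain ⟨a, b, ha, hb, hab⟩ := Cfsg.Agent.H52.Planes.odd_geom (q ^ 2) (by
    obtain ⟨k, rfl⟩ := hq
    rw [show (2 * k + 1) ^ 2 = 4 * (k * k + k) + 1 by ring]
    omega) m hm
  set S := ∑ i ∈ Finset.range m, (q ^ 2) ^ i
  set T := ∑ i ∈ Finset.range (2 * m - 1), q ^ i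
  have hT : Odd T := by
    rw [Nat.odd_iff, Finset.sum_nat_mod,
      Finset.sum_congr rfl (fun i _ => show q ^ i % 2 = 1 from Nat.odd_iff.1 hq.pow),
      Finset.sum_const, Finset.card_range, smul_eq_mul, mul_one]
    omega
  refine ⟨a, b * T, ha, hb.mul hT, ?_⟩
  have hS : q ^ (2 * m) - 1 = S * (q ^ 2 - 1) := by
    have hg := geom_sum_mul_add (q ^ 2 - 1) m
    rw [Nat.sub_add_cancel (show 1 ≤ q ^ 2 from Nat.one_le_pow _ _ (by omega))] at hg
    rw [pow_mul, ← hg, Nat.add_sub_cancel]
  have hT' : q ^ (2 * m) - q = q * (T * (q - 1)) := by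
    have hg := geom_sum_mul_add (q - 1) (2 * m - 1)
    rw [Nat.sub_add_cancel (by omega : 1 ≤ q)] at hg
    have h1 : q ^ (2 * m) = q * q ^ (2 * m - 1) := by rw [← pow_succ']; congr 1; omega
    rw [h1, ← hg, mul_add, mul_one, Nat.add_sub_cancel]
  have hq2 : q ^ 2 - q = q * (q - 1) := by rw [pow_two, Nat.mul_sub, mul_one]
  rw [hS, hT', hq2] at h
  have hne : 0 < (q ^ 2 - 1) * (q * (q - 1)) := by
    have : 4 ≤ q ^ 2 := by nlinarith
    exact Nat.mul_pos (by omega) (Nat.mul_pos (by omega) (by omega))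
  have hN : N = S * T := Nat.eq_of_mul_eq_mul_right hne (by rw [h]; ring)
  rw [hN, ← mul_assoc, hab]
  ring

end Count

end Cfsg.Agent.H52.Split
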