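import Mathlib
import Cfsg.Agent.H52.SplitFrames
import Cfsg.Agent.H41.Basic

/-!
Normal elementary abelian 2-subgroups of Sylow 2-subgroups of general linear groups over fields of
odd order.
-/

set_option autoImplicit false

namespace Cfsg.Agent.H52.Split

open Module (finrank)

variable {F V : Type*} [Field F] [AddCommGroup V] [Module F V]

/-- The image of a family of subspaces. -/
noncomputable def move (g : V ≃ₗ[F] V) (s : Finset (Submodule F V)) : Finset (Submodule F V) :=
  haveI := Classical.decEq (Submodule F V)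
  s.image fun A => A.map g.toLinearMap

theorem mem_move {g : V ≃ₗ[F] V} {s : Finset (Submodule F V)} {B : Submodule F V} :
    B ∈ move g s ↔ ∃ A ∈ s, A.map g.toLinearMap = B := by
  classical
  simp [move]

theorem move_one (s : Finset (Submodule F V)) : move (1 : V ≃ₗ[F] V) s = s := by
  ext B
  rw [mem_move]
  exact ⟨fun ⟨A, hA, h⟩ => by rw [← h]; exact (Submodule.map_id A).symm ▸ hA, fun h => ⟨B, h, Submodule.map_id B⟩⟩

theorem move_mul (g h : V ≃ₗ[F] V) (s : Finset (Submodule F V)) : move (g * h) s = move g (move h s) := by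
  ext B
  simp only [mem_move]
  constructor
  · rintro ⟨A, hA, rfl⟩
    exact ⟨_, ⟨A, hA, rfl⟩, (Submodule.map_comp _ _ A).symm⟩
  · rintro ⟨_, ⟨A, hA, rfl⟩, rfl⟩
    exact ⟨A, hA, Submodule.map_comp _ _ A⟩

/-- The elements acting as a sign on each member of a family. -/
def signs (s : Finset (Submodule F V)) : Subgroup (V ≃ₗ[F] V) where
  carrier := {g | ∀ A ∈ s, (∀ v ∈ A, g v = v) ∨ (∀ v ∈ A, g v = -v)}
  mul_mem' {a b} ha hb P hP := by
    rcases hb P hP with h | h <;> rcases ha P hP with h' | h'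
    · exact Or.inl fun v hv => by show a (b v) = v; rw [h v hv, h' v hv]
    · exact Or.inr fun v hv => by show a (b v) = -v; rw [h v hv, h' v hv]
    · exact Or.inr fun v hv => by show a (b v) = -v; rw [h v hv, map_neg, h' v hv]
    · exact Or.inl fun v hv => by show a (b v) = v; rw [h v hv, map_neg, h' v hv, neg_neg]
  one_mem' := fun P _ => Or.inl fun v _ => rfl
  inv_mem' {a} ha P hP := by
    rcases ha P hP with h | h
    · exact Or.inl fun v hv => a.symm_apply_eq.2 (h v hv).symm
    · exact Or.inr fun v hv => a.symm_apply_eq.2 (by rw [map_neg, h v hv, neg_neg])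

theorem ext_of_sup {s : Finset (Submodule F V)} (hs : s.sup id = (⊤ : Submodule F V)) (g h : V ≃ₗ[F] V)
    (hgh : ∀ A ∈ s, ∀ v ∈ A, g v = h v) : g = h := by
  refine LinearEquiv.ext fun v => ?_
  have hle : s.sup id ≤ LinearMap.eqLocus g.toLinearMap h.toLinearMap := Finset.sup_le fun A hA w hw => hgh A hA w hw
  rw [hs] at hle
  exact hle Submodule.mem_top

theorem signs_sq {s : Finset (Submodule F V)} (hs : s.sup id = (⊤ : Submodule F V)) (g : V ≃ₗ[F] V)
    (hg : g ∈ signs s) : g ^ 2 = 1 := by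
  refine ext_of_sup hs _ _ fun A hA v hv => ?_
  rw [pow_two]
  change g (g v) = v
  rcases hg A hA with h | h
  · rw [h v hv, h v hv]
  · rw [h v hv, map_neg, h v hv, neg_neg]

/-- An element defined on a pair of complements. -/
noncomputable def glue {A C : Submodule F V} (h : IsCompl A C) (r : A ≃ₗ[F] A) : V ≃ₗ[F] V :=
  ((Submodule.prodEquivOfIsCompl A C h).symm.trans (r.prodCongr (LinearEquiv.refl F C))).trans
    (Submodule.prodEquivOfIsCompl A C h)

theorem glue_left {A C : Submodule F V} (h : IsCompl A C) (r : A ≃ₗ[F] A) (v : A) :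
    glue h r v = r v := by
  simp [glue, Submodule.prodEquivOfIsCompl_symm_apply_left]

theorem glue_right {A C : Submodule F V} (h : IsCompl A C) (r : A ≃ₗ[F] A) {v : V} (hv : v ∈ C) :
    glue h r v = v := by
  have : (Submodule.prodEquivOfIsCompl A C h).symm v = (0, ⟨v, hv⟩) :=
    (Submodule.prodEquivOfIsCompl A C h).symm_apply_eq.2 (by simp)
  simp [glue, this]

variable [FiniteDimensional F V]

/-- The setwise stabilisers of the members of a family. -/
def block (s : Finset (Submodule F V)) : Subgroup (V ≃ₗ[F] V) where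
  carrier := {g | ∀ A ∈ s, ∀ v ∈ A, g v ∈ A}
  mul_mem' {a b} ha hb A hA v hv := ha A hA _ (hb A hA v hv)
  one_mem' := fun _ _ v hv => hv
  inv_mem' {a} ha A hA v hv := by
    have hle : A.map a.toLinearMap ≤ A := by
      rintro _ ⟨w, hw, rfl⟩
      exact ha A hA w hw
    have heq : A.map a.toLinearMap = A := Submodule.eq_of_le_of_finrank_eq hle (LinearEquiv.finrank_map_eq a A)
    rw [← heq] at hv
    obtain ⟨w, hw, rfl⟩ := hv
    change a.symm (a w) ∈ A
    rwa [a.symm_apply_apply]

theorem block_map {s : Finset (Submodule F V)} {g : V ≃ₗ[F] V} (hg : g ∈ block s) {A : Submodule F V}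
    (hA : A ∈ s) : A.map g.toLinearMap = A :=
  Submodule.eq_of_le_of_finrank_eq (by rintro _ ⟨w, hw, rfl⟩; exact hg A hA w hw) (LinearEquiv.finrank_map_eq g A)

/-- The restriction of block elements to a member. -/
noncomputable def resHom {s : Finset (Submodule F V)} {A : Submodule F V} (hA : A ∈ s) :
    block s →* (A ≃ₗ[F] A) where
  toFun g := LinearEquiv.ofSubmodules g.1 A A (block_map g.2 hA)
  map_one' := LinearEquiv.ext fun _ => Subtype.ext rfl
  map_mul' _ _ := LinearEquiv.ext fun _ => Subtype.ext rfl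

theorem resHom_apply {s : Finset (Submodule F V)} {A : Submodule F V} (hA : A ∈ s) (g : block s) (v : A) :
    (resHom hA g v : V) = g.1 v := rfl

/-- A direct decomposition of the whole space, detected by dimensions. -/
structure IsDec (s : Finset (Submodule F V)) : Prop where
  sup_eq : s.sup id = (⊤ : Submodule F V)
  sum_eq : ∑ A ∈ s, finrank F A = finrank F V
  pos : ∀ A ∈ s, 1 ≤ finrank F A

theorem IsDec.exists_compl {s : Finset (Submodule F V)} (hs : IsDec s) {A : Submodule F V} (hA : A ∈ s) :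
    ∃ C, IsCompl A C ∧ ∀ B ∈ s, B ≠ A → B ≤ C := by
  classical
  refine ⟨(s.erase A).sup id, ?_, fun B hB hne => Finset.le_sup (f := id) (Finset.mem_erase.2 ⟨hne, hB⟩)⟩
  have hsup : A ⊔ (s.erase A).sup id = ⊤ := by
    rw [← hs.sup_eq]
    conv_rhs => rw [← Finset.insert_erase hA, Finset.sup_insert]
    rfl
  have hle : finrank F A + finrank F ((s.erase A).sup id : Submodule F V) ≤ finrank F V := by
    rw [← hs.sum_eq, ← Finset.add_sum_erase _ _ hA]
    exact Nat.add_le_add_left (finrank_sup_le_sum _) _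
  have h := Submodule.finrank_sup_add_finrank_inf_eq A ((s.erase A).sup id)
  rw [hsup, finrank_top] at h
  exact ⟨disjoint_iff.2 (Submodule.finrank_eq_zero.1 (by omega)), codisjoint_iff.2 hsup⟩

theorem IsDec.exists_ext {s : Finset (Submodule F V)} (hs : IsDec s) {A : Submodule F V} (hA : A ∈ s)
    (r : A ≃ₗ[F] A) : ∃ g : block s, resHom hA g = r ∧ ∀ B ∈ s, B ≠ A → ∀ v ∈ B, g.1 v = v := by
  obtain ⟨C, hC, hle⟩ := hs.exists_compl hA
  refine ⟨⟨glue hC r, fun B hB v hv => ?_⟩, ?_, fun B hB hne v hv => glue_right hC r (hle B hB hne hv)⟩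
  · rcases eq_or_ne B A with rfl | hne
    · have h := glue_left hC r ⟨v, hv⟩
      change glue hC r v = _ at h
      rw [h]; exact (r _).2
    · rw [glue_right hC r (hle B hB hne hv)]; exact hv
  · exact LinearEquiv.ext fun v => Subtype.ext (glue_left hC r v)

section Fin

variable [Finite F]

theorem finite_aut : Finite (V ≃ₗ[F] V) :=
  haveI : Finite V := Module.finite_of_finite F
  Finite.of_injective (fun g : V ≃ₗ[F] V => (g : V → V)) DFunLike.coe_injective

theorem card_signs_le {s : Finset (Submodule F V)} (hs : s.sup id = (⊤ : Submodule F V)) :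
    Nat.card (signs s) ≤ 2 ^ s.card := by
  classical
  let φ : signs s → s.powerset := fun g =>
    ⟨s.filter fun A => ∀ v ∈ A, g.1 v = v, Finset.mem_powerset.2 (Finset.filter_subset _ _)⟩
  have hinj : Function.Injective φ := by
    intro g h e
    refine Subtype.ext (ext_of_sup hs _ _ fun A hA v hv => ?_)
    have e' : (A ∈ (φ g).1) ↔ (A ∈ (φ h).1) := by rw [e]
    simp only [φ, Finset.mem_filter, hA, true_and] at e'
    rcases g.2 A hA with a | a
    · rw [a v hv, e'.1 a v hv]
    · rcases h.2 A hA with b | b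
      · rw [b v hv, e'.2 b v hv]
      · rw [a v hv, b v hv]
  have := Nat.card_le_card_of_injective φ hinj
  rwa [Nat.card_eq_fintype_card (α := s.powerset), Fintype.card_coe, Finset.card_powerset] at this

theorem le_card_signs (h2 : (2 : F) ≠ 0) {s : Finset (Submodule F V)} (hs : IsDec s) :
    2 ^ s.card ≤ Nat.card (signs s) := by
  classical
  haveI := finite_aut (F := F) (V := V)
  have key : ∀ T, T ⊆ s → ∃ g : V ≃ₗ[F] V, ∀ P ∈ s, ∀ v ∈ P, g v = if P ∈ T then -v else v := by
    intro T
    induction T using Finset.induction_on with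
    | empty => exact fun _ => ⟨1, fun P _ v _ => by simp⟩
    | @insert Q T hQ ih =>
      intro hsub
      rw [Finset.insert_subset_iff] at hsub
      obtain ⟨g, hg⟩ := ih hsub.2
      obtain ⟨r, hr1, hr2⟩ := hs.exists_ext hsub.1 (LinearEquiv.neg F)
      refine ⟨g * r.1, fun P hP v hv => ?_⟩
      change g (r.1 v) = _
      rcases eq_or_ne P Q with rfl | hne
      · have h3 : r.1 v = -v := by
          rw [← resHom_apply hsub.1 r ⟨v, hv⟩, hr1]
          rfl
        rw [h3, map_neg, hg P hP v hv, if_neg hQ, if_pos (Finset.mem_insert_self _ _)]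
      · rw [hr2 P hP hne v hv, hg P hP v hv]
        simp [hne]
  choose g hg using key
  have hf : Function.Injective (fun T : s.powerset =>
      (⟨g T.1 (Finset.mem_powerset.1 T.2), fun P hP => (by
        by_cases h : P ∈ T.1
        · exact Or.inr fun v hv => by rw [hg _ _ P hP v hv, if_pos h]
        · exact Or.inl fun v hv => by rw [hg _ _ P hP v hv, if_neg h])⟩ : signs s)) := by
    rintro ⟨T1, h1⟩ ⟨T2, h2'⟩ he
    have he' : g T1 (Finset.mem_powerset.1 h1) = g T2 (Finset.mem_powerset.1 h2') := congrArg Subtype.val he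
    refine Subtype.ext (Finset.ext fun P => ?_)
    by_cases hP : P ∈ s
    · obtain ⟨u, hu, hu0⟩ := (Submodule.ne_bot_iff P).1 (fun h => by
        have := hs.pos P hP
        rw [h, finrank_bot] at this
        omega)
      have hne : -u ≠ u := by
        intro e
        have : (2 : F) • u = 0 := by rw [two_smul]; nth_rewrite 1 [← e]; exact neg_add_cancel u
        exact (smul_eq_zero.1 this).elim h2 hu0
      have := hg T1 (Finset.mem_powerset.1 h1) P hP u hu
      rw [he', hg T2 (Finset.mem_powerset.1 h2') P hP u hu] at this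
      split_ifs at this with a b b
      · simp [a, b]
      · exact absurd this hne
      · exact absurd this.symm hne
      · simp [a, b]
    · exact ⟨fun h => absurd (Finset.mem_powerset.1 h1 h) hP, fun h => absurd (Finset.mem_powerset.1 h2' h) hP⟩
  have := Nat.card_le_card_of_injective _ hf
  rwa [Nat.card_eq_fintype_card, Fintype.card_coe, Finset.card_powerset] at this

/-- Distinct restrictions of a family of maps. -/
theorem card_elemAbelian_le (h2 : (2 : F) ≠ 0) (E : Subgroup (V ≃ₗ[F] V)) (hE : ∀ e ∈ E, e ^ 2 = 1) :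
    Nat.card E ≤ 2 ^ finrank F V := by
  classical
  haveI : Finite V := Module.finite_of_finite F
  haveI := finite_aut (F := F) (V := V)
  have hcomm : ∀ e ∈ E, ∀ f ∈ E, ∀ v, e (f v) = f (e v) := by
    intro e he f hf v
    have hinv : ∀ g ∈ E, g⁻¹ = g := fun g hg => inv_eq_of_mul_eq_one_left (by rw [← pow_two, hE g hg])
    have : e * f = f * e := by rw [← hinv _ (E.mul_mem he hf), mul_inv_rev, hinv e he, hinv f hf]
    exact DFunLike.congr_fun this v
  have main : ∀ (d : ℕ) (U : Submodule F V), finrank F U = d → (∀ e ∈ E, ∀ v ∈ U, e v ∈ U) →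
      Nat.card (Set.range fun e : E => fun v : U => e.1 v) ≤ 2 ^ d := by
    intro d
    induction d using Nat.strong_induction_on with
    | _ d ih =>
      intro U hd hinv
      by_cases hsc : ∀ e ∈ E, (∀ v ∈ U, e v = v) ∨ (∀ v ∈ U, e v = -v)
      · rcases Nat.eq_zero_or_pos d with rfl | hpos
        · have hU0 : U = ⊥ := Submodule.finrank_eq_zero.1 hd
          have : Subsingleton (Set.range fun e : E => fun v : U => e.1 v) := ⟨by
            rintro ⟨_, e, rfl⟩ ⟨_, e', rfl⟩
            refine Subtype.ext (funext fun v => ?_)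
            have hv0 : (v : V) = 0 := (Submodule.eq_bot_iff U).1 hU0 v v.2
            simp [hv0]⟩
          simpa using Finite.card_le_one_iff_subsingleton.2 this
        have hsub : (Set.range fun e : E => fun v : U => e.1 v) ⊆ {(fun v : U => (v : V)), (fun v : U => -(v : V))} := by
          rintro _ ⟨⟨e, he⟩, rfl⟩
          rcases hsc e he with h | h
          · exact Or.inl (funext fun v => h v v.2)
          · exact Or.inr (funext fun v => h v v.2)
        rw [Nat.card_coe_set_eq]
        calc (Set.range fun e : E => fun v : U => e.1 v).ncard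
            ≤ ({(fun v : U => (v : V)), (fun v : U => -(v : V))} : Set (U → V)).ncard :=
              Set.ncard_le_ncard hsub (Set.toFinite _)
          _ ≤ 2 := by
              refine (Set.ncard_insert_le _ _).trans ?_
              rw [Set.ncard_singleton]
          _ ≤ 2 ^ d := Nat.le_self_pow (by omega) 2
      · push Not at hsc
        obtain ⟨e, he, ⟨v1, hv1, hv1'⟩, ⟨v2, hv2, hv2'⟩⟩ := hsc
        have hinvol : ∀ v, e (e v) = v := fun v => by
          have := hE e he
          rw [pow_two] at this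
          exact DFunLike.congr_fun this v
        let eig : F → Submodule F V := fun c =>
          U ⊓ LinearMap.eqLocus e.toLinearMap (c • LinearMap.id)
        have meig : ∀ c v, v ∈ eig c ↔ v ∈ U ∧ e v = c • v := fun c v => Iff.rfl
        have hinv' : ∀ c, ∀ f ∈ E, ∀ v ∈ eig c, f v ∈ eig c := by
          intro c f hf v hv
          rw [meig] at hv ⊢
          exact ⟨hinv f hf v hv.1, by rw [hcomm e he f hf, hv.2, map_smul]⟩
        have hsplit : ∀ v ∈ U, ∃ a ∈ eig 1, ∃ b ∈ eig (-1), v = a + b := by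
          intro v hv
          refine ⟨(2 : F)⁻¹ • (v + e v), (meig _ _).2 ⟨U.smul_mem _ (U.add_mem hv (hinv e he v hv)), ?_⟩,
            (2 : F)⁻¹ • (v - e v), (meig _ _).2 ⟨U.smul_mem _ (U.sub_mem hv (hinv e he v hv)), ?_⟩, ?_⟩
          · rw [map_smul, map_add, hinvol, one_smul, add_comm]
          · rw [map_smul, map_sub, hinvol, neg_smul, one_smul, ← smul_neg, neg_sub]
          · rw [← smul_add, add_add_sub_cancel, ← two_smul F, smul_smul, inv_mul_cancel₀ h2, one_smul]
        have hinf : eig 1 ⊓ eig (-1) = ⊥ := by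
          rw [Submodule.eq_bot_iff]
          rintro v ⟨hp, hm⟩
          have a1 := ((meig _ _).1 hp).2
          have a2 := ((meig _ _).1 hm).2
          rw [one_smul] at a1
          rw [neg_smul, one_smul, a1] at a2
          have : (2 : F) • v = 0 := by rw [two_smul]; nth_rewrite 2 [a2]; exact add_neg_cancel v
          exact (smul_eq_zero.1 this).resolve_left h2
        have hsup : eig 1 ⊔ eig (-1) = U := le_antisymm (sup_le inf_le_left inf_le_left) fun v hv => by
          obtain ⟨a, ha, b, hb, rfl⟩ := hsplit v hv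
          exact Submodule.add_mem_sup ha hb
        have hdim := Submodule.finrank_sup_add_finrank_inf_eq (eig 1) (eig (-1))
        rw [hsup, hinf, finrank_bot, add_zero] at hdim
        have hUp : finrank F (eig 1) ≠ 0 := by
          intro h
          apply hv2'
          obtain ⟨a, ha, b, hb, rfl⟩ := hsplit v2 hv2
          rw [Submodule.finrank_eq_zero.1 h, Submodule.mem_bot] at ha
          rw [ha, zero_add, ((meig _ _).1 hb).2, neg_smul, one_smul]
        have hUm : finrank F (eig (-1)) ≠ 0 := by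
          intro h
          apply hv1'
          obtain ⟨a, ha, b, hb, rfl⟩ := hsplit v1 hv1
          rw [Submodule.finrank_eq_zero.1 h, Submodule.mem_bot] at hb
          rw [hb, add_zero, ((meig _ _).1 ha).2, one_smul]
        have hp := ih (finrank F (eig 1)) (by omega) (eig 1) rfl (hinv' 1)
        have hq := ih (finrank F (eig (-1))) (by omega) (eig (-1)) rfl (hinv' (-1))
        have hpre : ∀ r : (Set.range fun e : E => fun v : U => e.1 v), ∃ f : E, (fun v : U => f.1 v) = r.1 := fun r => r.2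
        choose f hf using hpre
        have hle : Nat.card (Set.range fun e : E => fun v : U => e.1 v) ≤
            Nat.card ((Set.range fun e : E => fun v : eig 1 => e.1 v) × (Set.range fun e : E => fun v : eig (-1) => e.1 v)) := by
          refine Nat.card_le_card_of_injective (fun r => (⟨_, f r, rfl⟩, ⟨_, f r, rfl⟩)) ?_
          intro r r' h
          have e1 : (fun v : eig 1 => (f r).1 v) = (fun v : eig 1 => (f r').1 v) := congrArg Subtype.val (Prod.ext_iff.1 h).1
          have e2 : (fun v : eig (-1) => (f r).1 v) = (fun v : eig (-1) => (f r').1 v) := congrArg Subtype.val (Prod.ext_iff.1 h).2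
          refine Subtype.ext ?_
          rw [← hf r, ← hf r']
          funext v
          obtain ⟨a, ha, b, hb, hv⟩ := hsplit v v.2
          rw [hv, map_add, map_add]
          exact congrArg₂ (· + ·) (congrFun e1 ⟨a, ha⟩) (congrFun e2 ⟨b, hb⟩)
        rw [Nat.card_prod] at hle
        refine hle.trans ((Nat.mul_le_mul hp hq).trans ?_)
        rw [← pow_add]
        exact Nat.pow_le_pow_right (by norm_num) (by omega)
  refine le_trans (Nat.card_le_card_of_injective
    (fun e : E => (⟨_, e, rfl⟩ : Set.range fun e : E => fun v : (⊤ : Submodule F V) => e.1 v)) ?_)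
    (main _ ⊤ (finrank_top F V) (fun _ _ _ _ => Submodule.mem_top))
  intro e e' he
  have he' := congrArg Subtype.val he
  exact Subtype.ext (LinearEquiv.ext fun v => congrFun he' ⟨v, Submodule.mem_top⟩)

/-! ### The Sylow subgroup fixes a decomposition -/

theorem exists_fixed_of_odd {H : Subgroup (V ≃ₗ[F] V)} (hH : IsPGroup 2 H) {α : Type*}
    (act : (V ≃ₗ[F] V) → α → α) (h1 : ∀ a, act 1 a = a) (hmul : ∀ g ∈ H, ∀ h ∈ H, ∀ a, act (g * h) a = act g (act h a))
    (hodd : Odd (Nat.card α)) : ∃ a, ∀ g ∈ H, act g a = a := by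
  letI : MulAction H α :=
    { smul := fun g a => act g.1 a
      one_smul := h1
      mul_smul := fun g h a => hmul g.1 g.2 h.1 h.2 a }
  obtain ⟨a, ha⟩ := hH.nonempty_fixed_point_of_prime_not_dvd_card α (fun h => by
    have := Nat.odd_iff.1 hodd
    omega)
  exact ⟨a, fun g hg => ha ⟨g, hg⟩⟩

theorem finrank_move {g : V ≃ₗ[F] V} {A : Submodule F V} : finrank F (A.map g.toLinearMap) = finrank F A :=
  LinearEquiv.finrank_map_eq g A

theorem exists_fixed_split (hq : Odd (Nat.card F)) {d : ℕ} (hd : 1 ≤ d) (hN : CountHyp (Nat.card F) d)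
    {H : Subgroup (V ≃ₗ[F] V)} (hH : IsPGroup 2 H) (m : ℕ) (U : Submodule F V) (hU : finrank F U = d * m)
    (hinv : ∀ g ∈ H, U.map g.toLinearMap = U) : ∃ s, IsSplit d m U s ∧ ∀ g ∈ H, move g s = s := by
  classical
  obtain ⟨c, hc, hcard⟩ := card_splits (F := F) (V := V) hq hd hN m
  have hmove : ∀ g ∈ H, ∀ s, IsSplit d m U s → IsSplit d m U (move g s) := by
    intro g hg s hs
    refine ⟨?_, fun B hB => ?_, ?_⟩
    · rw [show move g s = s.image fun A => A.map g.toLinearMap by ext; simp [mem_move],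
        Finset.card_image_of_injective _ (Submodule.map_injective_of_injective g.injective)]
      exact hs.1
    · obtain ⟨A, hA, rfl⟩ := mem_move.1 hB
      rw [finrank_move, hs.2.1 A hA]
    · rw [← hinv g hg, ← hs.2.2, Finset.apply_sup_eq_sup_comp (Submodule.map g.toLinearMap) (by simp [Submodule.map_sup]) (Submodule.map_bot _)]
      rw [show move g s = s.image fun A => A.map g.toLinearMap by ext; simp [mem_move], Finset.sup_image]
      rfl
  let act : (V ≃ₗ[F] V) → {s // IsSplit d m U s} → {s // IsSplit d m U s} := fun g s =>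
    if h : g ∈ H then ⟨move g s.1, hmove g h s.1 s.2⟩ else s
  obtain ⟨s, hs⟩ := exists_fixed_of_odd hH act
    (fun s => by simp only [act, dif_pos (one_mem H)]; exact Subtype.ext (move_one _))
    (fun g hg h hh s => by
      simp only [act, dif_pos (mul_mem hg hh), dif_pos hh, dif_pos hg]
      exact Subtype.ext (move_mul _ _ _))
    (by rw [hcard U hU]; exact hc)
  refine ⟨s.1, s.2, fun g hg => ?_⟩
  have := hs g hg
  simp only [act, dif_pos hg] at this
  exact congrArg Subtype.val this

theorem exists_fixed_pair (hq : Odd (Nat.card F)) {n : ℕ} (hn : Odd n) (hV : finrank F V = n)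
    {H : Subgroup (V ≃ₗ[F] V)} (hH : IsPGroup 2 H) :
    ∃ L C : Submodule F V, IsCompl L C ∧ finrank F L = 1 ∧
      ∀ g ∈ H, L.map g.toLinearMap = L ∧ C.map g.toLinearMap = C := by
  classical
  haveI : Finite V := Module.finite_of_finite F
  have hnpos : 1 ≤ n := hn.pos
  have hodd : Odd (Nat.card (Pair 1 (⊤ : Submodule F V))) := by
    haveI := Fintype.ofFinite {A : Submodule F V // A ≤ ⊤ ∧ finrank F A = 1}
    rw [Nat.card_sigma, Finset.sum_congr rfl (fun (A : {A : Submodule F V // A ≤ ⊤ ∧ finrank F A = 1}) _ => by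
      rw [card_complements A.2.1, A.2.2, finrank_top, hV]), Finset.sum_const, smul_eq_mul, Finset.card_univ,
      ← Nat.card_eq_fintype_card]
    refine Odd.mul ?_ hq.pow
    have h := card_subspaces (U := (⊤ : Submodule F V)) (d := 1) (by rw [finrank_top, hV]; exact hnpos)
    rw [finrank_top, hV, Fin.prod_univ_one, Fin.prod_univ_one] at h
    simp only [Fin.val_zero, pow_zero, pow_one] at h
    set q := Nat.card F
    set N := Nat.card {A : Submodule F V // A ≤ ⊤ ∧ finrank F A = 1}
    have hg := geom_sum_mul_add (q - 1) n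
    have hq1 : 2 ≤ q := Finite.one_lt_card
    rw [Nat.sub_add_cancel (by omega : 1 ≤ q)] at hg
    rw [← hg, Nat.add_sub_cancel] at h
    rw [Nat.eq_of_mul_eq_mul_right (show 0 < q - 1 by omega) h, Nat.odd_iff, Finset.sum_nat_mod,
      Finset.sum_congr rfl (fun i _ => show q ^ i % 2 = 1 from Nat.odd_iff.1 hq.pow),
      Finset.sum_const, Finset.card_range, smul_eq_mul, mul_one]
    exact Nat.odd_iff.1 hn
  let act : (V ≃ₗ[F] V) → Pair 1 (⊤ : Submodule F V) → Pair 1 (⊤ : Submodule F V) := fun g p =>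
    ⟨⟨p.1.1.map g.toLinearMap, le_top, by rw [finrank_move]; exact p.1.2.2⟩, p.2.1.map g.toLinearMap, le_top,
      by rw [← Submodule.map_sup, p.2.2.2.1, Submodule.map_top, LinearEquiv.range],
      by rw [← Submodule.map_inf _ g.injective, p.2.2.2.2, Submodule.map_bot]⟩
  have pext : ∀ x y : Pair 1 (⊤ : Submodule F V), x.1.1 = y.1.1 → x.2.1 = y.2.1 → x = y := by
    rintro ⟨⟨A, hA⟩, ⟨C, hC⟩⟩ ⟨⟨A', hA'⟩, ⟨C', hC'⟩⟩ h1 h2
    simp only at h1 h2
    subst h1 h2
    rfl
  obtain ⟨p, hp⟩ := exists_fixed_of_odd hH act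
    (fun p => pext _ _ (Submodule.map_id _) (Submodule.map_id _))
    (fun g _ h _ p => pext _ _ (Submodule.map_comp _ _ _) (Submodule.map_comp _ _ _))
    hodd
  refine ⟨p.1.1, p.2.1, ⟨disjoint_iff.2 p.2.2.2.2, codisjoint_iff.2 p.2.2.2.1⟩, p.1.2.2, fun g hg => ?_⟩
  exact ⟨congrArg (fun x : Pair 1 (⊤ : Submodule F V) => x.1.1) (hp g hg),
    congrArg (fun x : Pair 1 (⊤ : Submodule F V) => x.2.1) (hp g hg)⟩

theorem signs_le_sylow {s : Finset (Submodule F V)} (hs : s.sup id = (⊤ : Submodule F V))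
    (S : Sylow 2 (V ≃ₗ[F] V)) (hfix : ∀ g ∈ (S : Subgroup (V ≃ₗ[F] V)), move g s = s) :
    signs s ≤ (S : Subgroup (V ≃ₗ[F] V)) ∧
      ∀ g ∈ (S : Subgroup (V ≃ₗ[F] V)), g ∈ Subgroup.normalizer (signs s : Set (V ≃ₗ[F] V)) := by
  have key : ∀ g ∈ (S : Subgroup (V ≃ₗ[F] V)), ∀ t ∈ signs s, g * t * g⁻¹ ∈ signs s := by
    intro g hg t ht P hP
    have hP' : P.map (g⁻¹ : V ≃ₗ[F] V).toLinearMap ∈ s := by
      have h1 := hfix g⁻¹ (inv_mem hg)
      rw [← h1]
      exact mem_move.2 ⟨P, hP, rfl⟩
    rcases ht _ hP' with h | h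
    · exact Or.inl fun v hv => (congrArg g (h _ (Submodule.mem_map_of_mem (f := (g⁻¹ : V ≃ₗ[F] V).toLinearMap) hv))).trans
        (g.apply_symm_apply v)
    · exact Or.inr fun v hv => ((congrArg g (h _ (Submodule.mem_map_of_mem (f := (g⁻¹ : V ≃ₗ[F] V).toLinearMap) hv))).trans
        (map_neg g _)).trans (congrArg Neg.neg (g.apply_symm_apply v))
  have hnorm : ∀ g ∈ (S : Subgroup (V ≃ₗ[F] V)), g ∈ Subgroup.normalizer (signs s : Set (V ≃ₗ[F] V)) := by
    intro g hg
    rw [Subgroup.mem_normalizer_iff]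
    intro t
    refine ⟨key g hg t, fun h => ?_⟩
    have h' := key g⁻¹ (inv_mem hg) _ h
    simpa [mul_assoc] using h'
  refine ⟨?_, hnorm⟩
  have hp : IsPGroup 2 (signs s) := fun e => ⟨1, Subtype.ext (by
    rw [Subgroup.coe_pow, pow_one]; exact signs_sq hs e.1 e.2)⟩
  exact le_sup_right.trans (S.is_maximal' (S.2.to_sup_of_normal_right' hp hnorm) le_sup_left).le

/-! ### The bound when `q ≡ 3 (mod 4)` -/

theorem units_pow_two {x : Fˣ} (hq : Nat.card F % 4 = 3) {k : ℕ} (hx : x ^ 2 ^ k = 1) : x = 1 ∨ x = -1 := by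
  classical
  haveI := Fintype.ofFinite F
  have hc : Nat.card Fˣ = Nat.card F - 1 := Nat.card_units F
  have h1 : orderOf x ∣ 2 ^ k := orderOf_dvd_of_pow_eq_one hx
  have h2 : orderOf x ∣ Nat.card F - 1 := hc ▸ orderOf_dvd_natCard x
  obtain ⟨j, -, hj⟩ := (Nat.dvd_prime_pow Nat.prime_two).1 h1
  have hj1 : j ≤ 1 := by
    by_contra hcon
    have h4 : 4 ∣ Nat.card F - 1 := (show (2 : ℕ) ^ 2 ∣ 2 ^ j from pow_dvd_pow 2 (by omega)).trans (hj ▸ h2)
    omega
  have hsq : x ^ 2 = 1 := by
    rw [← orderOf_dvd_iff_pow_eq_one, hj]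
    exact pow_dvd_pow 2 hj1 |>.trans (by norm_num)
  have : ((x : F) - 1) * ((x : F) + 1) = 0 := by
    have h3 : (x : F) ^ 2 = 1 := by rw [← Units.val_pow_eq_pow_val, hsq, Units.val_one]
    linear_combination h3
  rcases mul_eq_zero.1 this with h | h
  · exact Or.inl (Units.ext (sub_eq_zero.1 h))
  · exact Or.inr (Units.ext (by rw [Units.val_neg, Units.val_one]; exact eq_neg_of_add_eq_zero_left h))

theorem sixteen_dvd_card {A : Submodule F V} (hA : finrank F A = 2) (hq : Nat.card F % 4 = 3) :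
    16 ∣ Nat.card (A ≃ₗ[F] A) := by
  classical
  haveI := Fintype.ofFinite F
  let b : Module.Basis (Fin 2) F A := Module.finBasisOfFinrankEq F A hA
  rw [← Nat.card_congr ((Matrix.GeneralLinearGroup.toLin' b).trans
    (LinearMap.GeneralLinearGroup.generalLinearEquiv F A)).toEquiv, Matrix.card_GL_field, Fin.prod_univ_two]
  rw [Nat.card_eq_fintype_card] at hq
  set q := Fintype.card F
  obtain ⟨k, hk⟩ : ∃ k, q = 4 * k + 3 := ⟨q / 4, by omega⟩
  refine ⟨(k + 1) * (2 * k + 1) * ((4 * k + 3) * (2 * k + 1)), ?_⟩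
  simp only [Fin.val_zero, pow_zero, Fin.val_one, pow_one, hk]
  have e1 : (4 * k + 3) ^ 2 - 1 = 8 * ((k + 1) * (2 * k + 1)) := by
    rw [show (4 * k + 3) ^ 2 = 8 * ((k + 1) * (2 * k + 1)) + 1 by ring, Nat.add_sub_cancel]
  have e2 : (4 * k + 3) ^ 2 - (4 * k + 3) = 2 * ((4 * k + 3) * (2 * k + 1)) := by
    rw [show (4 * k + 3) ^ 2 = 2 * ((4 * k + 3) * (2 * k + 1)) + (4 * k + 3) by ring, Nat.add_sub_cancel]
  rw [e1, e2]
  ring

theorem plane_scalar (h2 : (2 : F) ≠ 0) (hq : Nat.card F % 4 = 3) {A : Submodule F V} (hA : finrank F A = 2)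
    (T : Subgroup (A ≃ₗ[F] A)) (hT : IsPGroup 2 T) (hT16 : 16 ≤ Nat.card T) (e : A ≃ₗ[F] A)
    (he : e * e = 1) (hc : ∀ r ∈ T, Commute e (r * e * r⁻¹)) : e = 1 ∨ ∀ v, e v = -v := by
  classical
  haveI : Finite V := Module.finite_of_finite F
  haveI := finite_aut (F := F) (V := A)
  by_contra hcon
  rw [not_or, not_forall] at hcon
  obtain ⟨hne1, v2, hv2⟩ := hcon
  obtain ⟨v1, hv1⟩ : ∃ v, e v ≠ v := by
    by_contra h
    push Not at h
    exact hne1 (LinearEquiv.ext h)
  have hinvol : ∀ v, e (e v) = v := fun v => DFunLike.congr_fun he v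
  set a := v2 + e v2 with ha
  set b := v1 - e v1 with hb
  have ha0 : a ≠ 0 := fun h => hv2 (by rw [ha, add_comm] at h; exact eq_neg_of_add_eq_zero_left h)
  have hb0 : b ≠ 0 := fun h => hv1 (sub_eq_zero.1 h).symm
  have hea : e a = a := by rw [ha, map_add, hinvol, add_comm]
  have heb : e b = -b := by rw [hb, map_sub, hinvol, neg_sub]
  have hhalf : ∀ v : A, v = -v → v = 0 := fun v hv => by
    have : (2 : F) • v = 0 := by rw [two_smul]; nth_rewrite 2 [hv]; exact add_neg_cancel v
    exact (smul_eq_zero.1 this).resolve_left h2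
  have hli : LinearIndependent F ![a, b] := by
    rw [LinearIndependent.pair_iff]
    intro x y hxy
    have h' : x • a - y • b = 0 := by
      have := congrArg e hxy
      rw [map_add, map_smul, map_smul, hea, heb, map_zero, smul_neg, ← sub_eq_add_neg] at this
      exact this
    have hxa : x • a = y • b := sub_eq_zero.1 h'
    rw [hxa] at hxy
    have hy : y • b = 0 := hhalf _ (eq_neg_of_add_eq_zero_left hxy)
    have hy0 := (smul_eq_zero.1 hy).resolve_right hb0
    rw [hy0, zero_smul] at hxa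
    exact ⟨(smul_eq_zero.1 hxa).resolve_right ha0, hy0⟩
  let B := basisOfLinearIndependentOfCardEqFinrank hli (by rw [Fintype.card_fin, hA])
  have hB : (B : Fin 2 → A) = ![a, b] := coe_basisOfLinearIndependentOfCardEqFinrank _ _
  have hext : ∀ f g : A ≃ₗ[F] A, f a = g a → f b = g b → f = g := by
    intro f g h1 h2'
    refine LinearEquiv.toLinearMap_injective (B.ext fun i => ?_)
    rw [hB]
    fin_cases i
    · simpa using h1
    · simpa using h2'
  have hcoord : ∀ v : A, ∃ x y : F, v = x • a + y • b := by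
    intro v
    refine ⟨B.repr v 0, B.repr v 1, ?_⟩
    conv_lhs => rw [← B.sum_repr v]
    rw [Fin.sum_univ_two, hB]
    rfl
  have key : ∀ f : A ≃ₗ[F] A, Commute f e → (∃ x : F, f a = x • a) ∧ ∃ y : F, f b = y • b := by
    intro f hf
    have hfe : ∀ v, f (e v) = e (f v) := fun v => DFunLike.congr_fun hf.eq v
    constructor
    · obtain ⟨x, y, hxy⟩ := hcoord (f a)
      refine ⟨x, ?_⟩
      have h' := hfe a
      rw [hea, hxy, map_add, map_smul, map_smul, hea, heb, smul_neg] at h'
      rw [hxy, hhalf _ (add_left_cancel h'), add_zero]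
    · obtain ⟨x, y, hxy⟩ := hcoord (f b)
      refine ⟨y, ?_⟩
      have h' := hfe b
      rw [heb, map_neg, hxy, map_add, map_smul, map_smul, hea, heb, smul_neg, neg_add] at h'
      rw [hxy, hhalf _ (add_right_cancel h').symm, zero_add]
  have hconj : ∀ r ∈ T, (∀ v, r (e v) = e (r v)) ∨ (∀ v, r (e v) = -(e (r v))) := by
    intro r hr
    set f := r * e * r⁻¹ with hf
    have hff : f * f = 1 := by
      rw [hf, show r * e * r⁻¹ * (r * e * r⁻¹) = r * (e * e) * r⁻¹ by group, he, mul_one, mul_inv_cancel]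
    obtain ⟨⟨x, hx⟩, y, hy⟩ := key f (hc r hr).symm
    have pm : ∀ (c : F) (w : A), w ≠ 0 → f w = c • w → c = 1 ∨ c = -1 := by
      intro c w hw hfw
      have h1 := DFunLike.congr_fun hff w
      change f (f w) = w at h1
      rw [hfw, map_smul, hfw, smul_smul] at h1
      have h3 : (c * c - 1) • w = 0 := by rw [sub_smul, one_smul, h1, sub_self]
      have h4 := (smul_eq_zero.1 h3).resolve_right hw
      exact mul_self_eq_one_iff.1 (sub_eq_zero.1 h4)
    have hrv : ∀ v, r (e v) = f (r v) := fun v => by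
      rw [hf]
      change r (e v) = r (e (r.symm (r v)))
      rw [r.symm_apply_apply]
    rcases pm x a ha0 hx with hx1 | hx1 <;> rcases pm y b hb0 hy with hy1 | hy1 <;> subst hx1 hy1
    · exfalso
      have hf1 : f = 1 := hext _ _ (by rw [hx, one_smul]; rfl) (by rw [hy, one_smul]; rfl)
      rw [hf, conj_eq_one_iff] at hf1
      exact hne1 hf1
    · refine Or.inl fun v => ?_
      rw [hrv, hext f e (by rw [hx, one_smul, hea]) (by rw [hy, neg_smul, one_smul, heb])]
    · refine Or.inr fun v => ?_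
      rw [hrv]
      obtain ⟨s, t, hst⟩ := hcoord (r v)
      rw [hst, map_add, map_add, map_smul, map_smul, map_smul, map_smul, hx, hy, hea, heb]
      module
    · exfalso
      refine hv2 ?_
      have hf1 : ∀ v, f v = -v := fun v => by
        obtain ⟨s, t, hst⟩ := hcoord v
        rw [hst, map_add, map_smul, map_smul, hx, hy, neg_smul, one_smul, neg_smul, one_smul, smul_neg, smul_neg, neg_add]
      have h1 := hrv v2
      rw [hf1, ← map_neg] at h1
      exact r.injective h1
  have hsmall : ∀ r ∈ T, Commute r e → ∃ x y : Bool, r a = (if x then a else -a) ∧ r b = (if y then b else -b) := by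
    intro r hr hre
    obtain ⟨⟨x, hx⟩, y, hy⟩ := key r hre
    obtain ⟨k, hk⟩ := hT ⟨r, hr⟩
    have hk' : r ^ 2 ^ k = 1 := congrArg Subtype.val hk
    have pm : ∀ (c : F) (w : A), w ≠ 0 → r w = c • w → c = 1 ∨ c = -1 := by
      intro c w hw hrw
      have hpow : ∀ j : ℕ, (r ^ j) w = c ^ j • w := by
        intro j
        induction j with
        | zero => simp
        | succ j ih =>
          rw [pow_succ']
          change r ((r ^ j) w) = _
          rw [ih, map_smul, hrw, smul_smul, pow_succ]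
      have h1 := hpow (2 ^ k)
      rw [hk'] at h1
      have hc0 : c ≠ 0 := fun h => hw (r.injective (by rw [hrw, h, zero_smul, map_zero]))
      have h3 : (c ^ 2 ^ k - 1) • w = 0 := by
        rw [sub_smul, one_smul, ← h1]
        exact sub_self _
      have h4 : (Units.mk0 c hc0) ^ 2 ^ k = 1 :=
        Units.ext (by rw [Units.val_pow_eq_pow_val, Units.val_mk0, Units.val_one]; exact sub_eq_zero.1 ((smul_eq_zero.1 h3).resolve_right hw))
      rcases units_pow_two hq h4 with h | h
      · exact Or.inl (congrArg Units.val h)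
      · exact Or.inr (congrArg Units.val h)
    rcases pm x a ha0 hx with hx1 | hx1 <;> rcases pm y b hb0 hy with hy1 | hy1 <;> subst hx1 hy1
    · exact ⟨true, true, by simp [hx], by simp [hy]⟩
    · exact ⟨true, false, by simp [hx], by simp [hy]⟩
    · exact ⟨false, true, by simp [hx], by simp [hy]⟩
    · exact ⟨false, false, by simp [hx], by simp [hy]⟩
  let T0 : Subgroup T := (Subgroup.centralizer ({e} : Set (A ≃ₗ[F] A))).subgroupOf T
  have hmemT0 : ∀ r : T, r ∈ T0 ↔ Commute r.1 e := fun r => Subgroup.mem_centralizer_singleton_iff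
  have hidx : T0.index ≤ 2 := by
    haveI : Finite T := inferInstance
    by_cases hall : ∀ r : T, r ∈ T0
    · rw [show T0 = ⊤ from eq_top_iff.2 fun r _ => hall r, Subgroup.index_top]; omega
    push Not at hall
    obtain ⟨r0, hr0⟩ := hall
    refine le_of_eq (Subgroup.index_eq_two_iff.2 ⟨r0, fun r => ?_⟩)
    have anti : ∀ r : T, r ∉ T0 → ∀ v, r.1 (e v) = -(e (r.1 v)) := fun r hr =>
      (hconj r.1 r.2).resolve_left (fun h => hr ((hmemT0 r).2 (LinearEquiv.ext h)))
    by_cases hr : r ∈ T0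
    · exact Or.inr ⟨hr, fun h => hr0 ((Subgroup.mul_mem_cancel_left _ hr).1 h)⟩
    · refine Or.inl ⟨(hmemT0 _).2 (LinearEquiv.ext fun v => ?_), hr⟩
      change r.1 (r0.1 (e v)) = e (r.1 (r0.1 v))
      rw [anti r0 hr0, map_neg, anti r hr, neg_neg]
  have hT0 : Nat.card T0 ≤ 4 := by
    have h := fun r : T0 => hsmall r.1.1 r.1.2 ((hmemT0 r.1).1 r.2)
    choose fx fy hfx hfy using h
    have := Nat.card_le_card_of_injective (fun r : T0 => (fx r, fy r)) (fun r r' hrr => by
      simp only [Prod.mk.injEq] at hrr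
      exact Subtype.ext (Subtype.ext (hext _ _ (by rw [hfx r, hfx r', hrr.1]) (by rw [hfy r, hfy r', hrr.2]))))
    simpa [Nat.card_eq_fintype_card] using this
  have hmul := T0.card_mul_index
  have : Nat.card T0 * T0.index ≤ 4 * 2 := Nat.mul_le_mul hT0 hidx
  omega

/-- An elementary abelian subgroup normalised by a Sylow 2-subgroup acts by signs. -/
theorem le_signs (h2 : (2 : F) ≠ 0) (hq : Nat.card F % 4 = 3) {s : Finset (Submodule F V)} (hs : IsDec s)
    (hdim : ∀ A ∈ s, finrank F A ≤ 2) (hline : ∀ A ∈ s, ∀ B ∈ s, finrank F A = 1 → finrank F B = 1 → A = B)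
    (S : Sylow 2 (V ≃ₗ[F] V)) (hfix : ∀ g ∈ (S : Subgroup (V ≃ₗ[F] V)), move g s = s)
    (E : Subgroup (V ≃ₗ[F] V)) (hES : E ≤ (S : Subgroup (V ≃ₗ[F] V)))
    (hN : ∀ g ∈ (S : Subgroup (V ≃ₗ[F] V)), g ∈ Subgroup.normalizer (E : Set (V ≃ₗ[F] V)))
    (hE : ∀ e ∈ E, e ^ 2 = 1) : E ≤ signs s := by
  classical
  haveI : Finite V := Module.finite_of_finite F
  haveI := finite_aut (F := F) (V := V)
  set St : Subgroup (V ≃ₗ[F] V) :=
    { carrier := {g | move g s = s}
      one_mem' := move_one s
      mul_mem' := fun {a b} (ha : move a s = s) (hb : move b s = s) => show move (a * b) s = s by rw [move_mul, hb, ha]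
      inv_mem' := fun {a} (ha : move a s = s) => show move a⁻¹ s = s by
        conv_lhs => rw [← ha, ← move_mul, inv_mul_cancel, move_one] }
  have hSSt : (S : Subgroup (V ≃ₗ[F] V)) ≤ St := hfix
  have hBSt : block s ≤ St := by
    intro g hg
    change move g s = s
    ext B
    rw [mem_move]
    exact ⟨fun ⟨A, hA, h⟩ => by rw [← h, block_map hg hA]; exact hA, fun hB => ⟨B, hB, block_map hg hB⟩⟩
  have hconj : ∀ g ∈ St, ∀ x ∈ block s, g * x * g⁻¹ ∈ block s := by
    intro g hg x hx A hA v hv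
    have hA' : A.map (g⁻¹ : V ≃ₗ[F] V).toLinearMap ∈ s := by
      have h1 : move g⁻¹ s = s := St.inv_mem hg
      rw [← h1]; exact mem_move.2 ⟨A, hA, rfl⟩
    obtain ⟨w, hw, hwv⟩ := hx _ hA' _ (Submodule.mem_map_of_mem (f := (g⁻¹ : V ≃ₗ[F] V).toLinearMap) hv)
    have hwv' : g.symm w = x (g.symm v) := hwv
    change g (x (g.symm v)) ∈ A
    rw [← hwv', g.apply_symm_apply]
    exact hw
  haveI : (((block s).subgroupOf St)).Normal := ⟨fun x hx g => hconj g.1 g.2 x.1 hx⟩
  obtain ⟨SB, hSB⟩ : ∃ SB : Sylow 2 (block s), (SB : Subgroup (block s)) = (S : Subgroup (V ≃ₗ[F] V)).subgroupOf (block s) := by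
    refine ⟨(S.2.comap_subtype (K := block s)).toSylow ?_, rfl⟩
    change ¬ 2 ∣ (S : Subgroup (V ≃ₗ[F] V)).relIndex (block s)
    have h1 := Cfsg.Agent.H41.not_dvd_relIndex_sylow (S.subtype hSSt) ((block s).subgroupOf St)
    rwa [Sylow.coe_subtype, Subgroup.relIndex_subgroupOf hBSt] at h1
  have hR : ∀ A (hA : A ∈ s), finrank F A = 2 →
      16 ≤ Nat.card ((SB : Subgroup (block s)).map (resHom hA)) := by
    intro A hA h2A
    haveI := finite_aut (F := F) (V := A)
    have hsurj : Function.Surjective (resHom (s := s) hA) := fun r => by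
      obtain ⟨g, hg, -⟩ := hs.exists_ext hA r
      exact ⟨g, hg⟩
    rw [← Sylow.coe_mapSurjective hsurj SB]
    have hd : 2 ^ 4 ∣ Nat.card (A ≃ₗ[F] A) := by simpa using sixteen_dvd_card h2A hq
    exact Nat.le_of_dvd Nat.card_pos (by simpa using (SB.mapSurjective hsurj).pow_dvd_card_of_pow_dvd_card hd)
  let K : Subgroup (block s) := ⨅ A : {A // A ∈ s}, ((SB : Subgroup (block s)).map (resHom A.2)).comap (resHom A.2)
  have hKp : IsPGroup 2 (K.map (block s).subtype) := by
    refine IsPGroup.iff_orderOf.2 ?_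
    rintro ⟨_, g, hg, rfl⟩
    obtain ⟨N, hN'⟩ := SB.2.exists_card_eq
    have hpow : g ^ 2 ^ N = 1 := by
      refine Subtype.ext (ext_of_sup hs.sup_eq _ _ fun A hA v hv => ?_)
      obtain ⟨h, hh, hhg⟩ := Subgroup.mem_iInf.1 hg ⟨A, hA⟩
      have h1 : h ^ 2 ^ N = 1 := by
        have := pow_card_eq_one' (x := (⟨h, hh⟩ : (SB : Subgroup (block s))))
        rw [hN'] at this
        exact congrArg Subtype.val this
      have h2' : resHom hA (g ^ 2 ^ N) = 1 := by rw [map_pow, ← hhg, ← map_pow, h1, map_one]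
      exact congrArg Subtype.val (DFunLike.congr_fun h2' (⟨v, hv⟩ : A))
    obtain ⟨j, -, hj⟩ := (Nat.dvd_prime_pow Nat.prime_two).1 (orderOf_dvd_of_pow_eq_one hpow)
    refine ⟨j, ?_⟩
    rw [← Subgroup.orderOf_coe]
    exact (orderOf_injective (block s).subtype (Subgroup.subtype_injective _) g).trans hj
  have hKnorm : ∀ g ∈ (S : Subgroup (V ≃ₗ[F] V)), g ∈ Subgroup.normalizer (K.map (block s).subtype : Set (V ≃ₗ[F] V)) := by
    have key : ∀ g ∈ (S : Subgroup (V ≃ₗ[F] V)), ∀ t ∈ K.map (block s).subtype, g * t * g⁻¹ ∈ K.map (block s).subtype := by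
      rintro g hg _ ⟨t, ht, rfl⟩
      refine ⟨⟨g * t.1 * g⁻¹, hconj g (hSSt hg) t.1 t.2⟩, Subgroup.mem_iInf.2 fun ⟨A, hA⟩ => ?_, rfl⟩
      have hA' : A.map (g⁻¹ : V ≃ₗ[F] V).toLinearMap ∈ s := by
        have h1 : move g⁻¹ s = s := hfix _ (inv_mem hg)
        rw [← h1]; exact mem_move.2 ⟨A, hA, rfl⟩
      obtain ⟨h, hh, hht⟩ := Subgroup.mem_iInf.1 ht ⟨_, hA'⟩
      refine ⟨⟨g * h.1 * g⁻¹, hconj g (hSSt hg) h.1 h.2⟩, ?_, LinearEquiv.ext fun v => Subtype.ext ?_⟩
      · rw [SetLike.mem_coe, hSB, Subgroup.mem_subgroupOf]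
        rw [SetLike.mem_coe, hSB, Subgroup.mem_subgroupOf] at hh
        exact mul_mem (mul_mem hg hh) (inv_mem hg)
      · change g (h.1 (g.symm v)) = g (t.1 (g.symm v))
        have := congrArg Subtype.val (DFunLike.congr_fun hht (⟨g.symm v,
          Submodule.mem_map_of_mem (f := (g⁻¹ : V ≃ₗ[F] V).toLinearMap) v.2⟩ : A.map (g⁻¹ : V ≃ₗ[F] V).toLinearMap))
        exact congrArg g this
    intro g hg
    rw [Subgroup.mem_normalizer_iff]
    intro t
    refine ⟨key g hg t, fun h => ?_⟩
    have h' := key g⁻¹ (inv_mem hg) _ h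
    simpa [mul_assoc] using h'
  have hKS : K.map (block s).subtype ≤ (S : Subgroup (V ≃ₗ[F] V)) :=
    le_sup_right.trans (S.is_maximal' (S.2.to_sup_of_normal_right' hKp hKnorm) le_sup_left).le
  have hext : ∀ A (hA : A ∈ s), ∀ r ∈ (SB : Subgroup (block s)).map (resHom hA),
      ∃ g : block s, g.1 ∈ S ∧ resHom hA g = r ∧ ∀ B ∈ s, B ≠ A → ∀ v ∈ B, g.1 v = v := by
    intro A hA r hr
    obtain ⟨g, hg1, hg2⟩ := hs.exists_ext hA r
    refine ⟨g, hKS (Subgroup.mem_map_of_mem _ (Subgroup.mem_iInf.2 fun ⟨B, hB⟩ => ?_)), hg1, hg2⟩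
    rw [Subgroup.mem_comap]
    rcases eq_or_ne B A with rfl | hne
    · rw [hg1]; exact hr
    · rw [show resHom hB g = 1 from LinearEquiv.ext fun v => Subtype.ext (hg2 B hB hne v v.2)]
      exact one_mem _
  have hcommE : ∀ e ∈ E, ∀ f ∈ E, Commute e f := by
    intro e he f hf
    have hinv : ∀ g ∈ E, g⁻¹ = g := fun g hg => inv_eq_of_mul_eq_one_left (by rw [← pow_two, hE g hg])
    change e * f = f * e
    rw [← hinv _ (E.mul_mem he hf), mul_inv_rev, hinv e he, hinv f hf]
  have hexp : ∀ A (hA : A ∈ s), finrank F A = 2 →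
      ∃ r ∈ (SB : Subgroup (block s)).map (resHom hA), r ^ 2 ≠ 1 := by
    intro A hA h2A
    by_contra hcon
    push Not at hcon
    have := card_elemAbelian_le (V := A) h2 ((SB : Subgroup (block s)).map (resHom hA)) hcon
    rw [h2A] at this
    have := hR A hA h2A
    omega
  intro e he
  have heS := hES he
  have hinvol : ∀ v, e (e v) = v := fun v => by
    have := hE e he
    rw [pow_two] at this
    exact DFunLike.congr_fun this v
  have heinv : e⁻¹ = e := inv_eq_of_mul_eq_one_left (by rw [← pow_two, hE e he])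
  have hmoves : ∀ A ∈ s, A.map e.toLinearMap ∈ s := fun A hA => by
    have h := hfix e heS
    rw [← h]
    exact mem_move.2 ⟨A, hA, rfl⟩
  have hblock : e ∈ block s := by
    intro A hA v hv
    have hBA : A.map e.toLinearMap = A := by
      by_contra hne
      rcases (show finrank F A = 1 ∨ finrank F A = 2 by have := hs.pos A hA; have := hdim A hA; omega) with h1 | h2A
      · exact hne (hline _ (hmoves A hA) _ hA (by rw [finrank_move]; exact h1) h1)
      obtain ⟨r, hr, hr2⟩ := hexp A hA h2A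
      obtain ⟨g, hgS, hg1, hg2⟩ := hext A hA r hr
      apply hr2
      have hc : g.1 * e * (g.1)⁻¹ * e ∈ E := E.mul_mem ((Subgroup.mem_normalizer_iff.1 (hN g.1 hgS) e).1 he) he
      have hcA : ∀ w : A, (g.1 * e * (g.1)⁻¹ * e) w.1 = (r w : V) := by
        intro w
        change g.1 (e ((g.1)⁻¹ (e w.1))) = _
        have h1 : (g.1)⁻¹ (e w.1) = e w.1 := by
          change g.1.symm (e w.1) = e w.1
          rw [LinearEquiv.symm_apply_eq]
          exact (hg2 _ (hmoves A hA) hne _ (Submodule.mem_map_of_mem w.2)).symm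
        rw [h1, hinvol, ← hg1]
        rfl
      refine LinearEquiv.ext fun w => Subtype.ext ?_
      rw [pow_two]
      change (r (r w) : V) = w
      rw [← hcA (r w), ← hcA w]
      have := hE _ hc
      rw [pow_two] at this
      exact DFunLike.congr_fun this w.1
    rw [← hBA]
    exact Submodule.mem_map_of_mem hv
  intro A hA
  rcases (show finrank F A = 1 ∨ finrank F A = 2 by have := hs.pos A hA; have := hdim A hA; omega) with h1 | h2A
  · obtain ⟨⟨u, hu⟩, hu0, hall⟩ := finrank_eq_one_iff'.1 h1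
    obtain ⟨c, hc⟩ := hall ⟨e u, hblock A hA u hu⟩
    have hc' : e u = c • u := (congrArg Subtype.val hc).symm
    have hu0' : u ≠ 0 := fun h => hu0 (Subtype.ext h)
    have h3 := hinvol u
    rw [hc', map_smul, hc', smul_smul] at h3
    have h4 : (c * c - 1) • u = 0 := by rw [sub_smul, one_smul, h3, sub_self]
    rcases mul_self_eq_one_iff.1 (sub_eq_zero.1 ((smul_eq_zero.1 h4).resolve_right hu0')) with rfl | rfl
    · refine Or.inl fun v hv => ?_
      obtain ⟨d, hd⟩ := hall ⟨v, hv⟩
      have hd' : v = d • u := (congrArg Subtype.val hd).symm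
      rw [hd', map_smul, hc', one_smul]
    · refine Or.inr fun v hv => ?_
      obtain ⟨d, hd⟩ := hall ⟨v, hv⟩
      have hd' : v = d • u := (congrArg Subtype.val hd).symm
      rw [hd', map_smul, hc', neg_smul, one_smul, smul_neg]
  · set eA := resHom hA ⟨e, hblock⟩ with heA
    have hsq : eA * eA = 1 := LinearEquiv.ext fun v => Subtype.ext (hinvol v)
    have := plane_scalar h2 hq h2A ((SB : Subgroup (block s)).map (resHom hA))
      (SB.2.map (resHom hA)) (hR A hA h2A) eA hsq (fun r hr => by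
        obtain ⟨g, hgS, hg1, -⟩ := hext A hA r hr
        have hc : Commute (⟨e, hblock⟩ : block s) (g * ⟨e, hblock⟩ * g⁻¹) :=
          Subtype.ext (hcommE e he _ ((Subgroup.mem_normalizer_iff.1 (hN g.1 hgS) e).1 he)).eq
        have h := hc.map (resHom hA)
        rwa [map_mul, map_mul, map_inv, hg1] at h)
    rcases this with h | h
    · exact Or.inl fun v hv => congrArg Subtype.val (DFunLike.congr_fun h (⟨v, hv⟩ : A))
    · exact Or.inr fun v hv => congrArg Subtype.val (h (⟨v, hv⟩ : A))

/-- The normal 2-rank of a Sylow 2-subgroup. -/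
theorem normal_two_rank (hq : Odd (Nat.card F)) {n : ℕ} (hn : finrank F V = n) (S : Sylow 2 (V ≃ₗ[F] V)) :
    (Nat.card F % 4 = 1 →
      (∃ E : Subgroup (V ≃ₗ[F] V), E ≤ (S : Subgroup (V ≃ₗ[F] V)) ∧
        (∀ g ∈ (S : Subgroup (V ≃ₗ[F] V)), g ∈ Subgroup.normalizer (E : Set (V ≃ₗ[F] V))) ∧
        (∀ e ∈ E, e ^ 2 = 1) ∧ 2 ^ n ≤ Nat.card E) ∧
      ∀ E : Subgroup (V ≃ₗ[F] V), (∀ e ∈ E, e ^ 2 = 1) → Nat.card E ≤ 2 ^ n) ∧
    (Nat.card F % 4 = 3 →
      (∃ E : Subgroup (V ≃ₗ[F] V), E ≤ (S : Subgroup (V ≃ₗ[F] V)) ∧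
        (∀ g ∈ (S : Subgroup (V ≃ₗ[F] V)), g ∈ Subgroup.normalizer (E : Set (V ≃ₗ[F] V))) ∧
        (∀ e ∈ E, e ^ 2 = 1) ∧ 2 ^ ((n + 1) / 2) ≤ Nat.card E) ∧
      ∀ E : Subgroup (V ≃ₗ[F] V), E ≤ (S : Subgroup (V ≃ₗ[F] V)) →
        (∀ g ∈ (S : Subgroup (V ≃ₗ[F] V)), g ∈ Subgroup.normalizer (E : Set (V ≃ₗ[F] V))) →
        (∀ e ∈ E, e ^ 2 = 1) → Nat.card E ≤ 2 ^ ((n + 1) / 2)) := by
  classical
  haveI : Finite V := Module.finite_of_finite F
  haveI := finite_aut (F := F) (V := V)
  have hq2 : 2 ≤ Nat.card F := Finite.one_lt_card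
  haveI := Fintype.ofFinite F
  have h2 : (2 : F) ≠ 0 := by
    intro h
    have h2' : ((2 : ℕ) : F) = 0 := by exact_mod_cast h
    have hd := (CharP.cast_eq_zero_iff F (ringChar F) 2).1 h2'
    have hp : (ringChar F).Prime := CharP.char_prime_of_ne_zero F (CharP.char_ne_zero_of_finite F (ringChar F))
    have hev := FiniteField.even_card_iff_char_two.1 ((Nat.prime_dvd_prime_iff_eq hp Nat.prime_two).1 hd)
    rw [← Nat.card_eq_fintype_card] at hev
    have := Nat.odd_iff.1 hq
    omega
  have htop : ∀ g ∈ (S : Subgroup (V ≃ₗ[F] V)), (⊤ : Submodule F V).map g.toLinearMap = ⊤ := fun g _ => by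
    rw [Submodule.map_top, LinearEquiv.range]
  constructor
  · intro hq1
    refine ⟨?_, fun E hE => hn ▸ card_elemAbelian_le h2 E hE⟩
    obtain ⟨s, hs, hfix⟩ := exists_fixed_split hq le_rfl (countHyp_one hq1 hq2) S.2 n ⊤
      (by rw [finrank_top, one_mul, hn]) htop
    have hdec : IsDec s := ⟨hs.2.2, by rw [Finset.sum_congr rfl hs.2.1, Finset.sum_const, hs.1, smul_eq_mul, mul_one, hn],
      fun A hA => (hs.2.1 A hA).ge⟩
    obtain ⟨hle, hnorm⟩ := signs_le_sylow hs.2.2 S hfix
    exact ⟨signs s, hle, hnorm, signs_sq hs.2.2, hs.1 ▸ le_card_signs h2 hdec⟩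
  · intro hq3
    obtain ⟨s, hdec, hfix, hdim, hline, hcard⟩ : ∃ s : Finset (Submodule F V), IsDec s ∧
        (∀ g ∈ (S : Subgroup (V ≃ₗ[F] V)), move g s = s) ∧ (∀ A ∈ s, finrank F A ≤ 2) ∧
        (∀ A ∈ s, ∀ B ∈ s, finrank F A = 1 → finrank F B = 1 → A = B) ∧ s.card = (n + 1) / 2 := by
      rcases Nat.even_or_odd n with ⟨m, rfl⟩ | ho
      · obtain ⟨s, hs, hfix⟩ := exists_fixed_split hq (by norm_num) (countHyp_two hq hq2) S.2 m ⊤
          (by rw [finrank_top, hn]; omega) htop
        refine ⟨s, ⟨hs.2.2, ?_, fun A hA => by rw [hs.2.1 A hA]; omega⟩, hfix, fun A hA => (hs.2.1 A hA).le,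
          fun A hA B _ h => ?_, by rw [hs.1]; omega⟩
        · rw [Finset.sum_congr rfl hs.2.1, Finset.sum_const, hs.1, smul_eq_mul, hn]; omega
        · rw [hs.2.1 A hA] at h; omega
      · obtain ⟨L, C, hLC, hL, hinv⟩ := exists_fixed_pair hq ho hn S.2
        obtain ⟨m, rfl⟩ := ho
        have hC : finrank F C = 2 * m := by
          have h := Submodule.finrank_sup_add_finrank_inf_eq L C
          rw [hLC.sup_eq_top, hLC.inf_eq_bot, finrank_top, finrank_bot, hL, hn] at h
          omega
        obtain ⟨t, ht, hfix⟩ := exists_fixed_split hq (by norm_num) (countHyp_two hq hq2) S.2 m C hC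
          (fun g hg => (hinv g hg).2)
        have hLt : L ∉ t := fun h => by
          have := ht.2.1 L h
          omega
        refine ⟨insert L t, ⟨?_, ?_, ?_⟩, ?_, ?_, ?_, ?_⟩
        · rw [Finset.sup_insert, id, ht.2.2, hLC.sup_eq_top]
        · rw [Finset.sum_insert hLt, hL, Finset.sum_congr rfl ht.2.1, Finset.sum_const, ht.1, smul_eq_mul, hn]; omega
        · intro A hA
          rcases Finset.mem_insert.1 hA with rfl | hA
          · omega
          · rw [ht.2.1 A hA]; omega
        · intro g hg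
          ext B
          rw [mem_move]
          constructor
          · rintro ⟨A, hA, rfl⟩
            rcases Finset.mem_insert.1 hA with rfl | hA
            · rw [(hinv g hg).1]; exact Finset.mem_insert_self _ _
            · refine Finset.mem_insert_of_mem ?_
              rw [← hfix g hg]; exact mem_move.2 ⟨A, hA, rfl⟩
          · intro hB
            rcases Finset.mem_insert.1 hB with rfl | hB
            · exact ⟨B, Finset.mem_insert_self _ _, (hinv g hg).1⟩
            · rw [← hfix g hg, mem_move] at hB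
              obtain ⟨A, hA, rfl⟩ := hB
              exact ⟨A, Finset.mem_insert_of_mem hA, rfl⟩
        · intro A hA
          rcases Finset.mem_insert.1 hA with rfl | hA
          · omega
          · rw [ht.2.1 A hA]
        · intro A hA B hB hA1 hB1
          have : ∀ A ∈ insert L t, finrank F A = 1 → A = L := fun A hA hA1 => by
            rcases Finset.mem_insert.1 hA with rfl | hA
            · rfl
            · rw [ht.2.1 A hA] at hA1; omega
          rw [this A hA hA1, this B hB hB1]
        · rw [Finset.card_insert_of_notMem hLt, ht.1]; omega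
    obtain ⟨hle, hnorm⟩ := signs_le_sylow hdec.sup_eq S hfix
    refine ⟨⟨signs s, hle, hnorm, signs_sq hdec.sup_eq, hcard ▸ le_card_signs h2 hdec⟩, fun E hES hN hE => ?_⟩
    exact (Subgroup.card_le_of_le (le_signs h2 hq3 hdec hdim hline S hfix E hES hN hE)).trans
      (hcard ▸ card_signs_le hdec.sup_eq)

end Fin

end Cfsg.Agent.H52.Split
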