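import Mathlib
import Cfsg.Agent.H52.PairModel
import Cfsg.Agent.H52.Small

/-!
Maximal overgroups of a Sylow 2-subgroup in symmetric and alternating groups.
-/

set_option autoImplicit false

namespace Cfsg.Agent.H52

open Equiv MulAction Pointwise

/-- There is exactly one maximal subgroup above `R`. -/
def UniqMax {G : Type*} [Group G] (R : Subgroup G) : Prop :=
  ∃! M : Subgroup G, IsCoatom M ∧ R ≤ M

theorem uniqMax_map {G H : Type*} [Group G] [Group H] (e : G ≃* H) (R : Subgroup G) :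
    UniqMax (R.map e.toMonoidHom) ↔ UniqMax R := by
  have hc : ∀ M : Subgroup G, IsCoatom (M.map e.toMonoidHom) ↔ IsCoatom M := fun M =>
    (MulEquiv.mapSubgroup e).isCoatom_iff M
  have hle : ∀ A B : Subgroup G, A.map e.toMonoidHom ≤ B.map e.toMonoidHom ↔ A ≤ B := fun A B =>
    (MulEquiv.mapSubgroup e).le_iff_le
  have hsurj : ∀ M : Subgroup H, ∃ N : Subgroup G, N.map e.toMonoidHom = M :=
    (MulEquiv.mapSubgroup e).surjective
  constructor
  · rintro ⟨M, ⟨h1, h2⟩, h3⟩
    obtain ⟨N, rfl⟩ := hsurj M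
    refine ⟨N, ⟨(hc N).1 h1, (hle _ _).1 h2⟩, fun N' h => ?_⟩
    exact (MulEquiv.mapSubgroup e).injective (h3 _ ⟨(hc N').2 h.1, (hle _ _).2 h.2⟩)
  · rintro ⟨N, ⟨h1, h2⟩, h3⟩
    refine ⟨N.map e.toMonoidHom, ⟨(hc N).2 h1, (hle _ _).2 h2⟩, fun M h => ?_⟩
    obtain ⟨N', rfl⟩ := hsurj M
    rw [h3 N' ⟨(hc N').1 h.1, (hle _ _).1 h.2⟩]

theorem uniqMax_sylow_iff {G : Type*} [Group G] [Finite G] {p : ℕ} [Fact p.Prime] (P Q : Sylow p G) :
    UniqMax (P : Subgroup G) ↔ UniqMax (Q : Subgroup G) := by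
  obtain ⟨g, rfl⟩ := MulAction.exists_smul_eq G P Q
  exact (uniqMax_map (MulAut.conj g) (P : Subgroup G)).symm

section Generic

variable {α : Type*} [Fintype α] [DecidableEq α]

theorem not_uniqMax_perm (S U V : Subgroup (Perm α)) (hU : S ≤ U) (hV : S ≤ V)
    (hAU : ¬ alternatingGroup α ≤ U) (hAV : ¬ alternatingGroup α ≤ V)
    (hgen : ∀ M : Subgroup (Perm α), U ⊓ alternatingGroup α ≤ M → V ⊓ alternatingGroup α ≤ M →
      alternatingGroup α ≤ M)
    {t : Perm α} (ht : t ∈ S) (hodd : t ∉ alternatingGroup α) : ¬ UniqMax S := by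
  rintro ⟨M, ⟨hM, -⟩, huniq⟩
  have key : ∀ W : Subgroup (Perm α), S ≤ W → ¬ alternatingGroup α ≤ W → W ≤ M := by
    intro W hS hA
    rcases eq_top_or_exists_le_coatom W with h | ⟨M', h1, h2⟩
    · exact absurd (h ▸ le_top) hA
    · exact (huniq M' ⟨h1, hS.trans h2⟩) ▸ h2
  have hA : alternatingGroup α ≤ M :=
    hgen M (inf_le_left.trans (key U hU hAU)) (inf_le_left.trans (key V hV hAV))
  haveI : Nontrivial α := by
    by_contra h
    rw [not_nontrivial_iff_subsingleton] at h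
    exact hodd (by rw [Subsingleton.elim t 1]; exact one_mem _)
  have htM : t ∈ M := key U hU hAU (hU ht)
  have hidx : M.index ∣ 2 := alternatingGroup.index_eq_two (α := α) ▸ Subgroup.index_dvd_of_le hA
  rcases (Nat.dvd_prime Nat.prime_two).1 hidx with h | h
  · exact hM.1 (Subgroup.index_eq_one.1 h)
  · exact hodd (by rw [← Perm.eq_alternatingGroup_of_index_eq_two h]; exact htM)

theorem not_uniqMax_alt (S U V : Subgroup (Perm α)) (hU : S ≤ U) (hV : S ≤ V)
    (hAU : ¬ alternatingGroup α ≤ U) (hAV : ¬ alternatingGroup α ≤ V)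
    (hgen : ∀ M : Subgroup (Perm α), U ⊓ alternatingGroup α ≤ M → V ⊓ alternatingGroup α ≤ M →
      alternatingGroup α ≤ M) : ¬ UniqMax (S.subgroupOf (alternatingGroup α)) := by
  rintro ⟨M, ⟨hM, -⟩, huniq⟩
  have key : ∀ W : Subgroup (Perm α), S ≤ W → ¬ alternatingGroup α ≤ W →
      W ⊓ alternatingGroup α ≤ M.map (alternatingGroup α).subtype := by
    intro W hS hA
    rcases eq_top_or_exists_le_coatom (W.subgroupOf (alternatingGroup α)) with h | ⟨M', h1, h2⟩
    · exact absurd (Subgroup.subgroupOf_eq_top.1 h) hA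
    · rw [← huniq M' ⟨h1, le_trans (fun x hx => hS hx) h2⟩]
      rintro x ⟨hx1, hx2⟩
      exact ⟨⟨x, hx2⟩, h2 hx1, rfl⟩
  refine hM.1 ((Subgroup.eq_top_iff' _).2 fun x => ?_)
  obtain ⟨y, hy, hyx⟩ := hgen _ (key U hU hAU) (key V hV hAV) x.2
  exact Subtype.ext hyx ▸ hy

theorem uniqMax_perm (S I : Subgroup (Perm α)) (hS : S ≤ I) (hI : ¬ alternatingGroup α ≤ I)
    (hmax : ∀ M : Subgroup (Perm α), S ⊓ alternatingGroup α ≤ M → ¬ alternatingGroup α ≤ M → M ≤ I)
    {t : Perm α} (ht : t ∈ S) (hodd : t ∉ alternatingGroup α) : UniqMax S := by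
  haveI : Nontrivial α := by
    by_contra h
    rw [not_nontrivial_iff_subsingleton] at h
    exact hodd (by rw [Subsingleton.elim t 1]; exact one_mem _)
  have key : ∀ M : Subgroup (Perm α), S ≤ M → M ≠ ⊤ → M ≤ I := by
    intro M hM hne
    refine hmax M (inf_le_left.trans hM) fun hA => hne ?_
    rcases (Nat.dvd_prime Nat.prime_two).1
      (alternatingGroup.index_eq_two (α := α) ▸ Subgroup.index_dvd_of_le hA : M.index ∣ 2) with h | h
    · exact Subgroup.index_eq_one.1 h
    · exact absurd (Perm.eq_alternatingGroup_of_index_eq_two h ▸ hM ht) hodd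
  have hIne : I ≠ ⊤ := fun h => hI (h ▸ le_top)
  refine ⟨I, ⟨⟨hIne, fun K hK => ?_⟩, hS⟩, fun M hM => ?_⟩
  · by_contra hK2
    exact absurd (key K (hS.trans hK.le) hK2) hK.not_ge
  · rcases (key M hM.2 hM.1.1).lt_or_eq with h | h
    · exact absurd (hM.1.2 I h) hIne
    · exact h

theorem uniqMax_alt (S I : Subgroup (Perm α)) (hS : S ≤ I) (hI : ¬ alternatingGroup α ≤ I)
    (hmax : ∀ M : Subgroup (Perm α), S ⊓ alternatingGroup α ≤ M → ¬ alternatingGroup α ≤ M → M ≤ I) :
    UniqMax (S.subgroupOf (alternatingGroup α)) := by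
  have key : ∀ M : Subgroup (alternatingGroup α), S.subgroupOf (alternatingGroup α) ≤ M → M ≠ ⊤ →
      M ≤ I.subgroupOf (alternatingGroup α) := by
    intro M hM hne x hx
    refine hmax (M.map (alternatingGroup α).subtype) ?_ ?_ ⟨x, hx, rfl⟩
    · rintro y ⟨hy1, hy2⟩
      exact ⟨⟨y, hy2⟩, hM hy1, rfl⟩
    · intro hA
      refine hne ((Subgroup.eq_top_iff' _).2 fun z => ?_)
      obtain ⟨w, hw, hwz⟩ := hA z.2
      exact Subtype.ext hwz ▸ hw
  have hIne : I.subgroupOf (alternatingGroup α) ≠ ⊤ := fun h => hI (Subgroup.subgroupOf_eq_top.1 h)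
  have hS' : S.subgroupOf (alternatingGroup α) ≤ I.subgroupOf (alternatingGroup α) := fun x hx => hS hx
  refine ⟨_, ⟨⟨hIne, fun K hK => ?_⟩, hS'⟩, fun M hM => ?_⟩
  · by_contra hK2
    exact absurd (key K (hS'.trans hK.le) hK2) hK.not_ge
  · rcases (key M hM.2 hM.1.1).lt_or_eq with h | h
    · exact absurd (hM.1.2 _ h) hIne
    · exact h

/-- Double swaps are even. -/
theorem double_swap_even {a b c d : α} (hab : a ≠ b) (hcd : c ≠ d) :
    swap a b * swap c d ∈ alternatingGroup α := by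
  rw [Perm.mem_alternatingGroup, map_mul, Perm.sign_swap hab, Perm.sign_swap hcd]
  decide

theorem dswap_fix {a b c d x : α} (ha : x ≠ a) (hb : x ≠ b) (hc : x ≠ c) (hd : x ≠ d) :
    (swap a b * swap c d) x = x := by
  rw [Perm.mul_apply, swap_apply_of_ne_of_ne hc hd, swap_apply_of_ne_of_ne ha hb]

theorem dswap_left {a b c d : α} (hc : a ≠ c) (hd : a ≠ d) : (swap a b * swap c d) a = b := by
  rw [Perm.mul_apply, swap_apply_of_ne_of_ne hc hd, swap_apply_left]

/-- Two involutions with exactly one common moved point give a 3-cycle. -/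
theorem threeCycle_of_overlap {t t' : Perm α} (ht : t * t = 1) (ht' : t' * t' = 1) {p : α}
    (hp : t p ≠ p) (hp' : t' p ≠ p) (h : ∀ x, t x ≠ x → t' x ≠ x → x = p) :
    Perm.IsThreeCycle (t * t' * t * t') := by
  have tt : ∀ x, t (t x) = x := fun x => DFunLike.congr_fun ht x
  have tt' : ∀ x, t' (t' x) = x := fun x => DFunLike.congr_fun ht' x
  have fix' : ∀ x, t x ≠ x → x ≠ p → t' x = x := fun x h1 h2 => by
    by_contra h3; exact h2 (h x h1 h3)
  have fix : ∀ x, t' x ≠ x → x ≠ p → t x = x := fun x h1 h2 => by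
    by_contra h3; exact h2 (h x h3 h1)
  obtain ⟨a, ha⟩ : ∃ a, t p = a := ⟨_, rfl⟩
  obtain ⟨b, hb⟩ : ∃ b, t' p = b := ⟨_, rfl⟩
  have hta : t a = p := by rw [← ha, tt]
  have htb : t' b = p := by rw [← hb, tt']
  have hap : a ≠ p := fun e => hp (ha.trans e)
  have hbp : b ≠ p := fun e => hp' (hb.trans e)
  have ha' : t' a = a := fix' a (by rw [hta]; exact hap.symm) hap
  have hb' : t b = b := fix b (by rw [htb]; exact hbp.symm) hbp
  have hba : b ≠ a := fun e => hap (by rw [← ha', ← e, htb])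
  have heq : t * t' * t * t' = swap p b * swap p a := by
    ext x
    simp only [Perm.mul_apply]
    by_cases h1 : x = p
    · subst h1; rw [hb, hb', htb, ha, swap_apply_left, swap_apply_of_ne_of_ne hap hba.symm]
    by_cases h2 : x = a
    · subst h2; rw [ha', hta, hb, hb', swap_apply_right, swap_apply_left]
    by_cases h3 : x = b
    · subst h3; rw [htb, ha, ha', hta, swap_apply_of_ne_of_ne hbp hba, swap_apply_right]
    rw [swap_apply_of_ne_of_ne h1 h2, swap_apply_of_ne_of_ne h1 h3]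
    by_cases h4 : t' x = x
    · rw [h4]
      by_cases h5 : t x = x
      · rw [h5, h4, h5]
      · have h6 : t x ≠ p := fun e => h2 (by rw [← ha, ← e, tt])
        have h7 : t' (t x) = t x := fix' _ (by rw [tt]; exact fun e => h5 e.symm) h6
        rw [h7, tt]
    · have h6 : t' x ≠ p := fun e => h3 (by rw [← hb, ← e, tt'])
      have h7 : t (t' x) = t' x := fix _ (by rw [tt']; exact fun e => h4 e.symm) h6
      rw [h7, tt', fix x h4 h1]
  rw [heq]
  exact Perm.isThreeCycle_swap_mul_swap_same hbp.symm hap.symm hba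

theorem twoTrans_of (M : Subgroup (Perm α)) (x0 : α) (htrans : ∀ y, ∃ g ∈ M, g x0 = y)
    (hstab : ∀ y y', y ≠ x0 → y' ≠ x0 → ∃ g ∈ M, g x0 = x0 ∧ g y = y') : IsPreprimitive M α := by
  refine isPreprimitive_of_is_two_pretransitive (is_two_pretransitive_iff.2 ?_)
  intro a b c d hab hcd
  obtain ⟨g₁, hg₁, e₁⟩ := htrans a
  obtain ⟨g₂, hg₂, e₂⟩ := htrans c
  obtain ⟨h, hh, h1, h2⟩ := hstab (g₁.symm b) (g₂.symm d)
    (fun e => hab (by rw [← e₁, ← e, apply_symm_apply]))
    (fun e => hcd (by rw [← e₂, ← e, apply_symm_apply]))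
  refine ⟨⟨g₂ * h * g₁⁻¹, mul_mem (mul_mem hg₂ hh) (inv_mem hg₁)⟩, ?_, ?_⟩
  · change (g₂ * h * g₁⁻¹) a = c
    rw [Perm.mul_apply, Perm.mul_apply, show g₁⁻¹ a = x0 from g₁.symm_apply_eq.2 e₁.symm, h1, e₂]
  · change (g₂ * h * g₁⁻¹) b = d
    rw [Perm.mul_apply, Perm.mul_apply, show g₁⁻¹ b = g₁.symm b from rfl, h2, apply_symm_apply]

/-- The subgroup preserving the bipartition `{L, Lᶜ}`. -/
def bipartStab (L : Set α) : Subgroup (Perm α) where
  carrier := {g | g • L = L ∨ g • L = Lᶜ}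
  mul_mem' := by
    intro g h hg hh
    rcases hh with hh | hh <;> rcases hg with hg | hg
    · exact Or.inl (by rw [mul_smul, hh, hg])
    · exact Or.inr (by rw [mul_smul, hh, hg])
    · exact Or.inr (by rw [mul_smul, hh, Set.smul_set_compl, hg])
    · exact Or.inl (by rw [mul_smul, hh, Set.smul_set_compl, hg, compl_compl])
  one_mem' := Or.inl (one_smul _ _)
  inv_mem' := by
    intro g hg
    rcases hg with hg | hg
    · exact Or.inl (by rw [inv_smul_eq_iff, hg])
    · exact Or.inr (by rw [inv_smul_eq_iff, Set.smul_set_compl, hg, compl_compl])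

theorem stab_le_bipartStab (L : Set α) : stabilizer (Perm α) L ≤ bipartStab L :=
  fun _ h => Or.inl h

theorem smul_set_eq_of_swaps {L : Set α} {a b c d : α} (h1 : a ∈ L ↔ b ∈ L) (h2 : c ∈ L ↔ d ∈ L) :
    swap a b * swap c d ∈ stabilizer (Perm α) L := by
  refine mul_mem ?_ ?_
  · by_cases h : a ∈ L
    · exact Perm.swap_mem_stabilizer h (h1.1 h)
    · rw [← stabilizer_compl]; exact Perm.swap_mem_stabilizer h (fun hb => h (h1.2 hb))
  · by_cases h : c ∈ L
    · exact Perm.swap_mem_stabilizer h (h2.1 h)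
    · rw [← stabilizer_compl]; exact Perm.swap_mem_stabilizer h (fun hb => h (h2.2 hb))

theorem alt_not_le_stab {L : Set α} (h0 : L.Nonempty) (hc : Lᶜ.Nontrivial) :
    ¬ alternatingGroup α ≤ stabilizer (Perm α) L := by
  intro h
  apply alternatingGroup.stabilizer_ne_top h0 hc
  exact (Subgroup.eq_top_iff' _).2 fun g => h g.2

theorem le_of_stab_coatom {L : Set α} (h0 : L.Nonempty) (h1 : Lᶜ.Nonempty)
    (hn : Nat.card α ≠ 2 * L.ncard) (M : Subgroup (Perm α))
    (hM : stabilizer (Perm α) L ⊓ alternatingGroup α ≤ M) {v : Perm α}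
    (hv : v ∈ alternatingGroup α) (hvM : v ∈ M) (hvL : v • L ≠ L) : alternatingGroup α ≤ M := by
  have hco := alternatingGroup.isCoatom_stabilizer (α := α) h0 h1 hn
  have hle : stabilizer (alternatingGroup α) L ≤ M.subgroupOf (alternatingGroup α) :=
    fun g hg => hM ⟨hg, g.2⟩
  have hne : stabilizer (alternatingGroup α) L ≠ M.subgroupOf (alternatingGroup α) := by
    intro e
    have : (⟨v, hv⟩ : alternatingGroup α) ∈ stabilizer (alternatingGroup α) L := e ▸ hvM
    exact hvL this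
  exact Subgroup.subgroupOf_eq_top.1 (hco.2 _ (lt_of_le_of_ne hle hne))

end Generic

section Model

variable {β γ : Type*}

/-- The union of the pairs indexed by `A`. -/
def lift (A : Set β) : Set ((β × Bool) ⊕ γ) := {x | ∃ b ∈ A, ∃ c, x = Sum.inl (b, c)}

@[simp] theorem inl_mem_lift {A : Set β} {b : β} {c : Bool} :
    (Sum.inl (b, c) : (β × Bool) ⊕ γ) ∈ lift A ↔ b ∈ A := by
  constructor
  · rintro ⟨b', hb', c', h⟩
    simp only [Sum.inl.injEq, Prod.mk.injEq] at h
    exact h.1 ▸ hb'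
  · exact fun h => ⟨b, h, c, rfl⟩

@[simp] theorem inr_notMem_lift {A : Set β} {u : γ} : (Sum.inr u : (β × Bool) ⊕ γ) ∉ lift A := by
  simp [lift]

theorem wr_smul_lift (σ : Perm β) (f : β → Bool) (A : Set β) :
    (wr σ f : Perm ((β × Bool) ⊕ γ)) • (lift A : Set ((β × Bool) ⊕ γ)) = lift (σ • A) := by
  ext x
  rw [Set.mem_smul_set_iff_inv_smul_mem, wr_inv]
  rcases x with ⟨b, c⟩ | u
  · simp [Set.mem_smul_set_iff_inv_smul_mem]
  · simp

theorem lift_compl [IsEmpty γ] (A : Set β) : (lift A : Set ((β × Bool) ⊕ γ))ᶜ = lift Aᶜ := by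
  ext x
  rcases x with ⟨b, c⟩ | u
  · simp
  · exact isEmptyElim u

theorem ncard_lift (A : Set β) :
    (lift A : Set ((β × Bool) ⊕ γ)).ncard = 2 * A.ncard := by
  have h : (lift A : Set ((β × Bool) ⊕ γ)) = Sum.inl '' (A ×ˢ (Set.univ : Set Bool)) := by
    ext x; rcases x with ⟨b, c⟩ | u <;> simp
  rw [h, Set.ncard_image_of_injective _ Sum.inl_injective, Set.ncard_prod, Set.ncard_univ,
    Nat.card_eq_fintype_card, Fintype.card_bool, mul_comm]

variable [Fintype β] [DecidableEq β] [Fintype γ] [DecidableEq γ]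

theorem pairwreath_not_top {b b' : β} (h : b ≠ b') :
    ¬ alternatingGroup ((β × Bool) ⊕ γ) ≤ wrSub (⊤ : Subgroup (Perm β)) := by
  intro hle
  have hmem : swap (Sum.inl (b, false) : (β × Bool) ⊕ γ) (Sum.inl (b', false)) *
      swap (Sum.inl (b, false)) (Sum.inl (b', true)) ∈ alternatingGroup _ :=
    double_swap_even (by simp [h]) (by simp [h])
  have h1 := wrSub_comm (hle hmem) (Sum.inl (b, true))
  simp [swap_apply_of_ne_of_ne, h, h.symm, swap_apply_def] at h1

/-- An even element of the wreath product moving a chosen point. -/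
theorem exists_even_move (R : Subgroup (Perm β)) {σ : Perm β} (hσ : σ ∈ R) {b : β} (c c' : Bool)
    {b₁ : β} (hb₁ : b₁ ≠ σ b) :
    ∃ g ∈ wrSub (γ := γ) R, g ∈ alternatingGroup _ ∧ g (Sum.inl (b, c)) = Sum.inl (σ b, c') := by
  haveI : Nonempty β := ⟨b⟩
  obtain ⟨f, hf⟩ := exists_even_lift (γ := γ) σ
  by_cases h : xor c (f b) = c'
  · exact ⟨_, wr_mem_wrSub hσ f, hf, by rw [wr_inl, h]⟩
  · refine ⟨tau (σ b) * tau b₁ * wr σ f, mul_mem (mul_mem (tau_mem R _) (tau_mem R _)) (wr_mem_wrSub hσ f),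
      mul_mem (tau_mul_tau_even _ _) hf, ?_⟩
    rw [Perm.mul_apply, Perm.mul_apply, wr_inl]
    have h1 : (tau b₁ : Perm ((β × Bool) ⊕ γ)) (Sum.inl (σ b, xor c (f b))) = Sum.inl (σ b, xor c (f b)) := by
      simp [tau, hb₁.symm]
    rw [h1]
    cases c <;> cases c' <;> cases hfb : f b <;> simp_all [tau]

/-- Case: one fixed point and an invariant proper set of pairs. -/
theorem gen_fixed_set [Nonempty γ] [Subsingleton γ] {A : Set β} (hA : A.Nonempty) (hA' : Aᶜ.Nonempty)
    {R : Subgroup (Perm β)} (hR : ∀ σ ∈ R, σ • A = A) :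
    ∃ U V : Subgroup (Perm ((β × Bool) ⊕ γ)), wrSub R ≤ U ∧ wrSub R ≤ V ∧
      ¬ alternatingGroup _ ≤ U ∧ ¬ alternatingGroup _ ≤ V ∧
      ∀ M : Subgroup (Perm ((β × Bool) ⊕ γ)), U ⊓ alternatingGroup _ ≤ M → V ⊓ alternatingGroup _ ≤ M →
        alternatingGroup _ ≤ M := by
  obtain ⟨a, ha⟩ := hA
  obtain ⟨w, hw⟩ := hA'
  obtain ⟨u⟩ := ‹Nonempty γ›
  refine ⟨stabilizer _ ({Sum.inr u} : Set ((β × Bool) ⊕ γ)), stabilizer _ (lift A : Set ((β × Bool) ⊕ γ)),
    ?_, ?_, ?_, ?_, ?_⟩
  · rintro _ ⟨σ, -, f, rfl⟩; simp [mem_stabilizer_iff]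
  · rintro _ ⟨σ, hσ, f, rfl⟩; rw [mem_stabilizer_iff, wr_smul_lift, hR σ hσ]
  · exact alt_not_le_stab (Set.singleton_nonempty _)
      ⟨Sum.inl (a, false), by simp, Sum.inl (a, true), by simp, by simp⟩
  · exact alt_not_le_stab ⟨Sum.inl (a, false), by simpa using ha⟩
      ⟨Sum.inr u, by simp, Sum.inl (w, false), by simpa using hw, by simp⟩
  · intro M hU hV
    set v : Perm ((β × Bool) ⊕ γ) :=
      swap (Sum.inr u) (Sum.inl (w, false)) * swap (Sum.inl (a, false)) (Sum.inl (a, true)) with hv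
    have hva : v ∈ alternatingGroup _ := double_swap_even (by simp) (by simp)
    have hvL : v ∈ stabilizer (Perm ((β × Bool) ⊕ γ)) (lift A : Set ((β × Bool) ⊕ γ)) :=
      smul_set_eq_of_swaps (by simpa using hw) (by simp)
    refine le_of_stab_coatom (Set.singleton_nonempty _) ⟨Sum.inl (a, false), by simp⟩ ?_ M hU hva (hV ⟨hvL, hva⟩) ?_
    · rw [Set.ncard_singleton, Nat.card_sum, Nat.card_prod, Nat.card_eq_fintype_card (α := Bool), Fintype.card_bool]
      have : Nat.card γ = 1 := Nat.card_eq_one_iff_unique.2 ⟨inferInstance, inferInstance⟩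
      omega
    · intro h
      rw [Set.smul_set_singleton, Set.singleton_eq_singleton_iff, Perm.smul_def] at h
      simp [hv, swap_apply_of_ne_of_ne] at h

/-- Case: no fixed point and an invariant set of pairs, not half of them. -/
theorem gen_pairs_set [IsEmpty γ] {A : Set β} (hA : A.Nonempty) (hA' : Aᶜ.Nonempty)
    (hhalf : Nat.card β ≠ 2 * A.ncard) {R : Subgroup (Perm β)} (hR : ∀ σ ∈ R, σ • A = A) :
    ∃ U V : Subgroup (Perm ((β × Bool) ⊕ γ)), wrSub R ≤ U ∧ wrSub R ≤ V ∧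
      ¬ alternatingGroup _ ≤ U ∧ ¬ alternatingGroup _ ≤ V ∧
      ∀ M : Subgroup (Perm ((β × Bool) ⊕ γ)), U ⊓ alternatingGroup _ ≤ M → V ⊓ alternatingGroup _ ≤ M →
        alternatingGroup _ ≤ M := by
  obtain ⟨a, ha⟩ := hA
  obtain ⟨w, hw⟩ := hA'
  have haw : a ≠ w := fun e => hw (e ▸ ha)
  refine ⟨stabilizer _ (lift A : Set ((β × Bool) ⊕ γ)), wrSub ⊤, ?_, ?_, ?_, pairwreath_not_top haw, ?_⟩
  · rintro _ ⟨σ, hσ, f, rfl⟩; rw [mem_stabilizer_iff, wr_smul_lift, hR σ hσ]
  · rintro _ ⟨σ, -, f, rfl⟩; exact wr_mem_wrSub (Subgroup.mem_top σ) f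
  · exact alt_not_le_stab ⟨Sum.inl (a, false), by simpa using ha⟩
      ⟨Sum.inl (w, true), by simpa using hw, Sum.inl (w, false), by simpa using hw, by simp⟩
  · intro M hU hV
    obtain ⟨v, hv, hva, hva'⟩ := exists_even_move (γ := γ) (⊤ : Subgroup (Perm β))
      (σ := swap a w) trivial (b := a) false false (b₁ := a) (by rw [swap_apply_left]; exact haw)
    rw [swap_apply_left] at hva'
    refine le_of_stab_coatom ⟨Sum.inl (a, false), by simpa using ha⟩ ⟨Sum.inl (w, true), by simpa using hw⟩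
      ?_ M hU hva (hV ⟨hv, hva⟩) ?_
    · rw [ncard_lift, Nat.card_sum, Nat.card_prod, Nat.card_eq_fintype_card (α := Bool), Fintype.card_bool,
        Nat.card_of_isEmpty (α := γ)]
      omega
    · intro h
      have hmem := Set.smul_mem_smul_set (a := v)
        (show (Sum.inl (a, false) : (β × Bool) ⊕ γ) ∈ lift A by simpa using ha)
      rw [h, Perm.smul_def, hva', inl_mem_lift] at hmem
      exact hw hmem

/-- Case: no fixed point and an invariant bipartition of the pairs. -/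
theorem gen_pairs_halves [IsEmpty γ] {A : Set β} (hA : A.Nontrivial) (hA' : Aᶜ.Nontrivial)
    {R : Subgroup (Perm β)} (hR : ∀ σ ∈ R, σ • A = A ∨ σ • A = Aᶜ) :
    ∃ U V : Subgroup (Perm ((β × Bool) ⊕ γ)), wrSub R ≤ U ∧ wrSub R ≤ V ∧
      ¬ alternatingGroup _ ≤ U ∧ ¬ alternatingGroup _ ≤ V ∧
      ∀ M : Subgroup (Perm ((β × Bool) ⊕ γ)), U ⊓ alternatingGroup _ ≤ M → V ⊓ alternatingGroup _ ≤ M →
        alternatingGroup _ ≤ M := by
  obtain ⟨b0, hb0, b1, hb1, hb01⟩ := hA
  obtain ⟨b2, hb2, b3, hb3, hb23⟩ := hA'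
  simp only [Set.mem_compl_iff] at hb2 hb3
  have hb02 : b0 ≠ b2 := fun e => hb2 (e ▸ hb0)
  have hb12 : b1 ≠ b2 := fun e => hb2 (e ▸ hb1)
  set L : Set ((β × Bool) ⊕ γ) := lift A with hL
  refine ⟨bipartStab L, wrSub ⊤, ?_, ?_, ?_, pairwreath_not_top hb01, ?_⟩
  · rintro _ ⟨σ, hσ, f, rfl⟩
    rcases hR σ hσ with h | h
    · exact Or.inl (by rw [hL, wr_smul_lift, h])
    · exact Or.inr (by rw [hL, wr_smul_lift, h, lift_compl])
  · rintro _ ⟨σ, -, f, rfl⟩; exact wr_mem_wrSub (Subgroup.mem_top σ) f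
  · intro h
    set g : Perm ((β × Bool) ⊕ γ) := swap (Sum.inl (b0, false)) (Sum.inl (b2, false)) *
      swap (Sum.inl (b0, false)) (Sum.inl (b3, false)) with hg
    have h1 : g ∈ bipartStab L := h (double_swap_even (by simp [hb02]) (by
      simp only [ne_eq, Sum.inl.injEq, Prod.mk.injEq, and_true]; exact fun e => hb3 (e ▸ hb0)))
    have e1 : g (Sum.inl (b0, false)) = Sum.inl (b3, false) := by
      simp [hg, swap_apply_of_ne_of_ne, hb23.symm, show b3 ≠ b0 from fun e => hb3 (e ▸ hb0)]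
    have e2 : g (Sum.inl (b1, false)) = Sum.inl (b1, false) := by
      simp [hg, swap_apply_of_ne_of_ne, hb01.symm, hb12, show b1 ≠ b3 from fun e => hb3 (e ▸ hb1)]
    rcases h1 with h1 | h1
    · have hmem := Set.smul_mem_smul_set (a := g)
        (show (Sum.inl (b0, false) : (β × Bool) ⊕ γ) ∈ L by simpa [hL] using hb0)
      rw [h1, Perm.smul_def, e1, hL, inl_mem_lift] at hmem
      exact hb3 hmem
    · have hmem := Set.smul_mem_smul_set (a := g)
        (show (Sum.inl (b1, false) : (β × Bool) ⊕ γ) ∈ L by simpa [hL] using hb1)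
      rw [h1, Perm.smul_def, e2, hL, Set.mem_compl_iff, inl_mem_lift] at hmem
      exact hmem hb1
  · intro M hU hV
    set x0 : (β × Bool) ⊕ γ := Sum.inl (b0, false) with hx0
    have hstabL : ∀ g, g ∈ stabilizer (Perm ((β × Bool) ⊕ γ)) L → g ∈ alternatingGroup _ → g ∈ M :=
      fun g h1 h2 => hU ⟨stab_le_bipartStab L h1, h2⟩
    have htrans : ∀ y, ∃ g ∈ M, g x0 = y := by
      rintro (⟨b, c⟩ | u)
      · obtain ⟨b₁, hb₁⟩ : ∃ b₁, b₁ ≠ b := by
          by_cases e : b0 = b
          · exact ⟨b1, fun e' => hb01 (e.trans e'.symm)⟩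
          · exact ⟨b0, e⟩
        obtain ⟨g, hg, hga, hgb⟩ := exists_even_move (γ := γ) (⊤ : Subgroup (Perm β))
          (σ := swap b0 b) trivial (b := b0) false c (b₁ := b₁) (by rwa [swap_apply_left])
        rw [swap_apply_left] at hgb
        exact ⟨g, hV ⟨hg, hga⟩, hgb⟩
      · exact isEmptyElim u
    let Reach : (β × Bool) ⊕ γ → (β × Bool) ⊕ γ → Prop := fun y y' => ∃ g ∈ M, g x0 = x0 ∧ g y = y'
    have hsym : ∀ y y', Reach y y' → Reach y' y := by
      rintro y y' ⟨g, hg, h1, h2⟩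
      exact ⟨g⁻¹, inv_mem hg, g.symm_apply_eq.2 h1.symm, g.symm_apply_eq.2 h2.symm⟩
    have htr : ∀ y y' y'', Reach y y' → Reach y' y'' → Reach y y'' := by
      rintro y y' y'' ⟨g, hg, h1, h2⟩ ⟨g', hg', h1', h2'⟩
      exact ⟨g' * g, mul_mem hg' hg, by rw [Perm.mul_apply, h1, h1'], by rw [Perm.mul_apply, h2, h2']⟩
    have hside : ∀ y y', y ≠ x0 → y' ≠ x0 → (y ∈ L ↔ y' ∈ L) → Reach y y' := by
      intro y y' hy hy' hiff
      rcases eq_or_ne y y' with rfl | hne
      · exact ⟨1, one_mem _, rfl, rfl⟩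
      by_cases hyL : y ∈ L
      · have hy'L := hiff.1 hyL
        refine ⟨swap y y' * swap (Sum.inl (b2, false)) (Sum.inl (b2, true)),
          hstabL _ (smul_set_eq_of_swaps hiff (by simp [hL])) (double_swap_even hne (by simp)), ?_, ?_⟩
        · exact dswap_fix hy.symm hy'.symm (by simp [hx0, hb02]) (by simp [hx0, hb02])
        · apply dswap_left <;>
            (rintro rfl; exact hb2 (by simpa [hL] using hyL))
      · refine ⟨swap y y' * swap (Sum.inl (b1, false)) (Sum.inl (b1, true)),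
          hstabL _ (smul_set_eq_of_swaps hiff (by simp [hL])) (double_swap_even hne (by simp)), ?_, ?_⟩
        · exact dswap_fix hy.symm hy'.symm (by simp [hx0, hb01]) (by simp [hx0, hb01])
        · apply dswap_left <;>
            (rintro rfl; exact hyL (by simpa [hL] using hb1))
    set d : Perm ((β × Bool) ⊕ γ) := swap (Sum.inl (b1, false)) (Sum.inl (b2, false)) *
      swap (Sum.inl (b1, true)) (Sum.inl (b2, true)) with hd
    have hdW : d ∈ wrSub (⊤ : Subgroup (Perm β)) := by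
      refine ⟨swap b1 b2, trivial, fun _ => false, Equiv.ext ?_⟩
      rintro (⟨b, c⟩ | u)
      · by_cases e1 : b = b1
        · subst e1; cases c <;> simp [hd, swap_apply_of_ne_of_ne, hb12]
        by_cases e2 : b = b2
        · subst e2; cases c <;> simp [hd, swap_apply_of_ne_of_ne, hb12.symm]
        cases c <;> simp [hd, swap_apply_of_ne_of_ne, e1, e2]
      · exact isEmptyElim u
    have hcross : Reach (Sum.inl (b1, false)) (Sum.inl (b2, false)) :=
      ⟨d, hV ⟨hdW, double_swap_even (by simp [hb12]) (by simp [hb12])⟩,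
        by simp [hd, hx0, swap_apply_of_ne_of_ne, hb01, hb02],
        by simp [hd, swap_apply_of_ne_of_ne]⟩
    have hto : ∀ y, y ≠ x0 → Reach y (Sum.inl (b1, false)) := by
      intro y hy
      by_cases hyL : y ∈ L
      · exact hside y _ hy (by simp [hx0, hb01.symm]) (by simp [hL, hb1, hyL] at *; tauto)
      · exact htr _ _ _ (hside y _ hy (by simp [hx0, hb02.symm]) (by simp [hL, hb2] at *; tauto)) (hsym _ _ hcross)
    have hprim : IsPreprimitive M ((β × Bool) ⊕ γ) := twoTrans_of M x0 htrans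
      fun y y' hy hy' => htr _ _ _ (hto y hy) (hsym _ _ (hto y' hy'))
    refine Perm.alternatingGroup_le_of_isPreprimitive_of_isThreeCycle_mem hprim
      (Perm.isThreeCycle_swap_mul_swap_same (a := x0) (b := Sum.inl (b0, true)) (c := Sum.inl (b1, false))
        (by simp [hx0]) (by simp [hx0, hb01]) (by simp)) (hstabL _ ?_ ?_)
    · exact smul_set_eq_of_swaps (by simp [hL, hx0]) (by simp [hL, hx0, hb0, hb1])
    · exact double_swap_even (by simp [hx0]) (by simp [hx0, hb01])

/-- Case: one fixed point, the rest one orbit. -/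
theorem gen_point [Nonempty γ] [Subsingleton γ] (hβ : Fintype.card β = 2 ∨ 4 ≤ Fintype.card β)
    (R : Sylow 2 (Perm β)) (hR : ∀ a b, ∃ σ ∈ R, σ a = b) :
    ∃ I : Subgroup (Perm ((β × Bool) ⊕ γ)), wrSub (R : Subgroup (Perm β)) ≤ I ∧
      ¬ alternatingGroup _ ≤ I ∧
      ∀ M : Subgroup (Perm ((β × Bool) ⊕ γ)),
        wrSub (R : Subgroup (Perm β)) ⊓ alternatingGroup _ ≤ M → ¬ alternatingGroup _ ≤ M → M ≤ I := by
  obtain ⟨b0, b1', hb01'⟩ := Fintype.exists_pair_of_one_lt_card (show 1 < Fintype.card β by omega)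
  obtain ⟨u⟩ := ‹Nonempty γ›
  refine ⟨stabilizer _ ({Sum.inr u} : Set ((β × Bool) ⊕ γ)), ?_, ?_, ?_⟩
  · rintro _ ⟨σ, -, f, rfl⟩; simp [mem_stabilizer_iff]
  · exact alt_not_le_stab (Set.singleton_nonempty _)
      ⟨Sum.inl (b0, false), by simp, Sum.inl (b0, true), by simp, by simp⟩
  intro M hS hA g hgM
  rw [mem_stabilizer_iff, Set.smul_set_singleton, Set.singleton_eq_singleton_iff, Perm.smul_def]
  by_contra hg
  refine hA ?_
  have hmove : ∀ b b' : β, ∀ c c', ∃ h ∈ M, h (Sum.inr u) = Sum.inr u ∧ h (Sum.inl (b, c)) = Sum.inl (b', c') := by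
    intro b b' c c'
    obtain ⟨σ, hσ, rfl⟩ := hR b b'
    obtain ⟨b₁, hb₁⟩ := Fintype.exists_ne_of_one_lt_card (show 1 < Fintype.card β by omega) (σ b)
    obtain ⟨h, hh, hha, hhb⟩ := exists_even_move (γ := γ) (R : Subgroup (Perm β)) hσ c c' hb₁
    obtain ⟨τ, hτ, f, e⟩ := hh
    exact ⟨h, hS ⟨⟨τ, hτ, f, e⟩, hha⟩, by rw [e, wr_inr], hhb⟩
  obtain ⟨⟨q, qc⟩, hq⟩ : ∃ q, g (Sum.inr u) = Sum.inl q := by
    rcases h : g (Sum.inr u) with q | v
    · exact ⟨q, rfl⟩
    · exact absurd (by rw [h, Subsingleton.elim v u]) hg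
  have htrans : ∀ y, ∃ h ∈ M, h (Sum.inr u) = y := by
    rintro (⟨b, c⟩ | v)
    · obtain ⟨h, hh, -, hb⟩ := hmove q b qc c
      exact ⟨h * g, mul_mem hh hgM, by rw [Perm.mul_apply, hq, hb]⟩
    · exact ⟨1, one_mem _, by simp [Subsingleton.elim v u]⟩
  have hprim : IsPreprimitive M ((β × Bool) ⊕ γ) := by
    refine twoTrans_of M (Sum.inr u) htrans fun y y' hy hy' => ?_
    rcases y with ⟨b, c⟩ | v
    · rcases y' with ⟨b', c'⟩ | v'
      · exact hmove b b' c c'
      · exact absurd (congrArg Sum.inr (Subsingleton.elim v' u)) hy'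
    · exact absurd (congrArg Sum.inr (Subsingleton.elim v u)) hy
  rcases hβ with hβ | hβ
  · -- degree five
    have hX : Nat.card ((β × Bool) ⊕ γ) = 5 := by
      rw [Nat.card_sum, Nat.card_prod, Nat.card_eq_fintype_card (α := Bool), Nat.card_eq_fintype_card (α := β),
        hβ, Fintype.card_bool, Nat.card_eq_one_iff_unique.2 (⟨‹Subsingleton γ›, ‹Nonempty γ›⟩ : Subsingleton γ ∧ Nonempty γ)]
    haveI := hprim.toIsPretransitive
    have h5M : 5 ∣ Nat.card M := by
      rw [← hX, ← MulAction.index_stabilizer_of_transitive M (Sum.inr u : (β × Bool) ⊕ γ)]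
      exact Subgroup.index_dvd_card _
    haveI hsimp := alternatingGroup.isSimpleGroup (α := (β × Bool) ⊕ γ) hX.ge
    haveI : Nontrivial ((β × Bool) ⊕ γ) := Finite.one_lt_card_iff_nontrivial.1 (by omega)
    have hA60 : Nat.card (alternatingGroup ((β × Bool) ⊕ γ)) = 60 := by
      rw [nat_card_alternatingGroup, hX]; rfl
    set N : Subgroup (alternatingGroup ((β × Bool) ⊕ γ)) := M.subgroupOf (alternatingGroup _)
    have h5 : 5 ∣ Nat.card N := by
      have h1 : Nat.card M = Nat.card (M ⊓ alternatingGroup _ : Subgroup (Perm ((β × Bool) ⊕ γ))) *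
          (alternatingGroup ((β × Bool) ⊕ γ)).relIndex M := by
        rw [← ((alternatingGroup ((β × Bool) ⊕ γ)).subgroupOf M).card_mul_index,
          ← Subgroup.card_map_of_injective (f := M.subtype) Subtype.coe_injective,
          Subgroup.subgroupOf_map_subtype, inf_comm]
        rfl
      have h2 : (alternatingGroup ((β × Bool) ⊕ γ)).relIndex M ∣ 2 := by
        calc (alternatingGroup ((β × Bool) ⊕ γ)).relIndex M ∣ (alternatingGroup ((β × Bool) ⊕ γ)).index :=
              Subgroup.relIndex_dvd_index_of_normal _ _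
          _ = 2 := alternatingGroup.index_eq_two
      have h3 : Nat.card N = Nat.card (M ⊓ alternatingGroup _ : Subgroup (Perm ((β × Bool) ⊕ γ))) := by
        rw [← Subgroup.card_map_of_injective (f := (alternatingGroup ((β × Bool) ⊕ γ)).subtype)
          Subtype.coe_injective, Subgroup.subgroupOf_map_subtype]
      rw [h3]
      rcases (Nat.dvd_prime Nat.prime_two).1 h2 with h | h
      · rw [h, mul_one] at h1; rwa [h1] at h5M
      · rw [h] at h1; omega
    have h4 : 4 ∣ Nat.card N := by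
      obtain ⟨S, hSc⟩ := exists_altSylow (wrSylow (γ := γ) R) (t := tau b0)
        (show tau b0 ∈ ((wrSylow (γ := γ) R : Sylow 2 (Perm ((β × Bool) ⊕ γ))) : Subgroup (Perm ((β × Bool) ⊕ γ))) by
          rw [coe_wrSylow]; exact tau_mem _ b0) (tau_notMem_alternating b0)
      rw [coe_wrSylow] at hSc
      have hS4 : 2 ^ 2 ∣ Nat.card (S : Subgroup (alternatingGroup ((β × Bool) ⊕ γ))) :=
        S.pow_dvd_card_of_pow_dvd_card (by rw [hA60]; norm_num)
      refine dvd_trans (by simpa using hS4) (Subgroup.card_dvd_of_le ?_)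
      rw [hSc]
      exact fun x hx => hS ⟨hx, x.2⟩
    have hmul := N.card_mul_index
    rw [hA60] at hmul
    by_contra hnot
    have hN : N ≠ ⊤ := fun e => hnot (Subgroup.subgroupOf_eq_top.1 e)
    have hd := card_dvd_factorial_index N hN
    rw [hA60] at hd
    obtain ⟨c, hc⟩ := Nat.Coprime.mul_dvd_of_dvd_of_dvd (by norm_num : Nat.Coprime 5 4) h5 h4
    have h3 : N.index ≤ 3 := by
      by_contra hc'
      have : 20 * 1 ≤ Nat.card N := by
        have : 0 < Nat.card N := Nat.card_pos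
        omega
      have := Nat.mul_le_mul this (show 4 ≤ N.index by omega)
      omega
    interval_cases hi : N.index <;> revert hd <;> decide
  · -- a three-cycle
    obtain ⟨g', hg', hg'0⟩ := htrans (Sum.inl (b0, false))
    set k : Perm ((β × Bool) ⊕ γ) := g'⁻¹
    have hk0 : k (Sum.inl (b0, false)) = Sum.inr u := g'.symm_apply_eq.2 hg'0.symm
    set x := k (Sum.inl (b0, true)) with hx
    set y := k (Sum.inl (b1', false)) with hy
    set w := k (Sum.inl (b1', true)) with hw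
    have hne : ∀ {p q : (β × Bool) ⊕ γ}, p ≠ q → k p ≠ k q := fun h e => h (k.injective e)
    have hxu : x ≠ Sum.inr u := by rw [hx, ← hk0]; exact hne (by simp)
    have hyu : y ≠ Sum.inr u := by rw [hy, ← hk0]; exact hne (by simp [hb01'.symm])
    have hwu : w ≠ Sum.inr u := by rw [hw, ← hk0]; exact hne (by simp)
    have hxy : x ≠ y := hne (by simp)
    have hxw : x ≠ w := hne (by simp [hb01'])
    have hyw : y ≠ w := hne (by simp)
    set t' : Perm ((β × Bool) ⊕ γ) := swap (Sum.inr u) x * swap y w with ht'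
    have ht'M : t' ∈ M := by
      have h1 : tau b0 * tau b1' ∈ M :=
        hS ⟨mul_mem (tau_mem _ _) (tau_mem _ _), tau_mul_tau_even _ _⟩
      have h2 := mul_mem (mul_mem (inv_mem hg' : k ∈ M) h1) (inv_mem (inv_mem hg' : k ∈ M))
      rwa [tau_eq_swap, tau_eq_swap, show k * (swap (Sum.inl (b0, false)) (Sum.inl (b0, true)) *
        swap (Sum.inl (b1', false)) (Sum.inl (b1', true))) * k⁻¹ =
        (k * swap (Sum.inl (b0, false)) (Sum.inl (b0, true)) * k⁻¹) *
        (k * swap (Sum.inl (b1', false)) (Sum.inl (b1', true)) * k⁻¹) by group,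
        ← swap_apply_apply, ← swap_apply_apply, hk0] at h2
    -- the three other moved points are paired points
    have hinl : ∀ p : (β × Bool) ⊕ γ, p ≠ Sum.inr u → ∃ b c, p = Sum.inl (b, c) := by
      rintro (⟨b, c⟩ | v) h
      · exact ⟨b, c, rfl⟩
      · exact absurd (congrArg Sum.inr (Subsingleton.elim v u)) h
    obtain ⟨bx, cx, hbx⟩ := hinl x hxu
    obtain ⟨by', cy, hby⟩ := hinl y hyu
    obtain ⟨bw, cw, hbw⟩ := hinl w hwu
    obtain ⟨bp, cp, hpT, hbp⟩ : ∃ bp cp, (Sum.inl (bp, cp) = x ∨ Sum.inl (bp, cp) = y ∨ Sum.inl (bp, cp) = w) ∧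
        ∀ c, Sum.inl (bp, c) = x ∨ Sum.inl (bp, c) = y ∨ Sum.inl (bp, c) = w → c = cp := by
      by_cases e1 : bx ≠ by' ∧ bx ≠ bw
      · refine ⟨bx, cx, Or.inl hbx.symm, fun c => ?_⟩
        rw [hbx, hby, hbw]; simp [e1.1, e1.2]
      by_cases e2 : bx = by'
      · subst e2
        have hbwx : bw ≠ bx := by
          rintro rfl
          rw [hbx, hby] at hxy
          rw [hbx, hbw] at hxw
          rw [hby, hbw] at hyw
          cases cx <;> cases cy <;> cases cw <;>
            first | exact hxy rfl | exact hxw rfl | exact hyw rfl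
        refine ⟨bw, cw, Or.inr (Or.inr hbw.symm), fun c => ?_⟩
        rw [hbx, hby, hbw]; simp [hbwx]
      · have e3 : bx = bw := by
          by_contra e3; exact e1 ⟨e2, e3⟩
        refine ⟨by', cy, Or.inr (Or.inl hby.symm), fun c => ?_⟩
        rw [hbx, hby, hbw, ← e3]; simp [Ne.symm e2]
    obtain ⟨j, hj⟩ : ∃ j, j ∉ ({bx, by', bw} : Finset β) := by
      by_contra hc
      have hu : ({bx, by', bw} : Finset β) = Finset.univ :=
        Finset.eq_univ_iff_forall.2 fun j => not_not.1 fun h => hc ⟨j, h⟩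
      have h3 : ({bx, by', bw} : Finset β).card ≤ 3 := Finset.card_le_three
      rw [hu, Finset.card_univ] at h3
      omega
    simp only [Finset.mem_insert, Finset.mem_singleton, not_or] at hj
    have hjp : bp ≠ j := by
      rintro rfl
      rcases hpT with e | e | e
      · rw [hbx] at e; exact hj.1 (congrArg Prod.fst (Sum.inl.inj e))
      · rw [hby] at e; exact hj.2.1 (congrArg Prod.fst (Sum.inl.inj e))
      · rw [hbw] at e; exact hj.2.2 (congrArg Prod.fst (Sum.inl.inj e))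
    have htM : tau bp * tau j ∈ M := hS ⟨mul_mem (tau_mem _ _) (tau_mem _ _), tau_mul_tau_even _ _⟩
    have htt : (tau bp * tau j : Perm ((β × Bool) ⊕ γ)) * (tau bp * tau j) = 1 := by
      ext (⟨b, c⟩ | v)
      · by_cases e1 : b = bp <;> by_cases e2 : b = j <;> simp [tau, wr_mul, e1, e2, hjp, hjp.symm]
      · simp [tau, wr_mul]
    have ht't' : t' * t' = 1 := by
      have hd : Perm.Disjoint (swap (Sum.inr u) x) (swap y w) := by
        intro z
        by_cases e : z = Sum.inr u ∨ z = x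
        · rcases e with rfl | rfl
          · exact Or.inr (swap_apply_of_ne_of_ne hyu.symm hwu.symm)
          · exact Or.inr (swap_apply_of_ne_of_ne hxy hxw)
        · rw [not_or] at e
          exact Or.inl (swap_apply_of_ne_of_ne e.1 e.2)
      rw [ht']
      calc swap (Sum.inr u) x * swap y w * (swap (Sum.inr u) x * swap y w)
          = swap (Sum.inr u) x * (swap y w * swap (Sum.inr u) x) * swap y w := by simp only [mul_assoc]
        _ = swap (Sum.inr u) x * (swap (Sum.inr u) x * swap y w) * swap y w := by rw [hd.commute.eq]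
        _ = 1 := by rw [← mul_assoc, swap_mul_self, one_mul, swap_mul_self]
    have hmoved : ∀ z, t' z ≠ z → z = Sum.inr u ∨ z = x ∨ z = y ∨ z = w := by
      intro z hz
      by_contra hc
      simp only [not_or] at hc
      apply hz
      rw [ht', Perm.mul_apply, swap_apply_of_ne_of_ne hc.2.2.1 hc.2.2.2, swap_apply_of_ne_of_ne hc.1 hc.2.1]
    refine Perm.alternatingGroup_le_of_isPreprimitive_of_isThreeCycle_mem hprim
      (threeCycle_of_overlap (p := Sum.inl (bp, cp)) htt ht't' ?_ ?_ ?_)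
      (mul_mem (mul_mem (mul_mem htM ht'M) htM) ht'M)
    · exact Perm.mem_support.1 ((mem_support_tau_mul hjp _).2 ⟨cp, Or.inl rfl⟩)
    · rcases hpT with e | e | e <;> rw [e, ht', Perm.mul_apply]
      · rw [swap_apply_of_ne_of_ne hxy hxw, swap_apply_right]; exact hxu.symm
      · rw [swap_apply_left, swap_apply_of_ne_of_ne hwu hxw.symm]; exact hyw.symm
      · rw [swap_apply_right, swap_apply_of_ne_of_ne hyu hxy.symm]; exact hyw
    · intro z hz1 hz2
      obtain ⟨c, rfl | rfl⟩ := (mem_support_tau_mul hjp z).1 (Perm.mem_support.2 hz1)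
      · rcases hmoved _ hz2 with e | e
        · simp at e
        · rw [hbp c e]
      · rcases hmoved _ hz2 with e | e | e | e
        · simp at e
        · rw [hbx] at e; exact absurd (congrArg Prod.fst (Sum.inl.inj e)) hj.1
        · rw [hby] at e; exact absurd (congrArg Prod.fst (Sum.inl.inj e)) hj.2.1
        · rw [hbw] at e; exact absurd (congrArg Prod.fst (Sum.inl.inj e)) hj.2.2

end Model

end Cfsg.Agent.H52
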