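import Mathlib
import Cfsg.Agent.H52.PairModel
import Cfsg.Agent.H52.SylowOvergroups

/-!
Orbit structure of the Sylow 2-subgroups of symmetric groups.
-/

set_option autoImplicit false

namespace Cfsg.Agent.H52

open Equiv MulAction Pointwise

/-- Every Sylow 2-subgroup of `S_n` comes from the pairing model. -/
theorem exists_model_map (n : ℕ) (R : Sylow 2 (Perm (Fin (n / 2)))) (P : Sylow 2 (Perm (Fin n))) :
    ∃ e : ((Fin (n / 2) × Bool) ⊕ Fin (n % 2)) ≃ Fin n,
      (P : Subgroup (Perm (Fin n))) =
        (wrSub (γ := Fin (n % 2)) (R : Subgroup (Perm (Fin (n / 2))))).map e.permCongrHom.toMonoidHom := by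
  set e0 := modelEquiv n
  have hs : Function.Surjective e0.permCongrHom.toMonoidHom := e0.permCongrHom.surjective
  obtain ⟨g, hg⟩ := MulAction.exists_smul_eq (Perm (Fin n))
    ((wrSylow (γ := Fin (n % 2)) R).mapSurjective hs) P
  refine ⟨e0.trans g, ?_⟩
  rw [← hg, Sylow.coe_subgroup_smul, Sylow.coe_mapSurjective, coe_wrSylow]
  rw [show (MulAut.conj g) • ((wrSub (γ := Fin (n % 2)) (R : Subgroup (Perm (Fin (n / 2))))).map
      e0.permCongrHom.toMonoidHom) = ((wrSub (γ := Fin (n % 2)) (R : Subgroup (Perm (Fin (n / 2))))).map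
      e0.permCongrHom.toMonoidHom).map (MulAut.conj g).toMonoidHom from rfl, Subgroup.map_map]
  congr 1

theorem permCongr_smul_image {α α' : Type*} (e : α ≃ α') (σ : Perm α) (A : Set α) :
    (e.permCongrHom.toMonoidHom σ) • (e '' A) = e '' (σ • A) := by
  ext x
  constructor
  · rintro ⟨_, ⟨a, ha, rfl⟩, rfl⟩
    exact ⟨σ a, Set.smul_mem_smul_set (a := σ) ha, by simp [Equiv.permCongr_apply]⟩
  · rintro ⟨_, ⟨a, ha, rfl⟩, rfl⟩
    exact ⟨e a, ⟨a, ha, rfl⟩, by simp [Equiv.permCongr_apply]⟩

/-- Orbit structure: an invariant set of the largest 2-power size, and for 2-powers a transitive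
action with an invariant bipartition. -/
theorem sylow_struct (n : ℕ) : ∀ P : Sylow 2 (Perm (Fin n)),
    (1 ≤ n → ∃ A : Set (Fin n), A.ncard = 2 ^ Nat.log 2 n ∧ ∀ σ ∈ P, σ • A = A) ∧
    (∀ k, n = 2 ^ k → (∀ a b, ∃ σ ∈ P, σ a = b) ∧
      (1 ≤ k → ∃ A : Set (Fin n), A.ncard = 2 ^ (k - 1) ∧ ∀ σ ∈ P, σ • A = A ∨ σ • A = Aᶜ)) := by
  induction n using Nat.strong_induction_on with
  | _ n ih =>
    intro P
    rcases Nat.lt_or_ge n 2 with h2 | h2
    · refine ⟨fun h1 => ⟨Set.univ, ?_, fun σ _ => Set.smul_set_univ⟩, fun k hk => ?_⟩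
      · obtain rfl : n = 1 := by omega
        simp [Set.ncard_univ]
      · haveI : Subsingleton (Fin n) := Fintype.card_le_one_iff_subsingleton.1 (by rw [Fintype.card_fin]; omega)
        refine ⟨fun a b => ⟨1, one_mem _, Subsingleton.elim _ _⟩, fun hk1 => ?_⟩
        have : 2 ^ 1 ≤ 2 ^ k := Nat.pow_le_pow_right (by norm_num) hk1
        omega
    obtain ⟨R⟩ : Nonempty (Sylow 2 (Perm (Fin (n / 2)))) := inferInstance
    obtain ⟨hR1, hR2⟩ := ih (n / 2) (by omega) R
    obtain ⟨e, he⟩ := exists_model_map n R P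
    have hmem : ∀ σ ∈ P, ∃ τ ∈ (R : Subgroup (Perm (Fin (n / 2)))), ∃ f,
        σ = e.permCongrHom.toMonoidHom (wr τ f) := by
      intro σ hσ
      have : σ ∈ (P : Subgroup (Perm (Fin n))) := hσ
      rw [he] at this
      obtain ⟨_, ⟨τ, hτ, f, rfl⟩, rfl⟩ := this
      exact ⟨τ, hτ, f, rfl⟩
    refine ⟨fun _ => ?_, fun k hk => ?_⟩
    · obtain ⟨A, hA, hinv⟩ := hR1 (by omega)
      refine ⟨e '' lift A, ?_, fun σ hσ => ?_⟩
      · rw [Set.ncard_image_of_injective _ e.injective, ncard_lift, hA, Nat.log_div_base, ← pow_succ']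
        congr 1
        have := Nat.log_pos (b := 2) (by norm_num) h2
        omega
      · obtain ⟨τ, hτ, f, rfl⟩ := hmem σ hσ
        rw [permCongr_smul_image, wr_smul_lift, hinv τ hτ]
    · obtain ⟨j, rfl⟩ : ∃ j, k = j + 1 := ⟨k - 1, by
        rcases Nat.eq_zero_or_pos k with rfl | h
        · simp at hk; omega
        · omega⟩
      have hhalf : n / 2 = 2 ^ j := by rw [hk, pow_succ]; omega
      obtain ⟨htr, hbi⟩ := hR2 j hhalf
      haveI : IsEmpty (Fin (n % 2)) := by
        rw [show n % 2 = 0 by rw [hk, pow_succ]; omega]; infer_instance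
      refine ⟨fun a b => ?_, fun _ => ?_⟩
      · obtain ⟨⟨a', ca⟩, ha'⟩ : ∃ p, e.symm a = Sum.inl p := by
          rcases h : e.symm a with p | u
          · exact ⟨p, rfl⟩
          · exact isEmptyElim u
        obtain ⟨⟨b', cb⟩, hb'⟩ : ∃ p, e.symm b = Sum.inl p := by
          rcases h : e.symm b with p | u
          · exact ⟨p, rfl⟩
          · exact isEmptyElim u
        obtain ⟨τ, hτ, hτab⟩ := htr a' b'
        refine ⟨e.permCongrHom.toMonoidHom (wr τ (fun _ => xor ca cb)), ?_, ?_⟩
        · change _ ∈ (P : Subgroup (Perm (Fin n)))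
          rw [he]
          exact Subgroup.mem_map_of_mem _ (wr_mem_wrSub hτ _)
        · simp only [MulEquiv.toMonoidHom_eq_coe, MonoidHom.coe_coe, Equiv.permCongrHom_coe, Equiv.permCongr_apply]
          rw [ha', wr_inl, hτab, ← Bool.xor_assoc, Bool.xor_self, Bool.false_xor, ← hb', apply_symm_apply]
      · simp only [Nat.add_sub_cancel]
        rcases Nat.eq_zero_or_pos j with rfl | hj
        · refine ⟨{a | (e.symm a).elim (fun p => p.2 = false) (fun _ => False)}, ?_, fun σ hσ => ?_⟩
          · rw [pow_zero, Set.ncard_eq_one]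
            have h1 : n / 2 = 1 := by simpa using hhalf
            refine ⟨e (Sum.inl (⟨0, by omega⟩, false)), ?_⟩
            ext a
            obtain ⟨x, rfl⟩ := e.surjective a
            rcases x with ⟨⟨i, hi⟩, c⟩ | u
            · have : i = 0 := by omega
              subst this
              simp
            · exact isEmptyElim u
          · obtain ⟨τ, hτ, f, rfl⟩ := hmem σ hσ
            have h1 : n / 2 = 1 := by simpa using hhalf
            haveI : Subsingleton (Fin (n / 2)) := by rw [h1]; infer_instance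
            set b0 : Fin (n / 2) := ⟨0, by omega⟩
            rcases hf : f b0 with _ | _
            · left
              ext a
              obtain ⟨x, rfl⟩ := e.surjective a
              rcases x with ⟨b, c⟩ | u
              · rw [Set.mem_smul_set_iff_inv_smul_mem, ← map_inv, wr_inv]
                cases c <;> simp [Equiv.permCongr_apply, Subsingleton.elim (τ.symm b) b0, hf]
              · exact isEmptyElim u
            · right
              ext a
              obtain ⟨x, rfl⟩ := e.surjective a
              rcases x with ⟨b, c⟩ | u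
              · rw [Set.mem_smul_set_iff_inv_smul_mem, ← map_inv, wr_inv]
                cases c <;> simp [Equiv.permCongr_apply, Subsingleton.elim (τ.symm b) b0, hf]
              · exact isEmptyElim u
        · obtain ⟨A, hA, hbiA⟩ := hbi hj
          refine ⟨e '' lift A, ?_, fun σ hσ => ?_⟩
          · rw [Set.ncard_image_of_injective _ e.injective, ncard_lift, hA, ← pow_succ']
            congr 1; omega
          · obtain ⟨τ, hτ, f, rfl⟩ := hmem σ hσ
            rcases hbiA τ hτ with h | h
            · left; rw [permCongr_smul_image, wr_smul_lift, h]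
            · right
              rw [permCongr_smul_image, wr_smul_lift, h, ← lift_compl, Set.image_compl_eq e.bijective]

end Cfsg.Agent.H52
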