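import Mathlib

/-!
The twist `g ↦ ((σ g)⁻¹)ᵀ` of a general linear group by a field endomorphism; its fixed points are
the unitary group of the identity form.
-/

set_option autoImplicit false
set_option linter.unusedFintypeInType false
set_option linter.unusedDecidableInType false

namespace Cfsg.Agent.H52.Twist

open Matrix

variable {κ : Type*} [Fintype κ] [DecidableEq κ] {F : Type*} [Field F]

/-- Inverse transpose composed with a field endomorphism. -/
def tw (σ : F →+* F) : GL κ F →* GL κ F where
  toFun g :=
    { val := (((g⁻¹ : GL κ F) : Matrix κ κ F).map σ)ᵀ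
      inv := ((g : Matrix κ κ F).map σ)ᵀ
      val_inv := by rw [← transpose_mul, ← Matrix.map_mul, g.mul_inv, Matrix.map_one σ (map_zero σ) (map_one σ),
        transpose_one]
      inv_val := by rw [← transpose_mul, ← Matrix.map_mul, g.inv_mul, Matrix.map_one σ (map_zero σ) (map_one σ),
        transpose_one] }
  map_one' := Units.ext (by simp [Matrix.map_one σ (map_zero σ) (map_one σ)])
  map_mul' a b := Units.ext (by
    show (((a * b)⁻¹ : GL κ F).val.map σ)ᵀ = _
    rw [_root_.mul_inv_rev, Units.val_mul, Matrix.map_mul, transpose_mul]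
    rfl)

theorem tw_apply (σ : F →+* F) (g : GL κ F) (i j : κ) :
    (tw σ g : Matrix κ κ F) i j = σ (((g⁻¹ : GL κ F) : Matrix κ κ F) j i) := rfl

/-- The unitary group of the identity form. -/
def UT (σ : F →+* F) : Subgroup (GL κ F) := (tw σ).eqLocus (MonoidHom.id _)

theorem mem_UT {σ : F →+* F} {g : GL κ F} : g ∈ UT σ ↔ tw σ g = g := Iff.rfl

theorem mem_UT_iff {σ : F →+* F} {g : GL κ F} :
    g ∈ UT σ ↔ ((g : Matrix κ κ F).map σ)ᵀ * (g : Matrix κ κ F) = 1 := by
  rw [mem_UT]
  constructor
  · intro h
    conv_lhs => arg 2; rw [← h]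
    exact (tw σ g).inv_mul
  · intro h
    exact inv_mul_eq_one.1 (Units.ext h)

end Cfsg.Agent.H52.Twist
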