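import Cfsg.Agent.H52.Twist
import Cfsg.Agent.H54.Bruhat
import Cfsg.Agent.Linear.Unitriangular
import Cfsg.Agent.Linear.Generation

/-!
A canonical Bruhat decomposition of general linear groups and its compatibility with the twist
by the antidiagonal form.
-/

set_option autoImplicit false
set_option linter.unusedFintypeInType false

namespace Cfsg.Agent.H52.TwistedBruhat

open Matrix Cfsg.Agent.Linear Cfsg.Agent.H54
open scoped MatrixGroups

variable {n : ℕ} {F : Type*} [Field F]

theorem permGL_inv (π : Equiv.Perm (Fin n)) : (permGL F π)⁻¹ = permGL F π⁻¹ :=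
  Units.ext (by ext; rfl)

/-- Entries of the conjugate of `g` by a permutation matrix. -/
theorem perm_conj_apply (π : Equiv.Perm (Fin n)) (g : GL (Fin n) F) (i j : Fin n) :
    (((permGL F π)⁻¹ * g * permGL F π : GL (Fin n) F) : Matrix (Fin n) (Fin n) F) i j =
      (g : Matrix (Fin n) (Fin n) F) (π i) (π j) := by
  simp [permGL_inv, Matrix.mul_apply, permGL_apply, eq_comm (a := i), Equiv.Perm.inv_def,
    ← Equiv.eq_symm_apply]

/-- Lower triangular matrices. -/
def lowerGL (n : ℕ) (F : Type*) [Field F] : Subgroup (GL (Fin n) F) :=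
  (upperTriangularGL n F).comap (MulAut.conj ((permGL F Fin.revPerm)⁻¹)).toMonoidHom

theorem mem_lowerGL {g : GL (Fin n) F} :
    g ∈ lowerGL n F ↔ ∀ i j, i < j → (g : Matrix (Fin n) (Fin n) F) i j = 0 := by
  show ((permGL F Fin.revPerm)⁻¹ * g * (permGL F Fin.revPerm)⁻¹⁻¹ : GL (Fin n) F).val.BlockTriangular id ↔ _
  rw [inv_inv]
  constructor
  · intro h i j hij
    have := h (show id j.rev < id i.rev by simpa using hij)
    rwa [perm_conj_apply, Fin.revPerm_apply, Fin.revPerm_apply, Fin.rev_rev, Fin.rev_rev] at this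
  · intro h i j hij
    rw [perm_conj_apply, Fin.revPerm_apply, Fin.revPerm_apply]
    exact h _ _ (by simpa using hij)

theorem mem_upper {g : GL (Fin n) F} :
    g ∈ upperTriangularGL n F ↔ ∀ i j, j < i → (g : Matrix (Fin n) (Fin n) F) i j = 0 :=
  ⟨fun h _ _ hij => h hij, fun h _ _ hij => h _ _ hij⟩

theorem mem_unitri {g : GL (Fin n) F} :
    g ∈ unitriGL n F ↔ g ∈ upperTriangularGL n F ∧ ∀ i, (g : Matrix (Fin n) (Fin n) F) i i = 1 := Iff.rfl

theorem unitri_le_upper : unitriGL n F ≤ upperTriangularGL n F := fun _ h => (mem_unitri.1 h).1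

/-- The part of the unitriangular group moved below the diagonal by `π`. -/
def outPart (π : Equiv.Perm (Fin n)) : Subgroup (GL (Fin n) F) :=
  unitriGL n F ⊓ (lowerGL n F).comap (MulAut.conj (permGL F π)⁻¹).toMonoidHom

/-- The part of the unitriangular group kept above the diagonal by `π`. -/
def inPart (π : Equiv.Perm (Fin n)) : Subgroup (GL (Fin n) F) :=
  unitriGL n F ⊓ (upperTriangularGL n F).comap (MulAut.conj (permGL F π)⁻¹).toMonoidHom

theorem mem_outPart {π : Equiv.Perm (Fin n)} {g : GL (Fin n) F} :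
    g ∈ outPart π ↔ g ∈ unitriGL n F ∧ (permGL F π)⁻¹ * g * permGL F π ∈ lowerGL n F := by
  simp [outPart]

theorem mem_inPart {π : Equiv.Perm (Fin n)} {g : GL (Fin n) F} :
    g ∈ inPart π ↔ g ∈ unitriGL n F ∧ (permGL F π)⁻¹ * g * permGL F π ∈ upperTriangularGL n F := by
  simp [inPart]

/-- An element which is upper triangular, lower triangular and has unit diagonal is trivial. -/
theorem eq_one_of_triangular {g : GL (Fin n) F} (h1 : g ∈ upperTriangularGL n F) (h2 : g ∈ lowerGL n F)
    (h3 : ∀ i, (g : Matrix (Fin n) (Fin n) F) i i = 1) : g = 1 := by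
  apply Units.ext
  ext i j
  rcases lt_trichotomy i j with h | rfl | h
  · rw [mem_lowerGL.1 h2 i j h, Units.val_one, one_apply_ne h.ne]
  · rw [h3, Units.val_one, one_apply_eq]
  · rw [mem_upper.1 h1 i j h, Units.val_one, one_apply_ne h.ne']

theorem outPart_inf_inPart {π : Equiv.Perm (Fin n)} {g : GL (Fin n) F} (h1 : g ∈ outPart π)
    (h2 : g ∈ inPart π) : g = 1 := by
  rw [mem_outPart] at h1
  rw [mem_inPart] at h2
  have := eq_one_of_triangular h2.2 h1.2 fun i => by rw [perm_conj_apply]; exact (mem_unitri.1 h1.1).2 _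
  rw [show g = permGL F π * ((permGL F π)⁻¹ * g * permGL F π) * (permGL F π)⁻¹ by group, this]
  group

/-- The unitriangular group is the product of the two parts. -/
theorem exists_split [Finite F] (π : Equiv.Perm (Fin n)) {u : GL (Fin n) F} (hu : u ∈ unitriGL n F) :
    ∃ a ∈ outPart π, ∃ b ∈ inPart π, u = a * b := by
  classical
  let P : {x : Fin n × Fin n // x.1 < x.2} → Prop := fun x => π⁻¹ x.1.1 < π⁻¹ x.1.2
  let split : ({x : Fin n × Fin n // x.1 < x.2} → F) → outPart (F := F) π × inPart (F := F) π := fun f =>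
    (⟨(unitriEquiv fun x => if P x then 0 else f x).1, mem_outPart.2 ⟨(unitriEquiv _).2, mem_lowerGL.2 fun i j hij => by
        rw [perm_conj_apply]
        simp only [unitriEquiv, Equiv.coe_fn_mk, glOfDet_coe, triMatrix, Matrix.of_apply, π.injective.eq_iff, hij.ne, if_false]
        split_ifs with h h'
        · rfl
        · exact absurd (by simpa [P] using hij) h'
        · rfl⟩⟩,
      ⟨(unitriEquiv fun x => if P x then f x else 0).1, mem_inPart.2 ⟨(unitriEquiv _).2, mem_upper.2 fun i j hij => by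
        rw [perm_conj_apply]
        simp only [unitriEquiv, Equiv.coe_fn_mk, glOfDet_coe, triMatrix, Matrix.of_apply, π.injective.eq_iff, hij.ne', if_false]
        split_ifs with h h'
        · exact absurd (show i < j by simpa [P] using h') (lt_asymm hij)
        · rfl
        · rfl⟩⟩)
  let prod : outPart (F := F) π × inPart (F := F) π → unitriGL n F := fun p =>
    ⟨p.1.1 * p.2.1, mul_mem (mem_outPart.1 p.1.2).1 (mem_inPart.1 p.2.2).1⟩
  have hsplit : Function.Injective split := by
    intro f g h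
    funext x
    have h1 := congrFun (unitriEquiv.injective (Subtype.ext (congrArg (fun p => (Prod.fst p).1) h))) x
    have h2 := congrFun (unitriEquiv.injective (Subtype.ext (congrArg (fun p => (Prod.snd p).1) h))) x
    by_cases hP : P x
    · simpa [hP] using h2
    · simpa [hP] using h1
  have hprod : Function.Injective prod := by
    intro p q h
    have e : p.1.1 * p.2.1 = q.1.1 * q.2.1 := congrArg Subtype.val h
    have e1 : q.1.1⁻¹ * p.1.1 = q.2.1 * p.2.1⁻¹ := by
      rw [inv_mul_eq_iff_eq_mul, ← mul_assoc, ← e, mul_inv_cancel_right]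
    have h1 := outPart_inf_inPart (mul_mem (inv_mem q.1.2) p.1.2) (e1 ▸ mul_mem q.2.2 (inv_mem p.2.2))
    exact Prod.ext (Subtype.ext (inv_mul_eq_one.1 h1).symm) (Subtype.ext (mul_inv_eq_one.1 (e1 ▸ h1)).symm)
  have hbij : Function.Surjective (fun f => prod (split f)) :=
    ((hprod.comp hsplit).bijective_of_nat_card_le (Nat.card_congr unitriEquiv).ge).2
  obtain ⟨f, hf⟩ := hbij ⟨u, hu⟩
  exact ⟨_, (split f).1.2, _, (split f).2.2, (congrArg Subtype.val hf).symm⟩

theorem diag_conj_apply (d : Fin n → Fˣ) (g : GL (Fin n) F) (i j : Fin n) :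
    ((diagGL d * g * (diagGL d)⁻¹ : GL (Fin n) F) : Matrix (Fin n) (Fin n) F) i j =
      (d i : F) * (g : Matrix (Fin n) (Fin n) F) i j * ((d j)⁻¹ : Fˣ) := by
  simp [diagGL_inv, Matrix.mul_diagonal, Matrix.diagonal_mul]

theorem diag_conj_inPart {π : Equiv.Perm (Fin n)} (d : Fin n → Fˣ) {g : GL (Fin n) F} (hg : g ∈ inPart π) :
    diagGL d * g * (diagGL d)⁻¹ ∈ inPart π := by
  rw [mem_inPart] at hg ⊢
  refine ⟨mem_unitri.2 ⟨mem_upper.2 fun i j h => ?_, fun i => ?_⟩, mem_upper.2 fun i j h => ?_⟩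
  · rw [diag_conj_apply, mem_upper.1 (mem_unitri.1 hg.1).1 i j h, mul_zero, zero_mul]
  · rw [diag_conj_apply, (mem_unitri.1 hg.1).2, mul_one]; simp
  · have := mem_upper.1 hg.2 i j h
    rw [perm_conj_apply] at this ⊢
    rw [diag_conj_apply, this, mul_zero, zero_mul]

theorem exists_diag {b : GL (Fin n) F} (hb : b ∈ upperTriangularGL n F) :
    ∃ d : Fin n → Fˣ, b * (diagGL d)⁻¹ ∈ unitriGL n F ∧ ∀ i, (d i : F) = (b : Matrix (Fin n) (Fin n) F) i i := by
  have hd : ∀ i, (b : Matrix (Fin n) (Fin n) F) i i ≠ 0 := fun i => by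
    have hdet : (b : Matrix (Fin n) (Fin n) F).det ≠ 0 := (GeneralLinearGroup.det b).ne_zero
    rw [blockTriangular_det hb] at hdet
    exact Finset.prod_ne_zero_iff.1 hdet i (Finset.mem_univ i)
  refine ⟨fun i => Units.mk0 _ (hd i), mem_unitri.2 ⟨mem_upper.2 fun i j h => ?_, fun i => ?_⟩, fun i => rfl⟩
  · rw [diagGL_inv, Units.val_mul, diagGL_coe, mul_diagonal, mem_upper.1 hb i j h, zero_mul]
  · rw [diagGL_inv, Units.val_mul, diagGL_coe, mul_diagonal]
    simp [hd i]

theorem diag_mem_upper (d : Fin n → Fˣ) : diagGL (F := F) d ∈ upperTriangularGL n F :=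
  mem_upper.2 fun i j h => by rw [diagGL_coe, diagonal_apply_ne _ h.ne']

theorem diag_perm (d : Fin n → Fˣ) (π : Equiv.Perm (Fin n)) :
    diagGL d * permGL F π = permGL F π * diagGL (fun i => d (π i)) := by
  apply Units.ext
  ext i j
  simp only [Units.val_mul, diagGL_coe, Matrix.mul_diagonal, Matrix.diagonal_mul, permGL_apply]
  by_cases h : i = π j
  · subst h; simp
  · simp [h]

/-- Existence of the canonical decomposition. -/
theorem exists_canonical [Finite F] (g : GL (Fin n) F) :
    ∃ π : Equiv.Perm (Fin n), ∃ u ∈ outPart π, ∃ b ∈ upperTriangularGL n F, g = u * permGL F π * b := by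
  obtain ⟨b₀, hb₀, b', hb', π, rfl⟩ := bruhat g
  obtain ⟨d, hd, -⟩ := exists_diag hb₀
  obtain ⟨a, ha, c, hc, hac⟩ := exists_split π hd
  have hc' := (mem_inPart.1 hc).2
  refine ⟨π, a, ha, (permGL F π)⁻¹ * c * permGL F π * diagGL (fun i => d (π i)) * b',
    mul_mem (mul_mem hc' (diag_mem_upper _)) hb', ?_⟩
  have e : b₀ = a * c * diagGL d := by rw [← hac, inv_mul_cancel_right]
  rw [e]
  simp only [mul_assoc, mul_inv_cancel_left]
  rw [← mul_assoc (diagGL d), diag_perm, mul_assoc]

/-- Uniqueness of the canonical decomposition. -/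
theorem unique {π π' : Equiv.Perm (Fin n)} {u u' b b' : GL (Fin n) F} (hu : u ∈ outPart π) (hu' : u' ∈ outPart π')
    (hb : b ∈ upperTriangularGL n F) (hb' : b' ∈ upperTriangularGL n F)
    (e : u * permGL F π * b = u' * permGL F π' * b') : π = π' ∧ u = u' ∧ b = b' := by
  set w := u'⁻¹ * u
  set c := b' * b⁻¹
  have hw : w ∈ unitriGL n F := mul_mem (inv_mem (mem_outPart.1 hu').1) (mem_outPart.1 hu).1
  have hc : c ∈ upperTriangularGL n F := mul_mem hb' (inv_mem hb)
  have e' : w * permGL F π = permGL F π' * c := by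
    calc w * permGL F π = u'⁻¹ * (u * permGL F π * b) * b⁻¹ := by simp [w, mul_assoc]
      _ = permGL F π' * c := by rw [e]; simp [c, mul_assoc]
  have hle : ∀ j, π'⁻¹ (π j) ≤ j := by
    intro j
    by_contra hlt
    have h := congrArg (fun X : GL (Fin n) F => (X : Matrix (Fin n) (Fin n) F) (π j) j) e'
    simp [Matrix.mul_apply, permGL_apply, ← Equiv.Perm.inv_eq_iff_eq (f := π'),
      (mem_unitri.1 hw).2] at h
    exact one_ne_zero (h.trans (mem_upper.1 hc _ _ (not_le.1 hlt)))
  have hππ : π = π' := by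
    have hid : ∀ j, (π'⁻¹ * π) j = j := by
      intro j
      induction j using WellFoundedLT.induction with
      | ind j ih =>
        rcases (hle j).eq_or_lt with h | h
        · exact h
        · have h' := ih _ h
          exact absurd ((π'⁻¹ * π).injective h') h.ne
    exact (inv_mul_eq_one.1 (Equiv.ext hid)).symm
  subst hππ
  have hwc : (permGL F π)⁻¹ * w * permGL F π = c := by rw [mul_assoc, e', inv_mul_cancel_left]
  have hw1 : w = 1 := outPart_inf_inPart (mul_mem (inv_mem hu') hu) (mem_inPart.2 ⟨hw, hwc ▸ hc⟩)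
  have huu : u = u' := (inv_mul_eq_one.1 hw1).symm
  subst huu
  exact ⟨rfl, rfl, mul_left_cancel e⟩

/-! ### The twist by the antidiagonal form -/

/-- The twist by the antidiagonal form. -/
def theta (σ : F →+* F) : GL (Fin n) F →* GL (Fin n) F :=
  (MulAut.conj (permGL F Fin.revPerm)⁻¹).toMonoidHom.comp (Twist.tw σ)

theorem theta_apply (σ : F →+* F) (g : GL (Fin n) F) (i j : Fin n) :
    (theta σ g : Matrix (Fin n) (Fin n) F) i j =
      σ (((g⁻¹ : GL (Fin n) F) : Matrix (Fin n) (Fin n) F) j.rev i.rev) := by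
  show (((permGL F Fin.revPerm)⁻¹ * Twist.tw σ g * (permGL F Fin.revPerm)⁻¹⁻¹ : GL (Fin n) F) :
    Matrix (Fin n) (Fin n) F) i j = _
  rw [inv_inv, perm_conj_apply, Fin.revPerm_apply, Fin.revPerm_apply, Twist.tw_apply]

theorem theta_upper (σ : F →+* F) {g : GL (Fin n) F} (hg : g ∈ upperTriangularGL n F) :
    theta σ g ∈ upperTriangularGL n F :=
  mem_upper.2 fun i j h => by
    rw [theta_apply, mem_upper.1 (inv_mem hg) _ _ (Fin.rev_lt_rev.2 h), map_zero]

theorem theta_lower (σ : F →+* F) {g : GL (Fin n) F} (hg : g ∈ lowerGL n F) :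
    theta σ g ∈ lowerGL n F :=
  mem_lowerGL.2 fun i j h => by
    rw [theta_apply, mem_lowerGL.1 (inv_mem hg) _ _ (Fin.rev_lt_rev.2 h), map_zero]

theorem theta_unitri (σ : F →+* F) {g : GL (Fin n) F} (hg : g ∈ unitriGL n F) :
    theta σ g ∈ unitriGL n F :=
  mem_unitri.2 ⟨theta_upper σ (mem_unitri.1 hg).1, fun i => by
    rw [theta_apply, (mem_unitri.1 (inv_mem hg)).2, map_one]⟩

/-- The permutation conjugated by the reversal. -/
def revConj (π : Equiv.Perm (Fin n)) : Equiv.Perm (Fin n) := Fin.revPerm * π * Fin.revPerm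

theorem theta_perm (σ : F →+* F) (π : Equiv.Perm (Fin n)) :
    theta σ (permGL F π) = permGL F (revConj π) := by
  apply Units.ext
  ext i j
  rw [theta_apply, permGL_inv, permGL_apply, permGL_apply]
  have : (j.rev = π⁻¹ i.rev) ↔ (i = revConj π j) := by
    rw [Equiv.Perm.eq_inv_iff_eq]
    simp only [revConj, Equiv.Perm.coe_mul, Function.comp_apply, Fin.revPerm_apply]
    constructor
    · intro h; rw [h, Fin.rev_rev]
    · intro h; rw [h, Fin.rev_rev]
  simp only [this]
  split_ifs <;> simp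

theorem theta_outPart (σ : F →+* F) {π : Equiv.Perm (Fin n)} {u : GL (Fin n) F} (hu : u ∈ outPart π) :
    theta σ u ∈ outPart (revConj π) := by
  rw [mem_outPart] at hu ⊢
  refine ⟨theta_unitri σ hu.1, ?_⟩
  have := theta_lower σ hu.2
  rwa [map_mul, map_mul, map_inv, theta_perm] at this

/-- The canonical decomposition of a fixed element consists of fixed elements. -/
theorem exists_canonical_fixed [Finite F] (σ : F →+* F) {g : GL (Fin n) F} (hg : theta σ g = g) :
    ∃ π : Equiv.Perm (Fin n), revConj π = π ∧ ∃ u ∈ outPart π, theta σ u = u ∧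
      ∃ b ∈ upperTriangularGL n F, g = u * permGL F π * b := by
  obtain ⟨π, u, hu, b, hb, rfl⟩ := exists_canonical g
  rw [map_mul, map_mul, theta_perm] at hg
  obtain ⟨h1, h2, -⟩ := unique (theta_outPart σ hu) hu (theta_upper σ hb) hb hg
  exact ⟨π, h1, u, hu, h2, b, hb, rfl⟩

end Cfsg.Agent.H52.TwistedBruhat
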