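import Mathlib

/-!
Sylow 2-subgroups of general linear groups: the wreath step.
-/

set_option autoImplicit false
set_option linter.style.haveILetI false
set_option linter.unusedFintypeInType false
set_option linter.unusedDecidableInType false

namespace Cfsg.Agent.H52.TwoBlock

open Matrix
open scoped MatrixGroups commutatorElement

variable {κ : Type*} [Fintype κ] [DecidableEq κ] {F : Type*} [Field F]

/-- The determinant one part. -/
def one1 (T : Subgroup (GL κ F)) : Subgroup (GL κ F) :=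
  T ⊓ (GeneralLinearGroup.det : GL κ F →* Fˣ).ker

/-- The span of a set of invertible matrices. -/
def spanGL (D : Subgroup (GL κ F)) : Submodule F (Matrix κ κ F) :=
  Submodule.span F ((fun g : GL κ F => (g : Matrix κ κ F)) '' D)

theorem mem_spanGL {D : Subgroup (GL κ F)} {g : GL κ F} (h : g ∈ D) : (g : Matrix κ κ F) ∈ spanGL D :=
  Submodule.subset_span ⟨g, h, rfl⟩

theorem spanGL_mono {D E : Subgroup (GL κ F)} (h : D ≤ E) : spanGL D ≤ spanGL E :=
  Submodule.span_mono (Set.image_mono h)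

theorem mul_mem_spanGL {D : Subgroup (GL κ F)} {x y : Matrix κ κ F} (hx : x ∈ spanGL D) (hy : y ∈ spanGL D) :
    x * y ∈ spanGL D := by
  induction hx using Submodule.span_induction with
  | zero => rw [zero_mul]; exact zero_mem _
  | add a b _ _ ha hb => rw [add_mul]; exact add_mem ha hb
  | smul c a _ ha => rw [smul_mul_assoc]; exact Submodule.smul_mem _ c ha
  | mem a ha =>
    induction hy using Submodule.span_induction with
    | zero => rw [mul_zero]; exact zero_mem _
    | add b c _ _ hb hc => rw [mul_add]; exact add_mem hb hc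
    | smul c b _ hb => rw [mul_smul_comm]; exact Submodule.smul_mem _ c hb
    | mem b hb =>
      obtain ⟨g, hg, rfl⟩ := ha
      obtain ⟨h, hh, rfl⟩ := hb
      rw [← Units.val_mul]
      exact mem_spanGL (D.mul_mem hg hh)

theorem conj_spanGL {D : Subgroup (GL κ F)} {g : GL κ F} (hg : ∀ d ∈ D, g * d * g⁻¹ ∈ D) {x : Matrix κ κ F}
    (hx : x ∈ spanGL D) : (g : Matrix κ κ F) * x * (g⁻¹ : GL κ F) ∈ spanGL D := by
  induction hx using Submodule.span_induction with
  | zero => rw [mul_zero, zero_mul]; exact zero_mem _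
  | add a b _ _ ha hb => rw [mul_add, add_mul]; exact add_mem ha hb
  | smul c a _ ha => rw [mul_smul_comm, smul_mul_assoc]; exact Submodule.smul_mem _ c ha
  | mem a ha =>
    obtain ⟨d, hd, rfl⟩ := ha
    rw [← Units.val_mul, ← Units.val_mul]
    exact mem_spanGL (hg d hd)

/-- A 2-group with absolutely irreducible, non-abelian determinant one part. -/
structure Core (T : Subgroup (GL κ F)) : Prop where
  two : IsPGroup 2 T
  span : spanGL (one1 T) = ⊤
  noncomm : ∃ a ∈ one1 T, ∃ b ∈ one1 T, a * b ≠ b * a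
  negOne : (-1 : GL κ F) ∈ T
  scalar : ∀ g : GL κ F, Odd (orderOf g) → (∀ t ∈ T, g * t * g⁻¹ ∈ T) →
    ∃ c : F, (g : Matrix κ κ F) = c • 1

/-- The same with the order of a Sylow 2-subgroup. -/
structure Good (T : Subgroup (GL κ F)) : Prop extends Core T where
  card : Nat.card T = 2 ^ (Nat.card (GL κ F)).factorization 2

/-- The same for elements normalizing only the determinant one part. -/
def Strong (T : Subgroup (GL κ F)) : Prop :=
  ∀ g : GL κ F, Odd (orderOf g) → (∀ t ∈ one1 T, g * t * g⁻¹ ∈ one1 T) → ∃ c : F, (g : Matrix κ κ F) = c • 1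

/-- Block diagonal pairs. -/
def blk : GL κ F × GL κ F →* GL (κ ⊕ κ) F :=
  MonoidHom.toHomUnits
    { toFun := fun p => fromBlocks (p.1 : Matrix κ κ F) 0 0 (p.2 : Matrix κ κ F)
      map_one' := by simp [fromBlocks_one]
      map_mul' := fun p q => by simp [fromBlocks_multiply] }

@[simp] theorem blk_coe (p : GL κ F × GL κ F) :
    (blk p : Matrix (κ ⊕ κ) (κ ⊕ κ) F) = fromBlocks (p.1 : Matrix κ κ F) 0 0 (p.2 : Matrix κ κ F) := rfl

theorem blk_injective : Function.Injective (blk : GL κ F × GL κ F →* GL (κ ⊕ κ) F) := by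
  intro p q h
  have := congrArg (fun g : GL (κ ⊕ κ) F => (g : Matrix (κ ⊕ κ) (κ ⊕ κ) F)) h
  simp only [blk_coe, fromBlocks_inj] at this
  exact Prod.ext (Units.ext this.1) (Units.ext this.2.2.2)

theorem det_blk (p : GL κ F × GL κ F) :
    GeneralLinearGroup.det (blk p) = GeneralLinearGroup.det p.1 * GeneralLinearGroup.det p.2 := by
  apply Units.ext
  simp [det_fromBlocks_zero₂₁]

/-- The exchange of the two blocks. -/
def sw : GL (κ ⊕ κ) F where
  val := fromBlocks 0 1 (-1) 0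
  inv := fromBlocks 0 (-1) 1 0
  val_inv := by simp [fromBlocks_multiply, fromBlocks_one]
  inv_val := by simp [fromBlocks_multiply, fromBlocks_one]

theorem sw_coe : ((sw : GL (κ ⊕ κ) F) : Matrix (κ ⊕ κ) (κ ⊕ κ) F) = fromBlocks 0 1 (-1) 0 := rfl

theorem det_sw : GeneralLinearGroup.det (sw : GL (κ ⊕ κ) F) = 1 := by
  apply Units.ext
  have : (fromBlocks 0 1 (-1) 0 : Matrix (κ ⊕ κ) (κ ⊕ κ) F) =
      fromBlocks 1 1 0 1 * fromBlocks 1 0 (-1) 1 * fromBlocks 1 1 0 1 := by
    simp [fromBlocks_multiply]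
  rw [GeneralLinearGroup.val_det_apply, sw_coe, this, det_mul, det_mul, det_fromBlocks_zero₂₁,
    det_fromBlocks_zero₁₂]
  simp

theorem sw_sq : (sw : GL (κ ⊕ κ) F) * sw = blk ((-1 : GL κ F), (-1 : GL κ F)) := by
  apply Units.ext
  rw [Units.val_mul, sw_coe, blk_coe]
  simp [fromBlocks_multiply]

theorem sw_blk (p : GL κ F × GL κ F) : sw * blk p = blk (p.2, p.1) * sw := by
  apply Units.ext
  rw [Units.val_mul, Units.val_mul, sw_coe, blk_coe, blk_coe]
  simp [fromBlocks_multiply]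

theorem sw_notMem_range [Nonempty κ] (p q : GL κ F × GL κ F) : blk p ≠ blk q * sw := by
  intro h
  have := congrArg (fun g : GL (κ ⊕ κ) F => (g : Matrix (κ ⊕ κ) (κ ⊕ κ) F)) h
  simp only [Units.val_mul, blk_coe, sw_coe, fromBlocks_multiply, fromBlocks_inj, zero_mul, mul_zero,
    add_zero, zero_add, mul_one] at this
  exact p.1.ne_zero this.1

/-- The block diagonal part. -/
def diagPart (T : Subgroup (GL κ F)) : Subgroup (GL (κ ⊕ κ) F) := (T.prod T).map blk

theorem blk_mem_diagPart {T : Subgroup (GL κ F)} {p : GL κ F × GL κ F} :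
    blk p ∈ diagPart T ↔ p.1 ∈ T ∧ p.2 ∈ T := by
  rw [diagPart, Subgroup.mem_map]
  exact ⟨fun ⟨q, hq, e⟩ => blk_injective e ▸ hq, fun h => ⟨p, h, rfl⟩⟩

theorem sw_conj_mem {T : Subgroup (GL κ F)} {x : GL (κ ⊕ κ) F} (hx : x ∈ diagPart T) :
    sw * x * sw⁻¹ ∈ diagPart T := by
  obtain ⟨p, hp, rfl⟩ := hx
  rw [sw_blk, mul_inv_cancel_right]
  exact blk_mem_diagPart.2 ⟨hp.2, hp.1⟩

theorem sw_inv_conj_mem {T : Subgroup (GL κ F)} {x : GL (κ ⊕ κ) F} (hx : x ∈ diagPart T) :
    sw⁻¹ * x * sw ∈ diagPart T := by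
  obtain ⟨p, hp, rfl⟩ := hx
  rw [mul_assoc, ← sw_blk (p.2, p.1), inv_mul_cancel_left]
  exact blk_mem_diagPart.2 ⟨hp.2, hp.1⟩

/-- The wreath product with the exchange of the blocks. -/
def wreath (T : Subgroup (GL κ F)) (hT : (-1 : GL κ F) ∈ T) : Subgroup (GL (κ ⊕ κ) F) where
  carrier := {g | g ∈ diagPart T ∨ g * sw ∈ diagPart T}
  one_mem' := Or.inl (one_mem _)
  mul_mem' := by
    intro a b ha hb
    have hs : sw * sw ∈ diagPart T := by rw [sw_sq]; exact blk_mem_diagPart.2 ⟨hT, hT⟩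
    rcases ha with ha | ha <;> rcases hb with hb | hb
    · exact Or.inl (mul_mem ha hb)
    · exact Or.inr (by rw [mul_assoc]; exact mul_mem ha hb)
    · refine Or.inr ?_
      have := mul_mem ha (sw_inv_conj_mem hb)
      simpa [mul_assoc] using this
    · refine Or.inl ?_
      have := mul_mem (mul_mem ha (sw_inv_conj_mem hb)) (inv_mem hs)
      simpa [mul_assoc] using this
  inv_mem' := by
    intro a ha
    have hs : sw * sw ∈ diagPart T := by rw [sw_sq]; exact blk_mem_diagPart.2 ⟨hT, hT⟩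
    rcases ha with ha | ha
    · exact Or.inl (inv_mem ha)
    · refine Or.inr ?_
      have := mul_mem (sw_conj_mem (inv_mem ha)) hs
      simpa [mul_assoc] using this

theorem diagPart_le (T : Subgroup (GL κ F)) (hT : (-1 : GL κ F) ∈ T) : diagPart T ≤ wreath T hT :=
  fun _ h => Or.inl h

theorem sw_mem (T : Subgroup (GL κ F)) (hT : (-1 : GL κ F) ∈ T) : sw ∈ wreath T hT :=
  Or.inr (by rw [sw_sq]; exact blk_mem_diagPart.2 ⟨hT, hT⟩)

theorem card_wreath [Nonempty κ] (T : Subgroup (GL κ F)) (hT : (-1 : GL κ F) ∈ T) :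
    Nat.card (wreath T hT) = 2 * (Nat.card T * Nat.card T) := by
  have hidx : ((diagPart T).subgroupOf (wreath T hT)).index = 2 := by
    rw [Subgroup.index_eq_two_iff]
    refine ⟨⟨sw, sw_mem T hT⟩, fun b => ?_⟩
    simp only [Subgroup.mem_subgroupOf, Subgroup.coe_mul]
    have hnot : (b : GL (κ ⊕ κ) F) ∈ diagPart T → (b : GL (κ ⊕ κ) F) * sw ∈ diagPart T → False := by
      rintro ⟨p, -, hp⟩ ⟨q, -, hq⟩
      exact sw_notMem_range q p (by rw [hp, hq])
    rcases b.2 with h | h
    · exact Or.inr ⟨h, fun h' => hnot h h'⟩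
    · exact Or.inl ⟨h, fun h' => hnot h' h⟩
  rw [← Subgroup.card_mul_index ((diagPart T).subgroupOf (wreath T hT)), hidx,
    Nat.card_congr (Subgroup.subgroupOfEquivOfLe (diagPart_le T hT)).toEquiv, diagPart,
    Subgroup.card_map_of_injective blk_injective, Nat.card_congr (T.prodEquiv T).toEquiv, Nat.card_prod,
    mul_comm]

theorem eq_blk_of_mem {T : Subgroup (GL κ F)} {hT : (-1 : GL κ F) ∈ T} [Nonempty κ] {p : GL κ F × GL κ F}
    (h : blk p ∈ wreath T hT) : p.1 ∈ T ∧ p.2 ∈ T := by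
  rcases h with h | ⟨q, -, hq⟩
  · exact blk_mem_diagPart.1 h
  · exact absurd hq (sw_notMem_range q p)

theorem one1_blk {T : Subgroup (GL κ F)} {hT : (-1 : GL κ F) ∈ T} {p : GL κ F × GL κ F} (h1 : p.1 ∈ T)
    (h2 : p.2 ∈ T) (hd : GeneralLinearGroup.det p.1 * GeneralLinearGroup.det p.2 = 1) :
    blk p ∈ one1 (wreath T hT) :=
  ⟨diagPart_le T hT (blk_mem_diagPart.2 ⟨h1, h2⟩), by show GeneralLinearGroup.det (blk p) = 1; rw [det_blk]; exact hd⟩

theorem sw_mem_one1 (T : Subgroup (GL κ F)) (hT : (-1 : GL κ F) ∈ T) : sw ∈ one1 (wreath T hT) :=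
  ⟨sw_mem T hT, MonoidHom.mem_ker.2 det_sw⟩

/-- Commutators of the determinant one part contain the antidiagonal pairs. -/
theorem pair_mem_commutator {T : Subgroup (GL κ F)} {hT : (-1 : GL κ F) ∈ T} {a : GL κ F} (ha : a ∈ one1 T) :
    blk (a, a⁻¹) ∈ ⁅one1 (wreath T hT), one1 (wreath T hT)⁆ := by
  have h1 : blk (a, 1) ∈ one1 (wreath T hT) :=
    one1_blk ha.1 (one_mem _) (by simp [MonoidHom.mem_ker.1 ha.2])
  have h := Subgroup.commutator_mem_commutator h1 (sw_mem_one1 T hT)
  have : ⁅(blk (a, 1) : GL (κ ⊕ κ) F), sw⁆ = blk (a, a⁻¹) := by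
    rw [commutatorElement_def, ← map_inv, mul_assoc (blk (a, 1)), sw_blk, ← mul_assoc, mul_inv_cancel_right,
      ← map_mul]
    simp
  rwa [this] at h

/-- The commutators span all block diagonal matrices. -/
theorem span_blocks {T : Subgroup (GL κ F)} (hG : Core T) (X Y : Matrix κ κ F) :
    fromBlocks X 0 0 Y ∈ spanGL ⁅one1 (wreath T hG.negOne), one1 (wreath T hG.negOne)⁆ := by
  set D := ⁅one1 (wreath T hG.negOne), one1 (wreath T hG.negOne)⁆
  set A := spanGL D
  have hproj1 : ∀ X : Matrix κ κ F, ∃ Y, fromBlocks X 0 0 Y ∈ A := by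
    intro X
    have hX : X ∈ spanGL (one1 T) := hG.span ▸ Submodule.mem_top
    induction hX using Submodule.span_induction with
    | zero => exact ⟨0, by rw [fromBlocks_zero]; exact zero_mem _⟩
    | add a b _ _ ha hb =>
      obtain ⟨c, hc⟩ := ha
      obtain ⟨d, hd⟩ := hb
      exact ⟨c + d, by simpa [fromBlocks_add] using add_mem hc hd⟩
    | smul r a _ ha =>
      obtain ⟨c, hc⟩ := ha
      exact ⟨r • c, by simpa [fromBlocks_smul] using Submodule.smul_mem _ r hc⟩
    | mem a ha =>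
      obtain ⟨g, hg, rfl⟩ := ha
      exact ⟨((g⁻¹ : GL κ F) : Matrix κ κ F), mem_spanGL (pair_mem_commutator hg)⟩
  have hproj2 : ∀ Y : Matrix κ κ F, ∃ X, fromBlocks X 0 0 Y ∈ A := by
    intro Y
    have hY : Y ∈ spanGL (one1 T) := hG.span ▸ Submodule.mem_top
    induction hY using Submodule.span_induction with
    | zero => exact ⟨0, by rw [fromBlocks_zero]; exact zero_mem _⟩
    | add a b _ _ ha hb =>
      obtain ⟨c, hc⟩ := ha
      obtain ⟨d, hd⟩ := hb
      exact ⟨c + d, by simpa [fromBlocks_add] using add_mem hc hd⟩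
    | smul r a _ ha =>
      obtain ⟨c, hc⟩ := ha
      exact ⟨r • c, by simpa [fromBlocks_smul] using Submodule.smul_mem _ r hc⟩
    | mem a ha =>
      obtain ⟨g, hg, rfl⟩ := ha
      refine ⟨((g⁻¹ : GL κ F) : Matrix κ κ F), ?_⟩
      have := mem_spanGL (pair_mem_commutator (hT := hG.negOne) ((one1 T).inv_mem hg))
      simpa using this
  obtain ⟨a, ha, b, hb, hab⟩ := hG.noncomm
  have hp : ∀ a ∈ one1 T, ∀ b ∈ one1 T, blk (a * b * a⁻¹ * b⁻¹, 1) ∈ D ∧ blk (1, a * b * a⁻¹ * b⁻¹) ∈ D := by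
    intro a ha b hb
    constructor
    · have := D.mul_mem (D.mul_mem (pair_mem_commutator (hT := hG.negOne) ha) (pair_mem_commutator hb))
        (pair_mem_commutator ((one1 T).mul_mem ((one1 T).inv_mem ha) ((one1 T).inv_mem hb)))
      rw [← map_mul, ← map_mul] at this
      convert this using 2
      refine Prod.ext ?_ ?_ <;> simp [mul_assoc]
    · have := D.mul_mem (D.mul_mem (pair_mem_commutator (hT := hG.negOne) ((one1 T).inv_mem ha))
        (pair_mem_commutator ((one1 T).inv_mem hb)))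
        (pair_mem_commutator ((one1 T).mul_mem hb ha))
      rw [← map_mul, ← map_mul] at this
      convert this using 2
      refine Prod.ext ?_ ?_ <;> simp [mul_assoc]
  set c := a * b * a⁻¹ * b⁻¹
  have hc : (c : Matrix κ κ F) - 1 ≠ 0 := by
    intro h
    apply hab
    have hc1 : c = 1 := Units.ext (sub_eq_zero.1 h)
    calc a * b = c * (b * a) := by simp [c, mul_assoc]
      _ = b * a := by rw [hc1, one_mul]
  obtain ⟨j, k, hjk⟩ : ∃ j k, ((c : Matrix κ κ F) - 1) j k ≠ 0 := by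
    by_contra! h
    exact hc (Matrix.ext h)
  have hA1 : fromBlocks ((c : Matrix κ κ F) - 1) 0 0 0 ∈ A := by
    have := sub_mem (mem_spanGL (hp a ha b hb).1) (mem_spanGL (one_mem D))
    rw [blk_coe, Units.val_one, Units.val_one, sub_eq_add_neg, ← fromBlocks_one, fromBlocks_neg,
      fromBlocks_add] at this
    simp only [neg_zero, add_zero, add_neg_cancel] at this
    rwa [← sub_eq_add_neg] at this
  have hA2 : fromBlocks 0 0 0 ((c : Matrix κ κ F) - 1) ∈ A := by
    have := sub_mem (mem_spanGL (hp a ha b hb).2) (mem_spanGL (one_mem D))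
    rw [blk_coe, Units.val_one, Units.val_one, sub_eq_add_neg, ← fromBlocks_one, fromBlocks_neg,
      fromBlocks_add] at this
    simp only [neg_zero, add_zero, add_neg_cancel] at this
    rwa [← sub_eq_add_neg] at this
  have he : ∀ i l (r : F), Matrix.single i j r * ((c : Matrix κ κ F) - 1) * Matrix.single k l 1 =
      Matrix.single i l (r * ((c : Matrix κ κ F) - 1) j k) := by
    intro i l r
    ext u s
    simp [Matrix.mul_apply, Matrix.single, ite_and]
    split_ifs <;> simp_all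
  have hall1 : ∀ X : Matrix κ κ F, fromBlocks X 0 0 0 ∈ A := by
    intro X
    rw [matrix_eq_sum_single X]
    have hsum : ∀ (s : Finset (κ × κ)) (f : κ × κ → Matrix κ κ F), (∀ x ∈ s, fromBlocks (f x) 0 0 0 ∈ A) →
        fromBlocks (∑ x ∈ s, f x) 0 0 0 ∈ A := by
      intro s f hf
      induction s using Finset.induction_on with
      | empty => simp [fromBlocks_zero]
      | @insert x s hx ih =>
        rw [Finset.sum_insert hx]
        simpa [fromBlocks_add] using
          add_mem (hf x (Finset.mem_insert_self x s)) (ih fun y hy => hf y (Finset.mem_insert_of_mem hy))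
    rw [← Fintype.sum_prod_type' (fun i l => Matrix.single i l (X i l))]
    refine hsum _ _ fun x _ => ?_
    obtain ⟨Y₁, h₁⟩ := hproj1 ((X x.1 x.2 / ((c : Matrix κ κ F) - 1) j k) • Matrix.single x.1 j 1)
    obtain ⟨Y₂, h₂⟩ := hproj1 (Matrix.single k x.2 1)
    have := mul_mem_spanGL (mul_mem_spanGL h₁ hA1) h₂
    simp only [fromBlocks_multiply, smul_single, smul_eq_mul, mul_one, he, div_mul_cancel₀ _ hjk,
      mul_zero, zero_mul, add_zero, zero_add] at this
    exact this
  have hall2 : ∀ Y : Matrix κ κ F, fromBlocks 0 0 0 Y ∈ A := by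
    intro Y
    rw [matrix_eq_sum_single Y]
    have hsum : ∀ (s : Finset (κ × κ)) (f : κ × κ → Matrix κ κ F), (∀ x ∈ s, fromBlocks 0 0 0 (f x) ∈ A) →
        fromBlocks 0 0 0 (∑ x ∈ s, f x) ∈ A := by
      intro s f hf
      induction s using Finset.induction_on with
      | empty => simp [fromBlocks_zero]
      | @insert x s hx ih =>
        rw [Finset.sum_insert hx]
        simpa [fromBlocks_add] using
          add_mem (hf x (Finset.mem_insert_self x s)) (ih fun y hy => hf y (Finset.mem_insert_of_mem hy))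
    rw [← Fintype.sum_prod_type' (fun i l => Matrix.single i l (Y i l))]
    refine hsum _ _ fun x _ => ?_
    obtain ⟨Y₁, h₁⟩ := hproj2 ((Y x.1 x.2 / ((c : Matrix κ κ F) - 1) j k) • Matrix.single x.1 j 1)
    obtain ⟨Y₂, h₂⟩ := hproj2 (Matrix.single k x.2 1)
    have := mul_mem_spanGL (mul_mem_spanGL h₁ hA2) h₂
    simp only [fromBlocks_multiply, smul_single, smul_eq_mul, mul_one, he, div_mul_cancel₀ _ hjk,
      mul_zero, zero_mul, add_zero, zero_add] at this
    exact this
  simpa [fromBlocks_add] using add_mem (hall1 X) (hall2 Y)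

theorem span_wreath {T : Subgroup (GL κ F)} (hG : Core T) : spanGL (one1 (wreath T hG.negOne)) = ⊤ := by
  refine eq_top_iff.2 fun M _ => ?_
  have hle : spanGL ⁅one1 (wreath T hG.negOne), one1 (wreath T hG.negOne)⁆ ≤
      spanGL (one1 (wreath T hG.negOne)) := spanGL_mono (Subgroup.commutator_le_self _)
  have h1 := hle (span_blocks hG M.toBlocks₁₁ M.toBlocks₂₂)
  have h2 := mul_mem_spanGL (hle (span_blocks hG M.toBlocks₁₂ (-M.toBlocks₂₁)))
    (mem_spanGL (sw_mem_one1 T hG.negOne))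
  have := add_mem h1 h2
  rw [sw_coe, fromBlocks_multiply, fromBlocks_add] at this
  simpa [fromBlocks_toBlocks] using this

theorem noncomm_wreath [Nonempty κ] {T : Subgroup (GL κ F)} (hG : Core T) :
    ∃ a ∈ one1 (wreath T hG.negOne), ∃ b ∈ one1 (wreath T hG.negOne), a * b ≠ b * a := by
  obtain ⟨a, ha, b, hb, hab⟩ := hG.noncomm
  refine ⟨blk (a, 1), one1_blk ha.1 (one_mem _) (by simp [MonoidHom.mem_ker.1 ha.2]), blk (b, 1),
    one1_blk hb.1 (one_mem _) (by simp [MonoidHom.mem_ker.1 hb.2]), ?_⟩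
  rw [← map_mul, ← map_mul]
  intro h
  exact hab (congrArg Prod.fst (blk_injective h))

theorem negOne_wreath {T : Subgroup (GL κ F)} (hG : Core T) : (-1 : GL (κ ⊕ κ) F) ∈ wreath T hG.negOne := by
  have : (-1 : GL (κ ⊕ κ) F) = blk ((-1 : GL κ F), (-1 : GL κ F)) := by
    apply Units.ext
    rw [Units.val_neg, Units.val_one, blk_coe, ← fromBlocks_one, fromBlocks_neg]
    simp
  rw [this]
  exact diagPart_le T hG.negOne (blk_mem_diagPart.2 ⟨hG.negOne, hG.negOne⟩)

theorem strong_wreath [Finite F] [Nonempty κ] {T : Subgroup (GL κ F)} (hG : Core T) : Strong (wreath T hG.negOne) := by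
  intro g hodd hg
  set S := one1 (wreath T hG.negOne)
  set D := ⁅S, S⁆
  have hfin : orderOf g ≠ 0 := fun h => by rw [h] at hodd; exact absurd hodd (by decide)
  have hgD : ∀ n : ℕ, ∀ d ∈ D, g ^ n * d * (g ^ n)⁻¹ ∈ D := by
    have h1 : ∀ d ∈ D, g * d * g⁻¹ ∈ D := by
      intro d hd
      have : S.map (MulAut.conj g).toMonoidHom ≤ S := by rintro _ ⟨t, ht, rfl⟩; exact hg t ht
      exact Subgroup.commutator_mono this this
        (Subgroup.map_commutator S S (MulAut.conj g).toMonoidHom ▸ ⟨d, hd, rfl⟩)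
    intro n
    induction n with
    | zero => intro d hd; simpa using hd
    | succ n ih =>
      intro d hd
      have := h1 _ (ih d hd)
      simpa [pow_succ', mul_assoc] using this
  -- `D` consists of block diagonal matrices
  have hdiag : ∀ x ∈ spanGL D, ∃ X Y, x = fromBlocks X 0 0 Y := by
    intro x hx
    induction hx using Submodule.span_induction with
    | zero => exact ⟨0, 0, fromBlocks_zero.symm⟩
    | add a b _ _ ha hb =>
      obtain ⟨X, Y, rfl⟩ := ha
      obtain ⟨X', Y', rfl⟩ := hb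
      exact ⟨X + X', Y + Y', by simp [fromBlocks_add]⟩
    | smul r a _ ha =>
      obtain ⟨X, Y, rfl⟩ := ha
      exact ⟨r • X, r • Y, by simp [fromBlocks_smul]⟩
    | mem a ha =>
      obtain ⟨d, hd, rfl⟩ := ha
      have hDle : D ≤ diagPart T := by
        rw [Subgroup.commutator_le]
        intro u hu v hv
        rw [commutatorElement_def]
        let M : Subgroup (wreath T hG.negOne) := (diagPart T).subgroupOf _
        have hM : M.index = 2 := by
          have hc := card_wreath T hG.negOne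
          have h2 := M.card_mul_index
          rw [Nat.card_congr (Subgroup.subgroupOfEquivOfLe (diagPart_le T hG.negOne)).toEquiv, hc] at h2
          rw [diagPart, Subgroup.card_map_of_injective blk_injective,
            Nat.card_congr (T.prodEquiv T).toEquiv, Nat.card_prod] at h2
          have hpos : 0 < Nat.card T * Nat.card T := by
            exact Nat.mul_pos Nat.card_pos Nat.card_pos
          exact Nat.eq_of_mul_eq_mul_left hpos (by rw [h2, mul_comm])
        have key : (⟨u, hu.1⟩ * ⟨v, hv.1⟩ * ⟨u, hu.1⟩⁻¹ * ⟨v, hv.1⟩⁻¹ : wreath T hG.negOne) ∈ M := by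
          simp only [Subgroup.mul_mem_iff_of_index_two hM, inv_mem_iff]
          tauto
        exact key
      obtain ⟨p, -, rfl⟩ := hDle hd
      exact ⟨_, _, rfl⟩
  set E : Matrix (κ ⊕ κ) (κ ⊕ κ) F := fromBlocks 1 0 0 0 with hE
  have hconj : ∀ n : ℕ, ((g ^ n : GL (κ ⊕ κ) F) : Matrix (κ ⊕ κ) (κ ⊕ κ) F) * E * ((g ^ n)⁻¹ : GL (κ ⊕ κ) F) = E ∨
      ((g ^ n : GL (κ ⊕ κ) F) : Matrix (κ ⊕ κ) (κ ⊕ κ) F) * E * ((g ^ n)⁻¹ : GL (κ ⊕ κ) F) = 1 - E := by
    intro n
    set h := g ^ n with hh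
    have hinv : ∀ d ∈ D, h⁻¹ * d * h⁻¹⁻¹ ∈ D := by
      intro d hd
      have e : h⁻¹ = g ^ ((orderOf g - 1) * n) := by
        rw [inv_eq_iff_mul_eq_one, hh, ← pow_add, show n + (orderOf g - 1) * n = orderOf g * n by
          obtain ⟨k, hk⟩ := Nat.exists_eq_succ_of_ne_zero hfin
          rw [hk, Nat.succ_sub_one, Nat.succ_mul]; ring, pow_mul, pow_orderOf_eq_one, one_pow]
      rw [e]; exact hgD _ d hd
    obtain ⟨X, Y, hP⟩ := hdiag _ (conj_spanGL (hgD n) (span_blocks hG 1 0))
    rw [← hh, ← hE] at hP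
    have hcent : ∀ A B : Matrix κ κ F, Commute (fromBlocks X 0 0 Y) (fromBlocks A 0 0 B) := by
      intro A B
      obtain ⟨A', B', hAB⟩ := hdiag _ (conj_spanGL hinv (span_blocks hG A B))
      have e : fromBlocks A 0 0 B = (h : Matrix (κ ⊕ κ) (κ ⊕ κ) F) * fromBlocks A' 0 0 B' * (h⁻¹ : GL (κ ⊕ κ) F) := by
        rw [← hAB, inv_inv]
        simp [Matrix.mul_assoc]
      rw [← hP, e]
      have hc : E * fromBlocks A' 0 0 B' = fromBlocks A' 0 0 B' * E := by simp [hE, fromBlocks_multiply]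
      show (h : Matrix (κ ⊕ κ) (κ ⊕ κ) F) * E * (h⁻¹ : GL (κ ⊕ κ) F) * _ = _ * _
      simp only [Matrix.mul_assoc, Units.inv_mul_cancel_left]
      rw [← Matrix.mul_assoc E, hc, Matrix.mul_assoc]
    have hsc : (∀ A, Commute X A) ∧ ∀ B, Commute Y B := by
      constructor
      · intro A
        have := hcent A 0
        simp only [Commute, SemiconjBy, fromBlocks_multiply, fromBlocks_inj] at this
        simpa [Commute, SemiconjBy] using this.1
      · intro B
        have := hcent 0 B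
        simp only [Commute, SemiconjBy, fromBlocks_multiply, fromBlocks_inj] at this
        simpa [Commute, SemiconjBy] using this.2.2.2
    obtain ⟨x, rfl⟩ := Matrix.mem_range_scalar_of_commute_single fun i j _ => (hsc.1 _).symm
    obtain ⟨y, rfl⟩ := Matrix.mem_range_scalar_of_commute_single fun i j _ => (hsc.2 _).symm
    have hidem : ((h : Matrix (κ ⊕ κ) (κ ⊕ κ) F) * E * (h⁻¹ : GL (κ ⊕ κ) F)) *
        ((h : Matrix (κ ⊕ κ) (κ ⊕ κ) F) * E * (h⁻¹ : GL (κ ⊕ κ) F)) =
        (h : Matrix (κ ⊕ κ) (κ ⊕ κ) F) * E * (h⁻¹ : GL (κ ⊕ κ) F) := by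
      simp only [Matrix.mul_assoc, Units.inv_mul_cancel_left]
      rw [← Matrix.mul_assoc E E, show E * E = E by simp [hE, fromBlocks_multiply]]
    rw [hP] at hidem
    simp only [fromBlocks_multiply, fromBlocks_inj, ← map_mul, Matrix.scalar_inj, mul_zero, zero_mul,
      add_zero, zero_add, true_and] at hidem
    have hx : x = 0 ∨ x = 1 := (em (x = 0)).imp_right fun h0 => mul_left_cancel₀ h0 (by rw [mul_one]; exact hidem.1)
    have hy : y = 0 ∨ y = 1 := (em (y = 0)).imp_right fun h0 => mul_left_cancel₀ h0 (by rw [mul_one]; exact hidem.2)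
    obtain ⟨i⟩ := ‹Nonempty κ›
    have hne0 : E ≠ 0 := fun e => by
      have := congrFun (congrFun e (Sum.inl i)) (Sum.inl i); simp [hE] at this
    have hne1 : E ≠ 1 := fun e => by
      have := congrFun (congrFun e (Sum.inr i)) (Sum.inr i); simp [hE] at this
    have hback : E = (h⁻¹ : GL (κ ⊕ κ) F) * fromBlocks (Matrix.scalar κ x) 0 0 (Matrix.scalar κ y) *
        (h : Matrix (κ ⊕ κ) (κ ⊕ κ) F) := by
      rw [← hP]; simp [Matrix.mul_assoc]
    rcases hx with rfl | rfl <;> rcases hy with rfl | rfl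
    · exfalso; apply hne0; rw [hback]; simp [fromBlocks_zero]
    · right; rw [hP]; simp [hE, ← fromBlocks_one, sub_eq_add_neg, fromBlocks_neg, fromBlocks_add]
    · left; rw [hP]; simp [hE]
    · exfalso; apply hne1; rw [hback]; simp [fromBlocks_one]
  have hcomm : Commute (g : Matrix (κ ⊕ κ) (κ ⊕ κ) F) E := by
    have hmove : ∀ {u : GL (κ ⊕ κ) F} {P : Matrix (κ ⊕ κ) (κ ⊕ κ) F},
        (u : Matrix (κ ⊕ κ) (κ ⊕ κ) F) * E * (u⁻¹ : GL (κ ⊕ κ) F) = P →
          (u : Matrix (κ ⊕ κ) (κ ⊕ κ) F) * E = P * (u : Matrix (κ ⊕ κ) (κ ⊕ κ) F) := by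
      intro u P h
      rw [← h]; simp [Matrix.mul_assoc]
    have h2 : Commute ((g ^ 2 : GL (κ ⊕ κ) F) : Matrix (κ ⊕ κ) (κ ⊕ κ) F) E := by
      rcases hconj 1 with h | h <;> rw [pow_one] at h
      · have := hmove h
        rw [Units.val_pow_eq_pow_val]
        exact Commute.pow_left this 2
      · have := hmove h
        show ((g ^ 2 : GL (κ ⊕ κ) F) : Matrix (κ ⊕ κ) (κ ⊕ κ) F) * E = E * _
        rw [Units.val_pow_eq_pow_val, pow_two, Matrix.mul_assoc, this, ← Matrix.mul_assoc, Matrix.mul_sub,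
          Matrix.mul_one, this]
        noncomm_ring
    obtain ⟨k, hk⟩ := hodd
    have e : g = (g ^ 2) ^ (k + 1) := by
      rw [← pow_mul, show 2 * (k + 1) = orderOf g + 1 by omega, pow_succ, pow_orderOf_eq_one, one_mul]
    rw [e, Units.val_pow_eq_pow_val]
    exact h2.pow_left _
  obtain ⟨X, Y, hgXY⟩ : ∃ X Y, (g : Matrix (κ ⊕ κ) (κ ⊕ κ) F) = fromBlocks X 0 0 Y := by
    have := hcomm
    rw [← fromBlocks_toBlocks (g : Matrix (κ ⊕ κ) (κ ⊕ κ) F)] at this ⊢
    simp only [Commute, SemiconjBy, hE, fromBlocks_multiply, fromBlocks_inj, mul_zero, mul_one, zero_mul,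
      one_mul, add_zero, zero_add] at this
    refine ⟨(g : Matrix (κ ⊕ κ) (κ ⊕ κ) F).toBlocks₁₁, (g : Matrix (κ ⊕ κ) (κ ⊕ κ) F).toBlocks₂₂, ?_⟩
    rw [fromBlocks_inj]
    exact ⟨rfl, this.2.1.symm, this.2.2.1, rfl⟩
  have hdet : X.det ≠ 0 ∧ Y.det ≠ 0 := by
    have := (GeneralLinearGroup.det g).ne_zero
    rw [GeneralLinearGroup.val_det_apply, hgXY, det_fromBlocks_zero₂₁] at this
    exact mul_ne_zero_iff.1 this
  obtain ⟨a, ha⟩ : ∃ a : GL κ F, (a : Matrix κ κ F) = X :=
    ⟨GeneralLinearGroup.mkOfDetNeZero X hdet.1, rfl⟩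
  obtain ⟨b, hb⟩ : ∃ b : GL κ F, (b : Matrix κ κ F) = Y :=
    ⟨GeneralLinearGroup.mkOfDetNeZero Y hdet.2, rfl⟩
  have hgab : g = blk (a, b) := Units.ext (by rw [blk_coe, ha, hb, hgXY])
  have hoab : Odd (orderOf (a, b)) := by
    rw [← orderOf_injective blk blk_injective, ← hgab]; exact hodd
  have hoa : Odd (orderOf a) := hoab.of_dvd_nat (orderOf_map_dvd (MonoidHom.fst (GL κ F) (GL κ F)) (a, b))
  have hob : Odd (orderOf b) := hoab.of_dvd_nat (orderOf_map_dvd (MonoidHom.snd (GL κ F) (GL κ F)) (a, b))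
  have hnorm : ∀ t ∈ T, a * t * a⁻¹ ∈ T ∧ b * t * b⁻¹ ∈ T := by
    intro t ht
    have h1 := hg _ (one1_blk (hT := hG.negOne) (p := (t, t⁻¹)) ht (T.inv_mem ht) (by simp))
    have h2 := hg _ (one1_blk (hT := hG.negOne) (p := (t⁻¹, t)) (T.inv_mem ht) ht (by simp))
    rw [hgab, ← map_mul, ← map_inv, ← map_mul] at h1 h2
    exact ⟨(eq_blk_of_mem h1.1).1, (eq_blk_of_mem h2.1).2⟩
  obtain ⟨x, hx⟩ := hG.scalar a hoa fun t ht => (hnorm t ht).1
  obtain ⟨y, hy⟩ := hG.scalar b hob fun t ht => (hnorm t ht).2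
  have hab : a = b := by
    have h1 := hg _ (sw_mem_one1 T hG.negOne)
    have h2 := (wreath T hG.negOne).mul_mem h1.1 ((wreath T hG.negOne).inv_mem (sw_mem T hG.negOne))
    rw [hgab, ← map_inv, mul_assoc (blk (a, b)), sw_blk, ← mul_assoc, mul_inv_cancel_right, ← map_mul] at h2
    have h3 := (eq_blk_of_mem h2).1
    simp only [Prod.fst_mul, Prod.snd_inv] at h3
    have hcomm' : Commute a b⁻¹ := by
      refine Commute.inv_right ?_
      exact Units.ext (by rw [Units.val_mul, Units.val_mul, hx, hy]; simp [smul_smul, mul_comm])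
    obtain ⟨e, he⟩ := hG.two ⟨_, h3⟩
    have h4 : orderOf (a * b⁻¹) ∣ 2 ^ e := orderOf_dvd_of_pow_eq_one (by simpa using congrArg Subtype.val he)
    have h5 : orderOf (a * b⁻¹) ∣ Nat.lcm (orderOf a) (orderOf b⁻¹) := hcomm'.orderOf_mul_dvd_lcm
    rw [orderOf_inv] at h5
    have h6 : Odd (Nat.lcm (orderOf a) (orderOf b)) := (hoa.mul hob).of_dvd_nat (Nat.lcm_dvd_mul _ _)
    have h7 : orderOf (a * b⁻¹) = 1 := Nat.eq_one_of_dvd_coprimes
      ((Nat.coprime_pow_left_iff (n := e + 1) (Nat.succ_pos e) 2 _).2 h6.coprime_two_left)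
      (h4.trans (pow_dvd_pow 2 (Nat.le_succ e))) h5
    exact mul_inv_eq_one.1 (orderOf_eq_one_iff.1 h7)
  refine ⟨x, ?_⟩
  rw [hgXY, ← ha, ← hb, ← hab, hx, ← fromBlocks_one, fromBlocks_smul]
  simp

theorem core_wreath [Finite F] [Nonempty κ] {T : Subgroup (GL κ F)} (hG : Core T) :
    Core (wreath T hG.negOne) := by
  haveI := Fact.mk Nat.prime_two
  obtain ⟨a, ha⟩ := IsPGroup.iff_card.1 hG.two
  refine ⟨IsPGroup.of_card (n := 1 + (a + a)) (by rw [card_wreath, ha, pow_add, pow_add, pow_one]),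
    span_wreath hG, noncomm_wreath hG, negOne_wreath hG, fun g hg hgn => ?_⟩
  refine strong_wreath hG g hg fun t ht => ⟨hgn t ht.1, ?_⟩
  show GeneralLinearGroup.det (g * t * g⁻¹) = 1
  rw [map_mul, map_mul, map_inv, MonoidHom.mem_ker.1 ht.2, mul_one, mul_inv_cancel]

theorem good_wreath [Finite F] [Nonempty κ] {T : Subgroup (GL κ F)} (hG : Good T)
    (hv : (Nat.card (GL (κ ⊕ κ) F)).factorization 2 = 2 * (Nat.card (GL κ F)).factorization 2 + 1) :
    Good (wreath T hG.negOne) := by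
  have hc : Nat.card (wreath T hG.negOne) = 2 ^ (Nat.card (GL (κ ⊕ κ) F)).factorization 2 := by
    rw [card_wreath, hG.card, hv, pow_succ, two_mul ((Nat.card (GL κ F)).factorization 2), pow_add, mul_comm]
  exact ⟨core_wreath hG.toCore, hc⟩

section Reindex

variable {ι : Type*} [Fintype ι] [DecidableEq ι]

/-- Change of the index type. -/
def reidx (e : κ ≃ ι) : GL κ F ≃* GL ι F :=
  Units.mapEquiv (Matrix.reindexAlgEquiv F F e).toMulEquiv

theorem reidx_coe (e : κ ≃ ι) (g : GL κ F) :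
    (reidx e g : Matrix ι ι F) = Matrix.reindexAlgEquiv F F e (g : Matrix κ κ F) := rfl

theorem det_reidx (e : κ ≃ ι) (g : GL κ F) :
    GeneralLinearGroup.det (reidx e g) = GeneralLinearGroup.det g :=
  Units.ext (by rw [GeneralLinearGroup.val_det_apply, GeneralLinearGroup.val_det_apply, reidx_coe,
    det_reindexAlgEquiv])

theorem mem_one1_reidx (e : κ ≃ ι) (T : Subgroup (GL κ F)) (g : GL κ F) :
    reidx e g ∈ one1 (T.map (reidx e).toMonoidHom) ↔ g ∈ one1 T := by
  simp only [one1, Subgroup.mem_inf, MonoidHom.mem_ker, det_reidx, Subgroup.mem_map_equiv,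
    MulEquiv.symm_apply_apply]

theorem scalar_reidx (e : κ ≃ ι) {g : GL κ F} (h : ∃ c : F, (g : Matrix κ κ F) = c • 1) :
    ∃ c : F, (reidx e g : Matrix ι ι F) = c • 1 := by
  obtain ⟨c, hc⟩ := h
  exact ⟨c, by rw [reidx_coe, hc, map_smul, map_one]⟩

theorem core_reidx (e : κ ≃ ι) {T : Subgroup (GL κ F)} (hG : Core T) : Core (T.map (reidx e).toMonoidHom) := by
  refine ⟨hG.two.map _, ?_, ?_, ⟨(-1 : GL κ F), hG.negOne, Units.ext ?_⟩, ?_⟩
  · refine eq_top_iff.2 fun M _ => ?_
    obtain ⟨N, rfl⟩ := (Matrix.reindexAlgEquiv F F e).surjective M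
    have hN : N ∈ spanGL (one1 T) := hG.span ▸ Submodule.mem_top
    induction hN using Submodule.span_induction with
    | zero => rw [map_zero]; exact zero_mem _
    | add a b _ _ ha hb => rw [map_add]; exact add_mem (ha Submodule.mem_top) (hb Submodule.mem_top)
    | smul c a _ ha => rw [map_smul]; exact Submodule.smul_mem _ c (ha Submodule.mem_top)
    | mem a ha =>
      obtain ⟨g, hg, rfl⟩ := ha
      exact mem_spanGL ((mem_one1_reidx e T g).2 hg)
  · obtain ⟨a, ha, b, hb, hab⟩ := hG.noncomm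
    exact ⟨_, (mem_one1_reidx e T a).2 ha, _, (mem_one1_reidx e T b).2 hb, fun h => hab ((reidx e).injective
      (by simpa using h))⟩
  · show ((reidx e) (-1 : GL κ F) : Matrix ι ι F) = _
    rw [reidx_coe, Units.val_neg, Units.val_one, Units.val_neg, Units.val_one, map_neg, map_one]
  · intro g ho hg
    obtain ⟨h, rfl⟩ := (reidx e).surjective g
    refine scalar_reidx e (hG.scalar h (by rwa [MulEquiv.orderOf_eq] at ho) fun t ht => ?_)
    obtain ⟨u, hu, hu'⟩ := hg _ ⟨t, ht, rfl⟩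
    have : (reidx (F := F) e) u = reidx e (h * t * h⁻¹) := by simpa using hu'
    rwa [(reidx e).injective this] at hu

theorem good_reidx (e : κ ≃ ι) {T : Subgroup (GL κ F)} (hG : Good T) : Good (T.map (reidx e).toMonoidHom) :=
  ⟨core_reidx e hG.toCore, by
    rw [Subgroup.card_map_of_injective (show Function.Injective (reidx (F := F) e).toMonoidHom from (reidx e).injective),
      hG.card, Nat.card_congr (reidx (F := F) e).toEquiv]⟩

theorem strong_reidx (e : κ ≃ ι) {T : Subgroup (GL κ F)} (hG : Strong T) :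
    Strong (T.map (reidx e).toMonoidHom) := by
  intro g ho hg
  obtain ⟨h, rfl⟩ := (reidx e).surjective g
  refine scalar_reidx e (hG h (by rwa [MulEquiv.orderOf_eq] at ho) fun t ht => ?_)
  have := hg _ ((mem_one1_reidx e T t).2 ht)
  rw [← map_mul, ← map_inv, ← map_mul] at this
  exact (mem_one1_reidx e T _).1 this

end Reindex

end Cfsg.Agent.H52.TwoBlock
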