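import Cfsg.Agent.H52.U4Frame

/-!
# The generalised quadrangle of isotropic points and lines of `SU(4, q)`
-/

set_option autoImplicit false
set_option maxHeartbeats 1000000
set_option linter.unusedSectionVars false

namespace Cfsg.Agent.H52.U4

open Cfsg Matrix
open Cfsg.Agent.Unitary

variable {F : Type*} [Field F] [Fintype F] {q : ℕ}

local notation "𝕍" => (Fin 4 → F)
local notation "hf" => hermForm 4 F q
local notation "G" => SU 4 F q

/-- The isotropic points. -/
abbrev Pt (F : Type*) [Field F] (q : ℕ) := IsoPoint 4 F q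

instance finite_pt : Finite (Pt F q) :=
  Finite.of_injective (fun p : Pt F q => (p.1 : Submodule F 𝕍)) Subtype.val_injective

/-- Two distinct orthogonal points. -/
def Adj (a b : Pt F q) : Prop := a ≠ b ∧ ∀ x ∈ a.1, ∀ y ∈ b.1, hermForm 4 F q x y = 0

/-- The point lies on the line. -/
def Inc (p : Pt F q) (L : Line F q) : Prop := p.1 ≤ L.1

theorem isoPt_eq_iff {u u' : 𝕍} (hu0 : u ≠ 0) (hu : hf u u = 0) (hu0' : u' ≠ 0)
    (hu' : hf u' u' = 0) :
    isoPt hu0 hu = isoPt hu0' hu' ↔ u' ∈ Submodule.span F ({u} : Set 𝕍) := by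
  constructor
  · intro h
    have h' : Submodule.span F {u} = Submodule.span F {u'} := congrArg Subtype.val h
    rw [h']
    exact Submodule.mem_span_singleton_self u'
  · intro h
    obtain ⟨c, rfl⟩ := Submodule.mem_span_singleton.1 h
    apply Subtype.ext
    show Submodule.span F {u} = Submodule.span F {c • u}
    rw [Submodule.span_singleton_smul_eq (Ne.isUnit fun h0 => hu0' (by rw [h0, zero_smul]))]

theorem adj_isoPt {u u' : 𝕍} (hu0 : u ≠ 0) (hu : hf u u = 0) (hu0' : u' ≠ 0)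
    (hu' : hf u' u' = 0) :
    Adj (isoPt hu0 hu) (isoPt hu0' hu') ↔
      u' ∉ Submodule.span F ({u} : Set 𝕍) ∧ hf u u' = 0 := by
  rw [Adj, Ne, isoPt_eq_iff hu0 hu hu0' hu']
  refine and_congr Iff.rfl ⟨fun h => h u (Submodule.mem_span_singleton_self u) u'
    (Submodule.mem_span_singleton_self u'), fun h x hx y hy => ?_⟩
  obtain ⟨a, rfl⟩ := Submodule.mem_span_singleton.1 (show x ∈ Submodule.span F {u} from hx)
  obtain ⟨b, rfl⟩ := Submodule.mem_span_singleton.1 (show y ∈ Submodule.span F {u'} from hy)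
  rw [herm_smul_left, herm_smul_right, h, mul_zero, mul_zero]

theorem inc_isoPt {u : 𝕍} (hu0 : u ≠ 0) (hu : hf u u = 0) (L : Line F q) :
    Inc (isoPt hu0 hu) L ↔ u ∈ L.1 :=
  Submodule.span_singleton_le_iff_mem u L.1

theorem adj_smul (g : G) {a b : Pt F q} (h : Adj a b) : Adj (g • a) (g • b) := by
  refine ⟨fun he => h.1 (smul_left_cancel g he), fun x hx y hy => ?_⟩
  rw [coe_smul_isoPoint] at hx hy
  obtain ⟨x', hx', rfl⟩ := hx
  obtain ⟨y', hy', rfl⟩ := hy
  exact (herm_ap g x' y').trans (h.2 x' hx' y' hy')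

theorem adj_smul_iff (g : G) {a b : Pt F q} : Adj (g • a) (g • b) ↔ Adj a b :=
  ⟨fun h => by simpa using adj_smul g⁻¹ h, adj_smul g⟩

theorem inc_smul (g : G) {p : Pt F q} {L : Line F q} (h : Inc p L) : Inc (g • p) (g • L) :=
  Submodule.map_mono h

theorem inc_smul_iff (g : G) {p : Pt F q} {L : Line F q} : Inc (g • p) (g • L) ↔ Inc p L :=
  ⟨fun h => by simpa using inc_smul g⁻¹ h, inc_smul g⟩

theorem Adj.symm (hF : Fintype.card F = q ^ 2) {a b : Pt F q} (h : Adj a b) : Adj b a :=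
  ⟨h.1.symm, fun x hx y hy => (herm_eq_zero_symm hF).1 (h.2 y hy x hx)⟩

/-- From points to vectors. -/
theorem card_points_mul (hF : Fintype.card F = q ^ 2) (π : Pt F q → Prop) (π' : 𝕍 → Prop)
    (hπ : ∀ (x : 𝕍) (hx0 : x ≠ 0) (hx : hf x x = 0), π (isoPt hx0 hx) ↔ π' x) :
    Nat.card {p // π p} * (q ^ 2 - 1) =
      Nat.card {x : 𝕍 // x ≠ 0 ∧ hf x x = 0 ∧ π' x} := by
  classical
  let φ : (Σ p : {p // π p}, {x : 𝕍 // x ∈ p.1.1 ∧ x ≠ 0}) →
      {x : 𝕍 // x ≠ 0 ∧ hf x x = 0 ∧ π' x} := fun s => ⟨s.2.1, s.2.2.2, by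
    obtain ⟨⟨p, hp⟩, x, hxp, hx0⟩ := s
    obtain ⟨u, hu0, hu, rfl⟩ := exists_isoPt p
    show hf x x = 0 ∧ π' x
    obtain ⟨c, rfl⟩ := Submodule.mem_span_singleton.1
      (show x ∈ Submodule.span F ({u} : Set 𝕍) from hxp)
    have hcu : hf (c • u) (c • u) = 0 := by rw [herm_self_smul, hu, mul_zero]
    refine ⟨hcu, (hπ _ hx0 hcu).1 ?_⟩
    rwa [show isoPt hx0 hcu = isoPt hu0 hu from ((isoPt_eq_iff hu0 hu hx0 hcu).2
      (Submodule.mem_span_singleton.2 ⟨c, rfl⟩)).symm]⟩
  have hφ : Function.Bijective φ := by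
    constructor
    · rintro ⟨⟨p, hp⟩, x, hx, hx0⟩ ⟨⟨p', hp'⟩, x', hx', hx0'⟩ h
      obtain rfl : x = x' := congrArg Subtype.val h
      obtain rfl : p = p' := by
        obtain ⟨u, hu0, hu, rfl⟩ := exists_isoPt p
        obtain ⟨u', hu0', hu', rfl⟩ := exists_isoPt p'
        obtain ⟨c, hc⟩ := Submodule.mem_span_singleton.1 (show x ∈ Submodule.span F {u} from hx)
        obtain ⟨c', hc'⟩ := Submodule.mem_span_singleton.1 (show x ∈ Submodule.span F {u'} from hx')
        rw [isoPt_eq_iff]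
        refine Submodule.mem_span_singleton.2 ⟨c'⁻¹ * c, ?_⟩
        have hc0' : c' ≠ 0 := by rintro rfl; exact hx0 (by rw [← hc', zero_smul])
        rw [mul_smul, hc, ← hc', inv_smul_smul₀ hc0']
      rfl
    · rintro ⟨x, hx0, hx, hπ'⟩
      exact ⟨⟨⟨isoPt hx0 hx, (hπ x hx0 hx).2 hπ'⟩, x, Submodule.mem_span_singleton_self x, hx0⟩,
        rfl⟩
  have hfib : ∀ p : {p // π p}, Nat.card {x : 𝕍 // x ∈ p.1.1 ∧ x ≠ 0} = q ^ 2 - 1 := by
    intro p
    obtain ⟨u, hu0, hu, e⟩ := exists_isoPt p.1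
    rw [e]
    have hb : Function.Bijective (fun c : Fˣ =>
        (⟨(c : F) • u, Submodule.mem_span_singleton.2 ⟨_, rfl⟩, smul_ne_zero c.ne_zero hu0⟩ :
          {x : 𝕍 // x ∈ (isoPt hu0 hu).1 ∧ x ≠ 0})) := by
      constructor
      · intro c c' h
        exact Units.ext (smul_left_injective F hu0 (congrArg Subtype.val h))
      · rintro ⟨x, hx, hx0⟩
        obtain ⟨c, rfl⟩ := Submodule.mem_span_singleton.1 (show x ∈ Submodule.span F {u} from hx)
        exact ⟨Units.mk0 c (fun h => hx0 (by rw [h, zero_smul])), rfl⟩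
    rw [← Nat.card_congr (Equiv.ofBijective _ hb), Nat.card_units, Nat.card_eq_fintype_card, hF]
  haveI : Fintype {p // π p} := Fintype.ofFinite _
  rw [← Nat.card_congr (Equiv.ofBijective φ hφ), Nat.card_sigma,
    Finset.sum_congr rfl fun p _ => hfib p, Finset.sum_const, Finset.card_univ, smul_eq_mul,
    Nat.card_eq_fintype_card]

theorem sq_sub_one_pos (hF : Fintype.card F = q ^ 2) : 0 < q ^ 2 - 1 := by
  have := two_le_q hF
  have : 4 ≤ q ^ 2 := by rw [pow_two]; exact Nat.mul_le_mul this this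
  omega

theorem card_pt (hF : Fintype.card F = q ^ 2) :
    Nat.card (Pt F q) = (q ^ 2 + 1) * (q ^ 3 + 1) := by
  classical
  have h := card_points_mul hF (fun _ => True) (fun _ => True) (fun _ _ _ => Iff.rfl)
  rw [Nat.card_congr (Equiv.subtypeUnivEquiv (fun _ : Pt F q => trivial))] at h
  have h1 : normCount 4 q (0 : F) = Nat.card {x : 𝕍 // x ≠ 0 ∧ hf x x = 0 ∧ True} + 1 := by
    rw [normCount, ← Finite.card_option]
    refine Nat.card_congr
      { toFun := fun x => if hx : x.1 = 0 then none else some ⟨x.1, hx, x.2, trivial⟩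
        invFun := fun o => o.elim ⟨0, herm_zero_left 0⟩ fun x => ⟨x.1, x.2.2.1⟩
        left_inv := fun x => by
          by_cases hx : x.1 = 0
          · simp [hx]; exact Subtype.ext hx.symm
          · simp [hx]
        right_inv := fun o => by
          cases o with
          | none => simp
          | some x => simp [x.2.1] }
  rw [normCount_zero_vec_nat hF, if_pos (by decide)] at h1
  rw [← Nat.add_right_cancel h1] at h
  apply Nat.eq_of_mul_eq_mul_right (sq_sub_one_pos hF)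
  rw [h, show q ^ (4 - 1) = q ^ 3 from rfl]
  have : q ^ 4 - 1 = (q ^ 2 + 1) * (q ^ 2 - 1) := by
    have e : q ^ 4 = q ^ 2 * q ^ 2 := by ring
    rw [e]
    have := Nat.sq_sub_sq (q ^ 2) 1
    rw [one_pow, pow_two (q ^ 2)] at this
    exact this
  rw [this]; ring

variable {u v w z : Fin 4 → F}

/-- The non-zero isotropic vectors orthogonal to a hyperbolic pair. -/
theorem card_iso_plane (hF : Fintype.card F = q ^ 2) (hb : HB q u v w z) :
    Nat.card {x : 𝕍 // x ≠ 0 ∧ hf x x = 0 ∧ hf x u = 0 ∧ hf x v = 0} = (q + 1) * (q ^ 2 - 1) := by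
  classical
  have hP := nondeg_pair hF hb.uu hb.vv (by rw [hb.uv hF]; exact one_ne_zero)
  have hW : Nondeg q (perp q ({u, v} : Set 𝕍)) := by rw [← perp_span hF]; exact nondeg_perp hF hP
  have hd := finrank_perp_add hF hP
  rw [finrank_pair (indep_pair hF hb.uu (by rw [hb.uv hF]; exact one_ne_zero)), perp_span hF] at hd
  obtain ⟨g, hg, hspan⟩ := exists_ON_basis hF _ hW
  have hr : Module.finrank F (perp q ({u, v} : Set 𝕍)) = 2 := by omega
  have hc := card_norm_span hF hg (0 : F)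
  rw [hspan, hr, normCount_zero_vec_nat hF, if_pos (by decide)] at hc
  have h1 : Nat.card {x : 𝕍 // x ∈ perp q ({u, v} : Set 𝕍) ∧ hf x x = 0}
      = Nat.card {x : 𝕍 // x ≠ 0 ∧ hf x x = 0 ∧ hf x u = 0 ∧ hf x v = 0} + 1 := by
    rw [← Finite.card_option]
    exact Nat.card_congr
      { toFun := fun x => if hx : x.1 = 0 then none else
          some ⟨x.1, hx, x.2.2, (mem_perp_pair.1 x.2.1).1, (mem_perp_pair.1 x.2.1).2⟩
        invFun := fun o => o.elim ⟨0, Submodule.zero_mem _, herm_zero_left 0⟩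
          fun x => ⟨x.1, mem_perp_pair.2 x.2.2.2, x.2.2.1⟩
        left_inv := fun x => by
          by_cases hx : x.1 = 0
          · simp [hx]; exact Subtype.ext hx.symm
          · simp [hx]
        right_inv := fun o => by
          cases o with
          | none => simp
          | some x => simp [x.2.1] }
  rw [hc] at h1
  rw [← Nat.add_right_cancel h1]
  rw [show q ^ (2 - 1) = q from pow_one q]
  ring

/-- The number of common neighbours of two opposite points. -/
theorem card_common_opp (hF : Fintype.card F = q ^ 2) (hb : HB q u v w z) (hu0 : u ≠ 0)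
    (hv0 : v ≠ 0) :
    Nat.card {p // Adj (isoPt hu0 hb.uu) p ∧ Adj (isoPt hv0 hb.vv) p} = q + 1 := by
  have h := card_points_mul hF (π' := fun x => hf x u = 0 ∧ hf x v = 0)
    (π := fun p => Adj (isoPt hu0 hb.uu) p ∧ Adj (isoPt hv0 hb.vv) p) (fun x hx0 hx => by
      rw [adj_isoPt, adj_isoPt]
      constructor
      · rintro ⟨⟨-, h1⟩, -, h2⟩
        exact ⟨(herm_eq_zero_symm hF).1 h1, (herm_eq_zero_symm hF).1 h2⟩
      · rintro ⟨h1, h2⟩
        refine ⟨⟨fun hm => ?_, (herm_eq_zero_symm hF).1 h1⟩, fun hm => ?_,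
          (herm_eq_zero_symm hF).1 h2⟩
        · obtain ⟨c, rfl⟩ := Submodule.mem_span_singleton.1 hm
          rw [herm_smul_left, hb.uv hF, mul_one] at h2
          exact hx0 (by rw [h2, zero_smul])
        · obtain ⟨c, rfl⟩ := Submodule.mem_span_singleton.1 hm
          rw [herm_smul_left, hb.vu, mul_one] at h1
          exact hx0 (by rw [h1, zero_smul]))
  rw [card_iso_plane hF hb] at h
  exact Nat.eq_of_mul_eq_mul_right (sq_sub_one_pos hF) h

/-- The number of neighbours of a point. -/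
theorem card_nbr (hF : Fintype.card F = q ^ 2) (hb : HB q u v w z) (hu0 : u ≠ 0) :
    Nat.card {p // Adj (isoPt hu0 hb.uu) p} = q ^ 2 * (q + 1) := by
  have h := card_points_mul hF (π' := fun x => x ∉ Submodule.span F ({u} : Set 𝕍) ∧ hf u x = 0)
    (π := fun p => Adj (isoPt hu0 hb.uu) p) (fun x hx0 hx => adj_isoPt hu0 hb.uu hx0 hx)
  have e : {x : 𝕍 // x ≠ 0 ∧ hf x x = 0 ∧ x ∉ Submodule.span F ({u} : Set 𝕍) ∧ hf u x = 0} ≃
      F × {x : 𝕍 // x ≠ 0 ∧ hf x x = 0 ∧ hf x u = 0 ∧ hf x v = 0} :=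
    { toFun := fun x => (hf x.1 v, ⟨x.1 - hf x.1 v • u, by
        obtain ⟨x, hx0, hx, hxs, hux⟩ := x
        have hxu := (herm_eq_zero_symm hF).1 hux
        refine ⟨fun h0 => hxs (Submodule.mem_span_singleton.2 ⟨_, (sub_eq_zero.1 h0).symm⟩),
          ?_, ?_, ?_⟩
        · simp [herm_sub_left, herm_sub_right hF, herm_smul_left, herm_smul_right, hx, hxu, hux,
            hb.uu]
        · simp [herm_sub_left, herm_smul_left, hxu, hb.uu]
        · simp [herm_sub_left, herm_smul_left, hb.uv hF]⟩)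
      invFun := fun p => ⟨p.2.1 + p.1 • u, by
        obtain ⟨a, x, hx0, hx, hxu, hxv⟩ := p
        have hux := (herm_eq_zero_symm hF).1 hxu
        refine ⟨fun h0 => ?_, ?_, fun hm => ?_, ?_⟩
        · have := congrArg (fun y => hf y v) h0
          simp [herm_add_left, herm_smul_left, hxv, hb.uv hF] at this
          rw [this, zero_smul, add_zero] at h0
          exact hx0 h0
        · simp [herm_add_left, herm_add_right hF, herm_smul_left, herm_smul_right, hx, hxu, hux,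
            hb.uu]
        · obtain ⟨c, hc⟩ := Submodule.mem_span_singleton.1 hm
          have := congrArg (fun y => hf y v) hc
          simp [herm_add_left, herm_smul_left, hxv, hb.uv hF] at this
          rw [this] at hc
          exact hx0 (by simpa using hc)
        · simp [herm_add_right hF, herm_smul_right, hux, hb.uu]⟩
      left_inv := fun x => Subtype.ext (by simp)
      right_inv := fun p => by
        obtain ⟨a, x, hx0, hx, hxu, hxv⟩ := p
        have e1 : hf (x + a • u) v = a := by simp [herm_add_left, herm_smul_left, hxv, hb.uv hF]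
        refine Prod.ext e1 (Subtype.ext ?_)
        show x + a • u - hf (x + a • u) v • u = x
        rw [e1, add_sub_cancel_right] }
  rw [Nat.card_congr e, Nat.card_prod, card_iso_plane hF hb, Nat.card_eq_fintype_card (α := F), hF,
    ← mul_assoc] at h
  exact Nat.eq_of_mul_eq_mul_right (sq_sub_one_pos hF) h

/-- The number of common neighbours of two adjacent points. -/
theorem card_common_adj (hF : Fintype.card F = q ^ 2) (hb : HB q u v w z) (hu0 : u ≠ 0)
    (hw0 : w ≠ 0) :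
    Nat.card {p // Adj (isoPt hu0 hb.uu) p ∧ Adj (isoPt hw0 hb.ww) p} = q ^ 2 - 1 := by
  have h := card_points_mul hF 
    (π' := fun x => (x ∈ Submodule.span F ({u, w} : Set 𝕍)) ∧ hf x z ≠ 0 ∧ hf x v ≠ 0)
    (π := fun p => Adj (isoPt hu0 hb.uu) p ∧ Adj (isoPt hw0 hb.ww) p) (fun x hx0 hx => by
      rw [adj_isoPt, adj_isoPt, hb.mem_line hF]
      constructor
      · rintro ⟨⟨h1s, h1⟩, h2s, h2⟩
        have hxu := (herm_eq_zero_symm hF).1 h1
        have hxw := (herm_eq_zero_symm hF).1 h2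
        have e := hb.decomp hF x
        rw [hxu, hxw, zero_smul, zero_smul, add_zero, add_zero] at e
        refine ⟨⟨hxu, hxw⟩, fun h0 => h1s ?_, fun h0 => h2s ?_⟩
        · rw [h0, zero_smul, add_zero] at e
          exact Submodule.mem_span_singleton.2 ⟨_, e.symm⟩
        · rw [h0, zero_smul, zero_add] at e
          exact Submodule.mem_span_singleton.2 ⟨_, e.symm⟩
      · rintro ⟨⟨hxu, hxw⟩, hz, hv⟩
        refine ⟨⟨fun hm => hz ?_, (herm_eq_zero_symm hF).1 hxu⟩, fun hm => hv ?_,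
          (herm_eq_zero_symm hF).1 hxw⟩
        · obtain ⟨c, rfl⟩ := Submodule.mem_span_singleton.1 hm
          rw [herm_smul_left, hb.uz hF, mul_zero]
        · obtain ⟨c, rfl⟩ := Submodule.mem_span_singleton.1 hm
          rw [herm_smul_left, hb.wv, mul_zero])
  have e : {x : 𝕍 // x ≠ 0 ∧ hf x x = 0 ∧
      (x ∈ Submodule.span F ({u, w} : Set 𝕍)) ∧ hf x z ≠ 0 ∧ hf x v ≠ 0} ≃ Fˣ × Fˣ :=
    { toFun := fun x => (Units.mk0 _ x.2.2.2.2.2, Units.mk0 _ x.2.2.2.2.1)
      invFun := fun p => ⟨(p.1 : F) • u + (p.2 : F) • w, by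
        have e1 : hf ((p.1 : F) • u + (p.2 : F) • w) z = p.2 := by
          simp [herm_add_left, herm_smul_left, hb.uz hF, hb.wz hF]
        have e2 : hf ((p.1 : F) • u + (p.2 : F) • w) v = p.1 := by
          simp [herm_add_left, herm_smul_left, hb.uv hF, hb.wv]
        refine ⟨fun h0 => p.1.ne_zero (by rw [← e2, h0, herm_zero_left]), ?_,
          Submodule.mem_span_pair.2 ⟨_, _, rfl⟩, by rw [e1]; exact p.2.ne_zero,
          by rw [e2]; exact p.1.ne_zero⟩
        simp [herm_add_left, herm_add_right hF, herm_smul_left, herm_smul_right, hb.uu, hb.ww,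
          hb.uw hF, hb.wu]⟩
      left_inv := fun x => Subtype.ext (by
        have hm := (hb.mem_line hF).1 x.2.2.2.1
        conv_rhs => rw [hb.decomp hF x.1, hm.1, hm.2]
        simp)
      right_inv := fun p => by
        refine Prod.ext (Units.ext ?_) (Units.ext ?_) <;>
          simp [herm_add_left, herm_smul_left, hb.uz hF, hb.wz hF, hb.uv hF, hb.wv] }
  rw [Nat.card_congr e, Nat.card_prod, Nat.card_units, Nat.card_eq_fintype_card (α := F), hF] at h
  exact Nat.eq_of_mul_eq_mul_right (sq_sub_one_pos hF) h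

/-- The number of points on a line. -/
theorem card_inc_line (hF : Fintype.card F = q ^ 2) (L : Line F q) :
    Nat.card {p // Inc p L} = q ^ 2 + 1 := by
  classical
  have h := card_points_mul hF (fun p => Inc p L) (fun x => x ∈ L.1)
    (fun x hx0 hx => inc_isoPt hx0 hx L)
  have e : {x : 𝕍 // x ≠ 0 ∧ hf x x = 0 ∧ x ∈ L.1} ≃ {x : L.1 // x ≠ 0} :=
    { toFun := fun x => ⟨⟨x.1, x.2.2.2⟩, fun h => x.2.1 (congrArg Subtype.val h)⟩
      invFun := fun x => ⟨x.1.1, fun h => x.2 (Subtype.ext h), L.2.2 _ x.1.2 _ x.1.2, x.1.2⟩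
      left_inv := fun _ => rfl
      right_inv := fun _ => rfl }
  haveI : Fintype L.1 := Fintype.ofFinite _
  rw [Nat.card_congr e, Nat.card_eq_fintype_card (α := {x : L.1 // x ≠ 0}),
    Fintype.card_subtype_compl, Fintype.card_subtype_eq, Module.card_eq_pow_finrank (K := F),
    L.2.1, hF] at h
  apply Nat.eq_of_mul_eq_mul_right (sq_sub_one_pos hF)
  rw [h]
  have := Nat.sq_sub_sq (q ^ 2) 1
  rwa [one_pow] at this

/-- The number of lines. -/
theorem card_line (hF : Fintype.card F = q ^ 2) :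
    Nat.card (Line F q) = (q + 1) * (q ^ 3 + 1) := by
  have h := card_TISub (n := 4) hF (k := 2) le_rfl
  rw [card_GU hF, card_GU hF] at h
  simp [glCard, guFactor, Fin.prod_univ_two, Finset.prod_range_succ, show ¬ Even 3 by decide] at h
  have hq := two_le_q hF
  have h1 : 1 ≤ q ^ 2 := Nat.one_le_pow _ _ (by omega)
  have h4 : (q ^ 2) ^ 2 = q ^ 4 := by ring
  have e : (q ^ 2) ^ 2 - q ^ 2 = q ^ 2 * (q ^ 2 - 1) := by rw [Nat.mul_sub_one, pow_two (q ^ 2)]
  rw [e, h4] at h
  have hpos : 0 < q ^ 4 * (q ^ 4 - 1) * (q ^ 2 * (q ^ 2 - 1)) := by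
    have : 2 ≤ q ^ 4 := le_trans hq (Nat.le_self_pow (by omega) q)
    have : 2 ≤ q ^ 2 := le_trans hq (Nat.le_self_pow (by omega) q)
    exact Nat.mul_pos (Nat.mul_pos (by omega) (by omega)) (Nat.mul_pos (by omega) (by omega))
  apply Nat.eq_of_mul_eq_mul_left hpos
  refine Eq.trans ?_ (h.trans ?_) <;> ring

/-- The order of `SU(4, q)`. -/
theorem card_su (hF : Fintype.card F = q ^ 2) :
    Nat.card G = q ^ 6 * ((q ^ 2 - 1) * (q ^ 3 + 1) * (q ^ 4 - 1)) := by
  have h := card_GU_eq_mul_card_SU (n := 4) hF (by norm_num)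
  rw [card_GU hF] at h
  simp [guFactor, Finset.prod_range_succ, show ¬ Even 3 by decide] at h
  apply Nat.eq_of_mul_eq_mul_left (show 0 < q + 1 by omega)
  rw [← h]
  ring

theorem exists_hb_of_adj (hF : Fintype.card F = q ^ 2) {a b : Pt F q} (h : Adj a b) :
    ∃ (u v w z : 𝕍) (hb : HB q u v w z) (hu0 : u ≠ 0) (hw0 : w ≠ 0),
      a = isoPt hu0 hb.uu ∧ b = isoPt hw0 hb.ww := by
  obtain ⟨u, hu0, hu, rfl⟩ := exists_isoPt a
  obtain ⟨w, hw0, hw, rfl⟩ := exists_isoPt b
  obtain ⟨hs, hh⟩ := (adj_isoPt hu0 hu hw0 hw).1 h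
  have hind : LinearIndependent F ![u, w] := by
    rw [LinearIndependent.pair_iff' hu0]
    exact fun a ha => hs (Submodule.mem_span_singleton.2 ⟨a, ha⟩)
  obtain ⟨v, z, hb⟩ := exists_hb_adj hF hind hu hw hh
  exact ⟨u, v, w, z, hb, hu0, hw0, rfl, rfl⟩

theorem exists_hb_of_opp (hF : Fintype.card F = q ^ 2) {a b : Pt F q} (hne : a ≠ b)
    (h : ¬ Adj a b) :
    ∃ (u v w z : 𝕍) (hb : HB q u v w z) (hu0 : u ≠ 0) (hv0 : v ≠ 0),
      a = isoPt hu0 hb.uu ∧ b = isoPt hv0 hb.vv := by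
  obtain ⟨u, hu0, hu, rfl⟩ := exists_isoPt a
  obtain ⟨x, hx0, hx, rfl⟩ := exists_isoPt b
  have hxu : hf x u ≠ 0 := fun h0 => h ((adj_isoPt hu0 hu hx0 hx).2
    ⟨fun hm => hne ((isoPt_eq_iff hu0 hu hx0 hx).2 hm), (herm_eq_zero_symm hF).1 h0⟩)
  have hv : hf ((hf x u)⁻¹ • x) ((hf x u)⁻¹ • x) = 0 := by rw [herm_self_smul, hx, mul_zero]
  have hv0 : (hf x u)⁻¹ • x ≠ 0 := smul_ne_zero (inv_ne_zero hxu) hx0
  obtain ⟨w, z, hb⟩ := exists_hb_opp hF hu hv
    (by rw [herm_smul_left, inv_mul_cancel₀ hxu])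
  refine ⟨u, _, w, z, hb, hu0, hv0, rfl, ?_⟩
  rw [isoPt_eq_iff]
  exact Submodule.smul_mem _ _ (Submodule.mem_span_singleton_self x)

theorem exists_smul_adj (hF : Fintype.card F = q ^ 2) {a b a' b' : Pt F q} (h : Adj a b)
    (h' : Adj a' b') : ∃ g : G, g • a = a' ∧ g • b = b' := by
  obtain ⟨u, v, w, z, hb, hu0, hw0, rfl, rfl⟩ := exists_hb_of_adj hF h
  obtain ⟨u', v', w', z', hb', hu0', hw0', rfl, rfl⟩ := exists_hb_of_adj hF h'
  obtain ⟨g, l, m, hl, -, hgu, -, hgw, -⟩ := exists_map_hb hF hb hb'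
  exact ⟨g, smul_isoPt_eq hu0 hb.uu hu0' hb'.uu hl hgu,
    smul_isoPt_eq hw0 hb.ww hw0' hb'.ww one_ne_zero (by rw [hgw, one_smul])⟩

theorem exists_smul_opp (hF : Fintype.card F = q ^ 2) {a b a' b' : Pt F q} (hne : a ≠ b)
    (h : ¬ Adj a b) (hne' : a' ≠ b') (h' : ¬ Adj a' b') :
    ∃ g : G, g • a = a' ∧ g • b = b' := by
  obtain ⟨u, v, w, z, hb, hu0, hv0, rfl, rfl⟩ := exists_hb_of_opp hF hne h
  obtain ⟨u', v', w', z', hb', hu0', hv0', rfl, rfl⟩ := exists_hb_of_opp hF hne' h'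
  obtain ⟨g, l, m, hl, hm, hgu, hgv, -, -⟩ := exists_map_hb hF hb hb'
  exact ⟨g, smul_isoPt_eq hu0 hb.uu hu0' hb'.uu hl hgu,
    smul_isoPt_eq hv0 hb.vv hv0' hb'.vv hm hgv⟩

end Cfsg.Agent.H52.U4
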