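import Cfsg.Agent.Unitary.Simple
import Cfsg.Agent.Unitary.TISubspaces

/-!
# Hyperbolic frames, lines and their abelian radicals in `SU(4, q)`
-/

set_option autoImplicit false
set_option maxHeartbeats 1000000
set_option linter.unusedSectionVars false

namespace Cfsg.Agent.H52.U4

open Cfsg Matrix
open Cfsg.Agent.Unitary

variable {F : Type*} [Field F] [Fintype F] {q : ℕ}

local notation "𝕍" => (Fin 4 → F)
local notation "hf" => hermForm 4 F q
local notation "G" => SU 4 F q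

/-- A hyperbolic frame: two orthogonal hyperbolic pairs `(u, v)` and `(w, z)`. -/
structure HB (q : ℕ) (u v w z : Fin 4 → F) : Prop where
  uu : hermForm 4 F q u u = 0
  vv : hermForm 4 F q v v = 0
  ww : hermForm 4 F q w w = 0
  zz : hermForm 4 F q z z = 0
  vu : hermForm 4 F q v u = 1
  zw : hermForm 4 F q z w = 1
  wu : hermForm 4 F q w u = 0
  wv : hermForm 4 F q w v = 0
  zu : hermForm 4 F q z u = 0
  zv : hermForm 4 F q z v = 0

section
variable (hF : Fintype.card F = q ^ 2) {u v w z : Fin 4 → F}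
include hF

theorem HB.uv (hb : HB q u v w z) : hf u v = 1 := by rw [← herm_swap hF v u, hb.vu, one_pow]
theorem HB.wz (hb : HB q u v w z) : hf w z = 1 := by rw [← herm_swap hF z w, hb.zw, one_pow]
theorem HB.uw (hb : HB q u v w z) : hf u w = 0 := (herm_eq_zero_symm hF).1 hb.wu
theorem HB.vw (hb : HB q u v w z) : hf v w = 0 := (herm_eq_zero_symm hF).1 hb.wv
theorem HB.uz (hb : HB q u v w z) : hf u z = 0 := (herm_eq_zero_symm hF).1 hb.zu
theorem HB.vz (hb : HB q u v w z) : hf v z = 0 := (herm_eq_zero_symm hF).1 hb.zv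

theorem HB.swap (hb : HB q u v w z) : HB q w z u v :=
  ⟨hb.ww, hb.zz, hb.uu, hb.vv, hb.zw, hb.vu, hb.uw hF, hb.uz hF, hb.vw hF, hb.vz hF⟩

theorem HB.indep (hb : HB q u v w z) : LinearIndependent F ![u, v, w, z] := by
  rw [Fintype.linearIndependent_iff]
  intro g hg
  simp only [Fin.sum_univ_four, Matrix.cons_val_zero, Matrix.cons_val_one, Matrix.cons_val] at hg
  have e : ∀ s, hf (g 0 • u + g 1 • v + g 2 • w + g 3 • z) s = 0 := fun s => by
    rw [hg, herm_zero_left]
  have e1 := e u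
  have e2 := e v
  have e3 := e w
  have e4 := e z
  simp only [herm_add_left, herm_smul_left, hb.uu, hb.vu, hb.wu, hb.zu, hb.uv hF, hb.vv, hb.wv,
    hb.zv, hb.uw hF, hb.vw hF, hb.ww, hb.zw, hb.uz hF, hb.vz hF, hb.wz hF, hb.zz, mul_zero,
    mul_one, add_zero, zero_add] at e1 e2 e3 e4
  intro i
  fin_cases i <;> assumption

theorem HB.span_eq (hb : HB q u v w z) :
    Submodule.span F (Set.range ![u, v, w, z]) = ⊤ :=
  Submodule.eq_top_of_finrank_eq (by
    rw [finrank_span_eq_card (hb.indep hF), Fintype.card_fin, Module.finrank_fin_fun])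

theorem HB.eq_zero (hb : HB q u v w z) {x : 𝕍} (h1 : hf x u = 0) (h2 : hf x v = 0)
    (h3 : hf x w = 0) (h4 : hf x z = 0) : x = 0 := by
  refine eq_zero_of_forall_right hF fun y => ?_
  have hy : y ∈ Submodule.span F (Set.range ![u, v, w, z]) := by rw [hb.span_eq hF]; trivial
  obtain ⟨c, rfl⟩ := (Submodule.mem_span_range_iff_exists_fun F).1 hy
  rw [herm_sum_right hF]
  refine Finset.sum_eq_zero fun i _ => ?_
  rw [herm_smul_right]
  fin_cases i <;> simp [h1, h2, h3, h4]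

theorem HB.decomp (hb : HB q u v w z) (x : 𝕍) :
    x = hf x v • u + hf x u • v + hf x z • w + hf x w • z := by
  refine sub_eq_zero.1 (hb.eq_zero hF ?_ ?_ ?_ ?_) <;>
  simp only [herm_sub_left, herm_add_left, herm_smul_left, hb.uu, hb.vu, hb.wu, hb.zu, hb.uv hF,
    hb.vv, hb.wv, hb.zv, hb.uw hF, hb.vw hF, hb.ww, hb.zw, hb.uz hF, hb.vz hF, hb.wz hF, hb.zz,
    mul_zero, mul_one, add_zero, zero_add, sub_self]

/-- The perpendicular of a line is the line. -/
theorem HB.mem_line (hb : HB q u v w z) {x : 𝕍} :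
    x ∈ Submodule.span F ({u, w} : Set 𝕍) ↔ hf x u = 0 ∧ hf x w = 0 := by
  constructor
  · intro h
    obtain ⟨a, b, rfl⟩ := Submodule.mem_span_pair.1 h
    simp [herm_add_left, herm_smul_left, hb.uu, hb.wu, hb.uw hF, hb.ww]
  · rintro ⟨h1, h2⟩
    rw [hb.decomp hF x, h1, h2, zero_smul, zero_smul, add_zero, add_zero]
    exact Submodule.mem_span_pair.2 ⟨_, _, rfl⟩

/-- A hyperbolic frame through two independent orthogonal isotropic vectors. -/
theorem exists_hb_adj (hind : LinearIndependent F ![u, w]) (hu : hf u u = 0) (hw : hf w w = 0)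
    (huw : hf u w = 0) : ∃ v z, HB q u v w z := by
  have hwu := (herm_eq_zero_symm hF).1 huw
  obtain ⟨b⟩ := exists_hypBasis hF (k := 2)
    (⟨![u, w], hind, fun i j => by fin_cases i <;> fin_cases j <;> simp [hu, hw, huw, hwu]⟩ :
      TIFrame 4 F q 2)
  refine ⟨b.v 0, b.v 1, hu, b.vv 0 0, hw, b.vv 1 1, ?_, ?_, hwu, ?_, ?_, b.vv 1 0⟩
  · simpa using b.vf 0 0
  · simpa using b.vf 1 1
  · exact (herm_eq_zero_symm hF).1 (by simpa using b.vf 0 1)
  · simpa using b.vf 1 0

/-- A hyperbolic frame through a hyperbolic pair. -/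
theorem exists_hb_opp (hu : hf u u = 0) (hv : hf v v = 0) (hvu : hf v u = 1) :
    ∃ w z, HB q u v w z := by
  have huv : hf u v ≠ 0 := by rw [← herm_swap hF v u, hvu, one_pow]; exact one_ne_zero
  have hP := nondeg_pair hF hu hv huv
  have hW : Nondeg q (perp q ({u, v} : Set 𝕍)) := by rw [← perp_span hF]; exact nondeg_perp hF hP
  have hd := finrank_perp_add hF hP
  rw [finrank_pair (indep_pair hF hu huv), perp_span hF] at hd
  obtain ⟨w, hwW, hw0, hw⟩ := exists_isotropic hF hW (by omega)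
  obtain ⟨z, hzW, hz, hzw⟩ := exists_partner hF hW hwW hw0 hw
  obtain ⟨h1, h2⟩ := mem_perp_pair.1 hwW
  obtain ⟨h3, h4⟩ := mem_perp_pair.1 hzW
  exact ⟨w, z, hu, hv, hw, hz, hvu, hzw, h1, h2, h3, h4⟩

theorem exists_hb (hu0 : u ≠ 0) (hu : hf u u = 0) : ∃ v w z, HB q u v w z := by
  obtain ⟨v, -, hv, hvu⟩ := exists_partner hF (nondeg_top hF) Submodule.mem_top hu0 hu
  obtain ⟨w, z, h⟩ := exists_hb_opp hF hu hv hvu
  exact ⟨v, w, z, h⟩

end

/-- Elements of `SU` from Gram data, with a scalar correction of the determinant. -/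
theorem exists_SU_map_gram (hF : Fintype.card F = q ^ 2) (P : (Fin 4 → F) → Prop)
    {a b : Fin 4 → 𝕍} (ha : LinearIndependent F a)
    (hgram : ∀ i j, hf (b i) (b j) = hf (a i) (a j))
    (hd : ∀ c : F, c * c ^ q = 1 →
      ∃ d : Fin 4 → F, P d ∧ (∀ i j, hf (d i • a i) (d j • a j) = hf (a i) (a j)) ∧ ∏ i, d i = c) :
    ∃ (g : G) (d : Fin 4 → F), P d ∧ ∀ i, ap g (a i) = d i • b i := by
  have has : ⊤ ≤ Submodule.span F (Set.range a) := (Submodule.eq_top_of_finrank_eq (by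
    rw [finrank_span_eq_card ha, Fintype.card_fin, Module.finrank_fin_fun])).ge
  obtain ⟨g₁, hg₁⟩ := exists_isometry_of_gram hF ha has hgram
  set M₁ := ((g₁ : GL (Fin 4) F) : Matrix (Fin 4) (Fin 4) F) with hM₁
  have hc : M₁.det * M₁.det ^ q = 1 := (mem_GU_iff.1 g₁.2).det_norm hF
  have hc0 : M₁.det ≠ 0 := left_ne_zero_of_mul_eq_one hc
  obtain ⟨d, hP, hdg, hprod⟩ := hd M₁.det⁻¹ (by
    rw [inv_pow, ← mul_inv, hc, inv_one])
  obtain ⟨g₂, hg₂⟩ := exists_isometry_of_gram hF ha has (b := fun i => d i • a i) hdg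
  set M₂ := ((g₂ : GL (Fin 4) F) : Matrix (Fin 4) (Fin 4) F) with hM₂
  let A : Matrix (Fin 4) (Fin 4) F := (Matrix.of a)ᵀ
  have hA : IsUnit A.det :=
    (Matrix.isUnit_iff_isUnit_det A).1 ((Matrix.isUnit_transpose (Matrix.of a)).2
      (Matrix.linearIndependent_rows_iff_isUnit.1 ha))
  have hMA : M₂ * A = A * Matrix.diagonal d := by
    ext i j
    rw [Matrix.mul_diagonal]
    have := congrFun (hg₂ j) i
    simp only [Pi.smul_apply, smul_eq_mul] at this
    rw [mul_comm (A i j)]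
    exact this
  have hdet2 : M₂.det = ∏ i, d i := by
    have h := congrArg Matrix.det hMA
    rw [Matrix.det_mul, Matrix.det_mul, Matrix.det_diagonal, mul_comm A.det] at h
    exact mul_right_cancel₀ hA.ne_zero h
  have hpres : Preserves q (M₁ * M₂) := fun x y => by
    rw [← Matrix.mulVec_mulVec, ← Matrix.mulVec_mulVec, mem_GU_iff.1 g₁.2,
      mem_GU_iff.1 g₂.2]
  have hdet : (M₁ * M₂).det = 1 := by rw [Matrix.det_mul, hdet2, hprod, mul_inv_cancel₀ hc0]
  refine ⟨toSU hpres hdet, d, hP, fun i => ?_⟩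
  rw [ap_def]
  show (M₁ * M₂) *ᵥ a i = _
  rw [← Matrix.mulVec_mulVec, hg₂ i, Matrix.mulVec_smul, hg₁ i]

/-- `SU` moves any hyperbolic frame to any other, up to scaling the first pair. -/
theorem exists_map_hb (hF : Fintype.card F = q ^ 2) {u v w z u' v' w' z' : Fin 4 → F}
    (hb : HB q u v w z) (hb' : HB q u' v' w' z') :
    ∃ (g : G) (l m : F), l ≠ 0 ∧ m ≠ 0 ∧ ap g u = l • u' ∧ ap g v = m • v' ∧ ap g w = w' ∧
      ap g z = z' := by
  obtain ⟨g, d, ⟨h0, h1, h2, h3⟩, hg⟩ := exists_SU_map_gram hF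
    (fun d => d 0 ≠ 0 ∧ d 1 ≠ 0 ∧ d 2 = 1 ∧ d 3 = 1) (a := ![u, v, w, z])
    (b := ![u', v', w', z']) (hb.indep hF) (by
      intro i j
      fin_cases i <;> fin_cases j <;>
        simp [hb.uu, hb.vu, hb.wu, hb.zu, hb.uv hF, hb.vv, hb.wv, hb.zv, hb.uw hF, hb.vw hF, hb.ww,
          hb.zw, hb.uz hF, hb.vz hF, hb.wz hF, hb.zz, hb'.uu, hb'.vu, hb'.wu, hb'.zu, hb'.uv hF,
          hb'.vv, hb'.wv, hb'.zv, hb'.uw hF, hb'.vw hF, hb'.ww, hb'.zw, hb'.uz hF, hb'.vz hF,
          hb'.wz hF, hb'.zz]) (by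
      intro c hc
      have hc0 : c ≠ 0 := left_ne_zero_of_mul_eq_one hc
      have hmem : (Units.mk0 c hc0)⁻¹ ∈ (powMonoidHom (q + 1) : Fˣ →* Fˣ).ker := by
        rw [MonoidHom.mem_ker, powMonoidHom_apply]
        ext
        push_cast
        rw [inv_pow, pow_succ', Units.val_mk0, hc, inv_one]
      rw [← range_pow_sub_eq_ker hF] at hmem
      obtain ⟨l, hl⟩ := hmem
      have hl' : (l : F) ^ (q - 1) = c⁻¹ := by
        have := congrArg Units.val hl
        simpa using this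
      have hl0 : (l : F) ≠ 0 := Units.ne_zero l
      have hlq : (l : F) ^ q ≠ 0 := pow_ne_zero _ hl0
      refine ⟨![(l : F), ((l : F) ^ q)⁻¹, 1, 1], ⟨hl0, inv_ne_zero hlq, rfl, rfl⟩, ?_, ?_⟩
      · intro i j
        fin_cases i <;> fin_cases j <;>
          simp [herm_smul_left, herm_smul_right, hb.uu, hb.vu, hb.wu, hb.zu, hb.uv hF, hb.vv, hb.wv,
            hb.zv, hb.uw hF, hb.vw hF, hb.ww, hb.zw, hb.uz hF, hb.vz hF, hb.wz hF, hb.zz,
            pow_q_q hF, hl0]
      · rw [Fin.prod_univ_four]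
        simp only [Matrix.cons_val_zero, Matrix.cons_val_one, Matrix.cons_val, mul_one]
        rw [← pow_sub_one_mul (q_ne_zero hF) (l : F), hl']
        field_simp)
  refine ⟨g, d 0, d 1, h0, h1, hg 0, hg 1, ?_, ?_⟩
  · simpa [h2] using hg 2
  · simpa [h3] using hg 3

/-! ### Lines -/

/-- The totally isotropic lines. -/
abbrev Line (F : Type*) [Field F] (q : ℕ) := TISub 4 F q 2

noncomputable instance lineAction : MulAction G (Line F q) where
  smul g W := ⟨W.1.map (mat g).mulVecLin, by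
    refine ⟨(LinearEquiv.finrank_eq (Submodule.equivMapOfInjective (mat g).mulVecLin
      (ap_injective g) W.1).symm).trans W.2.1, ?_⟩
    rintro _ ⟨u, hu, rfl⟩ _ ⟨v, hv, rfl⟩
    exact (herm_ap g u v).trans (W.2.2 u hu v hv)⟩
  one_smul W := by
    apply Subtype.ext
    show W.1.map (mat (1 : G)).mulVecLin = W.1
    rw [show mat (1 : G) = 1 from rfl, Matrix.mulVecLin_one, Submodule.map_id]
  mul_smul g g' W := by
    apply Subtype.ext
    show W.1.map (mat (g * g')).mulVecLin = (W.1.map (mat g').mulVecLin).map (mat g).mulVecLin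
    rw [← Submodule.map_comp, show mat (g * g') = mat g * mat g' from rfl, Matrix.mulVecLin_mul]

theorem ap_mem_smul (g : G) (L : Line F q) {x : 𝕍} (hx : x ∈ L.1) : ap g x ∈ (g • L).1 :=
  Submodule.mem_map_of_mem hx

theorem mem_smul_iff (g : G) (L : Line F q) {x : 𝕍} : x ∈ (g • L).1 ↔ ap g⁻¹ x ∈ L.1 := by
  constructor
  · intro h
    obtain ⟨y, hy, rfl⟩ := h
    show ap g⁻¹ (ap g y) ∈ L.1
    rwa [ap_inv_ap]
  · intro h
    have := ap_mem_smul g L h
    rwa [ap_ap_inv] at this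

/-- Every line is spanned by the first vectors of a hyperbolic frame, one of them prescribed. -/
theorem exists_hb_line (hF : Fintype.card F = q ^ 2) (L : Line F q) {u : 𝕍} (hu0 : u ≠ 0)
    (huL : u ∈ L.1) : ∃ v w z, HB q u v w z ∧ L.1 = Submodule.span F ({u, w} : Set 𝕍) := by
  obtain ⟨w, hwL, hw⟩ : ∃ w ∈ L.1, w ∉ Submodule.span F ({u} : Set 𝕍) := by
    by_contra h
    push Not at h
    have := Submodule.finrank_mono (show L.1 ≤ Submodule.span F ({u} : Set 𝕍) from h)
    rw [L.2.1, finrank_span_singleton hu0] at this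
    omega
  have hind : LinearIndependent F ![u, w] := by
    rw [LinearIndependent.pair_iff' hu0]
    intro a ha
    exact hw (Submodule.mem_span_singleton.2 ⟨a, ha⟩)
  obtain ⟨v, z, hb⟩ := exists_hb_adj hF hind (L.2.2 u huL u huL) (L.2.2 w hwL w hwL)
    (L.2.2 u huL w hwL)
  refine ⟨v, w, z, hb, (Submodule.eq_of_le_of_finrank_le ?_ ?_).symm⟩
  · exact span_pair_le huL hwL
  · rw [L.2.1, finrank_pair hind]

theorem exists_hb_line' (hF : Fintype.card F = q ^ 2) (L : Line F q) :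
    ∃ u v w z, HB q u v w z ∧ L.1 = Submodule.span F ({u, w} : Set 𝕍) := by
  obtain ⟨u, huL, hu0⟩ := L.1.exists_mem_ne_zero_of_ne_bot (fun h => by
    have := L.2.1
    rw [h, finrank_bot] at this
    omega)
  obtain ⟨v, w, z, h⟩ := exists_hb_line hF L hu0 huL
  exact ⟨u, v, w, z, h⟩

/-- The line of a hyperbolic frame. -/
def HB.line (hF : Fintype.card F = q ^ 2) {u v w z : 𝕍} (hb : HB q u v w z) : Line F q :=
  ⟨Submodule.span F {u, w}, by
    refine ⟨finrank_pair ?_, fun x hx y hy => ?_⟩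
    · have := (hb.indep hF).comp ![0, 2] (by decide)
      convert this using 1
      funext i; fin_cases i <;> rfl
    · obtain ⟨a, b, rfl⟩ := Submodule.mem_span_pair.1 hy
      obtain ⟨h1, h2⟩ := (hb.mem_line hF).1 hx
      simp [herm_add_right hF, herm_smul_right, h1, h2]⟩

theorem exists_smul_line (hF : Fintype.card F = q ^ 2) (L L' : Line F q) :
    ∃ g : G, g • L = L' := by
  obtain ⟨u, v, w, z, hb, hL⟩ := exists_hb_line' hF L
  obtain ⟨u', v', w', z', hb', hL'⟩ := exists_hb_line' hF L'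
  obtain ⟨g, l, m, hl, -, hu, -, hw, -⟩ := exists_map_hb hF hb hb'
  refine ⟨g, Subtype.ext ?_⟩
  show L.1.map (mat g).mulVecLin = L'.1
  rw [hL, hL', Submodule.map_span, Set.image_pair]
  show Submodule.span F {ap g u, ap g w} = _
  rw [hu, hw, Submodule.span_insert, Submodule.span_singleton_smul_eq hl.isUnit,
    ← Submodule.span_insert]

/-! ### The radical of a line -/

/-- The elements fixing a line pointwise and acting trivially on the quotient by it. -/
def radA (L : Line F q) : Subgroup G where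
  carrier := {g | (∀ x ∈ L.1, ap g x = x) ∧ ∀ x, ap g x - x ∈ L.1}
  one_mem' := ⟨fun x _ => ap_one x, fun x => by rw [ap_one, sub_self]; exact L.1.zero_mem⟩
  mul_mem' {a b} ha hb := by
    refine ⟨fun x hx => by rw [ap_mul, hb.1 x hx, ha.1 x hx], fun x => ?_⟩
    have : ap (a * b) x - x = (ap a (ap b x) - ap b x) + (ap b x - x) := by rw [ap_mul]; abel
    rw [this]
    exact L.1.add_mem (ha.2 _) (hb.2 x)
  inv_mem' {a} ha := by
    refine ⟨fun x hx => by nth_rw 1 [← ha.1 x hx]; exact ap_inv_ap a x, fun x => ?_⟩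
    have h := L.1.neg_mem (ha.2 (ap a⁻¹ x))
    rwa [ap_ap_inv, neg_sub] at h

theorem mem_radA {L : Line F q} {g : G} :
    g ∈ radA L ↔ (∀ x ∈ L.1, ap g x = x) ∧ ∀ x, ap g x - x ∈ L.1 := Iff.rfl

theorem conj_mem_radA {L : Line F q} {a : G} (ha : a ∈ radA L) (g : G) :
    g * a * g⁻¹ ∈ radA (g • L) := by
  refine ⟨fun x hx => ?_, fun x => ?_⟩
  · rw [ap_mul, ap_mul, ha.1 _ ((mem_smul_iff g L).1 hx), ap_ap_inv]
  · have : ap (g * a * g⁻¹) x - x = ap g (ap a (ap g⁻¹ x) - ap g⁻¹ x) := by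
      rw [ap_sub, ap_ap_inv, ap_mul, ap_mul]
    rw [this]
    exact ap_mem_smul g L (ha.2 _)

theorem tv_mem_radA (hF : Fintype.card F = q ^ 2) {L : Line F q} {x : 𝕍} (hxL : x ∈ L.1) {c : F}
    (hx : hf x x = 0) (hc : c + c ^ q = 0) : tv hF hx hc ∈ radA L := by
  refine ⟨fun y hy => ?_, fun y => ?_⟩
  · rw [ap_tv, L.2.2 y hy x hxL, mul_zero, zero_smul, add_zero]
  · rw [ap_tv, add_sub_cancel_left]
    exact L.1.smul_mem _ hxL

theorem eSU_mem_radA (hF : Fintype.card F = q ^ 2) {L : Line F q} {x y : 𝕍} (hxL : x ∈ L.1)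
    (hyL : y ∈ L.1) {α : F} (h : ESpec q x y α) : eSU hF h ∈ radA L := by
  refine ⟨fun s hs => ?_, fun s => ?_⟩
  · rw [ap_eSU, L.2.2 s hs x hxL, L.2.2 s hs y hyL]
    simp
  · rw [ap_eSU]
    have e : s + hermForm 4 F q s x • y - hermForm 4 F q s y • x + (α * hermForm 4 F q s x) • x - s
        = hermForm 4 F q s x • y - hermForm 4 F q s y • x + (α * hermForm 4 F q s x) • x := by abel
    rw [e]
    exact L.1.add_mem (L.1.sub_mem (L.1.smul_mem _ hyL) (L.1.smul_mem _ hxL)) (L.1.smul_mem _ hxL)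

theorem card_radA (hF : Fintype.card F = q ^ 2) (L : Line F q) : Nat.card (radA L) = q ^ 4 := by
  obtain ⟨u, v, w, z, hb, hL⟩ := exists_hb_line' hF L
  have hu : u ∈ L.1 := hL ▸ Submodule.subset_span (Set.mem_insert u _)
  have hw : w ∈ L.1 := hL ▸ Submodule.subset_span (Set.mem_insert_of_mem _ rfl)
  let T := {x : F // x + x ^ q = 0}
  -- coordinates of an element
  have hv : ∀ g : radA L, ap g.1 v = v + hf (ap g.1 v) v • u + hf (ap g.1 v) z • w := by
    intro g
    have h := g.2.2 v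
    rw [hL, hb.mem_line hF] at h
    conv_lhs => rw [hb.decomp hF (ap g.1 v)]
    have e1 : hf (ap g.1 v) u = 1 := by
      have h1 := h.1
      rwa [herm_sub_left, hb.vu, sub_eq_zero] at h1
    have e2 : hf (ap g.1 v) w = 0 := by
      have h2 := h.2
      rwa [herm_sub_left, hb.vw hF, sub_zero] at h2
    rw [e1, e2]
    module
  have hz : ∀ g : radA L, ap g.1 z = z + hf (ap g.1 z) v • u + hf (ap g.1 z) z • w := by
    intro g
    have h := g.2.2 z
    rw [hL, hb.mem_line hF] at h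
    conv_lhs => rw [hb.decomp hF (ap g.1 z)]
    have e1 : hf (ap g.1 z) u = 0 := by
      have h1 := h.1
      rwa [herm_sub_left, hb.zu, sub_zero] at h1
    have e2 : hf (ap g.1 z) w = 1 := by
      have h2 := h.2
      rwa [herm_sub_left, hb.zw, sub_eq_zero] at h2
    rw [e1, e2]
    module
  have ha : ∀ g : radA L, hf (ap g.1 v) v + hf (ap g.1 v) v ^ q = 0 := by
    intro g
    have h := herm_ap g.1 v v
    rw [hv g] at h
    simp only [herm_add_left, herm_add_right hF, herm_smul_left, herm_smul_right, hb.uu, hb.vv,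
      hb.vu, hb.uv hF, hb.uw hF, hb.vw hF, hb.wu, hb.wv, hb.ww, mul_zero, mul_one, add_zero,
      zero_add] at h
    exact h
  have hc : ∀ g : radA L, hf (ap g.1 z) z + hf (ap g.1 z) z ^ q = 0 := by
    intro g
    have h := herm_ap g.1 z z
    rw [hz g] at h
    simp only [herm_add_left, herm_add_right hF, herm_smul_left, herm_smul_right, hb.uu, hb.zz,
      hb.zu, hb.uz hF, hb.uw hF, hb.zw, hb.wz hF, hb.wu, hb.ww, mul_zero, mul_one, add_zero,
      zero_add] at h
    exact h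
  have hbc : ∀ g : radA L, hf (ap g.1 z) v = -(hf (ap g.1 v) z ^ q) := by
    intro g
    have h := herm_ap g.1 z v
    rw [hv g, hz g] at h
    simp only [herm_add_left, herm_add_right hF, herm_smul_left, herm_smul_right, hb.uu,
      hb.zv, hb.zu, hb.uv hF, hb.uw hF, hb.zw, hb.wu, hb.wv, hb.ww, mul_zero, mul_one, add_zero,
      zero_add] at h
    linear_combination h
  let φ : radA L → T × F × T := fun g =>
    (⟨hf (ap g.1 v) v, ha g⟩, hf (ap g.1 v) z, ⟨hf (ap g.1 z) z, hc g⟩)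
  have hinj : Function.Injective φ := by
    intro g g' h
    simp only [φ, Prod.mk.injEq, Subtype.mk.injEq] at h
    obtain ⟨h1', h2, h3'⟩ := h
    have h1 := congrArg Subtype.val h1'
    have h3 := congrArg Subtype.val h3'
    simp only at h1 h3
    refine Subtype.ext (ap_ext fun x => ?_)
    have e1 : ap g.1 v = ap g'.1 v := by rw [hv g, hv g', h1, h2]
    have e2 : ap g.1 z = ap g'.1 z := by rw [hz g, hz g', hbc g, hbc g', h2, h3]
    rw [hb.decomp hF x]
    simp only [ap_add, ap_smul, e1, e2, g.2.1 u hu, g'.2.1 u hu, g.2.1 w hw, g'.2.1 w hw]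
  have hsurj : Function.Surjective φ := by
    rintro ⟨⟨a, ha'⟩, b, ⟨c, hc'⟩⟩
    have hspec : ESpec q u (b • w) 0 := ⟨hb.uu, by rw [herm_smul_left, hb.wu, mul_zero], by
      rw [herm_self_smul, hb.ww, mul_zero, zero_pow (q_ne_zero hF)]; simp⟩
    refine ⟨⟨tv hF hb.uu ha' * eSU hF hspec * tv hF hb.ww hc', mul_mem (mul_mem
      (tv_mem_radA hF hu hb.uu ha') (eSU_mem_radA hF hu (L.1.smul_mem b hw) hspec))
      (tv_mem_radA hF hw hb.ww hc')⟩, ?_⟩
    simp only [φ, Prod.mk.injEq, Subtype.mk.injEq]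
    refine ⟨?_, ?_, ?_⟩ <;>
    simp only [ap_mul, ap_tv, ap_eSU, herm_add_left, herm_sub_left, herm_smul_left,
      herm_smul_right, hb.uu, hb.vu, hb.vv, hb.uv hF, hb.uw hF, hb.vw hF, hb.uz hF, hb.vz hF,
      hb.wu, hb.wv, hb.ww, hb.wz hF, hb.zu, hb.zv, hb.zw, hb.zz, mul_zero, mul_one, one_mul,
      add_zero, zero_add, sub_zero, zero_pow (q_ne_zero hF), zero_mul, zero_smul]
  rw [Nat.card_congr (Equiv.ofBijective φ ⟨hinj, hsurj⟩), Nat.card_prod, Nat.card_prod,
    Nat.card_eq_fintype_card (α := F), hF, card_trace_zero hF]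
  ring

end Cfsg.Agent.H52.U4
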