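import Cfsg.Agent.H52.U4Count

/-!
# Subgroups of `SU(4, q)` meeting no line radical have large index
-/

set_option autoImplicit false
set_option maxHeartbeats 1000000
set_option linter.unusedSectionVars false

namespace Cfsg.Agent.H52.U4

open Cfsg Matrix
open Cfsg.Agent.Unitary

variable {F : Type*} [Field F] [Fintype F] {q : ℕ}

local notation "𝕍" => (Fin 4 → F)
local notation "hf" => hermForm 4 F q
local notation "G" => SU 4 F q

theorem eSU_congr (hF : Fintype.card F = q ^ 2) {u w w' : 𝕍} {α β : F} (hw : w = w') (hα : α = β)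
    (h : ESpec q u w α) (h' : ESpec q u w' β) : eSU hF h = eSU hF h' := by
  subst hw hα
  rfl

theorem eSU_zero_zero (hF : Fintype.card F = q ^ 2) {u : 𝕍} (h : ESpec q u 0 0) :
    eSU hF h = 1 := by
  refine ap_ext fun x => ?_
  rw [ap_eSU, ap_one, herm_zero_right hF]
  simp

section plane
variable (hF : Fintype.card F = q ^ 2) {u v w z : Fin 4 → F}
include hF

/-- Coordinates on the plane orthogonal to the first hyperbolic pair. -/
theorem HB.plane (hb : HB q u v w z) {x : 𝕍} (hxu : hf x u = 0) (hxv : hf x v = 0) :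
    x = hf x z • w + hf x w • z := by
  conv_lhs => rw [hb.decomp hF x, hxu, hxv]
  module

theorem HB.plane_self (hb : HB q u v w z) (a b : F) :
    hf (a • w + b • z) (a • w + b • z) = a * b ^ q + b * a ^ q := by
  simp only [herm_add_left, herm_add_right hF, herm_smul_left, herm_smul_right, hb.ww, hb.zz,
    hb.wz hF, hb.zw, mul_zero, mul_one, add_zero, zero_add]
  ring

theorem HB.plane_ortho (hb : HB q u v w z) {x : 𝕍} (hxu : hf x u = 0) (hxv : hf x v = 0)
    (hx : hf x x ≠ 0) :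
    ∃ y, hf y u = 0 ∧ hf y v = 0 ∧ hf y x = 0 ∧ hf y y = 1 := by
  let a := hf x z
  let b := hf x w
  have he : x = a • w + b • z := hb.plane hF hxu hxv
  let y0 := a ^ q • w + (-(b ^ q)) • z
  have h1 : hf y0 x = 0 := by
    rw [he]
    simp only [y0, herm_add_left, herm_add_right hF, herm_smul_left, herm_smul_right, hb.ww, hb.zz,
      hb.wz hF, hb.zw, mul_zero, mul_one, add_zero, zero_add]
    ring
  have h2 : hf y0 y0 = -hf x x := by
    rw [hb.plane_self hF, he, hb.plane_self hF, neg_pow_q hF, pow_q_q hF, pow_q_q hF]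
    ring
  obtain ⟨c, hc⟩ := exists_norm_eq hF (a := (-hf x x)⁻¹)
    (by rw [inv_pow, neg_pow_q hF, herm_self_fixed hF])
  refine ⟨c • y0, ?_, ?_, ?_, ?_⟩
  · simp [y0, herm_smul_left, herm_add_left, herm_neg_left, hb.wu, hb.zu]
  · simp [y0, herm_smul_left, herm_add_left, herm_neg_left, hb.wv, hb.zv]
  · rw [herm_smul_left, h1, mul_zero]
  · rw [herm_self_smul, h2, hc, inv_mul_cancel₀ (neg_ne_zero.2 hx)]

theorem HB.indep_ortho (hb : HB q u v w z) {x y : 𝕍} (hxu : hf x u = 0) (hxv : hf x v = 0)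
    (hyu : hf y u = 0) (hyv : hf y v = 0) (hyx : hf y x = 0) (hx : hf x x ≠ 0) (hy : hf y y ≠ 0) :
    LinearIndependent F ![u, v, x, y] := by
  rw [Fintype.linearIndependent_iff]
  intro g hg
  simp only [Fin.sum_univ_four, Matrix.cons_val_zero, Matrix.cons_val_one, Matrix.cons_val] at hg
  have e : ∀ s, hf (g 0 • u + g 1 • v + g 2 • x + g 3 • y) s = 0 := fun s => by
    rw [hg, herm_zero_left]
  have e1 := e u
  have e2 := e v
  have e3 := e x
  have e4 := e y
  simp only [herm_add_left, herm_smul_left, hb.uu, hb.vu, hb.uv hF, hb.vv, hxu, hxv, hyu, hyv, hyx,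
    (herm_eq_zero_symm hF).1 hxu, (herm_eq_zero_symm hF).1 hxv, (herm_eq_zero_symm hF).1 hyu,
    (herm_eq_zero_symm hF).1 hyv, (herm_eq_zero_symm hF).1 hyx, mul_zero, mul_one, add_zero,
    zero_add, mul_eq_zero, hx, hy, or_false] at e1 e2 e3 e4
  intro i
  fin_cases i <;> assumption

theorem exists_move (hb : HB q u v w z) {x₀ x : 𝕍} (hu0 : hf x₀ u = 0) (hv0 : hf x₀ v = 0)
    (h0 : hf x₀ x₀ ≠ 0) (hxu : hf x u = 0) (hxv : hf x v = 0) (hx : hf x x ≠ 0) :
    ∃ (g : G) (m : F), m ≠ 0 ∧ ap g u = m • u ∧ m ^ q • ap g x₀ = x := by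
  obtain ⟨y, hyu, hyv, hyx, hyy⟩ := hb.plane_ortho hF hu0 hv0 h0
  obtain ⟨y', hyu', hyv', hyx', hyy'⟩ := hb.plane_ortho hF hxu hxv hx
  obtain ⟨m, hm⟩ := exists_norm_eq hF (a := hf x x / hf x₀ x₀)
    (by rw [div_pow, herm_self_fixed hF, herm_self_fixed hF])
  have hm0 : m ≠ 0 := by
    rintro rfl
    rw [zero_mul] at hm
    exact div_ne_zero hx h0 hm.symm
  have hmq : m ^ q ≠ 0 := pow_ne_zero _ hm0
  have hx' : hf x x = m * m ^ q * hf x₀ x₀ := by rw [hm, div_mul_cancel₀ _ h0]
  have hind := hb.indep_ortho hF hu0 hv0 hyu hyv hyx h0 (by rw [hyy]; exact one_ne_zero)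
  obtain ⟨g, d, ⟨h00, h02⟩, hg⟩ := exists_SU_map_gram hF (fun d => d 0 = 1 ∧ d 2 = 1)
    (a := ![u, v, x₀, y]) (b := ![m • u, (m ^ q)⁻¹ • v, (m ^ q)⁻¹ • x, y']) hind (by
      intro i j
      fin_cases i <;> fin_cases j <;>
        simp [herm_smul_left, herm_smul_right, hb.uu, hb.vu, hb.uv hF, hb.vv, hu0, hv0, hyu, hyv,
          hyx, hyy, hxu, hxv, hyu', hyv', hyx', hyy', (herm_eq_zero_symm hF).1 hu0,
          (herm_eq_zero_symm hF).1 hv0, (herm_eq_zero_symm hF).1 hyu, (herm_eq_zero_symm hF).1 hyv,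
          (herm_eq_zero_symm hF).1 hyx, (herm_eq_zero_symm hF).1 hxu, (herm_eq_zero_symm hF).1 hxv,
          (herm_eq_zero_symm hF).1 hyu', (herm_eq_zero_symm hF).1 hyv',
          (herm_eq_zero_symm hF).1 hyx', pow_q_q hF, hm0, hx']
      all_goals field_simp) (by
      intro c hc
      refine ⟨![1, 1, 1, c], ⟨rfl, rfl⟩, ?_, by simp [Fin.prod_univ_four]⟩
      intro i j
      fin_cases i <;> fin_cases j <;>
        simp [herm_smul_left, herm_smul_right, hb.uu, hb.vu, hb.uv hF, hb.vv, hu0, hv0, hyu, hyv,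
          hyx, hyy, (herm_eq_zero_symm hF).1 hu0, (herm_eq_zero_symm hF).1 hv0,
          (herm_eq_zero_symm hF).1 hyu, (herm_eq_zero_symm hF).1 hyv,
          (herm_eq_zero_symm hF).1 hyx, hc, (mul_comm _ _).trans hc])
  have e0 := hg 0
  have e2 := hg 2
  rw [h00, one_smul] at e0
  rw [h02, one_smul] at e2
  simp only [Matrix.cons_val_zero, Matrix.cons_val] at e0 e2
  exact ⟨g, m, hm0, e0, by rw [e2, smul_inv_smul₀ hmq]⟩

end plane

/-- A subgroup meeting no line radical has index at least `(q + 1)(q³ + 1)`. -/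
theorem index_ge_of_semiregular (hF : Fintype.card F = q ^ 2) (H : Subgroup G)
    (hno : ∀ L : Line F q, ∀ a ∈ radA L, a ∈ H → a = 1) :
    (q + 1) * (q ^ 3 + 1) ≤ H.index := by
  classical
  have hq := two_le_q hF
  haveI : Fintype (G ⧸ H) := Fintype.ofFinite _
  -- elements of line radicals fix no coset
  have hfix : ∀ (L : Line F q) (a : G), a ∈ radA L → ∀ ξ : G ⧸ H, a • ξ = ξ → a = 1 := by
    intro L a ha ξ hξ
    induction ξ using QuotientGroup.induction_on with
    | H g =>
      rw [MulAction.Quotient.smul_coe, smul_eq_mul, eq_comm, QuotientGroup.eq] at hξ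
      have h1 := conj_mem_radA ha g⁻¹
      rw [inv_inv] at h1
      have h2 := hno _ _ h1 (by rwa [← mul_assoc] at hξ)
      calc a = g * (g⁻¹ * a * g) * g⁻¹ := by group
        _ = 1 := by rw [h2]; group
  obtain ⟨u₀, hu00, hu₀⟩ := exists_isotropic_top (n := 4) hF (by norm_num)
  obtain ⟨v, w₀, z₀, hb⟩ := exists_hb hF hu00 hu₀
  have hL0 : u₀ ∈ (hb.line hF).1 := Submodule.subset_span (Set.mem_insert _ _)
  -- stabilising parameters
  let St : G ⧸ H → 𝕍 → Prop := fun ξ x =>
    hf x v = 0 ∧ ∃ (α : F) (h : ESpec q u₀ x α), eSU hF h • ξ = ξ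
  have hzero : ∀ (ξ : G ⧸ H) (α : F) (h : ESpec q u₀ 0 α), eSU hF h • ξ = ξ → α = 0 := by
    intro ξ α h hξ
    have h1 := hfix _ _ (eSU_mem_radA hF hL0 (Submodule.zero_mem _) h) ξ hξ
    have h2 := congrArg (fun g => hermForm 4 F q (ap g v) v) h1
    simp only [ap_eSU, ap_one, herm_add_left, herm_sub_left, herm_smul_left, hb.vu, hb.uv hF,
      hb.vv, herm_zero_left, herm_zero_right hF, mul_zero, mul_one, add_zero, sub_zero,
      zero_add] at h2
    exact h2
  have hinv : ∀ (ξ : G ⧸ H) {x : 𝕍} {α : F} (h : ESpec q u₀ x α), eSU hF h • ξ = ξ →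
      ∃ h' : ESpec q u₀ (-x) (α ^ q), eSU hF h' • ξ = ξ := by
    intro ξ x α h hξ
    have h' : ESpec q u₀ (-x) (α ^ q) := ⟨h.iso, by rw [herm_neg_left, h.orth, neg_zero], by
      rw [pow_q_q hF, herm_neg_left, herm_neg_right hF, neg_neg]
      linear_combination h.tr⟩
    refine ⟨h', ?_⟩
    have e : eSU hF h * eSU hF h' = 1 := by
      rw [eSU_mul hF h h' (eSpec_add hF h h')]
      have hz : ESpec q u₀ (0 : 𝕍) 0 := ⟨h.iso, herm_zero_left _, by
        simp [herm_zero_left, q_ne_zero hF]⟩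
      rw [← eSU_zero_zero hF hz]
      refine eSU_congr hF (add_neg_cancel x) ?_ _ _
      rw [herm_neg_left]
      linear_combination h.tr
    nth_rw 1 [← hξ]
    rw [← mul_smul]
    rw [show eSU hF h' * eSU hF h = 1 from mul_eq_one_comm.1 e, one_smul]
  have huniq : ∀ (ξ : G ⧸ H) (x : 𝕍) (α β : F) (h : ESpec q u₀ x α) (h' : ESpec q u₀ x β),
      eSU hF h • ξ = ξ → eSU hF h' • ξ = ξ → α = β := by
    intro ξ x α β h h' hξ hξ'
    obtain ⟨hn, hnξ⟩ := hinv ξ h hξ
    have hs := eSpec_add hF hn h'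
    have h1 : eSU hF hs • ξ = ξ := by rw [← eSU_mul hF hn h' hs, mul_smul, hξ', hnξ]
    have hs' : ESpec q u₀ (0 : 𝕍) (α ^ q + β - hf x (-x)) := by
      have := hs
      rwa [neg_add_cancel] at this
    rw [eSU_congr hF (neg_add_cancel x) rfl hs hs'] at h1
    have h2 := hzero ξ _ hs' h1
    rw [herm_neg_right hF] at h2
    linear_combination h.tr - h2
  let R : G ⧸ H → AddSubgroup 𝕍 := fun ξ =>
    { carrier := {x | St ξ x}
      zero_mem' := ⟨herm_zero_left _, 0, ⟨hb.uu, herm_zero_left _, by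
        simp [herm_zero_left, q_ne_zero hF]⟩, by rw [eSU_zero_zero hF]; exact one_smul _ _⟩
      add_mem' := fun {x y} ⟨hx, α, h, hξ⟩ ⟨hy, β, h', hξ'⟩ =>
        ⟨by rw [herm_add_left, hx, hy, add_zero], _, eSpec_add hF h h', by
          rw [← eSU_mul hF h h' (eSpec_add hF h h'), mul_smul, hξ', hξ]⟩
      neg_mem' := fun {x} ⟨hx, α, h, hξ⟩ => by
        obtain ⟨h', hξ'⟩ := hinv ξ h hξ
        exact ⟨by rw [herm_neg_left, hx, neg_zero], _, h', hξ'⟩ }
  have haniso : ∀ ξ, ∀ x ∈ R ξ, hf x x = 0 → x = 0 := by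
    rintro ξ x ⟨hxv, α, h, hξ⟩ hxx
    by_contra hx0
    have hind : LinearIndependent F ![u₀, x] := by
      rw [LinearIndependent.pair_iff' hu00]
      intro a ha
      rw [← ha, herm_smul_left, hb.uv hF, mul_one] at hxv
      exact hx0 (by rw [← ha, hxv, zero_smul])
    obtain ⟨v', z', hb'⟩ := exists_hb_adj hF hind hb.uu hxx ((herm_eq_zero_symm hF).1 h.orth)
    have h1 := hfix _ _ (eSU_mem_radA hF (L := hb'.line hF)
      (Submodule.subset_span (Set.mem_insert _ _))
      (Submodule.subset_span (Set.mem_insert_of_mem _ rfl)) h) ξ hξ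
    have h2 := congrArg (fun g => ap g v) h1
    simp only [ap_eSU, ap_one, hb.vu, (herm_eq_zero_symm hF).1 hxv, one_smul, zero_smul, sub_zero,
      mul_one] at h2
    have h3 : x = -(α • u₀) := by linear_combination (norm := module) h2
    rw [h3, herm_neg_left, herm_smul_left, hb.uv hF, mul_one, neg_eq_zero] at hxv
    exact hx0 (by rw [h3, hxv, zero_smul, neg_zero])
  have hreal : ∀ ξ, ∀ x ∈ R ξ, ∀ y ∈ R ξ, hf x y = hf y x := by
    rintro ξ x ⟨hx, α, h, hξ⟩ y ⟨hy, β, h', hξ'⟩
    have s1 := eSpec_add hF h h'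
    have s2 := eSpec_add hF h' h
    have s2' : ESpec q u₀ (x + y) (β + α - hf x y) := by rw [add_comm x y]; exact s2
    have e1 : eSU hF s1 • ξ = ξ := by rw [← eSU_mul hF h h' s1, mul_smul, hξ', hξ]
    have e2 : eSU hF s2' • ξ = ξ := by
      rw [← eSU_congr hF (add_comm y x) rfl s2 s2', ← eSU_mul hF h' h s2, mul_smul, hξ, hξ']
    have := huniq ξ _ _ _ s1 s2' e1 e2
    linear_combination this
  have hplane : ∀ ξ, ∀ x ∈ R ξ, x = hf x z₀ • w₀ + hf x w₀ • z₀ := by
    rintro ξ x ⟨hxv, α, h, -⟩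
    exact hb.plane hF h.orth hxv
  -- the size of a stabiliser
  have hRle : ∀ ξ, Nat.card (R ξ) ≤ q ^ 2 := by
    intro ξ
    by_cases hne : ∃ x₀ ∈ R ξ, x₀ ≠ 0
    swap
    · push Not at hne
      have : Nat.card (R ξ) = 1 := by
        rw [Nat.card_eq_one_iff_unique]
        exact ⟨⟨fun a b => Subtype.ext ((hne _ a.2).trans (hne _ b.2).symm)⟩, ⟨0⟩⟩
      rw [this]; exact Nat.one_le_pow _ _ (by omega)
    obtain ⟨x₀, hx₀, hx₀0⟩ := hne
    have hx₀x : hf x₀ x₀ ≠ 0 := fun h => hx₀0 (haniso ξ x₀ hx₀ h)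
    let φ : R ξ →+ (fixK hF) :=
      { toFun := fun x => ⟨hf x.1 x₀, by
          rw [mem_fixK hF, herm_swap hF]; exact (hreal ξ _ x.2 _ hx₀).symm⟩
        map_zero' := Subtype.ext (herm_zero_left _)
        map_add' := fun a b => Subtype.ext (herm_add_left _ _ _) }
    have hker : Nat.card φ.ker ≤ q := by
      by_cases hk : ∀ y : φ.ker, y = 0
      · have : Nat.card φ.ker = 1 := by
          rw [Nat.card_eq_one_iff_unique]
          exact ⟨⟨fun a b => (hk a).trans (hk b).symm⟩, ⟨0⟩⟩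
        omega
      push Not at hk
      obtain ⟨⟨⟨y, hy⟩, hyk⟩, hy0⟩ := hk
      have hy0' : y ≠ 0 := fun h => hy0 (Subtype.ext (Subtype.ext h))
      have hyy : hf y y ≠ 0 := fun h => hy0' (haniso ξ y hy h)
      have hyx : hf y x₀ = 0 := congrArg Subtype.val hyk
      have hscal : ∀ k : φ.ker, k.1.1 = (hf k.1.1 y / hf y y) • y := by
        intro k
        obtain ⟨⟨x, hx⟩, hk⟩ := k
        have hxx : hf x x₀ = 0 := congrArg Subtype.val hk
        obtain ⟨hx₀v, _, hs₀, -⟩ := hx₀
        obtain ⟨hyv, _, hsy, -⟩ := hy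
        obtain ⟨hxv, _, hsx, -⟩ := hx
        have hind := hb.indep_ortho hF hs₀.orth hx₀v hsy.orth hyv hyx hx₀x hyy
        show x = _
        refine sub_eq_zero.1 (eq_zero_of_forall_right hF fun t => ?_)
        have ht : t ∈ Submodule.span F (Set.range ![u₀, v, x₀, y]) := by
          rw [Submodule.eq_top_of_finrank_eq (S := Submodule.span F (Set.range ![u₀, v, x₀, y])) (by
            rw [finrank_span_eq_card hind, Fintype.card_fin, Module.finrank_fin_fun])]
          trivial
        obtain ⟨c, rfl⟩ := (Submodule.mem_span_range_iff_exists_fun F).1 ht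
        rw [herm_sum_right hF]
        refine Finset.sum_eq_zero fun i _ => ?_
        rw [herm_smul_right]
        fin_cases i <;>
          simp [herm_sub_left, herm_smul_left, hsx.orth, hxv, hxx, hsy.orth, hyv, hyx, hyy]
      let ψ : φ.ker → (fixK hF) := fun k => ⟨hf k.1.1 y / hf y y, by
        rw [mem_fixK hF, div_pow, herm_self_fixed hF, herm_swap hF]
        rw [hreal ξ _ k.1.2 _ hy]⟩
      have hψ : Function.Injective ψ := fun a b hab => by
        have := congrArg Subtype.val hab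
        refine Subtype.ext (Subtype.ext ?_)
        rw [hscal a, hscal b]
        exact congrArg (fun c : F => c • y) this
      exact (Nat.card_le_card_of_injective ψ hψ).trans (card_fixK hF).le
    have hmul := AddSubgroup.card_mul_index φ.ker
    rw [AddSubgroup.index_ker] at hmul
    rw [← hmul, pow_two]
    exact Nat.mul_le_mul hker ((Nat.card_le_card_of_injective _ Subtype.val_injective).trans
      (card_fixK hF).le)
  -- the parameter set
  let S := {p : 𝕍 × F // hf p.1 v = 0 ∧ ESpec q u₀ p.1 p.2}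
  let e : S → G := fun p => eSU hF p.2.2
  have hS : Nat.card S = q ^ 5 := by
    have hpl : ∀ a b : F, hf (a • w₀ + b • z₀) u₀ = 0 ∧ hf (a • w₀ + b • z₀) v = 0 := fun a b => by
      constructor <;> simp [herm_add_left, herm_smul_left, hb.wu, hb.zu, hb.wv, hb.zv]
    choose α0 hα0 using fun ab : F × F => exists_alpha hF hb.uu (hpl ab.1 ab.2).1
    let T := {x : F // x + x ^ q = 0}
    let φ : (F × F) × T → S := fun p => ⟨(p.1.1 • w₀ + p.1.2 • z₀, α0 p.1 + p.2.1),
      (hpl _ _).2, ⟨hb.uu, (hpl _ _).1, by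
        rw [add_pow_q hF]; linear_combination (hα0 p.1).tr + p.2.2⟩⟩
    have hφ : Function.Bijective φ := by
      constructor
      · rintro ⟨⟨a, b⟩, t, ht⟩ ⟨⟨a', b'⟩, t', ht'⟩ h
        obtain ⟨h1, h2⟩ := Prod.mk.injEq .. ▸ congrArg Subtype.val h
        have ea : a = a' := by
          have := congrArg (fun x => hermForm 4 F q x z₀) h1
          simpa [herm_add_left, herm_smul_left, hb.wz hF, hb.zz] using this
        have eb : b = b' := by
          have := congrArg (fun x => hermForm 4 F q x w₀) h1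
          simpa [herm_add_left, herm_smul_left, hb.ww, hb.zw] using this
        subst ea eb
        simp only at h2
        obtain rfl : t = t' := add_left_cancel h2
        rfl
      · rintro ⟨⟨x, α⟩, hxv, hs⟩
        have hx := hb.plane hF hs.orth hxv
        refine ⟨((hf x z₀, hf x w₀), ⟨α - α0 (hf x z₀, hf x w₀), ?_⟩), ?_⟩
        · have h2 := (hα0 (hf x z₀, hf x w₀)).tr
          rw [← hx] at h2
          rw [sub_pow_q hF]
          linear_combination hs.tr - h2
        · refine Subtype.ext (Prod.ext hx.symm ?_)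
          show α0 _ + (α - α0 _) = α
          ring
    rw [← Nat.card_congr (Equiv.ofBijective φ hφ), Nat.card_prod, Nat.card_prod,
      Nat.card_eq_fintype_card (α := F), hF, card_trace_zero hF]
    ring
  -- fibres of the action of the parameters
  have hfibre : ∀ ξ η : G ⧸ H, Nat.card {p : S // e p • ξ = η} ≤ Nat.card (R ξ) := by
    intro ξ η
    rcases isEmpty_or_nonempty {p : S // e p • ξ = η} with hE | ⟨⟨p₀, hp₀⟩⟩
    · simp
    obtain ⟨⟨x₀, α₀⟩, hxv₀, hs₀⟩ := p₀
    have hn : ESpec q u₀ (-x₀) (α₀ ^ q) := ⟨hb.uu, by rw [herm_neg_left, hs₀.orth, neg_zero], by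
      rw [pow_q_q hF, herm_neg_left, herm_neg_right hF, neg_neg]
      linear_combination hs₀.tr⟩
    have hne : eSU hF hn * eSU hF hs₀ = 1 := by
      rw [eSU_mul hF hn hs₀ (eSpec_add hF hn hs₀)]
      have hz : ESpec q u₀ (0 : 𝕍) 0 := ⟨hb.uu, herm_zero_left _, by
        simp [herm_zero_left, q_ne_zero hF]⟩
      rw [← eSU_zero_zero hF hz]
      refine eSU_congr hF (neg_add_cancel x₀) ?_ _ _
      rw [herm_neg_right hF]
      linear_combination hs₀.tr
    have hmem : ∀ p : {p : S // e p • ξ = η},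
        eSU hF (eSpec_add hF hn p.1.2.2) • ξ = ξ := by
      intro p
      rw [← eSU_mul hF hn p.1.2.2 (eSpec_add hF hn p.1.2.2), mul_smul]
      rw [show eSU hF p.1.2.2 • ξ = η from p.2, ← hp₀]
      show eSU hF hn • eSU hF hs₀ • ξ = ξ
      rw [← mul_smul, hne, one_smul]
    refine Nat.card_le_card_of_injective (fun p => (⟨-x₀ + p.1.1.1,
      by rw [herm_add_left, herm_neg_left, hxv₀, p.1.2.1, neg_zero, add_zero], _,
      eSpec_add hF hn p.1.2.2, hmem p⟩ : R ξ)) ?_
    intro p p' h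
    have h1 : p.1.1.1 = p'.1.1.1 := add_left_cancel (congrArg Subtype.val h)
    refine Subtype.ext (Subtype.ext (Prod.ext h1 ?_))
    have hs' : ESpec q u₀ (-x₀ + p.1.1.1) (α₀ ^ q + p'.1.1.2 - hf p'.1.1.1 (-x₀)) := by
      rw [h1]; exact eSpec_add hF hn p'.1.2.2
    have h3 := huniq ξ _ _ _ (eSpec_add hF hn p.1.2.2) hs' (hmem p) (by
      rw [eSU_congr hF (by rw [h1]) rfl hs' (eSpec_add hF hn p'.1.2.2)]
      exact hmem p')
    rw [← h1] at h3
    linear_combination h3
  have horbit : ∀ ξ, q ^ 5 ≤ Nat.card (Set.range fun p : S => e p • ξ) * Nat.card (R ξ) := by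
    intro ξ
    haveI : Fintype (Set.range fun p : S => e p • ξ) := Fintype.ofFinite _
    rw [← hS, Nat.card_congr (Equiv.sigmaFiberEquiv
      (Set.rangeFactorization fun p : S => e p • ξ)).symm, Nat.card_sigma]
    refine (Finset.sum_le_card_nsmul _ _ (Nat.card (R ξ)) fun η _ => ?_).trans (le_of_eq ?_)
    · refine le_trans (le_of_eq (Nat.card_congr (Equiv.subtypeEquivRight fun p => ?_)))
        (hfibre ξ η.1)
      exact Subtype.ext_iff
    · rw [Finset.card_univ, smul_eq_mul, ← Nat.card_eq_fintype_card]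
  -- the translates of the parameters keep their vectors
  have hQ : ∀ ξ x, x ∈ R ξ → ∀ p : S, x ∈ R (e p • ξ) := by
    rintro ξ x ⟨hxv, α, h, hξ⟩ ⟨⟨y, β⟩, hyv, hs⟩
    refine ⟨hxv, α + hf y x - hf x y, ⟨hb.uu, h.orth, ?_⟩, ?_⟩
    · rw [sub_pow_q hF, add_pow_q hF, herm_swap hF, herm_swap hF]
      linear_combination h.tr
    · have h'' : ESpec q u₀ x (α + hf y x - hf x y) := ⟨hb.uu, h.orth, by
        rw [sub_pow_q hF, add_pow_q hF, herm_swap hF, herm_swap hF]
        linear_combination h.tr⟩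
      show eSU hF h'' • eSU hF hs • ξ = eSU hF hs • ξ
      conv_rhs => rw [← hξ]
      rw [← mul_smul, ← mul_smul, eSU_mul hF h'' hs (eSpec_add hF h'' hs),
        eSU_mul hF hs h (eSpec_add hF hs h)]
      congr 1
      refine eSU_congr hF (add_comm x y) ?_ _ _
      ring
  -- anisotropic vectors of the plane
  let X := {x : 𝕍 // hf x u₀ = 0 ∧ hf x v = 0 ∧ hf x x ≠ 0}
  haveI : Fintype X := Fintype.ofFinite _
  have hX : Nat.card X + ((q + 1) * (q ^ 2 - 1) + 1) = q ^ 4 := by
    rw [← card_iso_plane hF hb, ← Finite.card_option, ← Nat.card_sum]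
    rw [show q ^ 4 = Nat.card (F × F) by
      rw [Nat.card_prod, Nat.card_eq_fintype_card, hF]; ring]
    refine Nat.card_congr
      { toFun := fun s => match s with
          | Sum.inl x => (hf x.1 z₀, hf x.1 w₀)
          | Sum.inr none => (0, 0)
          | Sum.inr (some x) => (hf x.1 z₀, hf x.1 w₀)
        invFun := fun p => if h : hf (p.1 • w₀ + p.2 • z₀) (p.1 • w₀ + p.2 • z₀) = 0 then
          (if h0 : p.1 • w₀ + p.2 • z₀ = 0 then Sum.inr none else Sum.inr (some ⟨_, h0, h,
            by simp [herm_add_left, herm_smul_left, hb.wu, hb.zu],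
            by simp [herm_add_left, herm_smul_left, hb.wv, hb.zv]⟩))
          else Sum.inl ⟨_, by simp [herm_add_left, herm_smul_left, hb.wu, hb.zu],
            by simp [herm_add_left, herm_smul_left, hb.wv, hb.zv], h⟩
        left_inv := ?_
        right_inv := ?_ }
    · rintro (⟨x, h1, h2, h3⟩ | _ | ⟨x, h0, h1, h2, h3⟩)
      · have e := hb.plane hF h1 h2
        simp only [← e, h3, dite_false]
      · simp [herm_zero_left]
      · have e := hb.plane hF h2 h3
        simp only [← e, h1, h0, dite_true, dite_false]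
    · rintro ⟨a, b⟩
      by_cases h : hf (a • w₀ + b • z₀) (a • w₀ + b • z₀) = 0
      · by_cases h0 : a • w₀ + b • z₀ = 0
        · have ea := congrArg (fun x => hermForm 4 F q x z₀) h0
          have eb := congrArg (fun x => hermForm 4 F q x w₀) h0
          simp [herm_add_left, herm_smul_left, hb.wz hF, hb.zz, hb.ww, hb.zw] at ea eb
          simp [ea, eb, herm_zero_left]
        · simp only [h, h0, dite_true, dite_false]
          simp [herm_add_left, herm_smul_left, hb.wz hF, hb.zz, hb.ww, hb.zw]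
      · simp only [h, dite_false]
        simp [herm_add_left, herm_smul_left, hb.wz hF, hb.zz, hb.ww, hb.zw]
  by_contra hlt
  push Not at hlt
  have hn5 : H.index < q ^ 5 := by
    refine hlt.trans_le ?_
    obtain ⟨t, rfl⟩ : ∃ t, q = t + 2 := ⟨q - 2, by omega⟩
    ring_nf; nlinarith [Nat.zero_le (t ^ 3), Nat.zero_le (t ^ 4), Nat.zero_le (t ^ 5)]
  -- some non-zero vector in a stabiliser
  obtain ⟨ξ₀, x₀, hx₀, hx₀0⟩ : ∃ ξ, ∃ x ∈ R ξ, x ≠ 0 := by
    let ξ₀ : G ⧸ H := ((1 : G) : G ⧸ H)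
    by_contra hcon
    push Not at hcon
    have h1 := horbit ξ₀
    have h2 : Nat.card (R ξ₀) = 1 := by
      rw [Nat.card_eq_one_iff_unique]
      exact ⟨⟨fun a b => Subtype.ext ((hcon _ _ a.2).trans (hcon _ _ b.2).symm)⟩, ⟨0⟩⟩
    have h3 := Nat.card_le_card_of_injective
      (Subtype.val : (Set.range fun p : S => e p • ξ₀) → G ⧸ H) Subtype.val_injective
    rw [← Subgroup.index_eq_card] at h3
    rw [h2, mul_one] at h1
    exact absurd (h1.trans h3) (not_le.2 hn5)
  -- every anisotropic vector occurs in a stabiliser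
  have hocc : ∀ x : X, ∃ ξ, x.1 ∈ R ξ := by
    intro x
    have hne := fun h => hx₀0 (haniso ξ₀ x₀ hx₀ h)
    obtain ⟨hxv₀, α, h, hξ⟩ := hx₀
    obtain ⟨g, m, hm, hgu, hgx⟩ := exists_move hF hb h.orth hxv₀ hne x.2.1 x.2.2.1 x.2.2.2
    refine ⟨g • ξ₀, x.2.2.1, m * m ^ q * α, ?_⟩
    have hs : ESpec q u₀ x.1 (m * m ^ q * α) := by
      refine ⟨hb.uu, x.2.1, ?_⟩
      have h1 := h.tr
      rw [← hgx, herm_self_smul, herm_ap, pow_q_q hF, mul_pow, mul_pow, pow_q_q hF]
      linear_combination (m * m ^ q) * h1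
    refine ⟨hs, ?_⟩
    have h2 := conj_eSU hF g h (eSpec_ap g h)
    have e : eSU hF (eSpec_ap g h) = eSU hF hs := by
      refine ap_ext fun y => ?_
      simp only [ap_eSU, hgu, ← hgx, herm_smul_right, pow_q_q hF]
      module
    rw [← e, ← h2, ← mul_smul, inv_mul_cancel_right, mul_smul, hξ]
  -- double counting
  have hcount : ∀ r, (∀ ξ, Nat.card (R ξ) ≤ r) → Nat.card X * q ^ 5 ≤ r * (H.index * (r - 1)) := by
    intro r hr
    have h1 : ∀ x : X, q ^ 5 ≤ r * Nat.card {ξ // x.1 ∈ R ξ} := by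
      intro x
      obtain ⟨ξ, hξ⟩ := hocc x
      have hi : Nat.card (Set.range fun p : S => e p • ξ) ≤ Nat.card {ξ // x.1 ∈ R ξ} :=
        Nat.card_le_card_of_injective (fun η => ⟨η.1, by
          obtain ⟨p, hp⟩ := η.2
          rw [← hp]
          exact hQ ξ _ hξ p⟩) fun a b h => Subtype.ext (congrArg (fun s => s.1) h :)
      calc q ^ 5 ≤ _ := horbit ξ
        _ ≤ Nat.card {ξ // x.1 ∈ R ξ} * r := Nat.mul_le_mul hi (hr ξ)
        _ = _ := mul_comm _ _
    have h2 : ∀ ξ, Nat.card {x : X // x.1 ∈ R ξ} ≤ r - 1 := by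
      intro ξ
      have : Nat.card (Option {x : X // x.1 ∈ R ξ}) ≤ Nat.card (R ξ) := by
        refine Nat.card_le_card_of_injective
          (fun o => o.elim 0 fun x => ⟨x.1.1, x.2⟩) ?_
        rintro (_ | a) (_ | b) h
        · rfl
        · exact absurd (by rw [← show (0 : 𝕍) = b.1.1 from congrArg Subtype.val h,
            herm_zero_left]) b.1.2.2.2
        · exact absurd (by rw [show a.1.1 = (0 : 𝕍) from congrArg Subtype.val h,
            herm_zero_left]) a.1.2.2.2
        · exact congrArg some (Subtype.ext (Subtype.ext (congrArg Subtype.val h :)))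
      rw [Finite.card_option] at this
      have := hr ξ
      omega
    calc Nat.card X * q ^ 5 = ∑ _x : X, q ^ 5 := by
          rw [Finset.sum_const, Finset.card_univ, smul_eq_mul, Nat.card_eq_fintype_card]
      _ ≤ ∑ x : X, r * Nat.card {ξ // x.1 ∈ R ξ} := Finset.sum_le_sum fun x _ => h1 x
      _ = r * ∑ ξ, Nat.card {x : X // x.1 ∈ R ξ} := by
          rw [← Finset.mul_sum]
          congr 1
          simp only [Nat.card_eq_fintype_card, Fintype.card_subtype, Finset.card_filter]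
          rw [Finset.sum_comm]
      _ ≤ r * (H.index * (r - 1)) := by
          refine Nat.mul_le_mul_left _ ((Finset.sum_le_card_nsmul _ _ _ fun ξ _ => h2 ξ).trans ?_)
          rw [Finset.card_univ, smul_eq_mul, Subgroup.index_eq_card, Nat.card_eq_fintype_card]
  rcases eq_or_lt_of_le hq with hq2 | hq3
  · -- over the field with two elements stabilisers have at most two elements
    have h2 : ∀ ξ, Nat.card (R ξ) ≤ 2 := by
      intro ξ
      have h20 : (2 : F) = 0 := by
        have h := natCast_q_eq_zero hF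
        rw [← hq2] at h
        exact_mod_cast h
      have hone : ∀ x ∈ R ξ, x ≠ 0 → hf x x = 1 := fun x hx hx0 => by
        have h := herm_self_fixed (n := 4) hF x
        have h' : hf x x * (hf x x - 1) = 0 := by
          have h1 : hf x x ^ 2 = hf x x := by rw [hq2]; exact h
          linear_combination h1
        rcases mul_eq_zero.1 h' with h' | h'
        · exact absurd (haniso ξ x hx h') hx0
        · exact sub_eq_zero.1 h'
      have key : ∀ x ∈ R ξ, ∀ y ∈ R ξ, x ≠ 0 → y ≠ 0 → x = y := by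
        intro x hx y hy hx0 hy0
        by_contra hne
        have hxy0 : x + y ≠ 0 := fun h0 => hne (by
          have h3 : (2 : F) • y = 0 := by rw [h20, zero_smul]
          linear_combination (norm := module) h0 - h3)
        have h4 : hf (x + y) (x + y) = 0 := by
          rw [herm_self_add hF, hone x hx hx0, hone y hy hy0, herm_swap hF,
            ← hreal ξ x hx y hy]
          linear_combination (1 + hf x y) * h20
        exact hxy0 (haniso ξ _ ((R ξ).add_mem hx hy) h4)
      by_cases hne : ∃ x ∈ R ξ, x ≠ 0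
      · obtain ⟨x, hx, hx0⟩ := hne
        have hsurj : Function.Surjective
            (fun b : Bool => if b then (⟨x, hx⟩ : R ξ) else 0) := by
          rintro ⟨y, hy⟩
          by_cases hy0 : y = 0
          · exact ⟨false, Subtype.ext hy0.symm⟩
          · exact ⟨true, Subtype.ext (key x hx y hy hx0 hy0)⟩
        exact (Nat.card_le_card_of_surjective _ hsurj).trans (by simp)
      · push Not at hne
        have : Subsingleton (R ξ) :=
          ⟨fun a b => Subtype.ext ((hne _ a.2).trans (hne _ b.2).symm)⟩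
        exact (Finite.card_le_one_iff_subsingleton.2 this).trans (by norm_num)
    have h3 := hcount 2 h2
    generalize Nat.card X = N at hX h3
    have e5 : q ^ 5 = 32 := by rw [← hq2]; rfl
    have eN : (q + 1) * (q ^ 3 + 1) = 27 := by rw [← hq2]; rfl
    have eW : (q + 1) * (q ^ 2 - 1) + 1 = 10 := by rw [← hq2]; rfl
    have e4 : q ^ 4 = 16 := by rw [← hq2]; rfl
    rw [eW, e4] at hX
    rw [e5] at h3
    rw [eN] at hlt
    omega
  · have h3 := hcount (q ^ 2) hRle
    obtain ⟨t, rfl⟩ : ∃ t, q = t + 3 := ⟨q - 3, by omega⟩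
    have hXe : Nat.card X = (t + 3) * (t + 2) * ((t + 3) ^ 2 - 1) := by
      obtain ⟨s, hs⟩ : ∃ s, (t + 3) ^ 2 = s + 1 := ⟨(t + 3) ^ 2 - 1, by
        have : 1 ≤ (t + 3) ^ 2 := Nat.one_le_pow _ _ (by omega)
        omega⟩
      rw [hs, Nat.add_sub_cancel] at hX ⊢
      have hs' : s = t ^ 2 + 6 * t + 8 := by
        have : (t + 3) ^ 2 = t ^ 2 + 6 * t + 8 + 1 := by ring
        omega
      subst hs'
      nlinarith
    obtain ⟨s, hs⟩ : ∃ s, (t + 3) ^ 2 = s + 1 := ⟨(t + 3) ^ 2 - 1, by
      have : 1 ≤ (t + 3) ^ 2 := Nat.one_le_pow _ _ (by omega)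
      omega⟩
    rw [hXe, hs, Nat.add_sub_cancel] at h3
    have h4 : (t + 2) * (t + 3) ^ 4 ≤ H.index := by
      have e1 : (t + 3) * (t + 2) * s * (t + 3) ^ 5
          = (s + 1) * s * ((t + 2) * (t + 3) ^ 4) := by rw [← hs]; ring
      rw [e1, show (s + 1) * (H.index * s) = (s + 1) * s * H.index by ring] at h3
      refine Nat.le_of_mul_le_mul_left h3 ?_
      have : 9 ≤ (t + 3) ^ 2 := by nlinarith
      exact Nat.mul_pos (by omega) (by omega)
    have h5 : (t + 3 + 1) * ((t + 3) ^ 3 + 1) ≤ (t + 2) * (t + 3) ^ 4 := by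
      have : 27 ≤ (t + 3) ^ 3 := Nat.pow_le_pow_left (show 3 ≤ t + 3 by omega) 3
      nlinarith
    omega

end Cfsg.Agent.H52.U4
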