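import Cfsg.Agent.H52.U4Rank
import Cfsg.Agent.H52.U4Semiregular
import Cfsg.Agent.Arith.LargePrimDiv

/-!
# The minimal index of a proper subgroup of `SU(4, q)`
-/

set_option autoImplicit false
set_option maxHeartbeats 1000000
set_option linter.unusedSectionVars false

namespace Cfsg.Agent.H52.U4

open Cfsg Matrix
open Cfsg.Agent.Unitary

variable {F : Type*} [Field F] [Fintype F] {q : ℕ}

local notation "𝕍" => (Fin 4 → F)
local notation "hf" => hermForm 4 F q
local notation "G" => SU 4 F q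

/-- `q² + q + 1` does not divide the order. -/
theorem not_dvd_one_add {q : ℕ} (hq : 2 ≤ q) (hd : q ^ 4 + q ^ 2 + 1 ∣
    q ^ 6 * ((q ^ 2 - 1) * (q ^ 3 + 1) * (q ^ 4 - 1))) : False := by
  set Q : ℤ := (q : ℤ) with hQ
  have h4 : 1 ≤ q ^ 4 := Nat.one_le_pow _ _ (by omega)
  have h2 : 1 ≤ q ^ 2 := Nat.one_le_pow _ _ (by omega)
  have hd' : (Q ^ 4 + Q ^ 2 + 1) ∣ Q ^ 6 * ((Q ^ 2 - 1) * (Q ^ 3 + 1) * (Q ^ 4 - 1)) := by
    have := Int.natCast_dvd_natCast.2 hd
    push_cast [Nat.cast_sub h4, Nat.cast_sub h2] at this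
    exact this
  have h1 : (Q ^ 2 + Q + 1) ∣ Q ^ 6 * ((Q ^ 2 - 1) * (Q ^ 3 + 1) * (Q ^ 4 - 1)) :=
    (Dvd.intro (Q ^ 2 - Q + 1) (by ring)).trans hd'
  have hcop : IsCoprime (Q ^ 2 + Q + 1) (Q ^ 6) :=
    IsCoprime.pow_right ⟨1, -(Q + 1), by ring⟩
  have h3 := hcop.dvd_of_dvd_mul_left h1
  have h6 : (Q ^ 2 + Q + 1) ∣ 6 := by
    have e : (6 : ℤ) = (Q ^ 2 - 1) * (Q ^ 3 + 1) * (Q ^ 4 - 1) -
        (Q ^ 2 + Q + 1) * ((Q ^ 2 - 1) * ((Q - 1) * (Q ^ 4 - 1) + 2 * Q * (Q - 1)) + 2 * (Q - 2)) := by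
      ring
    rw [e]
    exact dvd_sub h3 (Dvd.intro _ rfl)
  have := Int.le_of_dvd (by norm_num) h6
  have : (2 : ℤ) ≤ Q := by rw [hQ]; exact_mod_cast hq
  nlinarith

/-- `q³ + q² + 1` does not divide the order. -/
theorem not_dvd_pred {q : ℕ} (hq : 2 ≤ q) (hd : q ^ 4 + q ^ 3 + q ∣
    q ^ 6 * ((q ^ 2 - 1) * (q ^ 3 + 1) * (q ^ 4 - 1))) : False := by
  set Q : ℤ := (q : ℤ) with hQ
  have h4 : 1 ≤ q ^ 4 := Nat.one_le_pow _ _ (by omega)
  have h2 : 1 ≤ q ^ 2 := Nat.one_le_pow _ _ (by omega)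
  have hd' : (Q ^ 4 + Q ^ 3 + Q) ∣ Q ^ 6 * ((Q ^ 2 - 1) * (Q ^ 3 + 1) * (Q ^ 4 - 1)) := by
    have := Int.natCast_dvd_natCast.2 hd
    push_cast [Nat.cast_sub h4, Nat.cast_sub h2] at this
    exact this
  set M : ℤ := Q ^ 3 + Q ^ 2 + 1 with hM
  have h1 : M ∣ Q ^ 6 * ((Q ^ 2 - 1) ^ 2 * (Q ^ 3 + 1) * (Q ^ 2 + 1)) := by
    refine (Dvd.intro Q (by rw [hM]; ring)).trans (hd'.trans (dvd_of_eq ?_))
    ring
  have hc1 : IsCoprime M (Q ^ 6) := IsCoprime.pow_right ⟨1, -(Q ^ 2 + Q), by rw [hM]; ring⟩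
  have hc2 : IsCoprime M (Q ^ 2 + 1) :=
    ⟨1 + Q ^ 2 + Q, -((Q + 1) * (Q ^ 2 + Q)), by rw [hM]; ring⟩
  have hc3 : IsCoprime M (Q ^ 3 + 1) :=
    ⟨2 - M + (Q ^ 2 + Q) ^ 2, -(Q ^ 2 + Q) ^ 2, by rw [hM]; ring⟩
  have h3 := hc3.dvd_of_dvd_mul_right (hc2.dvd_of_dvd_mul_right (hc1.dvd_of_dvd_mul_left h1))
  have h9 : M ∣ 9 := by
    have e : (9 : ℤ) = (Q ^ 2 - 1) ^ 2 * (1 + (Q - 2) * (Q + 1)) ^ 2
        - M * ((Q - 2) * ((Q ^ 2 - 1) * (1 + (Q - 2) * (Q + 1)) + 3)) := by
      rw [hM]; ring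
    rw [e]
    exact dvd_sub (h3.mul_right _) (Dvd.intro _ rfl)
  have := Int.le_of_dvd (by norm_num) h9
  have : (2 : ℤ) ≤ Q := by rw [hQ]; exact_mod_cast hq
  nlinarith

/-- A subgroup whose index is below the bound is transitive on isotropic points. -/
theorem transitive_of_index_lt (hF : Fintype.card F = q ^ 2) (H : Subgroup G)
    (hn : H.index < (q + 1) * (q ^ 3 + 1)) (p u : Pt F q) : ∃ h ∈ H, h • p = u := by
  by_contra hcon
  push Not at hcon
  have hq := two_le_q hF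
  have hdvd := card_su hF ▸ Subgroup.index_dvd_card H
  have hN : (q + 1) * (q ^ 3 + 1) = q ^ 4 + q ^ 3 + q + 1 := by ring
  rcases index_of_intransitive hF H p u hcon with h | h | h
  · rw [h] at hdvd
    exact not_dvd_one_add hq hdvd
  · rw [show H.index = q ^ 4 + q ^ 3 + q by omega] at hdvd
    exact not_dvd_pred hq hdvd
  · rcases eq_or_lt_of_le hq with h2 | h3
    · generalize H.index = n at hn h hdvd
      rw [← h2] at hn h hdvd
      norm_num at hn h hdvd
      have hlow : 25 ≤ n := by omega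
      interval_cases n <;> norm_num at hdvd
    · have : 2 * q ^ 4 + q ≤ q ^ 5 := by
        have e : q ^ 5 = q * q ^ 4 := by ring
        rw [e]
        have : q ≤ q ^ 4 := Nat.le_self_pow (by norm_num) q
        nlinarith
      omega

theorem card_stab_pt (hF : Fintype.card F = q ^ 2) (p : Pt F q) :
    Nat.card (MulAction.stabilizer G p) = q ^ 6 * (q ^ 2 - 1) ^ 2 := by
  have horb : MulAction.orbit G p = Set.univ := Set.eq_univ_iff_forall.2 fun x => by
    obtain ⟨g, hg⟩ := exists_smul_isoPt hF (by norm_num) p x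
    exact ⟨g, hg⟩
  have h := Nat.card_congr (MulAction.orbitProdStabilizerEquivGroup G p)
  rw [Nat.card_prod, horb, Nat.card_congr (Equiv.Set.univ _), card_pt hF, card_su hF] at h
  apply Nat.eq_of_mul_eq_mul_left (show 0 < (q ^ 2 + 1) * (q ^ 3 + 1) by positivity)
  rw [h]
  have h2 : 1 ≤ q ^ 2 := Nat.one_le_pow _ _ (q_pos hF)
  have e : q ^ 4 - 1 = (q ^ 2 + 1) * (q ^ 2 - 1) := by
    have := Nat.sq_sub_sq (q ^ 2) 1
    rw [one_pow, ← pow_mul] at this
    exact this
  rw [e]; ring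

theorem eq_top_of_radA_le (hF : Fintype.card F = q ^ 2) (H : Subgroup G)
    (htr : ∀ p u : Pt F q, ∃ h ∈ H, h • p = u) (L : Line F q) (hle : radA L ≤ H) : H = ⊤ := by
  rw [eq_top_iff, ← tgroup_eq_top hF (Or.inl (le_refl 4))]
  refine (Subgroup.closure_le H).2 ?_
  rintro A ⟨y, c, hy, hA⟩
  show A ∈ H
  rcases eq_or_ne y 0 with rfl | hy0
  · rw [show A = 1 from ap_ext fun x => by
      rw [ap_def, hA, unitaryTransvection_mulVec, smul_zero, add_zero, ap_one]]
    exact H.one_mem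
  have hc : c + c ^ q = 0 := by
    obtain ⟨z, -, hz, hzv⟩ := exists_partner hF (nondeg_top hF) Submodule.mem_top hy0 hy
    have h1 := herm_ap A z z
    rw [ap_def, hA, unitaryTransvection_mulVec, hzv, mul_one, herm_self_add hF, herm_self_smul,
      herm_smul_right, hzv, mul_one, pow_q_q hF, hy, hz] at h1
    linear_combination h1
  rw [show A = tv hF hy hc from Subtype.ext (Subtype.ext (hA.trans (mat_tv hF hy hc).symm))]
  obtain ⟨x, hxL, hx0⟩ := L.1.exists_mem_ne_zero_of_ne_bot (fun h => by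
    have := L.2.1
    rw [h, finrank_bot] at this
    omega)
  have hx := L.2.2 x hxL x hxL
  obtain ⟨h, hh, hmove⟩ := htr (isoPt hx0 hx) (isoPt hy0 hy)
  have hm : ap h x ∈ Submodule.span F ({y} : Set 𝕍) := by
    have := congrArg Subtype.val hmove
    rw [coe_smul_isoPoint] at this
    rw [← show (isoPt hy0 hy).1 = Submodule.span F ({y} : Set 𝕍) from rfl, ← this]
    exact Submodule.mem_map_of_mem (Submodule.mem_span_singleton_self x)
  obtain ⟨l, hl⟩ := Submodule.mem_span_singleton.1 hm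
  have hl0 : l ≠ 0 := by
    rintro rfl
    rw [zero_smul] at hl
    exact hx0 (ap_injective h (hl.symm.trans (ap_zero h).symm))
  have hd : (c / (l * l ^ q)) + (c / (l * l ^ q)) ^ q = 0 := by
    rw [div_pow, norm_pow_q hF, ← add_div, hc, zero_div]
  have h1 := H.mul_mem (H.mul_mem hh (hle (tv_mem_radA hF hxL hx hd))) (H.inv_mem hh)
  convert h1 using 1
  refine ap_ext fun t => ?_
  have hlq : l ^ q ≠ 0 := pow_ne_zero _ hl0
  simp only [ap_mul, ap_tv, ap_add, ap_smul, ap_ap_inv, ← hl, smul_smul]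
  congr 2
  rw [← herm_ap h (ap h⁻¹ t) x, ap_ap_inv, ← hl, herm_smul_right]
  field_simp

/-- An element of primitive prime order in a transitive subgroup forces semiregularity. -/
theorem radA_trivial_of_fixed (hF : Fintype.card F = q ^ 2) {p f r : ℕ} (hp : p.Prime)
    (hqp : q = p ^ f) (hr : Arith.IsPPD r p (4 * f)) (hrs : ¬ r ∣ q ^ 6 * (q ^ 2 - 1) ^ 2)
    (H : Subgroup G) (hH : H ≠ ⊤) (htr : ∀ p u : Pt F q, ∃ h ∈ H, h • p = u) (L : Line F q)
    {y : G} (hy : y ∈ H) (hord : orderOf y = r) (hfix : y • L = L) :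
    ∀ a ∈ radA L, a ∈ H → a = 1 := by
  classical
  haveI : Fact r.Prime := ⟨hr.1⟩
  have hconj : ∀ a ∈ radA L, y * a * y⁻¹ ∈ radA L := fun a ha => by
    have := conj_mem_radA ha y
    rwa [hfix] at this
  have hconj' : ∀ a ∈ radA L, y⁻¹ * a * y ∈ radA L := fun a ha => by
    have := conj_mem_radA ha y⁻¹
    rwa [inv_inv, show y⁻¹ • L = L by rw [inv_smul_eq_iff, hfix]] at this
  have hcardA : Nat.card (radA L) = p ^ (4 * f) := by rw [card_radA hF, hqp, ← pow_mul, mul_comm]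
  -- counting fixed points
  have hmod : ∀ B : Subgroup G, B ≤ radA L → (∀ a ∈ B, y * a * y⁻¹ ∈ B) →
      (∀ a ∈ B, y⁻¹ * a * y ∈ B) →
      Nat.card {a : B // y * a.1 * y⁻¹ = a.1} ≡ Nat.card B [MOD r] := by
    intro B hB h1 h2
    haveI : Fintype B := Fintype.ofFinite _
    let σ : Equiv.Perm B :=
      { toFun := fun a => ⟨y * a.1 * y⁻¹, h1 _ a.2⟩
        invFun := fun a => ⟨y⁻¹ * a.1 * y, h2 _ a.2⟩
        left_inv := fun a => Subtype.ext (by group)
        right_inv := fun a => Subtype.ext (by group) }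
    have hσ : σ ^ (r ^ 1) = 1 := by
      have h : ∀ k : ℕ, ∀ a : B, ((σ ^ k) a).1 = y ^ k * a.1 * (y ^ k)⁻¹ := by
        intro k
        induction k with
        | zero => simp
        | succ k ih =>
          intro a
          rw [pow_succ', Equiv.Perm.mul_apply]
          show y * ((σ ^ k) a).1 * y⁻¹ = _
          rw [ih a, pow_succ']
          group
      ext a : 1
      refine Subtype.ext ?_
      rw [h, pow_one, ← hord, pow_orderOf_eq_one]
      simp
    have := Equiv.Perm.card_compl_support_modEq (p := r) (n := 1) hσ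
    rw [← Nat.card_eq_fintype_card] at this
    refine (congrArg (· % r) ?_).trans this
    rw [Nat.card_eq_fintype_card, Fintype.card_subtype]
    congr 1
    ext a
    simp only [Finset.mem_filter, Finset.mem_univ, true_and, Finset.mem_compl,
      Equiv.Perm.mem_support, not_not]
    exact (Subtype.ext_iff (a1 := σ a) (a2 := a)).symm
  have hfull : ∀ s, s ≤ 4 * f → p ^ s ≡ 1 [MOD r] → s = 0 ∨ s = 4 * f := by
    intro s hs h
    by_contra hcon
    push Not at hcon
    exact hr.2.2 s (by omega) (by omega) ((Nat.modEq_iff_dvd' (Nat.one_le_pow _ _ hp.pos)).1 h.symm)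
  have hq4 : p ^ (4 * f) ≡ 1 [MOD r] :=
    ((Nat.modEq_iff_dvd' (Nat.one_le_pow _ _ hp.pos)).2 hr.2.1).symm
  -- the centraliser of `y` in the radical is trivial
  have hX : ∀ a ∈ radA L, y * a * y⁻¹ = a → a = 1 := by
    let C : Subgroup G := radA L ⊓ Subgroup.centralizer ({y} : Set G)
    have hmem : ∀ a, a ∈ C ↔ a ∈ radA L ∧ y * a * y⁻¹ = a := fun a => by
      simp only [C, Subgroup.mem_inf, Subgroup.mem_centralizer_singleton_iff, mul_inv_eq_iff_eq_mul]
      exact and_congr Iff.rfl eq_comm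
    have h1 := hmod (radA L) le_rfl hconj hconj'
    have e : Nat.card {a : radA L // y * a.1 * y⁻¹ = a.1} = Nat.card C :=
      Nat.card_congr ((Equiv.subtypeSubtypeEquivSubtypeInter (· ∈ radA L)
        (fun a => y * a * y⁻¹ = a)).trans (Equiv.subtypeEquivRight fun a => (hmem a).symm))
    rw [e, hcardA] at h1
    obtain ⟨s, hs, hcard⟩ := (Nat.dvd_prime_pow hp).1
      (hcardA ▸ Subgroup.card_dvd_of_le (inf_le_left : C ≤ radA L))
    rw [hcard] at h1
    rcases hfull s hs (h1.trans hq4) with rfl | rfl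
    · intro a ha hay
      rw [pow_zero, Subgroup.card_eq_one] at hcard
      have : a ∈ C := (hmem a).2 ⟨ha, hay⟩
      exact Subgroup.mem_bot.1 (hcard.le this)
    exfalso
    have hC : C = radA L := Subgroup.eq_of_le_of_card_ge inf_le_left (by rw [hcard, hcardA])
    obtain ⟨u, v, w, z, hb, hL⟩ := exists_hb_line' hF L
    have hu : u ∈ L.1 := hL ▸ Submodule.subset_span (Set.mem_insert u _)
    obtain ⟨δ, hδ0, hδ⟩ := exists_skew hF
    have hδt : δ + δ ^ q = 0 := by rw [hδ, add_neg_cancel]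
    have hcomm := ((hmem _).1 (hC.symm ▸ tv_mem_radA hF hu hb.uu hδt :
      tv hF hb.uu hδt ∈ C)).2
    rw [mul_inv_eq_iff_eq_mul] at hcomm
    have h2 := congrArg (fun g => ap g v) hcomm
    simp only [ap_mul, ap_tv, ap_add, ap_smul, hb.vu, mul_one] at h2
    have hu0 : u ≠ 0 := by
      rintro rfl
      have := hb.vu
      rw [herm_zero_right hF] at this
      exact zero_ne_one this
    have h3 : ap y u = hf (ap y v) u • u := by
      have h4 : δ • ap y u = (δ * hf (ap y v) u) • u := add_left_cancel h2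
      rw [← inv_smul_smul₀ hδ0 (ap y u), h4, smul_smul, ← mul_assoc, inv_mul_cancel₀ hδ0, one_mul]
    have hl : hf (ap y v) u ≠ 0 := fun h0 => by
      rw [h0, zero_smul] at h3
      exact hu0 (ap_injective y (h3.trans (ap_zero y).symm))
    have hst : y ∈ MulAction.stabilizer G (isoPt hu0 hb.uu) :=
      smul_isoPt_eq hu0 hb.uu hu0 hb.uu hl h3
    have h5 := Subgroup.orderOf_dvd_natCard _ hst
    rw [hord, card_stab_pt hF] at h5
    exact hrs h5
  -- the intersection with `H`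
  let B : Subgroup G := radA L ⊓ H
  have h1 := hmod B inf_le_left
    (fun a ha => ⟨hconj a ha.1, H.mul_mem (H.mul_mem hy ha.2) (H.inv_mem hy)⟩)
    (fun a ha => ⟨hconj' a ha.1, H.mul_mem (H.mul_mem (H.inv_mem hy) ha.2) hy⟩)
  have e : Nat.card {a : B // y * a.1 * y⁻¹ = a.1} = 1 := by
    rw [Nat.card_eq_one_iff_unique]
    refine ⟨⟨fun a b => Subtype.ext (Subtype.ext ?_)⟩, ⟨⟨1, by simp⟩⟩⟩
    rw [hX _ a.1.2.1 a.2, hX _ b.1.2.1 b.2]
  obtain ⟨s, hs, hcard⟩ := (Nat.dvd_prime_pow hp).1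
    (hcardA ▸ Subgroup.card_dvd_of_le (inf_le_left : B ≤ radA L))
  rw [e, hcard] at h1
  rcases hfull s hs h1.symm with rfl | rfl
  · intro a ha haH
    rw [pow_zero, Subgroup.card_eq_one] at hcard
    have : a ∈ B := ⟨ha, haH⟩
    exact Subgroup.mem_bot.1 (hcard.le this)
  exfalso
  have hB : B = radA L := Subgroup.eq_of_le_of_card_ge inf_le_left (by rw [hcard, hcardA])
  exact hH (eq_top_of_radA_le hF H htr L (inf_eq_left.1 hB))

/-- Double counting of incidences in an invariant set of lines. -/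
theorem card_lines_mul (hF : Fintype.card F = q ^ 2) (K : Subgroup G) (O : Line F q → Prop)
    (hO : ∀ g ∈ K, ∀ L, O (g • L) ↔ O L) (htr : ∀ p u : Pt F q, ∃ g ∈ K, g • p = u) (p₀ : Pt F q) :
    Nat.card {L // O L} * (q ^ 2 + 1) =
      (q ^ 2 + 1) * (q ^ 3 + 1) * Nat.card {L // O L ∧ Inc p₀ L} := by
  classical
  haveI : Fintype {L // O L} := Fintype.ofFinite _
  haveI : Fintype (Pt F q) := Fintype.ofFinite _
  have h1 : ∀ p, Nat.card {L // O L ∧ Inc p L} = Nat.card {L // O L ∧ Inc p₀ L} := by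
    intro p
    obtain ⟨g, hg, rfl⟩ := htr p₀ p
    exact (Nat.card_congr ((MulAction.toPerm g).subtypeEquiv fun L =>
      (and_congr (hO g hg L) (inc_smul_iff g)).symm)).symm
  have e : (Σ L : {L // O L}, {p // Inc p L.1}) ≃ Σ p : Pt F q, {L // O L ∧ Inc p L} :=
    { toFun := fun s => ⟨s.2.1, s.1.1, s.1.2, s.2.2⟩
      invFun := fun s => ⟨⟨s.2.1, s.2.2.1⟩, s.1, s.2.2.2⟩
      left_inv := fun _ => rfl
      right_inv := fun _ => rfl }
  have h := Nat.card_congr e
  rw [Nat.card_sigma, Nat.card_sigma, Finset.sum_congr rfl fun L _ => card_inc_line hF L.1,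
    Finset.sum_congr rfl fun p _ => h1 p, Finset.sum_const, Finset.sum_const, Finset.card_univ,
    Finset.card_univ, smul_eq_mul, smul_eq_mul, ← Nat.card_eq_fintype_card (α := Pt F q),
    card_pt hF, ← Nat.card_eq_fintype_card] at h
  exact h

/-- The lower bound. -/
theorem index_ge (hF : Fintype.card F = q ^ 2) (H : Subgroup G) (hH : H ≠ ⊤) :
    (q + 1) * (q ^ 3 + 1) ≤ H.index := by
  classical
  by_contra hlt
  push Not at hlt
  have hq := two_le_q hF
  have htr : ∀ p u : Pt F q, ∃ h ∈ H, h • p = u := transitive_of_index_lt hF H hlt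
  obtain ⟨p, f, hp, hf0, -, hqp⟩ := exists_char_pow hF
  obtain ⟨r, hr⟩ := Arith.exists_isPPD (a := p) (n := 4 * f) hp.one_lt (by omega)
    (fun h => by omega) (fun h => by omega)
  have hrp : r.Prime := hr.1
  have hpos : ∀ k, 1 ≤ q ^ k := fun k => Nat.one_le_pow _ _ (by omega)
  have hr4 : r ∣ q ^ 4 - 1 := by rw [hqp, ← pow_mul, mul_comm f 4]; exact hr.2.1
  have hr2 : ¬ r ∣ q ^ 2 - 1 := by
    rw [hqp, ← pow_mul]
    exact hr.2.2 (f * 2) (by omega) (by omega)
  have hrq : ¬ r ∣ q := by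
    intro h
    have h1 : r ∣ q ^ 4 := h.trans (dvd_pow_self q (by norm_num))
    have h2 := Nat.dvd_sub h1 hr4
    rw [Nat.sub_sub_self (hpos 4)] at h2
    exact hrp.one_lt.ne' (Nat.dvd_one.1 h2)
  have hr3 : ¬ r ∣ q ^ 3 + 1 := by
    intro h
    refine hr2 ?_
    have h1 : r ∣ (q ^ 3 + 1) * (q ^ 3 - 1) := h.mul_right _
    have h2 : r ∣ q ^ 2 * (q ^ 4 - 1) := hr4.mul_left _
    have e1 : (q ^ 3 + 1) * (q ^ 3 - 1) = q ^ 2 * (q ^ 4 - 1) + (q ^ 2 - 1) := by
      zify [hpos 3, hpos 4, hpos 2]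
      ring
    rw [e1] at h1
    exact (Nat.dvd_add_right h2).1 h1
  have hr1 : ¬ r ∣ q + 1 := fun h => hr2 (by
    have := Nat.sq_sub_sq q 1
    rw [one_pow] at this
    exact this ▸ h.mul_right _)
  have hrs : ¬ r ∣ q ^ 6 * (q ^ 2 - 1) ^ 2 := fun h => by
    rcases hrp.dvd_mul.1 h with h | h
    · exact hrq (hrp.dvd_of_dvd_pow h)
    · exact hr2 (hrp.dvd_of_dvd_pow h)
  obtain ⟨u₀, hu00, hu₀⟩ := exists_isotropic_top (n := 4) hF (by norm_num)
  let p₀ : Pt F q := isoPt hu00 hu₀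
  -- the index divides the order of a point stabiliser
  have hndvd : ¬ r ∣ H.index := by
    intro hd
    refine hrs (hd.trans ⟨Nat.card (MulAction.stabilizer H p₀), ?_⟩)
    have horb : MulAction.orbit H p₀ = Set.univ := Set.eq_univ_iff_forall.2 fun x => by
      obtain ⟨h, hh, hx⟩ := htr p₀ x
      exact ⟨⟨h, hh⟩, hx⟩
    have h1 := Nat.card_congr (MulAction.orbitProdStabilizerEquivGroup H p₀)
    rw [Nat.card_prod, horb, Nat.card_congr (Equiv.Set.univ _), card_pt hF] at h1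
    have h2 := H.card_mul_index
    rw [← h1, card_su hF] at h2
    apply Nat.eq_of_mul_eq_mul_left (show 0 < (q ^ 2 + 1) * (q ^ 3 + 1) by positivity)
    rw [show q ^ 4 - 1 = (q ^ 2 + 1) * (q ^ 2 - 1) by
      have := Nat.sq_sub_sq (q ^ 2) 1
      rw [one_pow, ← pow_mul] at this
      exact this] at h2
    rw [show (q ^ 2 + 1) * (q ^ 3 + 1) * (q ^ 6 * (q ^ 2 - 1) ^ 2) =
      q ^ 6 * ((q ^ 2 - 1) * (q ^ 3 + 1) * ((q ^ 2 + 1) * (q ^ 2 - 1))) by ring, ← h2]
    ring
  -- an element of order `r`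
  obtain ⟨y, hy, hord⟩ : ∃ y ∈ H, orderOf y = r := by
    have hd : r ∣ Nat.card H * H.index := by
      rw [H.card_mul_index, card_su hF]
      exact (hr4.mul_left _).mul_left _
    haveI : Fact r.Prime := ⟨hrp⟩
    obtain ⟨y, hy⟩ := exists_prime_orderOf_dvd_card' r ((hrp.dvd_mul.1 hd).resolve_right hndvd)
    exact ⟨y.1, y.2, (Subgroup.orderOf_coe y).trans hy⟩
  haveI : Fintype (Line F q) := Fintype.ofFinite _
  haveI : Fintype (G ⧸ H) := Fintype.ofFinite _
  -- orbits of size prime to `r`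
  have hgood : ∀ L₀ : Line F q, ¬ r ∣ Nat.card (MulAction.orbit H L₀) →
      ∀ L ∈ MulAction.orbit H L₀, ∀ a ∈ radA L, a ∈ H → a = 1 := by
    intro L₀ hnd
    haveI : Fact r.Prime := ⟨hrp⟩
    obtain ⟨L₁, hL₁⟩ : ∃ L₁ : MulAction.orbit H L₀, y • L₁.1 = L₁.1 := by
      let σ : Equiv.Perm (MulAction.orbit H L₀) := MulAction.toPerm (⟨y, hy⟩ : H)
      have hσ : σ ^ (r ^ 1) = 1 := by
        rw [pow_one, ← hord]
        show (MulAction.toPermHom H (MulAction.orbit H L₀) ⟨y, hy⟩) ^ orderOf y = 1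
        rw [← map_pow, show (⟨y, hy⟩ : H) ^ orderOf y = 1 from
          Subtype.ext (pow_orderOf_eq_one y), map_one]
      haveI : Fintype (MulAction.orbit H L₀) := Fintype.ofFinite _
      have h := Equiv.Perm.card_compl_support_modEq (p := r) (n := 1) hσ
      by_contra hcon
      push Not at hcon
      have h0 : σ.supportᶜ = ∅ := Finset.eq_empty_of_forall_notMem fun x hx => by
        rw [Finset.mem_compl, Equiv.Perm.mem_support, not_not] at hx
        exact hcon x (congrArg Subtype.val hx)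
      rw [h0, Finset.card_empty, ← Nat.card_eq_fintype_card] at h
      exact hnd ((Nat.modEq_zero_iff_dvd).1 h.symm)
    intro L hL a ha haH
    obtain ⟨h, hh⟩ := MulAction.mem_orbit_iff.1
      (show L ∈ MulAction.orbit H L₁.1 by rw [MulAction.orbit_eq_iff.2 L₁.2]; exact hL)
    have h1 := conj_mem_radA ha (h.1)⁻¹
    rw [inv_inv, show (h.1)⁻¹ • L = L₁.1 by rw [← hh]; exact inv_smul_smul h.1 L₁.1] at h1
    have h2 := radA_trivial_of_fixed hF hp hqp hr hrs H hH htr L₁.1 hy hord hL₁ _ h1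
      (H.mul_mem (H.mul_mem (H.inv_mem h.2) haH) h.2)
    calc a = h.1 * (h.1⁻¹ * a * h.1) * h.1⁻¹ := by group
      _ = 1 := by rw [h2]; group
  -- the size of a good orbit
  have hsize : ∀ L₀ : Line F q, ¬ r ∣ Nat.card (MulAction.orbit H L₀) →
      q ^ 4 * ((q + 1) * (q ^ 3 + 1)) ≤ H.index * Nat.card (MulAction.orbit H L₀) := by
    intro L₀ hnd
    let R : G ⧸ H → Line F q → Prop := fun ξ L => ∃ g : G, (g : G ⧸ H) = ξ ∧ g • L₀ = L
    have hrows : ∀ ξ, Nat.card {L // R ξ L} ≤ Nat.card (MulAction.orbit H L₀) := by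
      intro ξ
      induction ξ using QuotientGroup.induction_on with
      | H g₀ =>
        refine Nat.card_le_card_of_injective
          (fun L => (⟨g₀⁻¹ • L.1, ?_⟩ : MulAction.orbit H L₀)) ?_
        · obtain ⟨g, hg, hgL⟩ := L.2
          exact ⟨⟨g₀⁻¹ * g, QuotientGroup.eq.1 hg.symm⟩, by
            show (g₀⁻¹ * g) • L₀ = g₀⁻¹ • L.1
            rw [mul_smul, hgL]⟩
        · intro a b h
          exact Subtype.ext (smul_left_cancel g₀⁻¹ (congrArg Subtype.val h :))
    have hcols : ∀ L, q ^ 4 ≤ Nat.card {ξ // R ξ L} := by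
      intro L
      obtain ⟨g, hg⟩ := exists_smul_line hF L₀ L
      rw [← card_radA hF L]
      have hfixL : ∀ a ∈ radA L, a • L = L := by
        intro a ha
        refine Subtype.ext (le_antisymm ?_ ?_)
        · rintro _ ⟨x, hx, rfl⟩
          show ap a x ∈ L.1
          rw [ha.1 x hx]; exact hx
        · intro x hx
          exact ⟨x, hx, ha.1 x hx⟩
      refine Nat.card_le_card_of_injective (fun a => (⟨((a.1 * g : G) : G ⧸ H), a.1 * g, rfl, by
        rw [mul_smul, hg]; exact hfixL _ a.2⟩ : {ξ // R ξ L})) ?_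
      intro a b h
      have h1 := QuotientGroup.eq.1 (congrArg Subtype.val h :)
      have h2 := conj_mem_radA ((radA L).mul_mem ((radA L).inv_mem a.2) b.2) g⁻¹
      rw [inv_inv, show g⁻¹ • L = L₀ by rw [← hg, inv_smul_smul]] at h2
      have h3 := hgood L₀ hnd L₀ (MulAction.mem_orbit_self L₀) _ h2 (by
        convert h1 using 1; group)
      refine Subtype.ext ?_
      calc a.1 = a.1 * (g * (g⁻¹ * (a.1⁻¹ * b.1) * g) * g⁻¹) := by rw [h3]; group
        _ = b.1 := by group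
    calc q ^ 4 * ((q + 1) * (q ^ 3 + 1)) = ∑ _L : Line F q, q ^ 4 := by
          rw [Finset.sum_const, Finset.card_univ, smul_eq_mul, ← Nat.card_eq_fintype_card,
            card_line hF, mul_comm]
      _ ≤ ∑ L, Nat.card {ξ // R ξ L} := Finset.sum_le_sum fun L _ => hcols L
      _ = ∑ ξ, Nat.card {L // R ξ L} := by
          simp only [Nat.card_eq_fintype_card, Fintype.card_subtype, Finset.card_filter]
          rw [Finset.sum_comm]
      _ ≤ H.index * Nat.card (MulAction.orbit H L₀) := by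
          refine (Finset.sum_le_card_nsmul _ _ _ fun ξ _ => hrows ξ).trans (le_of_eq ?_)
          rw [Finset.card_univ, smul_eq_mul, Subgroup.index_eq_card,
            Nat.card_eq_fintype_card (α := G ⧸ H)]
  -- a good orbit exists
  obtain ⟨L₀, hL₀⟩ : ∃ L₀ : Line F q, ¬ r ∣ Nat.card (MulAction.orbit H L₀) := by
    by_contra hcon
    push Not at hcon
    have h : r ∣ Nat.card (Line F q) := by
      rw [Nat.card_congr (MulAction.selfEquivSigmaOrbits H (Line F q)), Nat.card_sigma]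
      refine Finset.dvd_sum fun ω _ => ?_
      exact hcon _
    rw [card_line hF] at h
    exact (hrp.dvd_mul.1 h).elim hr1 hr3
  -- the lines of an orbit at each point
  have hOinv : ∀ L₁ : Line F q, ∀ g ∈ H, ∀ L,
      g • L ∈ MulAction.orbit H L₁ ↔ L ∈ MulAction.orbit H L₁ := fun L₁ g hg L => by
    rw [← MulAction.orbit_eq_iff, ← MulAction.orbit_eq_iff,
      show g • L = (⟨g, hg⟩ : H) • L from rfl, MulAction.orbit_smul]
  have hm : ∀ L₁ : Line F q, Nat.card (MulAction.orbit H L₁) =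
      Nat.card {L // L ∈ MulAction.orbit H L₁ ∧ Inc p₀ L} * (q ^ 3 + 1) := by
    intro L₁
    have h := card_lines_mul hF H (fun L => L ∈ MulAction.orbit H L₁) (hOinv L₁) htr p₀
    apply Nat.eq_of_mul_eq_mul_right (show 0 < q ^ 2 + 1 by positivity)
    refine h.trans ?_
    ring
  have hM : Nat.card {L : Line F q // True ∧ Inc p₀ L} = q + 1 := by
    have h := card_lines_mul hF ⊤ (fun _ => True) (fun _ _ _ => Iff.rfl)
      (fun p u => by obtain ⟨g, hg⟩ := exists_smul_isoPt hF (by norm_num) p u; exact ⟨g, trivial, hg⟩)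
      p₀
    rw [Nat.card_congr (Equiv.subtypeUnivEquiv (fun _ : Line F q => trivial)), card_line hF] at h
    apply Nat.eq_of_mul_eq_mul_left (show 0 < (q ^ 2 + 1) * (q ^ 3 + 1) by positivity)
    rw [← h]; ring
  set m := Nat.card {L // L ∈ MulAction.orbit H L₀ ∧ Inc p₀ L} with hmdef
  have hmle : m ≤ q + 1 := hM ▸ Nat.card_le_card_of_injective
    (fun L => ⟨L.1, trivial, L.2.2⟩) (fun a b h => Subtype.ext (congrArg (fun s => s.1) h :))
  have hbig : ∀ L₁ : Line F q, ¬ r ∣ Nat.card (MulAction.orbit H L₁) →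
      q ≤ Nat.card {L // L ∈ MulAction.orbit H L₁ ∧ Inc p₀ L} := by
    intro L₁ hnd
    set k := Nat.card {L // L ∈ MulAction.orbit H L₁ ∧ Inc p₀ L}
    have h := hsize L₁ hnd
    rw [hm L₁, ← mul_assoc, ← mul_assoc] at h
    have h' := Nat.le_of_mul_le_mul_right h (by positivity)
    by_contra hk
    push Not at hk
    have h1 : H.index * k ≤ (q ^ 4 + q ^ 3 + q) * (q - 1) := by
      refine Nat.mul_le_mul ?_ (by omega)
      have : (q + 1) * (q ^ 3 + 1) = q ^ 4 + q ^ 3 + q + 1 := by ring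
      omega
    obtain ⟨t, rfl⟩ : ∃ t, q = t + 2 := ⟨q - 2, by omega⟩
    rw [show t + 2 - 1 = t + 1 by omega] at h1
    nlinarith [h'.trans h1, Nat.zero_le t, Nat.zero_le (t ^ 2), Nat.zero_le (t ^ 3)]
  rcases eq_or_lt_of_le hmle with hmeq | hmlt
  · -- one orbit
    have huniv : MulAction.orbit H L₀ = Set.univ := by
      apply Set.eq_of_subset_of_ncard_le (Set.subset_univ _) _ Set.finite_univ
      rw [Set.ncard_univ, ← Nat.card_coe_set_eq, card_line hF, hm L₀, ← hmdef, hmeq]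
    have := index_ge_of_semiregular hF H fun L => hgood L₀ hL₀ L (huniv ▸ Set.mem_univ L)
    omega
  obtain ⟨L₁, hL₁⟩ : ∃ L₁, L₁ ∉ MulAction.orbit H L₀ := by
    by_contra hcon
    push Not at hcon
    have h1 : Nat.card (MulAction.orbit H L₀) = Nat.card (Line F q) := by
      rw [Set.eq_univ_iff_forall.2 hcon, Nat.card_congr (Equiv.Set.univ _)]
    rw [hm L₀, card_line hF, ← hmdef] at h1
    have := Nat.eq_of_mul_eq_mul_right (by positivity) h1
    omega
  set m₁ := Nat.card {L // L ∈ MulAction.orbit H L₁ ∧ Inc p₀ L} with hm₁def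
  have hsum : m + m₁ ≤ q + 1 := by
    rw [hmdef, hm₁def, ← hM, ← Nat.card_sum]
    refine Nat.card_le_card_of_injective
      (fun s => s.elim (fun L => ⟨L.1, trivial, L.2.2⟩) (fun L => ⟨L.1, trivial, L.2.2⟩)) ?_
    have hdis : ∀ L, L ∈ MulAction.orbit H L₀ → L ∈ MulAction.orbit H L₁ → False := fun L h h' =>
      hL₁ (by rw [← MulAction.orbit_eq_iff.2 h, MulAction.orbit_eq_iff.2 h']
              exact MulAction.mem_orbit_self L₁)
    rintro (a | a) (b | b) h <;> have e : a.1 = b.1 := congrArg (fun s => s.1) h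
    · rw [Subtype.ext e]
    · exact absurd b.2.1 fun hb => hdis _ a.2.1 (e ▸ hb)
    · exact absurd a.2.1 fun ha => hdis _ b.2.1 (e ▸ ha)
    · rw [Subtype.ext e]
  have hm1pos : 1 ≤ m₁ := by
    by_contra h0
    have h1 := hm L₁
    rw [← hm₁def, show m₁ = 0 by omega, zero_mul, Nat.card_eq_zero] at h1
    rcases h1 with h1 | h1
    · exact h1.false ⟨L₁, MulAction.mem_orbit_self L₁⟩
    · exact not_finite (MulAction.orbit H L₁)
  have hm0 := hbig L₀ hL₀
  have hone : m₁ = 1 := by omega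
  have hnd1 : ¬ r ∣ Nat.card (MulAction.orbit H L₁) := by
    rw [hm L₁, ← hm₁def, hone, one_mul]; exact hr3
  have := hbig L₁ hnd1
  omega

/-- The stabiliser of a line attains the bound. -/
theorem exists_index_eq (hF : Fintype.card F = q ^ 2) :
    ∃ H : Subgroup G, Subgroup.center G ≤ H ∧ H.index = (q + 1) * (q ^ 3 + 1) := by
  obtain ⟨u₀, hu00, hu₀⟩ := exists_isotropic_top (n := 4) hF (by norm_num)
  obtain ⟨v, w, z, hb⟩ := exists_hb hF hu00 hu₀
  refine ⟨MulAction.stabilizer G (hb.line hF), ?_, ?_⟩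
  · intro g hg
    obtain ⟨l, hl⟩ := eq_smul_of_mem_center hF (by norm_num) hg
    refine MulAction.mem_stabilizer_iff.2 (Subtype.ext ?_)
    have hl0 : l ≠ 0 := by
      rintro rfl
      exact hu00 (ap_injective g (by rw [hl, zero_smul, ap_zero]))
    show (hb.line hF).1.map (mat g).mulVecLin = (hb.line hF).1
    ext x
    constructor
    · rintro ⟨s, hs, rfl⟩
      show ap g s ∈ _
      rw [hl]
      exact Submodule.smul_mem _ _ hs
    · intro hx
      refine ⟨l⁻¹ • x, Submodule.smul_mem _ _ hx, ?_⟩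
      show ap g (l⁻¹ • x) = x
      rw [hl, smul_inv_smul₀ hl0]
  · haveI : MulAction.IsPretransitive G (Line F q) := ⟨exists_smul_line hF⟩
    rw [MulAction.index_stabilizer_of_transitive, card_line hF]

end Cfsg.Agent.H52.U4
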