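import Cfsg.Agent.H52.U4Count
import Cfsg.Agent.H53.SULowerBound

/-!
# Subgroups of `SU(4, q)` that are intransitive on isotropic points
-/

set_option autoImplicit false
set_option maxHeartbeats 2000000
set_option linter.unusedSectionVars false

namespace Cfsg.Agent.H52.U4

open Cfsg Matrix
open scoped commutatorElement
open Cfsg.Agent.Unitary
open scoped ComplexOrder

variable {F : Type*} [Field F] [Fintype F] {q : ℕ}

local notation "G" => SU 4 F q

theorem suLow_four (q : ℕ) : H53.suLow q 4 = (q - 1) * (q ^ 2 + 1) := by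
  simp [H53.suLow]
  ring

/-- A representation without fixed vectors has dimension at least the minimal degree. -/
theorem finrank_ge_of_no_fixed (hF : Fintype.card F = q ^ 2) {V : Type*} [AddCommGroup V]
    [Module ℂ V] [FiniteDimensional ℂ V] [Nontrivial V] (ρ : Representation ℂ G V)
    (hfix : ∀ x : V, (∀ g, ρ g x = x) → x = 0) :
    (q - 1) * (q ^ 2 + 1) ≤ Module.finrank ℂ V := by
  classical
  have hex : ∃ d, ∃ S : Subrepresentation ρ, S.toSubmodule ≠ ⊥ ∧
      Module.finrank ℂ S.toSubmodule = d :=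
    ⟨_, ⟨⊤, fun _ _ _ => Submodule.mem_top⟩, top_ne_bot, rfl⟩
  obtain ⟨S, hS, hk⟩ := Nat.find_spec hex
  set k := Nat.find hex with hkdef
  have hk0 : 1 ≤ k := by
    rw [← hk]
    exact Submodule.one_le_finrank_iff.2 hS
  have hk2 : 2 ≤ k := by
    by_contra hlt
    have hk1 : k = 1 := by omega
    rw [hk1] at hk
    obtain ⟨x, hx0, hx⟩ := (finrank_eq_one_iff' (K := ℂ) (V := S.toSubmodule)).1 hk
    have hc : ∀ g, ∃ c : ℂ, ρ g x.1 = c • x.1 := fun g => by
      obtain ⟨c, hc⟩ := hx ⟨ρ g x.1, S.apply_mem_toSubmodule g x.2⟩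
      exact ⟨c, (congrArg Subtype.val hc).symm⟩
    choose c hc using hc
    let K : Subgroup G :=
      { carrier := {g | ρ g x.1 = x.1}
        one_mem' := by simp
        mul_mem' := fun {a b} ha hb => by
          show ρ (a * b) x.1 = x.1
          rw [map_mul, Module.End.mul_apply, hb, ha]
        inv_mem' := fun {a} ha => by
          show ρ a⁻¹ x.1 = x.1
          nth_rw 1 [← (show ρ a x.1 = x.1 from ha)]
          rw [← Module.End.mul_apply, ← map_mul, inv_mul_cancel, map_one, Module.End.one_apply] }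
    have hK : commutator G ≤ K := by
      rw [commutator_eq_closure, Subgroup.closure_le]
      rintro _ ⟨a, b, rfl⟩
      show ρ ⁅a, b⁆ x.1 = x.1
      have h1 : ρ (a * b) (ρ a⁻¹ (ρ b⁻¹ x.1)) = x.1 := by
        have e : ρ a⁻¹ (ρ b⁻¹ x.1) = ρ b⁻¹ (ρ a⁻¹ x.1) := by
          rw [hc b⁻¹, hc a⁻¹, map_smul, map_smul, hc b⁻¹, hc a⁻¹, smul_smul, smul_smul, mul_comm]
        rw [e, ← Module.End.mul_apply, ← Module.End.mul_apply, ← map_mul, ← map_mul,
          mul_inv_cancel_right, mul_inv_cancel, map_one, Module.End.one_apply]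
      rw [commutatorElement_def, map_mul, map_mul, Module.End.mul_apply, Module.End.mul_apply]
      rw [map_mul, Module.End.mul_apply] at h1
      rw [map_mul, Module.End.mul_apply]
      exact h1
    rw [commutator_eq_top hF (Or.inl le_rfl)] at hK
    exact hx0 (Subtype.ext (hfix x.1 fun g => hK (Subgroup.mem_top g)))
  let e : S.toSubmodule ≃ₗ[ℂ] (Fin k → ℂ) :=
    LinearEquiv.ofFinrankEq _ _ (by rw [hk, Module.finrank_fin_fun])
  let σ : Representation ℂ G (Fin k → ℂ) :=
    { toFun := fun g => e.toLinearMap ∘ₗ (S.toRepresentation g) ∘ₗ e.symm.toLinearMap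
      map_one' := LinearMap.ext fun x => by simp
      map_mul' := fun g h => LinearMap.ext fun x => by simp [map_mul] }
  have hirr : σ.IsIrreducible := by
    haveI : Nontrivial (Subrepresentation σ) := by
      refine ⟨⟨⊤, fun _ _ _ => Submodule.mem_top⟩, ⟨⊥, fun g v hv => ?_⟩, fun h => ?_⟩
      · rw [Submodule.mem_bot] at hv ⊢
        rw [hv, map_zero]
      · have h' := congrArg Subrepresentation.toSubmodule h
        have h1 := congrArg (fun T : Submodule ℂ (Fin k → ℂ) => Module.finrank ℂ T) h'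
        simp only [finrank_top, finrank_bot, Module.finrank_fin_fun] at h1
        omega
    refine ⟨fun T => ?_⟩
    let T' : Subrepresentation ρ :=
      ⟨(T.toSubmodule.map e.symm.toLinearMap).map S.toSubmodule.subtype, fun g v hv => by
        obtain ⟨_, ⟨y, hy, rfl⟩, rfl⟩ := hv
        refine ⟨_, ⟨σ g y, T.apply_mem_toSubmodule g hy, rfl⟩, ?_⟩
        simp [σ]
        rfl⟩
    have hfr : Module.finrank ℂ T'.toSubmodule = Module.finrank ℂ T.toSubmodule := by
      show Module.finrank ℂ ↥((T.toSubmodule.map e.symm.toLinearMap).map S.toSubmodule.subtype) = _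
      rw [Submodule.finrank_map_subtype_eq, LinearEquiv.finrank_map_eq]
    by_cases h0 : T.toSubmodule = ⊥
    · exact Or.inl (Subrepresentation.toSubmodule_injective h0)
    · right
      refine Subrepresentation.toSubmodule_injective (Submodule.eq_top_of_finrank_eq ?_)
      refine le_antisymm (Submodule.finrank_le _) ?_
      rw [Module.finrank_fin_fun, ← hfr]
      refine Nat.find_min' hex ⟨T', fun h => ?_, rfl⟩
      rw [h, finrank_bot] at hfr
      exact h0 (Submodule.finrank_eq_zero.1 hfr.symm)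
  have hlow := H53.su_lower hF (Or.inl le_rfl) k σ hirr hk2
  rw [suLow_four] at hlow
  exact hlow.trans (hk ▸ Submodule.finrank_le _)

theorem trace_eq_rank {P : Type*} [Fintype P] [DecidableEq P] {R : Matrix P P ℂ} (h : R * R = R) :
    R.trace = (R.rank : ℂ) := by
  have hproj : LinearMap.IsProj (LinearMap.range (Matrix.toLin' R)) (Matrix.toLin' R) := by
    refine ⟨fun x => LinearMap.mem_range_self _ x, ?_⟩
    rintro x ⟨y, rfl⟩
    rw [← LinearMap.comp_apply, ← Matrix.toLin'_mul, h]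
  have h' := hproj.trace
  rw [Matrix.trace_toLin'_eq] at h'
  rw [h']
  rfl

/-- The kernel of an equivariant matrix into the cosets gives a representation without fixed
vectors. -/
theorem index_eq_rank_or (hF : Fintype.card F = q ^ 2) (H : Subgroup G) [Fintype (G ⧸ H)]
    {P : Type*} [Fintype P] [MulAction G P] (M : Matrix (G ⧸ H) P ℂ)
    (hM : ∀ (g : G) ξ p, M (g • ξ) (g • p) = M ξ p) (p₀ : P) (hsum : ∑ ξ, M ξ p₀ ≠ 0) :
    H.index = M.rank ∨ M.rank + (q - 1) * (q ^ 2 + 1) ≤ H.index := by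
  let W : Submodule ℂ (G ⧸ H → ℂ) := LinearMap.ker (Mᵀ).mulVecLin
  have hW : Module.finrank ℂ W + M.rank = H.index := by
    have h := LinearMap.finrank_range_add_finrank_ker (Mᵀ).mulVecLin
    rw [Module.finrank_fintype_fun_eq_card, ← Nat.card_eq_fintype_card,
      ← Subgroup.index_eq_card] at h
    rw [← h, ← Matrix.rank_transpose M, add_comm]
    rfl
  have hWmem : ∀ f, f ∈ W ↔ ∀ p, ∑ ξ, M ξ p * f ξ = 0 := fun f => by
    rw [LinearMap.mem_ker]
    exact ⟨fun h p => congrFun h p, fun h => funext h⟩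
  have hinv : ∀ (g : G) f, f ∈ W → LinearMap.funLeft ℂ ℂ (fun ξ : G ⧸ H => g⁻¹ • ξ) f ∈ W := by
    intro g f hf
    rw [hWmem] at hf ⊢
    intro p
    rw [← hf (g⁻¹ • p), ← Equiv.sum_comp (MulAction.toPerm g : Equiv.Perm (G ⧸ H))]
    refine Finset.sum_congr rfl fun ξ _ => ?_
    rw [MulAction.toPerm_apply, LinearMap.funLeft_apply, inv_smul_smul]
    nth_rw 1 [← smul_inv_smul g p]
    rw [hM]
  let ρ : Representation ℂ G W :=
    { toFun := fun g => (LinearMap.funLeft ℂ ℂ (fun ξ : G ⧸ H => g⁻¹ • ξ)).restrict (hinv g)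
      map_one' := by ext f ξ; simp [LinearMap.funLeft]
      map_mul' := fun a b => by ext f ξ; simp [LinearMap.funLeft, mul_smul] }
  rcases Nat.eq_zero_or_pos (Module.finrank ℂ W) with h0 | hpos
  · exact Or.inl (by omega)
  right
  have hnt : Nontrivial W := Module.nontrivial_of_finrank_pos hpos
  have hbig := finrank_ge_of_no_fixed hF ρ (fun f hf => by
    have hconst : ∀ ξ, f.1 ξ = f.1 ((1 : G) : G ⧸ H) := by
      intro ξ
      induction ξ using QuotientGroup.induction_on with
      | H a =>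
        have h := congrFun (congrArg Subtype.val (hf a)) (a : G ⧸ H)
        change f.1 (a⁻¹ • (a : G ⧸ H)) = f.1 a at h
        rw [← h, MulAction.Quotient.smul_coe, smul_eq_mul, inv_mul_cancel]
    have h := (hWmem f.1).1 f.2 p₀
    rw [Finset.sum_congr rfl fun ξ _ => by rw [hconst ξ], ← Finset.sum_mul] at h
    have h1 := (mul_eq_zero.1 h).resolve_left hsum
    exact Subtype.ext (funext fun ξ => by rw [hconst ξ, h1]; rfl))
  omega

/-- Intransitive subgroups have index `q⁴ + q² + 1` or at least the remaining bounds. -/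
theorem index_of_intransitive (hF : Fintype.card F = q ^ 2) (H : Subgroup G) (p₀ u₀ : Pt F q)
    (hne : ∀ h ∈ H, h • p₀ ≠ u₀) :
    H.index = q ^ 4 + q ^ 2 + 1 ∨ q ^ 4 + q ^ 3 + q ≤ H.index ∨
      q ^ 5 + q ^ 3 + 1 ≤ H.index + q ^ 4 := by
  classical
  haveI : Fintype (Pt F q) := Fintype.ofFinite _
  haveI : Fintype (G ⧸ H) := Fintype.ofFinite _
  have hq := two_le_q hF
  -- the incidence matrix
  let R : G ⧸ H → Pt F q → Prop := fun ξ p => ∃ g : G, (g : G ⧸ H) = ξ ∧ g • p₀ = p
  have hR : ∀ (g : G) ξ p, R (g • ξ) (g • p) ↔ R ξ p := by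
    have aux : ∀ (g : G) ξ p, R ξ p → R (g • ξ) (g • p) := by
      rintro g ξ p ⟨a, rfl, rfl⟩
      exact ⟨g * a, rfl, mul_smul g a p₀⟩
    exact fun g ξ p => ⟨fun h => by simpa using aux g⁻¹ _ _ h, aux g ξ p⟩
  let M : Matrix (G ⧸ H) (Pt F q) ℂ := Matrix.of fun ξ p => if R ξ p then 1 else 0
  let cnt : Pt F q → Pt F q → ℕ := fun a b => Nat.card {ξ // R ξ a ∧ R ξ b}
  set K := Mᴴ * M with hKdef
  have hKe : ∀ a b, K a b = (cnt a b : ℂ) := by
    intro a b
    simp only [K, Matrix.mul_apply, Matrix.conjTranspose_apply, M, Matrix.of_apply]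
    have : ∀ ξ, star (if R ξ a then (1 : ℂ) else 0) * (if R ξ b then 1 else 0) =
        if R ξ a ∧ R ξ b then 1 else 0 := fun ξ => by split_ifs <;> simp_all
    rw [Finset.sum_congr rfl fun ξ _ => this ξ, Finset.sum_boole]
    simp [cnt, Nat.card_eq_fintype_card, Fintype.card_subtype]
  have hcnt : ∀ (g : G) a b, cnt (g • a) (g • b) = cnt a b := fun g a b =>
    (Nat.card_congr ((MulAction.toPerm g).subtypeEquiv fun ξ =>
      (and_congr (hR g ξ a) (hR g ξ b)).symm)).symm
  obtain ⟨d, hd⟩ : ∃ d, ∀ a, cnt a a = d := ⟨cnt p₀ p₀, fun a => by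
    obtain ⟨g, rfl⟩ := exists_smul_isoPt hF (by norm_num) p₀ a
    exact hcnt g _ _⟩
  obtain ⟨e1, he1⟩ : ∃ e, ∀ a b, Adj a b → cnt a b = e := by
    by_cases h : ∃ a b : Pt F q, Adj a b
    · obtain ⟨a', b', h'⟩ := h
      refine ⟨cnt a' b', fun a b hab => ?_⟩
      obtain ⟨g, rfl, rfl⟩ := exists_smul_adj hF h' hab
      exact hcnt g _ _
    · exact ⟨0, fun a b hab => absurd ⟨a, b, hab⟩ h⟩
  obtain ⟨e2, he2⟩ : ∃ e, ∀ a b, a ≠ b → ¬ Adj a b → cnt a b = e := by
    by_cases h : ∃ a b : Pt F q, a ≠ b ∧ ¬ Adj a b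
    · obtain ⟨a', b', h1, h2⟩ := h
      refine ⟨cnt a' b', fun a b hne hab => ?_⟩
      obtain ⟨g, rfl, rfl⟩ := exists_smul_opp hF h1 h2 hne hab
      exact hcnt g _ _
    · exact ⟨0, fun a b hne hab => absurd ⟨a, b, hne, hab⟩ h⟩
  have hlt : cnt p₀ u₀ < cnt p₀ p₀ := by
    simp only [cnt, Nat.card_eq_fintype_card, Fintype.card_subtype]
    refine Finset.card_lt_card (Finset.ssubset_iff_of_subset (fun ξ hξ => ?_) |>.2
      ⟨((1 : G) : G ⧸ H), ?_, ?_⟩)
    · simp only [Finset.mem_filter, Finset.mem_univ, true_and] at hξ ⊢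
      exact ⟨hξ.1, hξ.1⟩
    · simp only [Finset.mem_filter, Finset.mem_univ, true_and, and_self]
      exact ⟨1, rfl, one_smul _ _⟩
    · simp only [Finset.mem_filter, Finset.mem_univ, true_and]
      rintro ⟨-, g, hg, hgu⟩
      refine hne g ?_ hgu
      simpa using QuotientGroup.eq.1 hg.symm
  -- the adjacency algebra
  let A : Matrix (Pt F q) (Pt F q) ℂ := Matrix.of fun a b => if Adj a b then 1 else 0
  let J : Matrix (Pt F q) (Pt F q) ℂ := Matrix.of fun _ _ => 1
  set kk : ℂ := (q : ℂ) ^ 2 * ((q : ℂ) + 1) with hkk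
  set N : ℂ := ((q : ℂ) ^ 2 + 1) * ((q : ℂ) ^ 3 + 1) with hN
  set r : ℂ := (q : ℂ) ^ 2 - 1 with hr
  set s : ℂ := -((q : ℂ) + 1) with hs
  have hA0 : ∀ a, A a a = 0 := fun a => by
    simp only [A, Matrix.of_apply]
    rw [if_neg fun h => h.1 rfl]
  have hAsym : ∀ a b, A a b = A b a := fun a b => by
    simp only [A, Matrix.of_apply]
    exact if_congr ⟨Adj.symm hF, Adj.symm hF⟩ rfl rfl
  have hcardJ : (Fintype.card (Pt F q) : ℂ) = N := by
    rw [← Nat.card_eq_fintype_card, card_pt hF]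
    push_cast
    rw [hN]
  have hrow : ∀ a, ∑ b, A a b = kk := by
    intro a
    obtain ⟨u, hu0, hu, rfl⟩ := exists_isoPt a
    obtain ⟨v, w, z, hb⟩ := exists_hb hF hu0 hu
    simp only [A, Matrix.of_apply]
    rw [Finset.sum_boole, ← Fintype.card_subtype, ← Nat.card_eq_fintype_card, card_nbr hF hb hu0]
    push_cast
    rw [hkk]
  have hAA : A * A = (r + s) • A - (r * s) • (1 : Matrix _ _ ℂ) + ((q : ℂ) + 1) • J := by
    ext a b
    simp only [Matrix.mul_apply, Matrix.add_apply, Matrix.sub_apply, Matrix.smul_apply,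
      smul_eq_mul, J, Matrix.of_apply, mul_one]
    have hs1 : ∀ c, A a c * A c b = if Adj a c ∧ Adj b c then 1 else 0 := fun c => by
      rw [hAsym c b]
      simp only [A, Matrix.of_apply]
      split_ifs <;> simp_all
    rw [Finset.sum_congr rfl fun c _ => hs1 c, Finset.sum_boole, ← Fintype.card_subtype,
      ← Nat.card_eq_fintype_card]
    by_cases hab : a = b
    · subst hab
      rw [hA0, Matrix.one_apply_eq]
      obtain ⟨u, hu0, hu, rfl⟩ := exists_isoPt a
      obtain ⟨v, w, z, hb⟩ := exists_hb hF hu0 hu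
      simp only [and_self]
      rw [card_nbr hF hb hu0, hr, hs]
      push_cast
      ring
    · rw [Matrix.one_apply_ne hab]
      by_cases hadj : Adj a b
      · simp only [A, Matrix.of_apply, if_pos hadj]
        obtain ⟨u, v, w, z, hb, hu0, hw0, rfl, rfl⟩ := exists_hb_of_adj hF hadj
        rw [card_common_adj hF hb hu0 hw0, Nat.cast_sub (Nat.one_le_pow _ _ (by omega)), hr, hs]
        push_cast
        ring
      · simp only [A, Matrix.of_apply, if_neg hadj]
        obtain ⟨u, v, w, z, hb, hu0, hv0, rfl, rfl⟩ := exists_hb_of_opp hF hab hadj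
        rw [card_common_opp hF hb hu0 hv0]
        push_cast
        ring
  have hAJ : A * J = kk • J := by
    ext a b
    simp [J, Matrix.mul_apply, hrow a]
  have hJA : J * A = kk • J := by
    ext a b
    simp only [J, Matrix.mul_apply, Matrix.of_apply, one_mul, Matrix.smul_apply, smul_eq_mul, mul_one]
    rw [Finset.sum_congr rfl fun c _ => hAsym c b, hrow b]
  have hJJ : J * J = N • J := by
    ext a b
    simp [J, Matrix.mul_apply, hcardJ]
  -- natural number facts
  have hN0 : N ≠ 0 := by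
    rw [hN]
    exact_mod_cast (show (q ^ 2 + 1) * (q ^ 3 + 1) ≠ 0 by positivity)
  have hrs : r - s ≠ 0 := by
    rw [hr, hs, show (q : ℂ) ^ 2 - 1 - -((q : ℂ) + 1) = ((q ^ 2 + q : ℕ) : ℂ) by push_cast; ring]
    exact_mod_cast (show q ^ 2 + q ≠ 0 by positivity)
  set c : ℂ := (kk - s) / N with hc
  have hcN : c * N = kk - s := by rw [hc, div_mul_cancel₀ _ hN0]
  have hck : ((q : ℂ) + 1) - c * kk = -(r * c) := by
    have h1 : c * (kk - r) = (q : ℂ) + 1 := by
      rw [hc, div_mul_eq_mul_div, div_eq_iff hN0, hkk, hs, hr, hN]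
      ring
    linear_combination -h1
  let P := N⁻¹ • J
  let Ef := (r - s)⁻¹ • (A - s • (1 : Matrix (Pt F q) (Pt F q) ℂ) - c • J)
  let Eg := (1 : Matrix (Pt F q) (Pt F q) ℂ) - P - Ef
  have hAEf : A * Ef = r • Ef := by
    simp only [Ef, Matrix.mul_smul, mul_sub, hAA, hAJ, mul_one, smul_smul]
    linear_combination (norm := module) (r - s)⁻¹ • (congrArg (fun x : ℂ => x • J) hck)
  have hJEf : J * Ef = 0 := by
    simp only [Ef, Matrix.mul_smul, mul_sub, hJA, hJJ, mul_one, smul_smul, hcN]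
    module
  have hEfJ : Ef * J = 0 := by
    simp only [Ef, Matrix.smul_mul, sub_mul, hAJ, hJJ, one_mul, smul_smul, hcN]
    module
  have hEf2 : Ef * Ef = Ef := by
    nth_rw 1 [show Ef = (r - s)⁻¹ • (A - s • (1 : Matrix (Pt F q) (Pt F q) ℂ) - c • J) from rfl]
    rw [Matrix.smul_mul, sub_mul, sub_mul, hAEf, Matrix.smul_mul, Matrix.smul_mul, one_mul, hJEf,
      smul_zero, sub_zero, ← sub_smul, smul_smul, inv_mul_cancel₀ hrs, one_smul]
  have hPP : P * P = P := by
    simp [P, Matrix.smul_mul, Matrix.mul_smul, hJJ, smul_smul, hN0]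
  have hPEf : P * Ef = 0 := by simp [P, Matrix.smul_mul, hJEf]
  have hEfP : Ef * P = 0 := by simp [P, Matrix.mul_smul, hEfJ]
  have hJP : J * P = J := by simp [P, Matrix.mul_smul, hJJ, smul_smul, hN0]
  have hAP : A * P = kk • P := by
    simp only [P, Matrix.mul_smul, hAJ, smul_smul]
    rw [mul_comm]
  have hAdec : A = kk • P + r • Ef + s • Eg := by
    have e1 : (r - s) • Ef = A - s • (1 : Matrix (Pt F q) (Pt F q) ℂ) - c • J := by
      simp [Ef, smul_smul, hrs]
    have e2 : (kk - s) • P = c • J := by simp [P, smul_smul, hc, div_eq_mul_inv]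
    simp only [Eg]
    linear_combination (norm := module) -e1 - e2
  have htrJ : J.trace = N := by simp [J, Matrix.trace, hcardJ]
  have htrA : A.trace = 0 := by simp [Matrix.trace, hA0]
  have htr1 : (1 : Matrix (Pt F q) (Pt F q) ℂ).trace = N := by rw [Matrix.trace_one, hcardJ]
  have htrP : P.trace = 1 := by simp [P, Matrix.trace_smul, htrJ, hN0]
  have htrEf : Ef.trace = (q : ℂ) ^ 4 + (q : ℂ) ^ 2 := by
    simp only [Ef, Matrix.trace_smul, Matrix.trace_sub, htrA, htr1, htrJ, smul_eq_mul, hcN]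
    rw [inv_mul_eq_iff_eq_mul₀ hrs, hr, hs, hkk, hN]
    ring
  -- the decomposition of `K`
  set α : ℂ := (d : ℂ) - e2 with hα
  set β : ℂ := (e1 : ℂ) - e2 with hβ
  have hK : K = α • 1 + β • A + (e2 : ℂ) • J := by
    ext a b
    simp only [Matrix.add_apply, Matrix.smul_apply, smul_eq_mul, J, Matrix.of_apply, mul_one]
    rw [hKe]
    by_cases hab : a = b
    · subst hab
      rw [hd, hA0, Matrix.one_apply_eq, hα]
      ring
    · rw [Matrix.one_apply_ne hab]
      by_cases hadj : Adj a b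
      · rw [he1 a b hadj]
        simp only [A, Matrix.of_apply, if_pos hadj]
        rw [hβ]; ring
      · rw [he2 a b hab hadj]
        simp only [A, Matrix.of_apply, if_neg hadj]
        ring
  set l0 : ℂ := α + β * kk + (e2 : ℂ) * N with hl0
  set lf : ℂ := α + β * r with hlf
  set lg : ℂ := α + β * s with hlg
  have hKdec : K = l0 • P + lf • Ef + lg • Eg := by
    have e1 : (1 : Matrix (Pt F q) (Pt F q) ℂ) = P + Ef + Eg := by simp only [Eg]; abel
    have e2' : J = N • P := by simp [P, smul_smul, hN0]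
    rw [hK, hl0, hlf, hlg]
    linear_combination (norm := module) α • e1 + β • hAdec + (e2 : ℂ) • e2'
  have hl00 : l0 ≠ 0 := by
    intro h0
    have h1 : ∑ b, K p₀ b = l0 := by
      rw [hK, hl0]
      simp only [Matrix.add_apply, Matrix.smul_apply, smul_eq_mul, J, Matrix.of_apply, mul_one,
        Finset.sum_add_distrib, ← Finset.mul_sum, hrow, Finset.sum_const, Finset.card_univ,
        nsmul_eq_mul, hcardJ]
      simp [Matrix.one_apply]
      ring
    rw [h0] at h1
    simp only [hKe] at h1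
    have h2 : ∑ b, cnt p₀ b = 0 := by exact_mod_cast h1
    have := Finset.sum_eq_zero_iff.1 h2 p₀ (Finset.mem_univ _)
    omega
  have hEgP : Eg * P = 0 := by simp [Eg, sub_mul, hPP, hEfP]
  have hPEg : P * Eg = 0 := by simp [Eg, mul_sub, hPP, hPEf]
  have hEfEg : Ef * Eg = 0 := by simp [Eg, mul_sub, hEf2, hEfP]
  have hEgEf : Eg * Ef = 0 := by simp [Eg, sub_mul, hEf2, hPEf]
  have hEg2 : Eg * Eg = Eg := by
    nth_rw 1 [show Eg = 1 - P - Ef from rfl]
    rw [sub_mul, sub_mul, one_mul, hPEg, hEfEg, sub_zero, sub_zero]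
  have hEgdef : Eg = 1 - P - Ef := rfl
  clear_value Eg Ef P
  have hrank : K.rank = M.rank := Matrix.rank_conjTranspose_mul_self M
  have hlower : ∀ (l : ℂ) (E : Matrix (Pt F q) (Pt F q) ℂ) (t : ℕ), l ≠ 0 → E * E = E →
      P * E = 0 → E * P = 0 → K * E = l • E → K * P = l0 • P → E.trace = t →
      1 + t ≤ M.rank := by
    intro l E t hl hE hPE hEP hKE hKP htr
    have hidem : (P + E) * (P + E) = P + E := by
      simp [add_mul, mul_add, hPP, hE, hPE, hEP]
    have hfac : P + E = K * (l0⁻¹ • P + l⁻¹ • E) := by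
      rw [mul_add, Matrix.mul_smul, Matrix.mul_smul, hKP, hKE, smul_smul, smul_smul,
        inv_mul_cancel₀ hl00, inv_mul_cancel₀ hl, one_smul, one_smul]
    have h1 : ((P + E).rank : ℂ) = ((1 + t : ℕ) : ℂ) := by
      rw [← trace_eq_rank hidem, Matrix.trace_add, htrP, htr]
      push_cast
      rfl
    have h2 : (P + E).rank = 1 + t := by exact_mod_cast h1
    rw [← h2, ← hrank, hfac]
    exact Matrix.rank_mul_le_left _ _
  have hKP : K * P = l0 • P := by
    rw [hKdec]; simp [add_mul, Matrix.smul_mul, hPP, hEfP, hEgP]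
  have hKEf : K * Ef = lf • Ef := by
    rw [hKdec]; simp [add_mul, Matrix.smul_mul, hEf2, hPEf, hEgEf]
  have hKEg : K * Eg = lg • Eg := by
    rw [hKdec]; simp [add_mul, Matrix.smul_mul, hEg2, hPEg, hEfEg]
  have hMn : M.rank ≤ H.index := by
    rw [Subgroup.index_eq_card, Nat.card_eq_fintype_card]
    exact Matrix.rank_le_card_height M
  by_cases hg0 : lg = 0
  swap
  · right; right
    have htr : Eg.trace = ((q ^ 5 + q ^ 3 - q ^ 4 : ℕ) : ℂ) := by
      have hle : q ^ 4 ≤ q ^ 5 + q ^ 3 :=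
        le_add_right (Nat.pow_le_pow_right (by omega) (by omega))
      rw [Nat.cast_sub hle]
      simp only [hEgdef, Matrix.trace_sub, htr1, htrP, htrEf]
      rw [hN]
      push_cast
      ring
    have := hlower lg Eg _ hg0 hEg2 hPEg hEgP hKEg hKP htr
    omega
  -- only the constituent of degree `q⁴ + q²`
  have hf0 : lf ≠ 0 := by
    intro h0
    have hβ0 : β = 0 := by
      have : β * (r - s) = 0 := by rw [hlf] at h0; rw [hlg] at hg0; linear_combination h0 - hg0
      exact (mul_eq_zero.1 this).resolve_right hrs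
    have hα0 : α = 0 := by rw [hlf, hβ0] at h0; simpa using h0
    have h1 : ∀ a b, K a b = (e2 : ℂ) := fun a b => by rw [hK, hα0, hβ0]; simp [J]
    have h2 := (h1 p₀ u₀).trans (h1 p₀ p₀).symm
    rw [hKe, hKe] at h2
    have : cnt p₀ u₀ = cnt p₀ p₀ := by exact_mod_cast h2
    omega
  have hD : M.rank = q ^ 4 + q ^ 2 + 1 := by
    refine le_antisymm ?_ (by
      have := hlower lf Ef (q ^ 4 + q ^ 2) hf0 hEf2 hPEf hEfP hKEf hKP (by rw [htrEf]; push_cast; rfl)
      omega)
    have hidem : (P + Ef) * (P + Ef) = P + Ef := by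
      simp [add_mul, mul_add, hPP, hEf2, hPEf, hEfP]
    have h1 : ((P + Ef).rank : ℂ) = ((q ^ 4 + q ^ 2 + 1 : ℕ) : ℂ) := by
      rw [← trace_eq_rank hidem, Matrix.trace_add, htrP, htrEf]
      push_cast
      ring
    have h2 : (P + Ef).rank = q ^ 4 + q ^ 2 + 1 := by exact_mod_cast h1
    rw [← hrank, ← h2, show K = K * (P + Ef) by
      rw [mul_add, hKP, hKEf, hKdec, hg0, zero_smul, add_zero]]
    exact Matrix.rank_mul_le_right _ _
  -- the representation on the orthogonal complement of the image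
  have hMinv : ∀ (g : G) ξ p, M (g • ξ) (g • p) = M ξ p := fun g ξ p =>
    if_congr (hR g ξ p) rfl rfl
  have hpos' : ∑ ξ, M ξ p₀ ≠ 0 := by
    have h1 : R ((1 : G) : G ⧸ H) p₀ := ⟨1, rfl, one_smul _ _⟩
    intro h0
    have h2 : ∀ ξ ∈ (Finset.univ : Finset (G ⧸ H)), (0 : ℂ) ≤ M ξ p₀ := fun ξ _ => by
      simp only [M, Matrix.of_apply]
      split_ifs
      · exact zero_le_one
      · exact le_refl 0
    have h3 := (Finset.sum_eq_zero_iff_of_nonneg h2).1 h0 _ (Finset.mem_univ ((1 : G) : G ⧸ H))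
    simp only [M, Matrix.of_apply, if_pos h1, one_ne_zero] at h3
  rcases index_eq_rank_or hF H M hMinv p₀ hpos' with h | h <;> rw [hD] at h
  · exact Or.inl h
  right; left
  have e : q ^ 4 + q ^ 3 + q ≤ q ^ 4 + q ^ 2 + 1 + (q - 1) * (q ^ 2 + 1) := by
    obtain ⟨t, rfl⟩ : ∃ t, q = t + 1 := ⟨q - 1, by omega⟩
    rw [Nat.add_sub_cancel]
    apply le_of_eq
    ring
  omega

end Cfsg.Agent.H52.U4
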