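import Mathlib
import Cfsg.Agent.H52.SylowStruct

/-!
2-elements of symmetric groups lying in a unique Sylow 2-subgroup.
-/

set_option autoImplicit false

namespace Cfsg.Agent.H52

open Equiv

variable {α : Type*}

/-- At most two fixed points, and points with equal periods lie in one cycle. -/
def Spread (x : Perm α) : Prop :=
  (∀ a b c, x a = a → x b = b → x c = c → a = b ∨ a = c ∨ b = c) ∧
  ∀ a b, x a ≠ a → x b ≠ b →
    Function.minimalPeriod x a = Function.minimalPeriod x b → x.SameCycle a b

theorem pow_apply_eq_self_iff (x : Perm α) (a : α) (n : ℕ) :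
    (x ^ n) a = a ↔ Function.minimalPeriod x a ∣ n := by
  rw [← Function.isPeriodicPt_iff_minimalPeriod_dvd, Function.IsPeriodicPt, Function.IsFixedPt,
    ← Equiv.Perm.coe_pow]

theorem minimalPeriod_of_commute (x ι : Perm α) (h : ∀ a, ι (x a) = x (ι a)) (a : α) :
    Function.minimalPeriod x (ι a) = Function.minimalPeriod x a := by
  have hc : Commute ι x := Equiv.ext h
  have hp : ∀ n : ℕ, (x ^ n) (ι a) = ι a ↔ (x ^ n) a = a := fun n => by
    rw [← Perm.mul_apply, ← (hc.pow_right n).eq, Perm.mul_apply, ι.injective.eq_iff]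
  apply Nat.dvd_antisymm
  · rw [← pow_apply_eq_self_iff, hp, pow_apply_eq_self_iff]
  · rw [← pow_apply_eq_self_iff, ← hp, pow_apply_eq_self_iff]

/-- A spread permutation commutes with at most one pairing. -/
theorem pairing_unique [Finite α] (x ι ι' : Perm α) (hx : Spread x)
    (h1 : ∀ a, ι (x a) = x (ι a)) (h2 : ∀ a, ι (ι a) = a) (h3 : ∀ a b, ι a = a → ι b = b → a = b)
    (h1' : ∀ a, ι' (x a) = x (ι' a)) (h2' : ∀ a, ι' (ι' a) = a)
    (h3' : ∀ a b, ι' a = a → ι' b = b → a = b) : ι = ι' := by
  refine Equiv.ext fun a => ?_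
  by_cases ha : x a = a
  · have f1 : x (ι a) = ι a := by rw [← h1, ha]
    have f2 : x (ι' a) = ι' a := by rw [← h1', ha]
    have g : ∀ φ : Perm α, (∀ a, φ (x a) = x (φ a)) → (∀ a, φ (φ a) = a) →
        (∀ a b, φ a = a → φ b = b → a = b) → φ a = a → ∀ b, x b = b → b = a := by
      intro φ p1 p2 p3 p4 b hb
      by_contra hne
      have hfb : x (φ b) = φ b := by rw [← p1, hb]
      have hb1 : φ b ≠ b := fun h => hne (p3 _ _ h p4)
      have hb2 : φ b ≠ a := fun h => hne (φ.injective (h.trans p4.symm))
      rcases hx.1 a b (φ b) ha hb hfb with h | h | h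
      · exact hne h.symm
      · exact hb2 h.symm
      · exact hb1 h.symm
    by_cases i1 : ι a = a
    · rw [i1, g ι h1 h2 h3 i1 (ι' a) f2]
    · by_cases i2 : ι' a = a
      · rw [i2, g ι' h1' h2' h3' i2 (ι a) f1]
      · rcases hx.1 a (ι a) (ι' a) ha f1 f2 with h | h | h
        · exact absurd h.symm i1
        · exact absurd h.symm i2
        · exact h
  · have key : ∀ φ : Perm α, (∀ a, φ (x a) = x (φ a)) → (∀ a, φ (φ a) = a) →
        (∀ a b, φ a = a → φ b = b → a = b) →
        2 ∣ Function.minimalPeriod x a ∧ φ a = (x ^ (Function.minimalPeriod x a / 2)) a := by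
      intro φ p1 p2 p3
      have hφ : x (φ a) ≠ φ a := fun h => ha (φ.injective ((p1 a).trans h))
      obtain ⟨i, hi⟩ := (hx.2 a (φ a) ha hφ (minimalPeriod_of_commute x φ p1 a).symm).exists_nat_pow_eq
      have hc : Commute φ x := Equiv.ext p1
      have h2i : (x ^ (i + i)) a = a := by
        rw [pow_add, Perm.mul_apply, hi, ← Perm.mul_apply, ← (hc.pow_right i).eq, Perm.mul_apply, hi, p2]
      rw [pow_apply_eq_self_iff] at h2i
      have hni : ¬ Function.minimalPeriod x a ∣ i := by
        rw [← pow_apply_eq_self_iff, hi]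
        intro h
        exact ha (p3 (x a) a (by rw [p1, h]) h)
      obtain ⟨d, hd⟩ := h2i
      have hodd : d % 2 = 1 := by
        by_contra hd2
        refine hni ⟨d / 2, ?_⟩
        have : d = 2 * (d / 2) := by omega
        rw [this] at hd
        linarith
      have he : Function.minimalPeriod x a % 2 = 0 := by
        have h4 : (Function.minimalPeriod x a * d) % 2 = 0 := by rw [← hd]; omega
        rw [Nat.mul_mod, hodd, mul_one, Nat.mod_mod] at h4
        exact h4
      refine ⟨Nat.dvd_of_mod_eq_zero he, ?_⟩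
      have hi2 : i = Function.minimalPeriod x a * (d / 2) + Function.minimalPeriod x a / 2 := by
        have h4 : d = 2 * (d / 2) + 1 := by omega
        have h5 : Function.minimalPeriod x a = 2 * (Function.minimalPeriod x a / 2) := by omega
        rw [h4] at hd
        linarith
      rw [← hi, hi2, add_comm, pow_add, Perm.mul_apply,
        (pow_apply_eq_self_iff x a _).2 (Dvd.intro _ rfl)]
    rw [(key ι h1 h2 h3).2, (key ι' h1' h2' h3').2]

theorem spread_conj {α' : Type*} (e : α ≃ α') (x : Perm α) (h : Spread (e.permCongr x)) : Spread x := by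
  have hp : ∀ a, Function.minimalPeriod (e.permCongr x) (e a) = Function.minimalPeriod x a := by
    intro a
    have hn : ∀ n : ℕ, ((e.permCongr x) ^ n) (e a) = e a ↔ (x ^ n) a = a := fun n => by
      rw [show (e.permCongr x) ^ n = e.permCongr (x ^ n) from (map_pow e.permCongrHom x n).symm,
        Equiv.permCongr_apply, Equiv.symm_apply_apply, e.injective.eq_iff]
    apply Nat.dvd_antisymm
    · rw [← pow_apply_eq_self_iff, hn, pow_apply_eq_self_iff]
    · rw [← pow_apply_eq_self_iff, ← hn, pow_apply_eq_self_iff]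
  refine ⟨fun a b c ha hb hc => ?_, fun a b ha hb hab => ?_⟩
  · simpa using h.1 (e a) (e b) (e c) (by simp [ha]) (by simp [hb]) (by simp [hc])
  · have hs := h.2 (e a) (e b) (by simpa using ha) (by simpa using hb) (by rw [hp, hp, hab])
    obtain ⟨i, hi⟩ := hs
    refine ⟨i, e.injective ?_⟩
    rw [show (e.permCongr x) ^ i = e.permCongr (x ^ i) from (map_zpow e.permCongrHom x i).symm,
      Equiv.permCongr_apply, Equiv.symm_apply_apply] at hi
    exact hi

section Model

variable {β γ : Type*}

theorem wr_pow_inl (σ : Perm β) (f : β → Bool) (n : ℕ) (b : β) :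
    ∃ s, ∀ c, ((wr σ f : Perm ((β × Bool) ⊕ γ)) ^ n) (Sum.inl (b, c)) = Sum.inl ((σ ^ n) b, xor c s) := by
  induction n with
  | zero => exact ⟨false, fun c => by simp⟩
  | succ n ih =>
    obtain ⟨s, hs⟩ := ih
    refine ⟨xor s (f ((σ ^ n) b)), fun c => ?_⟩
    rw [pow_succ', Perm.mul_apply, hs, wr_inl, pow_succ', Perm.mul_apply, Bool.xor_assoc]

theorem spread_base [Finite β] [Finite γ] (σ : Perm β) (f : β → Bool)
    (h : Spread (wr σ f : Perm ((β × Bool) ⊕ γ))) : Spread σ := by
  set x : Perm ((β × Bool) ⊕ γ) := wr σ f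
  have hmove : ∀ b c, σ b ≠ b → x (Sum.inl (b, c)) ≠ Sum.inl (b, c) := by
    intro b c hb h'
    simp [x] at h'
    exact hb h'.1
  have hflip : ∀ b c, σ b = b → f b = true → x (Sum.inl (b, c)) = Sum.inl (b, !c) := by
    intro b c hb hf
    simp [x, hb, hf]
  have hper2 : ∀ b, σ b = b → f b = true → Function.minimalPeriod x (Sum.inl (b, false)) = 2 := by
    intro b hb hf
    have h1 : (x ^ 2) (Sum.inl (b, false)) = Sum.inl (b, false) := by
      rw [pow_two, Perm.mul_apply, hflip b false hb hf, hflip b _ hb hf, Bool.not_not]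
    rw [pow_apply_eq_self_iff] at h1
    rcases (Nat.dvd_prime Nat.prime_two).1 h1 with h2 | h2
    · exfalso
      have h3 := (pow_apply_eq_self_iff x (Sum.inl (b, false)) 1).2 (by rw [h2])
      rw [pow_one, hflip b false hb hf] at h3
      simp at h3
    · exact h2
  have hsame : ∀ a b c d, x.SameCycle (Sum.inl (a, c)) (Sum.inl (b, d)) → σ.SameCycle a b := by
    intro a b c d hs
    obtain ⟨i, hi⟩ := hs.exists_nat_pow_eq
    obtain ⟨s, hs'⟩ := wr_pow_inl (γ := γ) σ f i a
    rw [hs'] at hi
    exact ⟨i, by simpa using (Prod.ext_iff.1 (Sum.inl_injective hi)).1⟩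
  refine ⟨fun a b c ha hb hc => ?_, fun a b ha hb hab => ?_⟩
  · by_contra hcon
    simp only [not_or] at hcon
    obtain ⟨hab, hac, hbc⟩ := hcon
    have two : ∀ u v, σ u = u → σ v = v → f u = f v → u = v := by
      intro u v hu hv huv
      rcases hf : f u with _ | _
      · have hu' : ∀ c, x (Sum.inl (u, c)) = Sum.inl (u, c) := fun c => by simp [x, hu, hf]
        have hv' : ∀ c, x (Sum.inl (v, c)) = Sum.inl (v, c) := fun c => by simp [x, hv, ← huv, hf]
        rcases h.1 _ _ _ (hu' false) (hu' true) (hv' false) with h1 | h1 | h1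
        · simp at h1
        · simpa using h1
        · simp at h1
      · have hv' : f v = true := huv ▸ hf
        have := hsame _ _ _ _ (h.2 (Sum.inl (u, false)) (Sum.inl (v, false))
          (by rw [hflip u _ hu hf]; simp) (by rw [hflip v _ hv hv']; simp)
          (by rw [hper2 u hu hf, hper2 v hv hv']))
        exact this.eq_of_left hu
    rcases hfa : f a with _ | _ <;> rcases hfb : f b with _ | _ <;> rcases hfc : f c with _ | _
    all_goals first
      | exact hab (two a b ha hb (hfa.trans hfb.symm))
      | exact hac (two a c ha hc (hfa.trans hfc.symm))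
      | exact hbc (two b c hb hc (hfb.trans hfc.symm))
  · have key : ∀ u, σ u ≠ u →
        Function.minimalPeriod x (Sum.inl (u, false)) = 2 * Function.minimalPeriod σ u := by
      intro u hu
      set m := Function.minimalPeriod σ u
      obtain ⟨s, hs⟩ := wr_pow_inl (γ := γ) σ f m u
      have hm : (σ ^ m) u = u := (pow_apply_eq_self_iff σ u m).2 dvd_rfl
      simp only [hm] at hs
      have hdvd : ∀ n c, (x ^ n) (Sum.inl (u, false)) = Sum.inl (u, c) → m ∣ n := by
        intro n c hn
        obtain ⟨t, ht⟩ := wr_pow_inl (γ := γ) σ f n u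
        rw [ht] at hn
        exact (pow_apply_eq_self_iff σ u n).1 (Prod.ext_iff.1 (Sum.inl_injective hn)).1
      have hs_true : s = true := by
        by_contra hs'
        rw [Bool.not_eq_true] at hs'
        have hfix : ∀ c, (x ^ m) (Sum.inl (u, c)) = Sum.inl (u, c) := fun c => by rw [hs, hs']; simp
        have hfix' : ∀ (k : ℕ) c, (x ^ (m * k)) (Sum.inl (u, c)) = Sum.inl (u, c) := by
          intro k c
          induction k with
          | zero => simp
          | succ k ih => rw [Nat.mul_succ, pow_add, Perm.mul_apply, hfix, ih]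
        have hper : ∀ c, Function.minimalPeriod x (Sum.inl (u, c)) = m := by
          intro c
          apply Nat.dvd_antisymm
          · exact (pow_apply_eq_self_iff x _ m).1 (hfix c)
          · obtain ⟨t, ht⟩ := wr_pow_inl (γ := γ) σ f (Function.minimalPeriod x (Sum.inl (u, c))) u
            have h4 := (pow_apply_eq_self_iff x (Sum.inl (u, c)) _).2 dvd_rfl
            rw [ht] at h4
            exact (pow_apply_eq_self_iff σ u _).1 (Prod.ext_iff.1 (Sum.inl_injective h4)).1
        obtain ⟨i, hi⟩ := (h.2 _ _ (hmove u false hu) (hmove u true hu)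
          ((hper false).trans (hper true).symm)).exists_nat_pow_eq
        obtain ⟨k, rfl⟩ := hdvd i true hi
        rw [hfix'] at hi
        simp at hi
      apply Nat.dvd_antisymm
      · rw [← pow_apply_eq_self_iff, two_mul, pow_add, Perm.mul_apply, hs, hs, hs_true]
        rfl
      · obtain ⟨k, hk⟩ := hdvd (Function.minimalPeriod x (Sum.inl (u, false))) false
          ((pow_apply_eq_self_iff x _ _).2 dvd_rfl)
        rcases Nat.even_or_odd k with ⟨j, rfl⟩ | ⟨j, rfl⟩
        · exact ⟨j, by rw [hk]; ring⟩
        · exfalso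
          have h4 := (pow_apply_eq_self_iff x (Sum.inl (u, false)) _).2 dvd_rfl
          rw [hk] at h4
          have hev : ∀ j : ℕ, (x ^ (m * (2 * j))) (Sum.inl (u, false)) = Sum.inl (u, false) := by
            intro j
            induction j with
            | zero => simp
            | succ j ih =>
              rw [show m * (2 * (j + 1)) = m * (2 * j) + (m + m) by ring, pow_add, Perm.mul_apply,
                pow_add, Perm.mul_apply, hs, hs, hs_true]
              exact ih
          rw [show m * (2 * j + 1) = m + m * (2 * j) by ring, pow_add, Perm.mul_apply, hev, hs, hs_true] at h4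
          simp at h4
    exact hsame _ _ _ _ (h.2 _ _ (hmove a false ha) (hmove b false hb) (by rw [key a ha, key b hb, hab]))

end Model

/-- A spread permutation lies in at most one Sylow 2-subgroup. -/
theorem sylow_eq_of_spread (n : ℕ) : ∀ x : Perm (Fin n), Spread x →
    ∀ P Q : Sylow 2 (Perm (Fin n)), x ∈ P → x ∈ Q → P = Q := by
  induction n using Nat.strong_induction_on with
  | _ n ih =>
    intro x hx P Q hP hQ
    rcases Nat.lt_or_ge n 2 with h2 | h2
    · haveI : Subsingleton (Fin n) := Fintype.card_le_one_iff_subsingleton.1 (by rw [Fintype.card_fin]; omega)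
      exact Sylow.ext (Subsingleton.elim _ _)
    obtain ⟨R⟩ : Nonempty (Sylow 2 (Perm (Fin (n / 2)))) := inferInstance
    obtain ⟨e, he⟩ := exists_model_map n R P
    obtain ⟨e', he'⟩ := exists_model_map n R Q
    have hxP : x ∈ (P : Subgroup (Perm (Fin n))) := hP
    have hxQ : x ∈ (Q : Subgroup (Perm (Fin n))) := hQ
    rw [he, Subgroup.mem_map] at hxP
    rw [he', Subgroup.mem_map] at hxQ
    obtain ⟨w, ⟨τ, hτ, f, rfl⟩, hw⟩ := hxP
    obtain ⟨w', ⟨τ', hτ', f', rfl⟩, hw'⟩ := hxQ
    simp only [MulEquiv.toMonoidHom_eq_coe, MonoidHom.coe_coe, Equiv.permCongrHom_coe] at hw hw'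
    have hpair : ∀ (e : ((Fin (n / 2) × Bool) ⊕ Fin (n % 2)) ≃ Fin n) (τ : Perm (Fin (n / 2))) (f : Fin (n / 2) → Bool),
        e.permCongr (wr τ f) = x →
        (∀ a, e.permCongr pairing (x a) = x (e.permCongr pairing a)) ∧
        (∀ a, e.permCongr pairing (e.permCongr pairing a) = a) ∧
        (∀ a b, e.permCongr pairing a = a → e.permCongr pairing b = b → a = b) := by
      intro e τ f hw
      refine ⟨fun a => ?_, fun a => by simp [pairing_pairing], fun a b ha hb => ?_⟩
      · subst hw; simp [pairing_comm_wr]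
      · have : ∀ a, e.permCongr pairing a = a → ∃ u, e.symm a = Sum.inr u := by
          intro a ha
          rw [Equiv.permCongr_apply, ← Equiv.eq_symm_apply] at ha
          rcases hq : e.symm a with ⟨i, c⟩ | u
          · rw [hq, pairing_inl] at ha; simp at ha
          · exact ⟨u, rfl⟩
        obtain ⟨u, hu⟩ := this a ha
        obtain ⟨v, hv⟩ := this b hb
        exact e.symm.injective (by rw [hu, hv, Subsingleton.elim u v])
    obtain ⟨a1, a2, a3⟩ := hpair e τ f hw
    obtain ⟨b1, b2, b3⟩ := hpair e' τ' f' hw'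
    have hpe := pairing_unique x _ _ hx a1 a2 a3 b1 b2 b3
    set g : Perm ((Fin (n / 2) × Bool) ⊕ Fin (n % 2)) := e'.trans e.symm with hg
    obtain ⟨σ0, f0, hg0⟩ := eq_wr_of_comm g (fun z => by
      apply e.injective
      have := DFunLike.congr_fun hpe (e' z)
      simp only [Equiv.permCongr_apply, Equiv.symm_apply_apply] at this
      rw [hg]
      simp only [Equiv.trans_apply, Equiv.apply_symm_apply]
      exact this.symm)
    have hsurj : Function.Surjective σ0.permCongrHom.toMonoidHom := σ0.permCongrHom.surjective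
    set R' : Sylow 2 (Perm (Fin (n / 2))) := R.mapSurjective hsurj
    have hcomp : ∀ t : Perm ((Fin (n / 2) × Bool) ⊕ Fin (n % 2)),
        e'.permCongr t = e.permCongr (g * t * g⁻¹) := by
      intro t
      ext z
      simp [hg]
    have hconj : ∀ (s : Perm (Fin (n / 2))) (k : Fin (n / 2) → Bool), ∃ k',
        g * wr s k * g⁻¹ = wr (σ0.permCongr s) k' := by
      intro s k
      rw [hg0, wr_inv, wr_mul, wr_mul]
      exact ⟨_, by rw [show σ0 * s * σ0⁻¹ = σ0.permCongr s from rfl]⟩
    have hR' : (R : Subgroup (Perm (Fin (n / 2)))) = (R' : Subgroup (Perm (Fin (n / 2)))) := by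
      have hspread : Spread τ := spread_base τ f (spread_conj e _ (by rw [hw]; exact hx))
      have hτR' : τ ∈ R' := by
        obtain ⟨k', hk'⟩ := hconj τ' f'
        have heq : e.permCongr (wr τ f) = e.permCongr (wr (σ0.permCongr τ') k') := by
          rw [← hk', ← hcomp, hw, hw']
        have := (Prod.ext_iff.1 (wr_injective (a₁ := (_, _)) (a₂ := (_, _)) (e.permCongr.injective heq))).1
        simp only at this
        rw [this]
        exact Subgroup.mem_map_of_mem _ hτ'
      exact congrArg _ (ih (n / 2) (by omega) τ hspread R R' hτ hτR')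
    have hle : (Q : Subgroup (Perm (Fin n))) ≤ P := by
      rw [he, he']
      rintro _ ⟨_, ⟨s, hs, k, rfl⟩, rfl⟩
      obtain ⟨k', hk'⟩ := hconj s k
      refine Subgroup.mem_map.2 ⟨wr (σ0.permCongr s) k', wr_mem_wrSub ?_ _, ?_⟩
      · rw [hR']
        exact Subgroup.mem_map_of_mem _ hs
      · simp only [MulEquiv.toMonoidHom_eq_coe, MonoidHom.coe_coe, Equiv.permCongrHom_coe]
        rw [← hk', ← hcomp]
    exact Sylow.ext (Q.is_maximal' P.2 hle)

theorem sup_zpowers_isPGroup {G : Type*} [Group G] {p : ℕ} {E : Subgroup G} (hE : IsPGroup p E) {x : G}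
    (hx : IsPGroup p (Subgroup.zpowers x)) (hn : x ∈ Subgroup.normalizer (E : Set G)) :
    IsPGroup p (Subgroup.zpowers x ⊔ E : Subgroup G) :=
  hx.to_sup_of_normal_right' hE (Subgroup.zpowers_le.2 hn)

/-- Membership in a unique Sylow 2-subgroup forces spreading. -/
theorem spread_of_unique [Finite α] (x : Perm α) (hx : IsPGroup 2 (Subgroup.zpowers x))
    (h : ∃! P : Sylow 2 (Perm α), x ∈ P) : Spread x := by
  classical
  haveI := Fintype.ofFinite α
  obtain ⟨P, hP, huniq⟩ := h
  have hmem : ∀ E : Subgroup (Perm α), IsPGroup 2 E → x ∈ Subgroup.normalizer (E : Set (Perm α)) → E ≤ P := by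
    intro E hE hn
    obtain ⟨Q, hQ⟩ := (sup_zpowers_isPGroup hE hx hn).exists_le_sylow
    have hQP : Q = P := huniq Q (hQ (Subgroup.mem_sup_left (Subgroup.mem_zpowers x)))
    rw [← hQP]
    exact le_sup_right.trans hQ
  have hswap : ∀ a b, IsPGroup 2 (Subgroup.zpowers (swap a b : Perm α)) := by
    intro a b
    refine IsPGroup.of_card_dvd_pow (n := 1) ?_
    rw [Nat.card_zpowers]
    exact orderOf_dvd_of_pow_eq_one (by rw [pow_one, pow_two, swap_mul_self])
  have three : ∀ a b c, a ≠ b → a ≠ c → b ≠ c → swap a b ∈ P → swap a c ∈ P → False := by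
    intro a b c hab hac hbc h1 h2
    have h3 : orderOf (swap a b * swap a c : Perm α) = 3 :=
      (Perm.isThreeCycle_swap_mul_swap_same hab hac hbc).orderOf
    obtain ⟨k, hk⟩ := IsPGroup.iff_orderOf.1 P.2 ⟨_, Subgroup.mul_mem _ h1 h2⟩
    rw [← Subgroup.orderOf_coe, Subgroup.coe_mk, h3] at hk
    rcases k with _ | k
    · simp at hk
    · rw [pow_succ] at hk; omega
  refine ⟨fun a b c ha hb hc => ?_, fun a b ha hb hab => ?_⟩
  · by_contra hcon
    simp only [not_or] at hcon
    obtain ⟨hab, hac, hbc⟩ := hcon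
    have hfix : ∀ u v, x u = u → x v = v → swap u v ∈ P := by
      intro u v hu hv
      refine hmem _ (hswap u v) ?_ (Subgroup.mem_zpowers _)
      rw [Subgroup.mem_normalizer_iff]
      have hc : Commute x (swap u v) := by
        have := Equiv.mul_swap_eq_swap_mul x u v
        rw [hu, hv] at this
        exact this
      intro t
      constructor
      · rintro ⟨i, rfl⟩
        exact ⟨i, by simp only [(hc.zpow_right i).eq, mul_inv_cancel_right]⟩
      · rintro ⟨i, hi⟩
        refine ⟨i, ?_⟩
        have h1 : x * swap u v ^ i * x⁻¹ = x * t * x⁻¹ := by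
          rw [(hc.zpow_right i).eq, mul_inv_cancel_right]; exact hi
        simpa using h1
    exact three a b c hab hac hbc (hfix a b ha hb) (hfix a c ha hc)
  · by_contra hns
    have hperiod : ∀ (u : α) (i : ℤ), (x ^ i) u = u ↔ (Function.minimalPeriod x u : ℤ) ∣ i := by
      intro u i
      exact MulAction.zpow_smul_eq_iff_minimalPeriod_dvd (a := x) (b := u)
    have transversal : ∀ v, x.SameCycle b v → swap a v ∈ P := by
      intro v hv
      let S : Set (Perm α) := Set.range fun i : ℤ => swap ((x ^ i) a) ((x ^ i) v)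
      have hav : Function.minimalPeriod x v = Function.minimalPeriod x a := by
        obtain ⟨i, rfl⟩ := hv
        rw [hab]
        refine minimalPeriod_of_commute x (x ^ i) (fun u => ?_) b
        rw [← Perm.mul_apply, (Commute.zpow_left (Commute.refl x) i).eq, Perm.mul_apply]
      have hcomm : ∀ s ∈ S, ∀ t ∈ S, s * t = t * s := by
        rintro _ ⟨i, rfl⟩ _ ⟨j, rfl⟩
        dsimp only
        have hinj : ∀ u, Function.minimalPeriod x u = Function.minimalPeriod x a →
            ((x ^ i) u = (x ^ j) u ↔ (Function.minimalPeriod x a : ℤ) ∣ -j + i) := by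
          intro u hu
          rw [← hu, ← hperiod, zpow_add, Perm.mul_apply, zpow_neg, Perm.inv_eq_iff_eq]
        by_cases hij : (x ^ i) a = (x ^ j) a
        · rw [hij, (hinj v hav).2 ((hinj a rfl).1 hij)]
        · have hij' : (x ^ i) v ≠ (x ^ j) v := fun h => hij ((hinj a rfl).2 ((hinj v hav).1 h))
          have hx1 : ∀ k l : ℤ, (x ^ k) a ≠ (x ^ l) v := fun k l h => hns (by
            have h1 : x.SameCycle a v := by
              refine ⟨-l + k, ?_⟩
              rw [zpow_add, Perm.mul_apply, h, ← Perm.mul_apply, ← zpow_add]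
              simp
            exact h1.trans hv.symm)
          rw [Equiv.mul_swap_eq_swap_mul,
            swap_apply_of_ne_of_ne (fun h => hij h.symm) (hx1 j i),
            swap_apply_of_ne_of_ne (fun h => hx1 i j h.symm) (fun h => hij' h.symm)]
      have hsq : ∀ s ∈ S, s * s = 1 := by
        rintro _ ⟨i, rfl⟩
        exact swap_mul_self _ _
      have hE : IsPGroup 2 (Subgroup.closure S) := by
        haveI := Subgroup.isMulCommutative_closure hcomm
        intro g
        refine ⟨1, Subtype.ext ?_⟩
        rw [Subgroup.coe_pow, pow_one, Subgroup.coe_one]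
        obtain ⟨g, hg⟩ := g
        change g ^ 2 = 1
        induction hg using Subgroup.closure_induction with
        | mem s hs => rw [pow_two, hsq s hs]
        | one => simp
        | mul p q hp hq ihp ihq =>
          have hpq : Commute p q :=
            congrArg Subtype.val (IsMulCommutative.is_comm.comm (⟨p, hp⟩ : Subgroup.closure S) ⟨q, hq⟩)
          rw [hpq.mul_pow, ihp, ihq, one_mul]
        | inv p hp ihp => rw [inv_pow, ihp, inv_one]
      refine hmem _ hE ?_ (Subgroup.subset_closure ⟨0, by simp⟩)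
      rw [Subgroup.mem_normalizer_iff]
      have himg : MulAut.conj x '' S = S := by
        have hc : ∀ i : ℤ, MulAut.conj x (swap ((x ^ i) a) ((x ^ i) v)) = swap ((x ^ (1 + i)) a) ((x ^ (1 + i)) v) := by
          intro i
          rw [MulAut.conj_apply, Equiv.mul_swap_eq_swap_mul, mul_inv_cancel_right, zpow_one_add,
            Perm.mul_apply, Perm.mul_apply]
        ext t
        constructor
        · rintro ⟨_, ⟨i, rfl⟩, rfl⟩
          exact ⟨1 + i, (hc i).symm⟩
        · rintro ⟨i, rfl⟩
          exact ⟨_, ⟨i - 1, rfl⟩, by rw [hc, add_sub_cancel]⟩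
      have hmap : (Subgroup.closure S).map (MulAut.conj x).toMonoidHom = Subgroup.closure S := by
        rw [MonoidHom.map_closure]
        exact congrArg _ himg
      intro t
      conv_rhs => rw [← hmap]
      exact (Subgroup.mem_map_iff_mem (f := (MulAut.conj x).toMonoidHom) (MulAut.conj x).injective).symm
    refine three a b (x b) ?_ ?_ (fun h => hb h.symm)
      (transversal b (Perm.SameCycle.refl x b)) (transversal (x b) (Perm.sameCycle_apply_right.2 (Perm.SameCycle.refl x b)))
    · rintro rfl
      exact hns (Perm.SameCycle.refl x a)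
    · intro h
      exact hns (h ▸ (Perm.sameCycle_apply_left.2 (Perm.SameCycle.refl x b)))

theorem spread_iff [Fintype α] [DecidableEq α] (x : Perm α) :
    Spread x ↔ Fintype.card α ≤ x.support.card + 2 ∧ x.cycleType.Nodup := by
  have hper : ∀ a, x a ≠ a → (x.cycleOf a).support.card = Function.minimalPeriod x a := by
    intro a ha
    have hon := Perm.isCycleOn_support_cycleOf x a
    have hmem : a ∈ (x.cycleOf a).support := Perm.mem_support_cycleOf_iff.2 ⟨Perm.SameCycle.refl _ _, Perm.mem_support.2 ha⟩
    apply Nat.dvd_antisymm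
    · rw [← hon.pow_apply_eq hmem, pow_apply_eq_self_iff]
    · rw [← pow_apply_eq_self_iff, hon.pow_apply_eq hmem]
  have hfix : (∀ a b c, x a = a → x b = b → x c = c → a = b ∨ a = c ∨ b = c) ↔
      Fintype.card α ≤ x.support.card + 2 := by
    have h1 : x.supportᶜ.card = Fintype.card α - x.support.card := Finset.card_compl _
    have h2 : x.support.card ≤ Fintype.card α := Finset.card_le_univ _
    constructor
    · intro h
      by_contra hlt
      obtain ⟨a, b, c, ha, hb, hc, hab, hac, hbc⟩ := Finset.two_lt_card_iff.1 (show 2 < x.supportᶜ.card by omega)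
      simp only [Finset.mem_compl, Perm.notMem_support] at ha hb hc
      rcases h a b c ha hb hc with e | e | e <;> contradiction
    · intro h a b c ha hb hc
      by_contra hne
      simp only [not_or] at hne
      have : 2 < x.supportᶜ.card := Finset.two_lt_card_iff.2
        ⟨a, b, c, by simpa, by simpa, by simpa, hne.1, hne.2.1, hne.2.2⟩
      omega
  rw [Spread, hfix, Perm.cycleType_def]
  refine and_congr_right fun _ => ?_
  rw [Multiset.nodup_map_iff_inj_on x.cycleFactorsFinset.nodup]
  constructor
  · intro h c hc d hd hcd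
    obtain ⟨hc1, hc2⟩ := Perm.mem_cycleFactorsFinset_iff.1 hc
    obtain ⟨hd1, hd2⟩ := Perm.mem_cycleFactorsFinset_iff.1 hd
    obtain ⟨a, ha, -⟩ := hc1
    obtain ⟨b, hb, -⟩ := hd1
    rw [← Perm.mem_support] at ha hb
    have ea : c = x.cycleOf a := Perm.cycle_is_cycleOf ha hc
    have eb : d = x.cycleOf b := Perm.cycle_is_cycleOf hb hd
    have ha' : x a ≠ a := Perm.mem_support.1 (Perm.mem_cycleFactorsFinset_support_le hc ha)
    have hb' : x b ≠ b := Perm.mem_support.1 (Perm.mem_cycleFactorsFinset_support_le hd hb)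
    simp only [Function.comp_apply, ea, eb] at hcd
    rw [ea, eb]
    exact (h a b ha' hb' (by rw [← hper a ha', ← hper b hb', hcd])).cycleOf_eq
  · intro h a b ha hb hab
    have := h _ (Perm.cycleOf_mem_cycleFactorsFinset_iff.2 (Perm.mem_support.2 ha)) _
      (Perm.cycleOf_mem_cycleFactorsFinset_iff.2 (Perm.mem_support.2 hb))
      (by simp only [Function.comp_apply]; rw [hper a ha, hper b hb, hab])
    have hmem : b ∈ (x.cycleOf a).support := by
      rw [this]; exact Perm.mem_support_cycleOf_iff.2 ⟨Perm.SameCycle.refl _ _, Perm.mem_support.2 hb⟩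
    exact (Perm.mem_support_cycleOf_iff.1 hmem).1

theorem existsUnique_sylow_iff (n : ℕ) (x : Perm (Fin n)) (hx : ∃ k : ℕ, orderOf x = 2 ^ k) :
    (∃! P : Sylow 2 (Perm (Fin n)), x ∈ P) ↔ (n ≤ x.support.card + 2 ∧ x.cycleType.Nodup) := by
  obtain ⟨k, hk⟩ := hx
  have hp : IsPGroup 2 (Subgroup.zpowers x) := IsPGroup.of_card (n := k) (by rw [Nat.card_zpowers, hk])
  have hs := spread_iff x
  rw [Fintype.card_fin] at hs
  rw [← hs]
  refine ⟨spread_of_unique x hp, fun h => ?_⟩
  obtain ⟨P, hP⟩ := hp.exists_le_sylow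
  exact ⟨P, hP (Subgroup.mem_zpowers x), fun Q hQ => sylow_eq_of_spread n x h Q P hQ (hP (Subgroup.mem_zpowers x))⟩

end Cfsg.Agent.H52
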