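import Cfsg.Agent.H52.TwoBase
import Cfsg.Agent.H52.UnitaryTwoPSU

/-!
Sylow 2-subgroups of `GU₂(q)` for odd `q`, inside `GL₂(q²)`.
-/

set_option autoImplicit false
set_option linter.style.haveILetI false
set_option linter.unusedFintypeInType false
set_option linter.unusedSectionVars false

namespace Cfsg.Agent.H52.UnitaryBase

open Cfsg Matrix Cfsg.Agent.H52.TwoBlock Cfsg.Agent.H52.TwoBase Cfsg.Agent.Unitary
open scoped MatrixGroups

variable {F : Type*} [Field F] [Fintype F] {q : ℕ}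

theorem card_UT (hF : Fintype.card F = q ^ 2) (n : ℕ) :
    Nat.card (Twist.UT (κ := Fin n) (frob hF).toRingHom) = Nat.card (GU n F q) := by
  rw [show Twist.UT (κ := Fin n) (frob hF).toRingHom = GU n F q from Subgroup.ext fun g =>
    UnitaryTwoPSU.mem_UT_iff_preserves hF]

theorem card_C2_inf (S : Subgroup (GL (Fin 2) F)) :
    Nat.card ↥(C2 F ⊓ S) = 2 ^ (Nat.card ↥(Ct F ⊓ S)).factorization 2 := by
  haveI := Fact.mk Nat.prime_two
  obtain ⟨P⟩ : Nonempty (Sylow 2 ↥(Ct F ⊓ S)) := inferInstance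
  haveI : (P : Subgroup ↥(Ct F ⊓ S)).Normal :=
    ⟨fun n hn g => by rwa [show g * n = n * g from Subtype.ext (Ct_comm g.2.1 n.2.1), mul_inv_cancel_right]⟩
  haveI : Subsingleton (Sylow 2 ↥(Ct F ⊓ S)) := (Sylow.unique_of_normal P inferInstance).instSubsingleton
  rw [← P.card_eq_multiplicity, ← Subgroup.card_map_of_injective (Ct F ⊓ S).subtype_injective]
  congr 2
  ext g
  rw [Subgroup.mem_inf, mem_C2]
  constructor
  · rintro ⟨⟨hg, e, he⟩, hS⟩
    have hp : IsPGroup 2 (Subgroup.zpowers (⟨g, hg, hS⟩ : ↥(Ct F ⊓ S))) := by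
      refine IsPGroup.of_card (n := (orderOf (⟨g, hg, hS⟩ : ↥(Ct F ⊓ S))).factorization 2) ?_
      rw [Nat.card_zpowers]
      obtain ⟨k, -, hk⟩ := (Nat.dvd_prime_pow Nat.prime_two).1
        (orderOf_dvd_of_pow_eq_one (show (⟨g, hg, hS⟩ : ↥(Ct F ⊓ S)) ^ 2 ^ e = 1 from Subtype.ext he))
      rw [hk, Nat.Prime.factorization_pow Nat.prime_two, Finsupp.single_eq_same]
    obtain ⟨Q, hQ⟩ := hp.exists_le_sylow
    rw [Subsingleton.elim Q P] at hQ
    exact ⟨⟨g, hg, hS⟩, hQ (Subgroup.mem_zpowers _), rfl⟩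
  · rintro ⟨u, hu, rfl⟩
    refine ⟨⟨u.2.1, ?_⟩, u.2.2⟩
    obtain ⟨e, he⟩ := P.2 ⟨u, hu⟩
    exact ⟨e, by simpa using congrArg (fun z : (P : Subgroup ↥(Ct F ⊓ S)) => ((z : ↥(Ct F ⊓ S)) : GL (Fin 2) F)) he⟩

theorem det_D {i : F} (h2 : (2 : F) ≠ 0) (hi : i ^ 2 = -1) (a b : F) : (D i a b).det = a * b := by
  have hi0 : i ≠ 0 := fun h => by rw [h] at hi; norm_num at hi
  rw [D, det_M]
  field_simp
  rw [hi]
  ring

theorem D_inj {i : F} (h2 : (2 : F) ≠ 0) (hi : i ^ 2 = -1) {a b c d : F} :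
    D i a b = D i c d ↔ a = c ∧ b = d := by
  have hi0 : i ≠ 0 := fun h => by rw [h] at hi; norm_num at hi
  rw [D, D, M_inj]
  constructor
  · rintro ⟨h1, h3⟩
    field_simp at h1 h3
    exact ⟨mul_left_cancel₀ h2 (by linear_combination h1 + h3), mul_left_cancel₀ h2 (by linear_combination h1 - h3)⟩
  · rintro ⟨rfl, rfl⟩; exact ⟨rfl, rfl⟩

theorem exists_D_of_mem {i : F} (h2 : (2 : F) ≠ 0) (hi : i ^ 2 = -1) {g : GL (Fin 2) F} (hg : g ∈ Ct F) :
    ∃ a b : Fˣ, (g : Matrix (Fin 2) (Fin 2) F) = D i a b := by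
  have hi0 : i ≠ 0 := fun h => by rw [h] at hi; norm_num at hi
  obtain ⟨x, y, h⟩ := mem_Ct.1 hg
  have e : D i (x + i * y) (x - i * y) = M x y := by
    rw [D, M_inj]
    constructor <;> (field_simp; ring)
  have hd : (x + i * y) * (x - i * y) ≠ 0 := by
    rw [← det_D h2 hi, e, ← h]
    exact (GeneralLinearGroup.det g).ne_zero
  exact ⟨Units.mk0 _ (mul_ne_zero_iff.1 hd).1, Units.mk0 _ (mul_ne_zero_iff.1 hd).2, by rw [h]; exact e.symm⟩

theorem tw_D {i : F} (h2 : (2 : F) ≠ 0) (hi : i ^ 2 = -1) (σ : F →+* F) {g : GL (Fin 2) F} {a b : Fˣ}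
    (hg : (g : Matrix (Fin 2) (Fin 2) F) = D i a b) :
    (σ i = i → (Twist.tw σ g : Matrix (Fin 2) (Fin 2) F) = D i (σ (b⁻¹ : Fˣ)) (σ (a⁻¹ : Fˣ))) ∧
    (σ i = -i → (Twist.tw σ g : Matrix (Fin 2) (Fin 2) F) = D i (σ (a⁻¹ : Fˣ)) (σ (b⁻¹ : Fˣ))) := by
  have hinv : ((g⁻¹ : GL (Fin 2) F) : Matrix (Fin 2) (Fin 2) F) = D i (a⁻¹ : Fˣ) (b⁻¹ : Fˣ) := by
    obtain ⟨k, -, hk⟩ := exists_D h2 hi a⁻¹ b⁻¹
    rw [← hk]
    congr 1
    refine inv_eq_of_mul_eq_one_left (Units.ext ?_)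
    rw [Units.val_mul, hk, hg, D_mul h2 hi, Units.inv_mul, Units.inv_mul, D_one h2, Units.val_one]
  have hM : ∀ x y, ((M x y).map σ)ᵀ = M (σ x) (-σ y) := by
    intro x y
    ext r s
    fin_cases r <;> fin_cases s <;> simp [M]
  have hi0 : i ≠ 0 := fun h => by rw [h] at hi; norm_num at hi
  constructor <;> intro hσ <;>
    · show ((((g⁻¹ : GL (Fin 2) F) : Matrix (Fin 2) (Fin 2) F)).map σ)ᵀ = _
      rw [hinv, D, hM, D, M_inj]
      simp only [map_div₀, map_add, map_sub, map_mul, map_ofNat, hσ]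
      exact ⟨by first | trivial | ring, by first | ring1 | (field_simp; done) | (field_simp; ring)⟩

theorem mem_UT_D {i : F} (h2 : (2 : F) ≠ 0) (hi : i ^ 2 = -1) (σ : F →+* F) (hinvol : ∀ x, σ (σ x) = x)
    {g : GL (Fin 2) F} {a b : Fˣ} (hg : (g : Matrix (Fin 2) (Fin 2) F) = D i a b) :
    (σ i = i → (g ∈ Twist.UT σ ↔ (b : F) * σ a = 1)) ∧
    (σ i = -i → (g ∈ Twist.UT σ ↔ (a : F) * σ a = 1 ∧ (b : F) * σ b = 1)) := by
  have key : ∀ u v : Fˣ, σ ((u⁻¹ : Fˣ) : F) = (v : F) ↔ (v : F) * σ (u : F) = 1 := by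
    intro u v
    rw [Units.val_inv_eq_inv_val, map_inv₀, eq_comm (a := (σ (u : F))⁻¹)]
    constructor
    · intro h; rw [h, inv_mul_cancel₀ ((map_ne_zero σ).2 u.ne_zero)]
    · intro h; exact eq_inv_of_mul_eq_one_left h
  constructor <;> intro hσ
  · rw [Twist.mem_UT, Units.ext_iff, (tw_D h2 hi σ hg).1 hσ, hg, D_inj h2 hi,
      key, key]
    constructor
    · exact fun h => h.2
    · intro h
      refine ⟨?_, h⟩
      have := congrArg σ h
      rwa [map_mul, hinvol, map_one, mul_comm] at this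
  · rw [Twist.mem_UT, Units.ext_iff, (tw_D h2 hi σ hg).2 hσ, hg, D_inj h2 hi, key, key]

/-- The base 2-group. -/
def ubase (σ : F →+* F) : Subgroup (GL (Fin 2) F) := base F ⊓ Twist.UT σ

theorem J_mem_UT (σ : F →+* F) : (TwoBase.J : GL (Fin 2) F) ∈ Twist.UT σ := by
  rw [Twist.mem_UT_iff]
  ext r s
  fin_cases r <;> fin_cases s <;> simp [TwoBase.J, Matrix.mul_apply]

theorem R_mem_UT (σ : F →+* F) : (R : GL (Fin 2) F) ∈ Twist.UT σ := by
  rw [Twist.mem_UT_iff]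
  ext r s
  fin_cases r <;> fin_cases s <;> simp [R, Matrix.mul_apply]

theorem card_ubase (h2 : (2 : F) ≠ 0) (σ : F →+* F) :
    Nat.card (ubase σ) = 2 * Nat.card ↥(C2 F ⊓ Twist.UT σ) := by
  have hle : C2 F ⊓ Twist.UT σ ≤ ubase σ := inf_le_inf_right _ C2_le
  have hidx : ((C2 F ⊓ Twist.UT σ).subgroupOf (ubase σ)).index = 2 := by
    rw [Subgroup.index_eq_two_iff]
    refine ⟨⟨R, R_mem, R_mem_UT σ⟩, fun b => ?_⟩
    simp only [Subgroup.mem_subgroupOf, Subgroup.coe_mul]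
    have hnot : (b : GL (Fin 2) F) ∈ C2 F → (b : GL (Fin 2) F) * R ∈ C2 F → False := fun h h' =>
      R_notMem_Ct h2 h.1 h'.1
    rcases b.2.1 with h | h
    · exact Or.inr ⟨⟨h, b.2.2⟩, fun h' => hnot h h'.1⟩
    · exact Or.inl ⟨⟨h, mul_mem b.2.2 (R_mem_UT σ)⟩, fun h' => hnot h'.1 h⟩
  rw [← Subgroup.card_mul_index ((C2 F ⊓ Twist.UT σ).subgroupOf (ubase σ)), hidx,
    Nat.card_congr (Subgroup.subgroupOfEquivOfLe hle).toEquiv, mul_comm]

theorem card_Ct_UT (hF : Fintype.card F = q ^ 2) (h2 : (2 : F) ≠ 0) {i : F} (hi : i ^ 2 = -1) :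
    (i ^ q = i → Nat.card ↥(Ct F ⊓ Twist.UT (frob hF).toRingHom) = (q + 1) * (q - 1)) ∧
    (i ^ q = -i → Nat.card ↥(Ct F ⊓ Twist.UT (frob hF).toRingHom) = (q + 1) * (q + 1)) := by
  classical
  set σ := (frob hF).toRingHom
  have hinvol : ∀ x, σ (σ x) = x := pow_q_q hF
  choose g hgC hgD using fun a b : Fˣ => exists_D h2 hi a b
  constructor <;> intro hσ
  · let f : Fˣ → ↥(Ct F ⊓ Twist.UT σ) := fun a => ⟨g a (Units.map σ.toMonoidHom a)⁻¹, hgC _ _,
      ((mem_UT_D h2 hi σ hinvol (hgD _ _)).1 hσ).2 (by simp)⟩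
    have hf : Function.Bijective f := by
      constructor
      · intro a a' h
        have := congrArg (fun z : ↥(Ct F ⊓ Twist.UT σ) => ((z : GL (Fin 2) F) : Matrix (Fin 2) (Fin 2) F)) h
        simp only [f, hgD, D_inj h2 hi] at this
        exact Units.ext this.1
      · rintro ⟨z, hzC, hzU⟩
        obtain ⟨a, b, hab⟩ := exists_D_of_mem h2 hi hzC
        have hb := ((mem_UT_D h2 hi σ hinvol hab).1 hσ).1 hzU
        refine ⟨a, Subtype.ext (Units.ext ?_)⟩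
        show (g a _ : Matrix (Fin 2) (Fin 2) F) = z
        rw [hgD, hab, D_inj h2 hi]
        exact ⟨rfl, by simp [eq_inv_of_mul_eq_one_left hb]⟩
    rw [← Nat.card_eq_of_bijective f hf, card_units hF]
  · let K := (powMonoidHom (q + 1) : Fˣ →* Fˣ).ker
    have hK : ∀ a : Fˣ, a ∈ K ↔ (a : F) * σ a = 1 := fun a => by
      rw [MonoidHom.mem_ker, powMonoidHom_apply, Units.ext_iff, Units.val_pow_eq_pow_val, pow_succ', Units.val_one]
      rfl
    let f : K × K → ↥(Ct F ⊓ Twist.UT σ) := fun p => ⟨g p.1.1 p.2.1, hgC _ _,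
      ((mem_UT_D h2 hi σ hinvol (hgD _ _)).2 hσ).2 ⟨(hK _).1 p.1.2, (hK _).1 p.2.2⟩⟩
    have hf : Function.Bijective f := by
      constructor
      · intro a a' h
        have := congrArg (fun z : ↥(Ct F ⊓ Twist.UT σ) => ((z : GL (Fin 2) F) : Matrix (Fin 2) (Fin 2) F)) h
        simp only [f, hgD, D_inj h2 hi] at this
        exact Prod.ext (Subtype.ext (Units.ext this.1)) (Subtype.ext (Units.ext this.2))
      · rintro ⟨z, hzC, hzU⟩
        obtain ⟨a, b, hab⟩ := exists_D_of_mem h2 hi hzC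
        have hb := ((mem_UT_D h2 hi σ hinvol hab).2 hσ).1 hzU
        refine ⟨(⟨a, (hK a).2 hb.1⟩, ⟨b, (hK b).2 hb.2⟩), Subtype.ext (Units.ext ?_)⟩
        show (g a b : Matrix (Fin 2) (Fin 2) F) = z
        rw [hgD, hab]
    rw [← Nat.card_eq_of_bijective f hf, Nat.card_prod, card_ker_pow hF]

theorem exists_sqrt_neg_one (hF : Fintype.card F = q ^ 2) (_hq : Odd q) :
    ∃ i : F, i ^ 2 = -1 ∧ (q % 4 = 1 → i ^ q = i) ∧ (q % 4 = 3 → i ^ q = -i) := by
  have h4 : Fintype.card F % 4 ≠ 3 := by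
    rw [hF, Nat.pow_mod]
    have : q % 4 < 4 := Nat.mod_lt _ (by norm_num)
    interval_cases q % 4 <;> norm_num
  obtain ⟨i, hi⟩ := FiniteField.isSquare_neg_one_iff.2 h4
  have hi2 : i ^ 2 = -1 := by rw [sq, ← hi]
  refine ⟨i, hi2, fun h => ?_, fun h => ?_⟩
  · rw [show q = 2 * (2 * (q / 4)) + 1 by omega, pow_succ, pow_mul, hi2, pow_mul, neg_one_sq, one_pow, one_mul]
  · rw [show q = 2 * (2 * (q / 4) + 1) + 1 by omega, pow_succ, pow_mul, hi2, pow_succ (-1 : F), pow_mul,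
      neg_one_sq, one_pow, one_mul, neg_one_mul]

/-- Two elements generating the needed structure. -/
theorem exists_elts (hF : Fintype.card F = q ^ 2) (hq : Odd q) (h2 : (2 : F) ≠ 0) :
    (∃ c ∈ C2 F ⊓ Twist.UT (frob hF).toRingHom, GeneralLinearGroup.det c = -1) ∧
    ∃ u ∈ C2 F ⊓ Twist.UT (frob hF).toRingHom, ∃ x y : F,
      (u : Matrix (Fin 2) (Fin 2) F) = M x y ∧ x ≠ 0 ∧ y ≠ 0 := by
  set σ := (frob hF).toRingHom
  have hinvol : ∀ x, σ (σ x) = x := pow_q_q hF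
  obtain ⟨i, hi, hi1, hi3⟩ := exists_sqrt_neg_one hF hq
  have hi0 : i ≠ 0 := fun h => by rw [h] at hi; norm_num at hi
  have mk : ∀ a b : Fˣ, ∀ k, (a : F) ^ 2 ^ k = 1 → (b : F) ^ 2 ^ k = 1 →
      ∀ g : GL (Fin 2) F, g ∈ Ct F → (g : Matrix (Fin 2) (Fin 2) F) = D i a b → g ∈ C2 F := by
    intro a b k ha hb g hg hgd
    refine ⟨hg, k, Units.ext ?_⟩
    rw [Units.val_pow_eq_pow_val, hgd, D_pow h2 hi, ha, hb, D_one h2, Units.val_one]
  have hxy : ∀ a b : F, a ≠ b → a ≠ -b → (a + b) / 2 ≠ 0 ∧ (a - b) / (2 * i) ≠ 0 := fun a b h h' =>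
    ⟨div_ne_zero (fun e => h' (eq_neg_of_add_eq_zero_left e)) h2,
      div_ne_zero (sub_ne_zero.2 h) (mul_ne_zero h2 hi0)⟩
  have hq4 : q % 4 = 1 ∨ q % 4 = 3 := by rw [Nat.odd_iff] at hq; omega
  rcases hq4 with hq4 | hq4
  · -- an element with `a ^ (q - 1) = -1`
    obtain ⟨z, hz⟩ := IsCyclic.exists_ofOrder_eq_natCard (α := Fˣ)
    rw [card_units hF] at hz
    have hq0 := two_le_q hF
    set a₀ := z ^ ((q + 1) / 2)
    have ha₀ : (a₀ : F) ^ (q - 1) = -1 := by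
      have h : ((a₀ : F) ^ (q - 1)) ^ 2 = 1 := by
        rw [← pow_mul, ← Units.val_pow_eq_pow_val, ← pow_mul,
          show (q + 1) / 2 * ((q - 1) * 2) = (q + 1) * (q - 1) by
            rw [mul_comm (q - 1) 2, ← mul_assoc, Nat.div_mul_cancel (by omega)], ← hz, pow_orderOf_eq_one,
          Units.val_one]
      refine (sq_eq_one_iff.1 h).resolve_left fun h1 => ?_
      have hd : orderOf z ∣ (q + 1) / 2 * (q - 1) := orderOf_dvd_of_pow_eq_one (Units.ext (by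
        rw [pow_mul, Units.val_pow_eq_pow_val]; exact h1))
      rw [hz] at hd
      have hpos : 0 < (q + 1) / 2 * (q - 1) := Nat.mul_pos (by omega) (by omega)
      exact absurd (Nat.le_of_dvd hpos hd) (not_le.2 (Nat.mul_lt_mul_of_pos_right (by omega) (by omega)))
    obtain ⟨k, m, hm, he⟩ := Nat.exists_eq_two_pow_mul_odd (orderOf_pos a₀).ne'
    set a := a₀ ^ m
    have ha : (a : F) ^ (q - 1) = -1 := by
      rw [Units.val_pow_eq_pow_val, ← pow_mul, mul_comm, pow_mul, ha₀, hm.neg_one_pow]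
    have hak : (a : F) ^ 2 ^ k = 1 := by
      rw [← Units.val_pow_eq_pow_val, ← pow_mul, mul_comm, ← he, pow_orderOf_eq_one, Units.val_one]
    set b := (Units.map σ.toMonoidHom a)⁻¹
    have hb' : (b : F) = ((a : F) ^ q)⁻¹ := by simp [b, σ]; rfl
    have hbk : (b : F) ^ 2 ^ k = 1 := by rw [hb', inv_pow, ← pow_mul, mul_comm, pow_mul, hak, one_pow, inv_one]
    obtain ⟨g, hg, hgd⟩ := exists_D h2 hi a b
    have hgm : g ∈ C2 F ⊓ Twist.UT σ :=
      ⟨mk a b k hak hbk g hg hgd, ((mem_UT_D h2 hi σ hinvol hgd).1 (hi1 hq4)).2 (by simp [b])⟩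
    have haq : (a : F) ^ q = -(a : F) := by
      conv_lhs => rw [show q = q - 1 + 1 by omega, pow_succ, ha, neg_one_mul]
    refine ⟨⟨g, hgm, Units.ext ?_⟩, g, hgm, _, _, hgd, ?_⟩
    · rw [GeneralLinearGroup.val_det_apply, hgd, det_D h2 hi, hb', haq]
      simp
    · rw [hb', haq]
      refine hxy _ _ ?_ ?_ <;> intro h <;>
      · have h4 : (a : F) ^ 4 = 1 := by
          field_simp at h
          rw [show (4 : ℕ) = 2 * 2 from rfl, pow_mul, h]
          simp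
        have : (a : F) ^ (q - 1) = 1 := by
          rw [show q - 1 = 4 * (q / 4) by omega, pow_mul, h4, one_pow]
        rw [ha] at this
        exact h2 (by linear_combination -this)
  · let iu : Fˣ := Units.mk0 i hi0
    obtain ⟨c, hc, hcd⟩ := exists_D h2 hi (1 : Fˣ) (-1)
    obtain ⟨u, hu, hud⟩ := exists_D h2 hi iu 1
    have hi4 : i ^ 2 ^ 2 = 1 := by rw [show 2 ^ 2 = 2 * 2 from rfl, pow_mul, hi]; norm_num
    have hσi : σ i = -i := hi3 hq4
    refine ⟨⟨c, ⟨mk 1 (-1) 1 (by simp) (by simp) c hc hcd,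
        ((mem_UT_D h2 hi σ hinvol hcd).2 hσi).2 ⟨by simp, by simp⟩⟩, Units.ext ?_⟩,
      u, ⟨mk iu 1 2 hi4 (by simp) u hu hud, ((mem_UT_D h2 hi σ hinvol hud).2 hσi).2 ⟨?_, by simp⟩⟩, _, _, hud,
      hxy _ _ ?_ ?_⟩
    · rw [GeneralLinearGroup.val_det_apply, hcd, det_D h2 hi]; simp
    · show i * σ i = 1
      rw [hσi]
      linear_combination -hi
    · intro h
      simp [iu] at h
      rw [h] at hi
      exact h2 (by linear_combination hi)
    · intro h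
      simp [iu] at h
      rw [h] at hi
      exact h2 (by linear_combination hi)

theorem span_ubase (h2 : (2 : F) ≠ 0) {σ : F →+* F} {c : GL (Fin 2) F} (hc : c ∈ C2 F ⊓ Twist.UT σ)
    (hd : GeneralLinearGroup.det c = -1) : spanGL (one1 (ubase σ)) = ⊤ := by
  have hJ : (TwoBase.J : GL (Fin 2) F) ∈ one1 (ubase σ) := ⟨⟨C2_le J_mem, J_mem_UT σ⟩, MonoidHom.mem_ker.2 det_J⟩
  have hK : c * R ∈ one1 (ubase σ) := ⟨⟨Subgroup.mul_mem _ (C2_le hc.1) R_mem, mul_mem hc.2 (R_mem_UT σ)⟩, by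
    show GeneralLinearGroup.det (c * R) = 1
    rw [map_mul, hd, det_R, neg_one_mul, neg_neg]⟩
  have hM : ∀ x y : F, M x y ∈ spanGL (one1 (ubase σ)) := by
    intro x y
    have e : M x y = x • ((1 : GL (Fin 2) F) : Matrix (Fin 2) (Fin 2) F) + y • ((TwoBase.J : GL (Fin 2) F) : Matrix (Fin 2) (Fin 2) F) := by
      rw [Units.val_one, coe_J]
      ext i j; fin_cases i <;> fin_cases j <;> simp [M]
    rw [e]
    exact add_mem (Submodule.smul_mem _ _ (mem_spanGL (one_mem _))) (Submodule.smul_mem _ _ (mem_spanGL hJ))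
  refine eq_top_iff.2 fun X _ => ?_
  obtain ⟨x', y', hinv⟩ := mem_Ct.1 (Subgroup.inv_mem _ hc.1.1)
  have e : X = M ((X 0 0 + X 1 1) / 2) ((X 1 0 - X 0 1) / 2) +
      M ((X 0 0 - X 1 1) / 2) ((X 1 0 + X 0 1) / 2) * M x' y' * ((c * R : GL (Fin 2) F) : Matrix (Fin 2) (Fin 2) F) := by
    rw [← hinv, Matrix.mul_assoc (M _ _), ← Units.val_mul, inv_mul_cancel_left]
    ext i j; fin_cases i <;> fin_cases j <;> simp [M, R] <;> field_simp <;> ring
  rw [e]
  exact add_mem (hM _ _) (mul_mem_spanGL (mul_mem_spanGL (hM _ _) (hM _ _)) (mem_spanGL hK))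

theorem scalar_ubase (h2 : (2 : F) ≠ 0) {σ : F →+* F} {u : GL (Fin 2) F} (hu : u ∈ C2 F ⊓ Twist.UT σ) {x y : F}
    (hxy : (u : Matrix (Fin 2) (Fin 2) F) = M x y) (hx : x ≠ 0) (hy : y ≠ 0) (g : GL (Fin 2) F)
    (ho : Odd (orderOf g)) (hg : ∀ t ∈ ubase σ, g * t * g⁻¹ ∈ ubase σ) :
    ∃ c : F, (g : Matrix (Fin 2) (Fin 2) F) = c • 1 := by
  have hns : ∀ z : F, ((u * R * u⁻¹ * R⁻¹ : GL (Fin 2) F) : Matrix (Fin 2) (Fin 2) F) ≠ z • 1 := by
    intro c hc
    have he : (u : Matrix (Fin 2) (Fin 2) F) = c • ((R * u * R : GL (Fin 2) F) : Matrix (Fin 2) (Fin 2) F) := by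
      have h3 := congrArg (fun Z => Z * ((R * u * R : GL (Fin 2) F) : Matrix (Fin 2) (Fin 2) F)) hc
      simp only [← Units.val_mul, smul_mul_assoc, Matrix.one_mul] at h3
      rw [show u * R * u⁻¹ * R⁻¹ * (R * u * R) = u * (R * (u⁻¹ * (R⁻¹ * R) * u) * R) by simp [mul_assoc]] at h3
      simp only [inv_mul_cancel, mul_one, R_sq] at h3
      exact h3
    rw [R_conj_coe hxy, hxy] at he
    have h1 := congrFun (congrFun he 0) 0
    have h3 := congrFun (congrFun he 1) 0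
    simp [M] at h1 h3
    have hc1 : c = 1 := mul_right_cancel₀ hx (by rw [one_mul]; exact h1.symm)
    rw [hc1] at h3
    exact hy ((mul_eq_zero.1 (show 2 * y = 0 by linear_combination h3)).resolve_left h2)
  have hR : (R : GL (Fin 2) F) ∈ ubase σ := ⟨R_mem, R_mem_UT σ⟩
  have hu' : u ∈ ubase σ := ⟨C2_le hu.1, hu.2⟩
  have hv := commutator_mem_C2 h2 (C2_le hu.1) R_mem
  have hgv : g * (u * R * u⁻¹ * R⁻¹) * g⁻¹ ∈ C2 F := by
    have := commutator_mem_C2 h2 (hg _ hu').1 (hg _ hR).1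
    simpa [mul_assoc] using this
  have hgC := J_conj h2 ho hv.1 hns hgv.1
  refine scalar_of_Ct h2 ho hgC ?_
  have := (base F).mul_mem (hg _ hR).1 ((base F).inv_mem (R_mem (F := F)))
  rw [show g * R * g⁻¹ * R⁻¹ = g * (R * g * R⁻¹⁻¹⁻¹)⁻¹ by simp [mul_assoc]] at this
  simpa [R_inv] using this

theorem factorization_GU_two (hF : Fintype.card F = q ^ 2) (hq : Odd q) :
    (Nat.card (GU 2 F q)).factorization 2 = padicValNat 2 (q + 1) + padicValNat 2 (q + 1) + padicValNat 2 (q - 1) := by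
  haveI := Fact.mk Nat.prime_two
  have hq2 := two_le_q hF
  have hqo := Nat.odd_iff.1 hq
  rw [Nat.factorization_def _ Nat.prime_two, card_GU hF, Finset.prod_range_succ, Finset.prod_range_one]
  simp only [guFactor, show ¬ Even 1 by decide, show Even 0 by decide, if_true, if_false, Nat.reduceAdd, pow_one]
  have e : q ^ 2 - 1 = (q + 1) * (q - 1) := by simpa using Nat.sq_sub_sq q 1
  rw [e, padicValNat.mul (pow_ne_zero _ (by omega)) (mul_ne_zero (by omega) (mul_ne_zero (by omega) (by omega))),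
    padicValNat.mul (by omega) (mul_ne_zero (by omega) (by omega)), padicValNat.mul (by omega) (by omega),
    padicValNat.eq_zero_of_not_dvd (n := q ^ (2 * (2 - 1) / 2)) (fun h => by
      have := Nat.prime_two.dvd_of_dvd_pow h; omega)]
  ring

theorem core_ubase (hF : Fintype.card F = q ^ 2) (hq : Odd q) :
    Core (ubase (frob hF).toRingHom) ∧ ubase (frob hF).toRingHom ≤ Twist.UT (frob hF).toRingHom ∧
      Nat.card (ubase (frob hF).toRingHom) =
        2 ^ (Nat.card (Twist.UT (κ := Fin 2) (frob hF).toRingHom)).factorization 2 := by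
  haveI := Fact.mk Nat.prime_two
  have hqo := Nat.odd_iff.1 hq
  have hq2 := two_le_q hF
  have h2 : (2 : F) ≠ 0 := TwoBase.two_ne_zero_of_odd (by rw [hF]; exact hq.pow)
  set σ := (frob hF).toRingHom
  obtain ⟨i, hi, hi1, hi3⟩ := exists_sqrt_neg_one hF hq
  have hc : Nat.card (ubase σ) = 2 ^ (Nat.card (Twist.UT (κ := Fin 2) σ)).factorization 2 := by
    rw [card_ubase h2, card_C2_inf, card_UT hF, factorization_GU_two hF hq, ← pow_succ']
    congr 1
    rw [Nat.factorization_def _ Nat.prime_two]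
    rcases (show q % 4 = 1 ∨ q % 4 = 3 by omega) with h | h
    · rw [(card_Ct_UT hF h2 hi).1 (hi1 h), padicValNat.mul (by omega) (by omega),
        Cfsg.Agent.Arith.padicValNat_eq_one_of_mod_four (x := q + 1) (by omega)]
      omega
    · rw [(card_Ct_UT hF h2 hi).2 (hi3 h), padicValNat.mul (by omega) (by omega),
        Cfsg.Agent.Arith.padicValNat_eq_one_of_mod_four (x := q - 1) (by omega)]
  obtain ⟨⟨c, hcm, hd⟩, u, hum, x, y, hxy, hx, hy⟩ := exists_elts hF hq h2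
  refine ⟨⟨IsPGroup.of_card hc, span_ubase h2 hcm hd, ?_, ⟨C2_le negOne_mem, ?_⟩, scalar_ubase h2 hum hxy hx hy⟩,
    inf_le_right, hc⟩
  · refine ⟨TwoBase.J, ⟨⟨C2_le J_mem, J_mem_UT σ⟩, MonoidHom.mem_ker.2 det_J⟩, c * R,
      ⟨⟨mul_mem (C2_le hcm.1) R_mem, mul_mem hcm.2 (R_mem_UT σ)⟩, ?_⟩, ?_⟩
    · show GeneralLinearGroup.det (c * R) = 1
      rw [map_mul, hd, det_R, neg_one_mul, neg_neg]
    · intro h
      have hJc := Ct_comm (J_mem (F := F)).1 hcm.1.1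
      rw [← mul_assoc, hJc, mul_assoc, mul_assoc] at h
      have h' := congrArg (fun u : GL (Fin 2) F => (u : Matrix (Fin 2) (Fin 2) F)) (mul_left_cancel h)
      simp only [Units.val_mul] at h'
      have h01 := congrFun (congrFun h' 0) 1
      simp [TwoBase.J, R] at h01
      apply h2
      linear_combination h01
  · show (-1 : GL (Fin 2) F) ∈ Twist.UT σ
    rw [Twist.mem_UT_iff]
    ext r s
    fin_cases r <;> fin_cases s <;> simp [Matrix.mul_apply]

end Cfsg.Agent.H52.UnitaryBase
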