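import Cfsg.Agent.H52.UnitaryBase

/-!
Sylow 2-subgroups of `GU_{2^k}(q)` for odd `q`.
-/

set_option autoImplicit false
set_option linter.style.haveILetI false
set_option linter.unusedFintypeInType false
set_option linter.unusedDecidableInType false
set_option linter.unusedSectionVars false

namespace Cfsg.Agent.H52.UnitaryTower

open Cfsg Matrix Cfsg.Agent.H52.TwoBlock Cfsg.Agent.Unitary
open scoped MatrixGroups

section

variable {κ : Type*} [Fintype κ] [DecidableEq κ] {F : Type*} [Field F] {ι : Type*} [Fintype ι] [DecidableEq ι]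

theorem blk_mem_UT {σ : F →+* F} {p : GL κ F × GL κ F} (h1 : p.1 ∈ Twist.UT σ) (h2 : p.2 ∈ Twist.UT σ) :
    blk p ∈ Twist.UT σ := by
  rw [Twist.mem_UT_iff] at h1 h2 ⊢
  rw [blk_coe, fromBlocks_map, fromBlocks_transpose, fromBlocks_multiply]
  simp [h1, h2, fromBlocks_one, Matrix.map_zero σ (map_zero σ)]

theorem sw_mem_UT (σ : F →+* F) : (sw : GL (κ ⊕ κ) F) ∈ Twist.UT σ := by
  have hneg : ((-1 : Matrix κ κ F)).map σ = -1 := by
    ext i j
    by_cases h : i = j <;> simp [Matrix.map_apply, h]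
  rw [Twist.mem_UT_iff, sw_coe, fromBlocks_map, fromBlocks_transpose, fromBlocks_multiply]
  simp [hneg, Matrix.map_zero σ (map_zero σ), Matrix.map_one σ (map_zero σ) (map_one σ)]

theorem wreath_le_UT {σ : F →+* F} {T : Subgroup (GL κ F)} (hT : (-1 : GL κ F) ∈ T) (hle : T ≤ Twist.UT σ) :
    wreath T hT ≤ Twist.UT σ := by
  have hd : diagPart T ≤ Twist.UT σ := by
    rintro _ ⟨p, hp, rfl⟩
    exact blk_mem_UT (hle hp.1) (hle hp.2)
  intro g hg
  rcases hg with h | h
  · exact hd h
  · simpa using mul_mem (hd h) (inv_mem (sw_mem_UT σ))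

theorem map_reidx_UT (σ : F →+* F) (e : κ ≃ ι) :
    (Twist.UT σ : Subgroup (GL κ F)).map (reidx e).toMonoidHom = Twist.UT σ := by
  ext g
  rw [Subgroup.mem_map_equiv, Twist.mem_UT, Twist.mem_UT]
  have key : ∀ h : GL κ F, Twist.tw σ (reidx e h) = reidx e (Twist.tw σ h) := by
    intro h
    apply Units.ext
    ext i j
    rw [Twist.tw_apply, ← map_inv, reidx_coe, reidx_coe]
    simp [Twist.tw_apply]
  obtain ⟨h, rfl⟩ := (reidx e).surjective g
  rw [MulEquiv.symm_apply_apply, key, (reidx e).injective.eq_iff]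

end

variable {F : Type*} [Field F] [Fintype F] {q : ℕ}

theorem padicValNat_pow_add_one (hq2 : 2 ≤ q) (hodd : ¬ 2 ∣ q) {m : ℕ} (hm : ¬ 2 ∣ m) :
    padicValNat 2 (q ^ m + 1) = padicValNat 2 (q + 1) := by
  haveI := Fact.mk Nat.prime_two
  have h0 : m ≠ 0 := fun h => hm (h ▸ dvd_zero 2)
  have hne : q ^ m - 1 ≠ 0 := Cfsg.Agent.Arith.pow_sub_one_ne_zero hq2 h0
  have h1 := Cfsg.Agent.Arith.padicValNat_two_pow_sub_one hq2 (n := 2 * m) (by omega) (dvd_mul_right 2 m) hodd
  have e : q ^ (2 * m) - 1 = (q ^ m + 1) * (q ^ m - 1) := by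
    rw [mul_comm 2 m, pow_mul]
    simpa using Nat.sq_sub_sq (q ^ m) 1
  rw [e, padicValNat.mul (by omega) hne,
    Cfsg.Agent.Arith.padicValNat_pow_sub_one Nat.prime_two hq2 h0 (by omega) (fun _ => Or.inr hm),
    padicValNat.eq_zero_of_not_dvd hm, padicValNat.mul (by norm_num) h0, padicValNat.self (by norm_num),
    padicValNat.eq_zero_of_not_dvd hm] at h1
  omega

theorem factorization_GU (hF : Fintype.card F = q ^ 2) (hq : Odd q) (n : ℕ) :
    (Nat.card (GU n F q)).factorization 2 = ∑ i ∈ Finset.range n, padicValNat 2 (guFactor q i) := by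
  haveI := Fact.mk Nat.prime_two
  have hq2 := two_le_q hF
  have hqo : ¬ 2 ∣ q := by rw [Nat.odd_iff] at hq; omega
  have hne : ∀ i, guFactor q i ≠ 0 := by
    intro i
    unfold guFactor
    split_ifs
    · omega
    · exact Cfsg.Agent.Arith.pow_sub_one_ne_zero hq2 (by omega)
  rw [Nat.factorization_def _ Nat.prime_two, card_GU hF]
  have : ∀ m, padicValNat 2 (∏ i ∈ Finset.range m, guFactor q i) = ∑ i ∈ Finset.range m, padicValNat 2 (guFactor q i) := by
    intro m
    induction m with
    | zero => simp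
    | succ m ih =>
      rw [Finset.prod_range_succ, Finset.sum_range_succ,
        padicValNat.mul (Finset.prod_ne_zero_iff.2 fun i _ => hne i) (hne m), ih]
  rw [padicValNat.mul (pow_ne_zero _ (by omega)) (Finset.prod_ne_zero_iff.2 fun i _ => hne i),
    padicValNat.eq_zero_of_not_dvd (fun h => hqo (Nat.prime_two.dvd_of_dvd_pow h)), this, zero_add]

theorem factorization_GU_double (hF : Fintype.card F = q ^ 2) (hq : Odd q) (k : ℕ) (hk : 1 ≤ k) :
    (Nat.card (GU (2 ^ (k + 1)) F q)).factorization 2 = 2 * (Nat.card (GU (2 ^ k) F q)).factorization 2 + 1 := by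
  haveI := Fact.mk Nat.prime_two
  have hq2 := two_le_q hF
  have hqo : ¬ 2 ∣ q := by rw [Nat.odd_iff] at hq; omega
  obtain ⟨m', hm'⟩ : ∃ m', 2 ^ k = m' + 1 := ⟨2 ^ k - 1, by have := Nat.two_pow_pos k; omega⟩
  have hk2 : 2 ∣ 2 ^ k := dvd_pow_self 2 (by omega)
  have hval : ∀ i, (2 ∣ i + 1 → padicValNat 2 (guFactor q i) + 1 =
        padicValNat 2 (q + 1) + padicValNat 2 (q - 1) + padicValNat 2 (i + 1)) ∧
      (¬ 2 ∣ i + 1 → padicValNat 2 (guFactor q i) = padicValNat 2 (q + 1)) := by
    intro i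
    constructor <;> intro h
    · rw [guFactor, if_neg (by rw [even_iff_two_dvd]; omega)]
      exact Cfsg.Agent.Arith.padicValNat_two_pow_sub_one hq2 (by omega) h hqo
    · rw [guFactor, if_pos (by rw [even_iff_two_dvd]; omega)]
      exact padicValNat_pow_add_one hq2 hqo h
  rw [factorization_GU hF hq, factorization_GU hF hq, show (2 : ℕ) ^ (k + 1) = 2 ^ k + 2 ^ k by ring,
    Finset.sum_range_add, hm', Finset.sum_range_succ,
    Finset.sum_range_succ (fun i => padicValNat 2 (guFactor q (m' + 1 + i))), ← hm']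
  have htop : padicValNat 2 (guFactor q (2 ^ k + m')) = padicValNat 2 (guFactor q m') + 1 := by
    have h1 := (hval (2 ^ k + m')).1 (by omega)
    have h2 := (hval m').1 (by omega)
    rw [show 2 ^ k + m' + 1 = 2 ^ (k + 1) by rw [pow_succ]; omega, padicValNat.prime_pow] at h1
    rw [← hm', padicValNat.prime_pow] at h2
    omega
  have hlow : ∀ i ∈ Finset.range m', padicValNat 2 (guFactor q (2 ^ k + i)) = padicValNat 2 (guFactor q i) := by
    intro i hi
    rw [Finset.mem_range] at hi
    by_cases hev : 2 ∣ i + 1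
    · have h1 := (hval (2 ^ k + i)).1 (by omega)
      have h2 := (hval i).1 hev
      have hv : padicValNat 2 (2 ^ k + i + 1) = padicValNat 2 (i + 1) := by
        have hlt : padicValNat 2 (i + 1) < k := by
          by_contra hc
          have := Nat.le_of_dvd (by omega) ((padicValNat_dvd_iff_le (p := 2) (by omega : i + 1 ≠ 0)).2 (not_lt.1 hc))
          omega
        have hd : ∀ j ≤ k, (2 ^ j ∣ 2 ^ k + i + 1 ↔ 2 ^ j ∣ i + 1) := fun j hj => by
          rw [add_assoc]; exact (Nat.dvd_add_right (pow_dvd_pow 2 hj))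
        refine le_antisymm ?_ ?_
        · by_contra hc
          have h3 := (hd (padicValNat 2 (i + 1) + 1) hlt).1
            ((padicValNat_dvd_iff_le (by omega)).2 (by omega))
          have := (padicValNat_dvd_iff_le (p := 2) (by omega : i + 1 ≠ 0)).1 h3
          omega
        · exact (padicValNat_dvd_iff_le (by omega)).1 ((hd _ hlt.le).2 pow_padicValNat_dvd)
      omega
    · rw [(hval (2 ^ k + i)).2 (by omega), (hval i).2 hev]
  rw [Finset.sum_congr rfl hlow, htop]
  omega

theorem exists_core (hF : Fintype.card F = q ^ 2) (hq : Odd q) : ∀ k : ℕ, 1 ≤ k →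
    ∃ T : Subgroup (GL (Fin (2 ^ k)) F), Core T ∧ T ≤ Twist.UT (frob hF).toRingHom ∧
      Nat.card T = 2 ^ (Nat.card (Twist.UT (κ := Fin (2 ^ k)) (frob hF).toRingHom)).factorization 2 ∧
      (2 ≤ k → Strong T) := by
  set σ := (frob hF).toRingHom
  intro k
  induction k with
  | zero => intro h; omega
  | succ k ih =>
    intro _
    rcases Nat.eq_zero_or_pos k with rfl | hk
    · let e : Fin 2 ≃ Fin (2 ^ (0 + 1)) := finCongr (by norm_num)
      obtain ⟨hc, hle, hcard⟩ := UnitaryBase.core_ubase hF hq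
      have hinj : Function.Injective (reidx (F := F) e).toMonoidHom := (reidx e).injective
      refine ⟨(UnitaryBase.ubase σ).map (reidx e).toMonoidHom, core_reidx e hc, ?_, ?_, fun h => absurd h (by omega)⟩
      · rw [← map_reidx_UT σ e]; exact Subgroup.map_mono hle
      · rw [Subgroup.card_map_of_injective hinj, hcard]
        conv_rhs => rw [← map_reidx_UT σ e]
        rw [Subgroup.card_map_of_injective hinj]
    · obtain ⟨T, hT, hle, hcard, -⟩ := ih hk
      haveI : Nonempty (Fin (2 ^ k)) := ⟨⟨0, Nat.two_pow_pos k⟩⟩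
      let e : Fin (2 ^ k) ⊕ Fin (2 ^ k) ≃ Fin (2 ^ (k + 1)) :=
        finSumFinEquiv.trans (finCongr (by rw [pow_succ]; ring))
      have hinj : Function.Injective (reidx (F := F) e).toMonoidHom := (reidx e).injective
      refine ⟨(wreath T hT.negOne).map (reidx e).toMonoidHom, core_reidx e (core_wreath hT), ?_, ?_,
        fun _ => strong_reidx e (strong_wreath hT)⟩
      · rw [← map_reidx_UT σ e]; exact Subgroup.map_mono (wreath_le_UT hT.negOne hle)
      · rw [Subgroup.card_map_of_injective hinj, card_wreath, hcard, UnitaryBase.card_UT hF, UnitaryBase.card_UT hF,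
          factorization_GU_double hF hq k hk, pow_succ, two_mul ((Nat.card (GU (2 ^ k) F q)).factorization 2), pow_add,
          mul_comm]

end Cfsg.Agent.H52.UnitaryTower
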