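import Cfsg.Agent.H52.TwistedBruhat
import Cfsg.Agent.H52.UnitriOvergroups
import Cfsg.Agent.H52.PronormalLinear
import Cfsg.Agent.Unitary.TIFrames

/-!
Subgroups of odd index of `PSU_{2m}(q)` are pronormal for even `q`.
-/

set_option autoImplicit false
set_option linter.unusedFintypeInType false
set_option linter.unusedSectionVars false
set_option linter.style.haveILetI false

namespace Cfsg.Agent.H52.UnitaryTwo

open Matrix Cfsg.Agent.Linear Cfsg.Agent.H54 Cfsg.Agent.H52.TwistedBruhat Cfsg.Agent.H52.UnitriOver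
open scoped MatrixGroups

variable {n : ℕ} {F : Type*} [Field F] [Finite F]

/-- The fixed points of the twist with determinant one. -/
def G (σ : F →+* F) : Subgroup (GL (Fin n) F) :=
  (theta σ).eqLocus (MonoidHom.id _) ⊓ (GeneralLinearGroup.det : GL (Fin n) F →* Fˣ).ker

/-- The fixed unitriangular elements. -/
def V (σ : F →+* F) : Subgroup (GL (Fin n) F) :=
  (theta σ).eqLocus (MonoidHom.id _) ⊓ unitriGL n F

theorem mem_G {σ : F →+* F} {g : GL (Fin n) F} :
    g ∈ G σ ↔ theta σ g = g ∧ GeneralLinearGroup.det g = 1 := Iff.rfl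

theorem mem_V {σ : F →+* F} {g : GL (Fin n) F} : g ∈ V σ ↔ theta σ g = g ∧ g ∈ unitriGL n F := Iff.rfl

theorem V_le_G (σ : F →+* F) : (V σ : Subgroup (GL (Fin n) F)) ≤ G σ := fun g hg =>
  mem_G.2 ⟨(mem_V.1 hg).1, Units.ext (by
    rw [GeneralLinearGroup.val_det_apply, blockTriangular_det (mem_V.1 hg).2.1]
    exact Finset.prod_eq_one fun i _ => (mem_V.1 hg).2.2 i)⟩

theorem X_mul_X [CharP F 2] {i j : Fin n} (h : i ≠ j) : X h (1 : F) * X h 1 = 1 := by
  apply Units.ext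
  rw [Units.val_mul, X_coe, Units.val_one]
  simp only [add_mul, mul_add, one_mul, mul_one]
  rw [single_mul_single_of_ne (h := h.symm), add_zero, add_assoc, ← single_add, CharTwo.add_self_eq_zero, single_zero, add_zero]

theorem theta_X [CharP F 2] (σ : F →+* F) {i j : Fin n} (h : i ≠ j) :
    theta σ (X h 1) = X (Fin.rev_injective.ne h.symm) (1 : F) := by
  apply Units.ext
  ext r s
  rw [theta_apply, inv_eq_of_mul_eq_one_left (X_mul_X h), X_apply, X_apply]
  have e1 : (s.rev = i ∧ r.rev = j) ↔ (r = j.rev ∧ s = i.rev) := by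
    rw [Fin.rev_eq_iff, Fin.rev_eq_iff, and_comm]
  have e2 : (s.rev = r.rev) ↔ (r = s) := by rw [Fin.rev_inj, eq_comm]
  simp only [e1, e2, map_add]
  split_ifs <;> simp

/-- Root elements of the fixed group. -/
theorem rev_ne (hn : Even n) (i : Fin n) : i.rev ≠ i := fun e => by
  have := congrArg Fin.val e
  rw [Fin.val_rev] at this
  obtain ⟨m, rfl⟩ := hn
  omega

theorem exists_root [CharP F 2] (hn : Even n) (σ : F →+* F) {i j : Fin n} (h : i < j) :
    ∃ x ∈ V σ, ((x : GL (Fin n) F) : Matrix (Fin n) (Fin n) F) i j = 1 := by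
  by_cases hj : j = i.rev
  · subst hj
    refine ⟨X h.ne 1, mem_V.2 ⟨?_, X_mem_unitri h 1⟩, by simp [X_apply, h.ne]⟩
    rw [theta_X]
    simp only [Fin.rev_rev]
  · have h' : j.rev < i.rev := Fin.rev_lt_rev.2 h
    have hii : i.rev ≠ i := rev_ne hn i
    have hjj : j ≠ j.rev := (rev_ne hn j).symm
    refine ⟨X h.ne 1 * X h'.ne 1, mem_V.2 ⟨?_, mul_mem (X_mem_unitri h 1) (X_mem_unitri h' 1)⟩, ?_⟩
    · rw [map_mul, theta_X, theta_X]
      apply Units.ext
      simp only [Units.val_mul, X_coe, Fin.rev_rev]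
      simp only [add_mul, mul_add, one_mul, mul_one]
      rw [Matrix.single_mul_single_of_ne (h := hii)]
      rw [Matrix.single_mul_single_of_ne (h := hjj)]; abel
    · simp only [Units.val_mul, X_coe, add_mul, mul_add, one_mul, mul_one]
      rw [Matrix.single_mul_single_of_ne (h := hjj)]
      simp [h.ne, Matrix.single, eq_comm (a := i.rev), hj, Fin.rev_eq_iff]

theorem theta_diag (σ : F →+* F) (d : Fin n → Fˣ) :
    theta σ (diagGL d) = diagGL (fun i => (Units.map σ.toMonoidHom (d i.rev))⁻¹) := by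
  apply Units.ext
  ext i j
  rw [theta_apply, diagGL_inv, diagGL_coe, diagGL_coe, diagonal_apply, diagonal_apply]
  by_cases h : i = j
  · subst h; simp
  · rw [if_neg (fun e => h (Fin.rev_injective e).symm), if_neg h, map_zero]

theorem diag_conj_unitri (d : Fin n → Fˣ) {u : GL (Fin n) F} (hu : u ∈ unitriGL n F) :
    diagGL d * u * (diagGL d)⁻¹ ∈ unitriGL n F :=
  UnitriOver.diag_conj_unitri d hu

theorem upper_conj_unitri {b x : GL (Fin n) F} (hb : b ∈ upperTriangularGL n F) (hx : x ∈ unitriGL n F) :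
    b * x * b⁻¹ ∈ unitriGL n F := by
  obtain ⟨d, hd, -⟩ := exists_diag hb
  have := mul_mem (mul_mem hd (diag_conj_unitri d hx)) (inv_mem hd)
  simpa [mul_assoc] using this

/-- A fixed upper triangular element is the product of fixed unitriangular and diagonal elements. -/
theorem exists_fixed_diag (σ : F →+* F) {b : GL (Fin n) F} (hb : b ∈ upperTriangularGL n F)
    (hbθ : theta σ b = b) :
    ∃ v ∈ V σ, ∃ d : Fin n → Fˣ, theta σ (diagGL d) = diagGL d ∧ b = v * diagGL d := by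
  obtain ⟨d, hd, -⟩ := exists_diag hb
  set v := b * (diagGL d)⁻¹
  have e : v⁻¹ * theta σ v = diagGL d * (theta σ (diagGL d))⁻¹ := by
    rw [inv_mul_eq_iff_eq_mul, ← mul_assoc, inv_mul_cancel_right, map_mul, hbθ, map_inv]
  have h1 : v⁻¹ * theta σ v ∈ unitriGL n F := mul_mem (inv_mem hd) (theta_unitri σ hd)
  have h2 : v⁻¹ * theta σ v = 1 := by
    refine eq_one_of_triangular (unitri_le_upper h1) ?_ (mem_unitri.1 h1).2
    rw [e, theta_diag, diagGL_inv, ← diagGL_mul]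
    exact mem_lowerGL.2 fun i j h => by rw [diagGL_coe, diagonal_apply_ne _ h.ne]
  refine ⟨v, mem_V.2 ⟨(inv_mul_eq_one.1 h2).symm, hd⟩, d, ?_, by simp [v]⟩
  rw [h2] at e
  exact (mul_inv_eq_one.1 e.symm).symm

theorem V_conj_diag (σ : F →+* F) {d : Fin n → Fˣ} (hd : theta σ (diagGL d) = diagGL d) {x : GL (Fin n) F}
    (hx : x ∈ V σ) : diagGL d * x * (diagGL d)⁻¹ ∈ V σ := by
  rw [mem_V] at hx ⊢
  exact ⟨by rw [map_mul, map_mul, map_inv, hd, hx.1], diag_conj_unitri d hx.2⟩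

/-- The normalizer of the fixed unitriangular group. -/
theorem normalizer_V [CharP F 2] (hn : Even n) (σ : F →+* F) {g : GL (Fin n) F} (hg : g ∈ G σ)
    (hN : ∀ x ∈ V σ, g⁻¹ * x * g ∈ V σ) :
    ∃ v ∈ V σ, ∃ w ∈ V σ, ∃ d : Fin n → Fˣ, diagGL d ∈ G σ ∧ g = v * w * diagGL d := by
  obtain ⟨π, hπ, u, hu, huθ, b, hb, rfl⟩ := exists_canonical_fixed σ (mem_G.1 hg).1
  have huV : u ∈ V σ := mem_V.2 ⟨huθ, (mem_outPart.1 hu).1⟩
  have hlt : ∀ i j, i < j → π⁻¹ i < π⁻¹ j := by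
    intro i j hij
    obtain ⟨x, hx, hxe⟩ := exists_root hn σ hij
    have h1 := hN _ (mul_mem (mul_mem huV hx) (inv_mem huV))
    have h2 := upper_conj_unitri hb (mem_V.1 h1).2
    rw [show b * ((u * permGL F π * b)⁻¹ * (u * x * u⁻¹) * (u * permGL F π * b)) * b⁻¹ =
      (permGL F π)⁻¹ * x * permGL F π by group] at h2
    by_contra hc
    have hne : π⁻¹ j ≠ π⁻¹ i := (π⁻¹).injective.ne hij.ne'
    have h3 := mem_upper.1 (unitri_le_upper h2) (π⁻¹ i) (π⁻¹ j) (lt_of_le_of_ne (not_lt.1 hc) hne)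
    rw [perm_conj_apply, ← Equiv.Perm.mul_apply, ← Equiv.Perm.mul_apply, mul_inv_cancel, Equiv.Perm.one_apply,
      Equiv.Perm.one_apply, hxe] at h3
    exact one_ne_zero h3
  have hπ1 : π = 1 := by
    rw [← inv_eq_one]
    exact Equiv.ext fun i => congrFun (StrictMono.eq_id (f := ⇑π⁻¹) hlt) i
  subst hπ1
  have hP : permGL F (1 : Equiv.Perm (Fin n)) = 1 := by
    apply Units.ext
    ext r s
    rw [permGL_apply, Units.val_one, Matrix.one_apply]
    rfl
  rw [hP, mul_one] at hg ⊢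
  have hbθ : theta σ b = b := by
    have := (mem_G.1 hg).1
    rw [map_mul, huθ] at this
    exact mul_left_cancel this
  obtain ⟨w, hw, d, hd, rfl⟩ := exists_fixed_diag σ hb hbθ
  refine ⟨u, huV, w, hw, d, ?_, (mul_assoc _ _ _).symm⟩
  have := mul_mem (inv_mem (mul_mem (V_le_G σ huV) (V_le_G σ hw))) hg
  simpa [mul_assoc] using this

/-- A 2-subgroup containing `V` equals it. -/
theorem eq_V_of_isPGroup [CharP F 2] (hn : Even n) (σ : F →+* F) {Q : Subgroup (GL (Fin n) F)}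
    (hQ : IsPGroup 2 Q) (hV : V σ ≤ Q) (hQG : Q ≤ G σ) : Q = V σ := by
  haveI := Fact.mk Nat.prime_two
  refine le_antisymm ?_ hV
  by_contra hne
  haveI : Group.IsNilpotent Q := hQ.isNilpotent
  have hlt : (V σ).subgroupOf Q < ⊤ := lt_top_iff_ne_top.2 fun h => hne (Subgroup.subgroupOf_eq_top.1 h)
  obtain ⟨y, hy, hyV⟩ := SetLike.exists_of_lt (Group.normalizerCondition_of_isNilpotent _ hlt)
  have hyN : ∀ x : GL (Fin n) F, x ∈ V σ → (y : GL (Fin n) F)⁻¹ * x * (y : GL (Fin n) F) ∈ V σ := fun x hx => by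
    have := (Subgroup.mem_normalizer_iff''.1 hy ⟨x, hV hx⟩).1 hx
    exact this
  obtain ⟨v, hv, w, hw, d, -, e⟩ := normalizer_V hn σ (hQG y.2) hyN
  have hdQ : diagGL d ∈ Q := by
    have : diagGL d = (v * w)⁻¹ * (y : GL (Fin n) F) := by rw [e, inv_mul_cancel_left]
    rw [this]
    exact mul_mem (inv_mem (hV (mul_mem hv hw))) y.2
  obtain ⟨k, hk⟩ := hQ ⟨_, hdQ⟩
  have hd1 : diagGL d = 1 := by
    have hk' : (diagGL d : GL (Fin n) F) ^ 2 ^ k = 1 := congrArg Subtype.val hk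
    apply Units.ext
    rw [diagGL_coe, Units.val_one, ← diagonal_one]
    congr 1
    funext i
    have h := congrArg (fun g : GL (Fin n) F => (g : Matrix (Fin n) (Fin n) F) i i) hk'
    simp only [Units.val_pow_eq_pow_val, diagGL_coe, diagonal_pow, diagonal_apply_eq, Pi.pow_apply,
      Units.val_one, one_apply_eq] at h
    have h0 : ((d i : F) - 1) ^ 2 ^ k = 0 := by rw [sub_pow_char_pow, h, one_pow, sub_self]
    exact sub_eq_zero.1 ((pow_eq_zero_iff (pow_ne_zero k two_ne_zero)).1 h0)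
  exact hyV (show (y : GL (Fin n) F) ∈ V σ by rw [e, hd1, mul_one]; exact mul_mem hv hw)

theorem isPGroup_V [CharP F 2] (σ : F →+* F) : IsPGroup 2 (V σ : Subgroup (GL (Fin n) F)) := by
  haveI := Fintype.ofFinite F
  haveI := Fact.mk Nat.prime_two
  exact (Cfsg.Agent.Linear.isPGroup_unitriGL 2).to_le inf_le_right

theorem diag_conj_conj (σ : F →+* F) (K : Subgroup (GL (Fin n) F)) (hVK : V σ ≤ K) {h : GL (Fin n) F}
    (hh : h ∈ G σ) (hK : ∀ z ∈ V σ, h * z * h⁻¹ ∈ K) {t : Fin n → Fˣ} (ht : theta σ (diagGL t) = diagGL t)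
    {x : GL (Fin n) F} (hx : x ∈ V σ) : diagGL t * (h * x * h⁻¹) * (diagGL t)⁻¹ ∈ K := by
  obtain ⟨π, -, u, hu, huθ, b, hb, hh'⟩ := exists_canonical_fixed σ (mem_G.1 hh).1
  have huV : u ∈ V σ := mem_V.2 ⟨huθ, (mem_outPart.1 hu).1⟩
  set a := diagGL t * u * (diagGL t)⁻¹ * u⁻¹ with ha
  have haK : a ∈ K := mul_mem (hVK (V_conj_diag σ ht huV)) (inv_mem (hVK huV))
  set y := h⁻¹ * (u * diagGL t * u⁻¹ * (h * x * h⁻¹) * (u * diagGL t * u⁻¹)⁻¹) * h with hy
  have hyθ : theta σ y = y := by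
    simp only [hy, map_mul, map_inv, huθ, ht, (mem_G.1 hh).1, (mem_V.1 hx).1]
  have hyU : y ∈ unitriGL n F := by
    have h1 := upper_conj_unitri (inv_mem hb)
      (diag_conj_unitri (fun i => t (π i)) (upper_conj_unitri hb (mem_V.1 hx).2))
    have ec : diagGL t = permGL F π * diagGL (fun i => t (π i)) * (permGL F π)⁻¹ := by
      rw [← diag_perm, mul_inv_cancel_right]
    have e : y = b⁻¹ * (diagGL (fun i => t (π i)) * (b * x * b⁻¹) * (diagGL (fun i => t (π i)))⁻¹) * b⁻¹⁻¹ := by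
      rw [hy, hh', ec]
      group
    rwa [e]
  have := mul_mem (mul_mem haK (hK y (mem_V.2 ⟨hyθ, hyU⟩))) (inv_mem haK)
  convert this using 1
  rw [ha, hy]
  group

/-- Subgroups containing `V` are normalized by the normalizer of `V`. -/
theorem normalizer_le_normalizer [CharP F 2] (hn : Even n) (σ : F →+* F) (H : Subgroup (GL (Fin n) F))
    (hHG : H ≤ G σ) (hVH : V σ ≤ H) {m : GL (Fin n) F} (hm : m ∈ G σ)
    (hmN : ∀ x ∈ V σ, m⁻¹ * x * m ∈ V σ) {h : GL (Fin n) F} (hh : h ∈ H) : m * h * m⁻¹ ∈ H := by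
  haveI := Fact.mk Nat.prime_two
  obtain ⟨v, hv, w, hw, t, ht, rfl⟩ := normalizer_V hn σ hm hmN
  suffices h1 : diagGL t * h * (diagGL t)⁻¹ ∈ H by
    have := mul_mem (mul_mem (hVH (mul_mem hv hw)) h1) (inv_mem (hVH (mul_mem hv hw)))
    simpa [mul_assoc] using this
  have htθ := (mem_G.1 ht).1
  set K := Subgroup.closure {y | ∃ h ∈ H, ∃ x ∈ V σ, y = h * x * h⁻¹}
  have hgen : ∀ h ∈ H, ∀ x ∈ V σ, h * x * h⁻¹ ∈ K := fun h hh x hx =>
    Subgroup.subset_closure ⟨h, hh, x, hx, rfl⟩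
  have hVK : V σ ≤ K := fun x hx => by simpa using hgen 1 (one_mem H) x hx
  have hKH : K ≤ H := by
    rw [Subgroup.closure_le]
    rintro _ ⟨h, hh, x, hx, rfl⟩
    exact mul_mem (mul_mem hh (hVH hx)) (inv_mem hh)
  have htK : ∀ k ∈ K, diagGL t * k * (diagGL t)⁻¹ ∈ K := by
    intro k hk
    induction hk using Subgroup.closure_induction with
    | mem y hy =>
      obtain ⟨h, hh, x, hx, rfl⟩ := hy
      exact diag_conj_conj σ K hVK (hHG hh) (fun z hz => hgen h hh z hz) htθ hx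
    | one => simp
    | mul a b _ _ ha hb => simpa [mul_assoc] using mul_mem ha hb
    | inv a _ ha => simpa [mul_assoc] using inv_mem ha
  let P₀ : Sylow 2 K :=
    { toSubgroup := (V σ).subgroupOf K
      isPGroup' := (isPGroup_V σ).comap_subtype
      is_maximal' := fun {Q} hQ hle => by
        have e := eq_V_of_isPGroup hn σ (hQ.map K.subtype)
          (by rw [← Subgroup.map_subgroupOf_eq_of_le hVK]; exact Subgroup.map_mono hle)
          ((Subgroup.map_subtype_le Q).trans (hKH.trans hHG))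
        rw [Subgroup.subgroupOf, ← e, Subgroup.comap_map_eq_self_of_injective K.subtype_injective] }
  set W := (V σ).map (MulAut.conj h).toMonoidHom with hW
  have hWK : W ≤ K := by rintro _ ⟨x, hx, rfl⟩; exact hgen h hh x hx
  obtain ⟨Q, hQ⟩ := (((isPGroup_V σ).map _).comap_subtype : IsPGroup 2 (W.subgroupOf K)).exists_le_sylow
  obtain ⟨k, rfl⟩ := MulAction.exists_smul_eq K P₀ Q
  have hkh : ∀ x ∈ V σ, (k : GL (Fin n) F)⁻¹ * h * x * ((k : GL (Fin n) F)⁻¹ * h)⁻¹ ∈ V σ := by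
    intro x hx
    obtain ⟨z, hz, e⟩ := hQ (show (⟨h * x * h⁻¹, hgen h hh x hx⟩ : K) ∈ W.subgroupOf K from ⟨x, hx, rfl⟩)
    have e' : (k : GL (Fin n) F) * z * (k : GL (Fin n) F)⁻¹ = h * x * h⁻¹ := congrArg Subtype.val e
    have hz' : (z : GL (Fin n) F) ∈ V σ := hz
    convert hz' using 1
    rw [_root_.mul_inv_rev, inv_inv]
    calc (k : GL (Fin n) F)⁻¹ * h * x * (h⁻¹ * k) = (k : GL (Fin n) F)⁻¹ * (h * x * h⁻¹) * k := by group
      _ = z := by rw [← e']; group
  obtain ⟨v₁, hv₁, w₁, hw₁, d, -, e⟩ := normalizer_V hn σ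
    (g := ((k : GL (Fin n) F)⁻¹ * h)⁻¹) (inv_mem (mul_mem (inv_mem (hHG (hKH k.2))) (hHG hh)))
    (fun x hx => by rw [inv_inv]; exact hkh x hx)
  have hdH : diagGL d ∈ H := by
    have : diagGL d = (v₁ * w₁)⁻¹ * ((k : GL (Fin n) F)⁻¹ * h)⁻¹ := by rw [e, inv_mul_cancel_left]
    rw [this]
    exact mul_mem (inv_mem (hVH (mul_mem hv₁ hw₁))) (inv_mem (mul_mem (inv_mem (hKH k.2)) hh))
  have eh : h = k * (diagGL d)⁻¹ * (v₁ * w₁)⁻¹ := by
    calc h = k * (((k : GL (Fin n) F)⁻¹ * h)⁻¹)⁻¹ := by group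
      _ = _ := by rw [e]; group
  rw [eh]
  have hcomm : diagGL t * (diagGL d)⁻¹ * (diagGL t)⁻¹ = (diagGL d)⁻¹ := by
    rw [diagGL_inv, ← diagGL_mul, mul_comm t, diagGL_mul, mul_inv_cancel_right]
  have := mul_mem (mul_mem (hKH (htK _ k.2)) (inv_mem hdH))
    (inv_mem (hVH (V_conj_diag σ htθ (mul_mem hv₁ hw₁))))
  convert this using 1
  conv_rhs => rw [← hcomm]
  group

end Cfsg.Agent.H52.UnitaryTwo
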